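import Mathlib
import Cfsg.Prelude.Def_Local
import Cfsg.Agent.Lib.helper27.Radical

/-!
# The upper `p`-series and `p`-length under quotients

* `map_pPrimeCore_le`, `map_pCore_le` : images of `O_{p'}`, `O_p` under surjective homs.
* `upperPSeries_succ_of_even`, `upperPSeries_succ_of_not_even` : unfolding.
* `upperPSeries_succ_le_comap` : one step of comparison of upper `p`-series along a
  surjective hom (with shifted indices of equal parity).
* `upperPSeries_le_comap` : `U_n(G) ≤ f⁻¹(U_n(G'))` for surjective `f`.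
* `PLengthLE.of_surjective`, `PLengthLE.quotient` : `p`-length passes to quotients.
* `upperPSeries_one_eq_bot` : `O_{p'}(G) = 1 → U_1(G) = 1`.
* `upperPSeries_add_two_le` : if `O_{p'}(G) = 1` then `U_{n+2}(G) ≤ π⁻¹(U_n(G/O_p(G)))`.
* `PLengthLE.quotient_pCore` : if `O_{p'}(G) = 1` and `l_p(G) ≤ k+1` then `l_p(G/O_p(G)) ≤ k`.
* `PLengthLE.eq_bot_of_zero` : `O_{p'}(G) = 1` and `l_p(G) ≤ 0` imply `G = 1`.
-/

set_option autoImplicit false

namespace Cfsg.Agent.Lib.helper66

open Cfsg.Agent.Lib.helper27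

variable {G : Type*} [Group G]

theorem map_pPrimeCore_le {G' : Type*} [Group G'] [Finite G] (p : ℕ) (f : G →* G')
    (hf : Function.Surjective f) :
    (Cfsg.pPrimeCore p G).map f ≤ Cfsg.pPrimeCore p G' := by
  haveI : ((Cfsg.pPrimeCore p G).map f).Normal := Subgroup.Normal.map inferInstance f hf
  exact normal_coprime_le_pPrimeCore p _
    (Nat.Coprime.coprime_dvd_left (Subgroup.card_map_dvd _ f) (pPrimeCore_coprime p))

theorem map_pCore_le {G' : Type*} [Group G'] [Finite G] (p : ℕ) (f : G →* G')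
    (hf : Function.Surjective f) :
    (Cfsg.pCore p G).map f ≤ Cfsg.pCore p G' := by
  haveI : ((Cfsg.pCore p G).map f).Normal := Subgroup.Normal.map inferInstance f hf
  exact normal_pGroup_le_pCore p _ ((pCore_isPGroup p).map f)

theorem comap_pPrimeCore_quotient_le {G' : Type*} [Group G'] [Finite G] (p : ℕ) (f : G →* G')
    (hf : Function.Surjective f) (U : Subgroup G) [U.Normal] (V : Subgroup G') [V.Normal]
    (hUV : U ≤ V.comap f) :
    (Cfsg.pPrimeCore p (G ⧸ U)).comap (QuotientGroup.mk' U) ≤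
      ((Cfsg.pPrimeCore p (G' ⧸ V)).comap (QuotientGroup.mk' V)).comap f := by
  have hφ : Function.Surjective (QuotientGroup.map U V f hUV) := by
    intro y
    obtain ⟨y', rfl⟩ := QuotientGroup.mk'_surjective V y
    obtain ⟨x, rfl⟩ := hf y'
    exact ⟨QuotientGroup.mk' U x, rfl⟩
  intro x hx
  rw [Subgroup.mem_comap] at hx
  rw [Subgroup.mem_comap, Subgroup.mem_comap]
  exact map_pPrimeCore_le p (QuotientGroup.map U V f hUV) hφ (Subgroup.mem_map_of_mem _ hx)

theorem comap_pCore_quotient_le {G' : Type*} [Group G'] [Finite G] (p : ℕ) (f : G →* G')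
    (hf : Function.Surjective f) (U : Subgroup G) [U.Normal] (V : Subgroup G') [V.Normal]
    (hUV : U ≤ V.comap f) :
    (Cfsg.pCore p (G ⧸ U)).comap (QuotientGroup.mk' U) ≤
      ((Cfsg.pCore p (G' ⧸ V)).comap (QuotientGroup.mk' V)).comap f := by
  have hφ : Function.Surjective (QuotientGroup.map U V f hUV) := by
    intro y
    obtain ⟨y', rfl⟩ := QuotientGroup.mk'_surjective V y
    obtain ⟨x, rfl⟩ := hf y'
    exact ⟨QuotientGroup.mk' U x, rfl⟩
  intro x hx
  rw [Subgroup.mem_comap] at hx
  rw [Subgroup.mem_comap, Subgroup.mem_comap]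
  exact map_pCore_le p (QuotientGroup.map U V f hUV) hφ (Subgroup.mem_map_of_mem _ hx)

theorem upperPSeries_zero (p : ℕ) (G : Type*) [Group G] :
    (Cfsg.upperPSeries p G 0).1 = ⊥ := rfl

theorem upperPSeries_succ_of_even (p : ℕ) (G : Type*) [Group G] (n : ℕ) (h : Even n) :
    (Cfsg.upperPSeries p G (n + 1)).1 =
      (Cfsg.pPrimeCore p (G ⧸ (Cfsg.upperPSeries p G n).1)).comap (QuotientGroup.mk' _) := by
  have h1 : Cfsg.upperPSeries p G (n + 1) =
      (if Even n then
        ⟨(Cfsg.pPrimeCore p (G ⧸ (Cfsg.upperPSeries p G n).1)).comap (QuotientGroup.mk' _),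
          inferInstance⟩
      else
        ⟨(Cfsg.pCore p (G ⧸ (Cfsg.upperPSeries p G n).1)).comap (QuotientGroup.mk' _),
          inferInstance⟩) := rfl
  rw [h1, if_pos h]

theorem upperPSeries_succ_of_not_even (p : ℕ) (G : Type*) [Group G] (n : ℕ) (h : ¬ Even n) :
    (Cfsg.upperPSeries p G (n + 1)).1 =
      (Cfsg.pCore p (G ⧸ (Cfsg.upperPSeries p G n).1)).comap (QuotientGroup.mk' _) := by
  have h1 : Cfsg.upperPSeries p G (n + 1) =
      (if Even n then
        ⟨(Cfsg.pPrimeCore p (G ⧸ (Cfsg.upperPSeries p G n).1)).comap (QuotientGroup.mk' _),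
          inferInstance⟩
      else
        ⟨(Cfsg.pCore p (G ⧸ (Cfsg.upperPSeries p G n).1)).comap (QuotientGroup.mk' _),
          inferInstance⟩) := rfl
  rw [h1, if_neg h]

/-- One comparison step for upper `p`-series along a surjective hom. -/
theorem upperPSeries_succ_le_comap {G' : Type*} [Group G'] [Finite G] (p : ℕ) (f : G →* G')
    (hf : Function.Surjective f) (m n : ℕ) (hmn : Even m ↔ Even n)
    (h : (Cfsg.upperPSeries p G m).1 ≤ (Cfsg.upperPSeries p G' n).1.comap f) :
    (Cfsg.upperPSeries p G (m + 1)).1 ≤ (Cfsg.upperPSeries p G' (n + 1)).1.comap f := by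
  by_cases hm : Even m
  · rw [upperPSeries_succ_of_even p G m hm, upperPSeries_succ_of_even p G' n (hmn.mp hm)]
    exact comap_pPrimeCore_quotient_le p f hf _ _ h
  · rw [upperPSeries_succ_of_not_even p G m hm,
      upperPSeries_succ_of_not_even p G' n (fun h' => hm (hmn.mpr h'))]
    exact comap_pCore_quotient_le p f hf _ _ h

theorem upperPSeries_le_comap {G' : Type*} [Group G'] [Finite G] (p : ℕ) (f : G →* G')
    (hf : Function.Surjective f) (n : ℕ) :
    (Cfsg.upperPSeries p G n).1 ≤ (Cfsg.upperPSeries p G' n).1.comap f := by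
  induction n with
  | zero => rw [upperPSeries_zero]; exact bot_le
  | succ n ih => exact upperPSeries_succ_le_comap p f hf n n Iff.rfl ih

/-- `p`-length passes to homomorphic images. -/
theorem PLengthLE.of_surjective {G' : Type*} [Group G'] [Finite G] {p k : ℕ} (f : G →* G')
    (hf : Function.Surjective f) (h : Cfsg.PLengthLE p k G) : Cfsg.PLengthLE p k G' := by
  unfold Cfsg.PLengthLE at h ⊢
  have h1 := upperPSeries_le_comap p f hf (2 * k + 1)
  rw [h] at h1
  rw [eq_top_iff]
  intro y _
  obtain ⟨x, rfl⟩ := hf y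
  exact h1 (Subgroup.mem_top x)

/-- `p`-length passes to quotients. -/
theorem PLengthLE.quotient [Finite G] {p k : ℕ} (N : Subgroup G) [N.Normal]
    (h : Cfsg.PLengthLE p k G) : Cfsg.PLengthLE p k (G ⧸ N) :=
  PLengthLE.of_surjective (QuotientGroup.mk' N) (QuotientGroup.mk'_surjective N) h

theorem comap_pCore_quotient_le_of_eq_bot [Finite G] (p : ℕ) (U : Subgroup G) [U.Normal]
    (hU : U = ⊥) :
    (Cfsg.pCore p (G ⧸ U)).comap (QuotientGroup.mk' U) ≤ Cfsg.pCore p G := by
  have hinj : Function.Injective (QuotientGroup.mk' U) := by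
    rw [← MonoidHom.ker_eq_bot_iff, QuotientGroup.ker_mk', hU]
  exact normal_pGroup_le_pCore p _ ((pCore_isPGroup p).comap_of_injective _ hinj)

theorem comap_pPrimeCore_quotient_le_of_eq_bot [Finite G] (p : ℕ) (U : Subgroup G) [U.Normal]
    (hU : U = ⊥) :
    (Cfsg.pPrimeCore p (G ⧸ U)).comap (QuotientGroup.mk' U) ≤ Cfsg.pPrimeCore p G := by
  have hinj : Function.Injective (QuotientGroup.mk' U) := by
    rw [← MonoidHom.ker_eq_bot_iff, QuotientGroup.ker_mk', hU]
  exact normal_coprime_le_pPrimeCore p _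
    (Nat.Coprime.coprime_dvd_left (Subgroup.card_comap_dvd_of_injective _ _ hinj)
      (pPrimeCore_coprime p))

/-- If `O_{p'}(G) = 1` then the first term of the upper `p`-series is trivial. -/
theorem upperPSeries_one_eq_bot [Finite G] (p : ℕ) (h : Cfsg.pPrimeCore p G = ⊥) :
    (Cfsg.upperPSeries p G 1).1 = ⊥ := by
  rw [upperPSeries_succ_of_even p G 0 (by simp)]
  exact le_bot_iff.mp
    ((comap_pPrimeCore_quotient_le_of_eq_bot p _ (upperPSeries_zero p G)).trans h.le)

/-- If `O_{p'}(G) = 1` then the second term of the upper `p`-series lies in `O_p(G)`. -/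
theorem upperPSeries_two_le [Finite G] (p : ℕ) (h : Cfsg.pPrimeCore p G = ⊥) :
    (Cfsg.upperPSeries p G 2).1 ≤ Cfsg.pCore p G := by
  rw [upperPSeries_succ_of_not_even p G 1 (by simp)]
  exact comap_pCore_quotient_le_of_eq_bot p _ (upperPSeries_one_eq_bot p h)

/-- If `O_{p'}(G) = 1` then `U_{n+2}(G)` maps into `U_n(G / O_p(G))`. -/
theorem upperPSeries_add_two_le [Finite G] (p : ℕ) (h : Cfsg.pPrimeCore p G = ⊥) (n : ℕ) :
    (Cfsg.upperPSeries p G (n + 2)).1 ≤
      (Cfsg.upperPSeries p (G ⧸ Cfsg.pCore p G) n).1.comap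
        (QuotientGroup.mk' (Cfsg.pCore p G)) := by
  induction n with
  | zero =>
    intro x hx
    rw [Subgroup.mem_comap, upperPSeries_zero, Subgroup.mem_bot, QuotientGroup.mk'_apply,
      QuotientGroup.eq_one_iff]
    exact upperPSeries_two_le p h hx
  | succ n ih =>
    exact upperPSeries_succ_le_comap p _ (QuotientGroup.mk'_surjective _) (n + 2) n
      (by rw [Nat.even_add]; simp) ih

/-- If `O_{p'}(G) = 1` and `G` has `p`-length at most `k + 1`, then `G / O_p(G)` has
`p`-length at most `k`. -/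
theorem PLengthLE.quotient_pCore [Finite G] {p k : ℕ} (h : Cfsg.pPrimeCore p G = ⊥)
    (hl : Cfsg.PLengthLE p (k + 1) G) : Cfsg.PLengthLE p k (G ⧸ Cfsg.pCore p G) := by
  unfold Cfsg.PLengthLE at hl ⊢
  have h1 := upperPSeries_add_two_le p h (2 * k + 1)
  have h2 : 2 * k + 1 + 2 = 2 * (k + 1) + 1 := by ring
  rw [h2, hl] at h1
  rw [eq_top_iff]
  intro y _
  obtain ⟨x, rfl⟩ := QuotientGroup.mk'_surjective (Cfsg.pCore p G) y
  exact h1 (Subgroup.mem_top x)

/-- If `O_{p'}(G) = 1` and `G` has `p`-length `0`, then `G` is trivial. -/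
theorem PLengthLE.top_eq_bot_of_zero [Finite G] {p : ℕ} (h : Cfsg.pPrimeCore p G = ⊥)
    (hl : Cfsg.PLengthLE p 0 G) : (⊤ : Subgroup G) = ⊥ := by
  unfold Cfsg.PLengthLE at hl
  rw [← hl]
  exact upperPSeries_one_eq_bot p h

/-- If `derivedSeries G a ≤ K` and `K` has derived length at most `b`, then `G` has derived
length at most `a + b`. -/
theorem derivedSeries_add_eq_bot (K : Subgroup G) (a b : ℕ) (h1 : derivedSeries G a ≤ K)
    (h2 : derivedSeries ↥K b = ⊥) : derivedSeries G (a + b) = ⊥ := by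
  have key : ∀ c, derivedSeries G (a + c) ≤ (derivedSeries ↥K c).map K.subtype := by
    intro c
    induction c with
    | zero =>
      rw [derivedSeries_zero, ← MonoidHom.range_eq_map, Subgroup.range_subtype]
      exact h1
    | succ c ih =>
      rw [← add_assoc, derivedSeries_succ, derivedSeries_succ, Subgroup.map_commutator]
      exact Subgroup.commutator_mono ih ih
  have := key b
  rw [h2, Subgroup.map_bot] at this
  exact le_bot_iff.mp this

/-- Sylow subgroups of a homomorphic image have derived length bounded by those of the group. -/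
theorem derivedSeries_sylow_of_surjective {G' : Type*} [Group G'] [Finite G] {p : ℕ}
    [Fact p.Prime] (f : G →* G') (hf : Function.Surjective f) (d : ℕ)
    (h : ∀ S : Sylow p G, derivedSeries ↥(S : Subgroup G) d = ⊥) (Q : Sylow p G') :
    derivedSeries ↥(Q : Subgroup G') d = ⊥ := by
  obtain ⟨S, rfl⟩ := Sylow.mapSurjective_surjective hf p Q
  have h1 := map_derivedSeries_eq (f := f.subgroupMap (S : Subgroup G))
    (f.subgroupMap_surjective (S : Subgroup G)) d
  rw [h S, Subgroup.map_bot] at h1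
  exact h1.symm

/-- A subgroup of a group of derived length at most `d` has derived length at most `d`. -/
theorem derivedSeries_eq_bot_of_le {H K : Subgroup G} (hHK : H ≤ K) (d : ℕ)
    (h : derivedSeries ↥K d = ⊥) : derivedSeries ↥H d = ⊥ := by
  have h1 := map_derivedSeries_le_derivedSeries (Subgroup.inclusion hHK) d
  rw [h, le_bot_iff] at h1
  exact (Subgroup.map_eq_bot_iff_of_injective _ (Subgroup.inclusion_injective hHK)).mp h1

end Cfsg.Agent.Lib.helper66
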