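import Mathlib
import Cfsg.Prelude.Def_Local
import Cfsg.Agent.Lib.helper27.Radical
import Cfsg.Agent.Lib.helper66.PLength

/-!
# `p`-length: normal subgroups, extensions, `p`- and `p'`-groups

* `IsStepFactor p n k` : `k` is prime to `p` (`n` even) or a power of `p` (`n` odd).
* `isStepFactor_upperPSeries` : the factors of the upper `p`-series.
* `le_upperPSeries_succ` : a normal subgroup `V'` with `V ≤ U_n(G)` and `|V' : V ∩ V'|` of the
  right type lies in `U_{n+1}(G)`.
* `upperPSeries_le_succ`, `upperPSeries_characteristic`.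
* `map_subtype_upperPSeries_le` : `U_n(N) ≤ U_n(G)` for `N ⊴ G`.
* `subgroupOf_upperPSeries_le` : `U_n(G) ∩ N ≤ U_n(N)` for `N ⊴ G`.
* `PLengthLE.normal_subgroup` : `l_p(N) ≤ l_p(G)` for `N ⊴ G`.
* `PLengthLE.of_normal_of_quotient` : `l_p(G) ≤ l_p(N) + l_p(G/N)`.
* `PLengthLE.zero_of_coprime`, `PLengthLE.one_of_card_eq_pow`.
* `pPrimeCore_quotient_pPrimeCore` : `O_{p'}(G/O_{p'}(G)) = 1`.
-/

set_option autoImplicit false

namespace Cfsg.Agent.Lib.helper66

open Cfsg.Agent.Lib.helper27

variable {G : Type*} [Group G]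

theorem card_map_mk'_eq_relIndex (M K : Subgroup G) [M.Normal] :
    Nat.card (K.map (QuotientGroup.mk' M)) = M.relIndex K := by
  have h : M = (⊥ : Subgroup (G ⧸ M)).comap (QuotientGroup.mk' M) := by
    ext x
    rw [Subgroup.mem_comap, Subgroup.mem_bot, QuotientGroup.mk'_apply, QuotientGroup.eq_one_iff]
  conv_rhs => rw [h]
  rw [Subgroup.relIndex_comap, Subgroup.relIndex_bot_left]

theorem relIndex_dvd_relIndex_of_le_right (H : Subgroup G) [H.Normal] {K L : Subgroup G}
    (hKL : K ≤ L) : H.relIndex K ∣ H.relIndex L := by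
  rw [← Subgroup.relIndex_subgroupOf hKL]
  exact Subgroup.relIndex_dvd_index_of_normal (H.subgroupOf L) (K.subgroupOf L)

theorem le_comap_mk' (N : Subgroup G) [N.Normal] (K : Subgroup (G ⧸ N)) :
    N ≤ K.comap (QuotientGroup.mk' N) := by
  intro x hx
  rw [Subgroup.mem_comap]
  have : QuotientGroup.mk' N x = 1 := by
    rw [QuotientGroup.mk'_apply, QuotientGroup.eq_one_iff]; exact hx
  rw [this]; exact one_mem _

/-- The type of factor allowed at step `n → n+1` of a `p`-series: prime to `p` if `n` is even,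
a power of `p` if `n` is odd. -/
def IsStepFactor (p n k : ℕ) : Prop := if Even n then k.Coprime p else ∃ m, k = p ^ m

theorem isStepFactor_of_even {p n k : ℕ} (hn : Even n) :
    IsStepFactor p n k ↔ k.Coprime p := by
  unfold IsStepFactor; rw [if_pos hn]

theorem isStepFactor_of_not_even {p n k : ℕ} (hn : ¬ Even n) :
    IsStepFactor p n k ↔ ∃ m, k = p ^ m := by
  unfold IsStepFactor; rw [if_neg hn]

theorem IsStepFactor.congr {p n n' k : ℕ} (h : Even n ↔ Even n') (hk : IsStepFactor p n k) :
    IsStepFactor p n' k := by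
  by_cases hn : Even n
  · rw [isStepFactor_of_even hn] at hk
    rw [isStepFactor_of_even (h.mp hn)]; exact hk
  · rw [isStepFactor_of_not_even hn] at hk
    rw [isStepFactor_of_not_even (fun h' => hn (h.mpr h'))]; exact hk

theorem IsStepFactor.of_dvd {p n k k' : ℕ} [Fact p.Prime] (h : k' ∣ k)
    (hk : IsStepFactor p n k) : IsStepFactor p n k' := by
  by_cases hn : Even n
  · rw [isStepFactor_of_even hn] at hk ⊢
    exact Nat.Coprime.coprime_dvd_left h hk
  · rw [isStepFactor_of_not_even hn] at hk ⊢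
    obtain ⟨m, rfl⟩ := hk
    obtain ⟨j, -, hj⟩ := (Nat.dvd_prime_pow Fact.out).mp h
    exact ⟨j, hj⟩

theorem IsStepFactor.mul {p n k k' : ℕ} (hk : IsStepFactor p n k) (hk' : IsStepFactor p n k') :
    IsStepFactor p n (k * k') := by
  by_cases hn : Even n
  · rw [isStepFactor_of_even hn] at hk hk' ⊢
    exact Nat.Coprime.mul_left hk hk'
  · rw [isStepFactor_of_not_even hn] at hk hk' ⊢
    obtain ⟨m, rfl⟩ := hk
    obtain ⟨m', rfl⟩ := hk'
    exact ⟨m + m', (pow_add _ _ _).symm⟩

/-- The factors of the upper `p`-series are alternately `p'`-groups and `p`-groups. -/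
theorem isStepFactor_upperPSeries [Finite G] (p : ℕ) [Fact p.Prime] (n : ℕ) :
    IsStepFactor p n
      ((Cfsg.upperPSeries p G n).1.relIndex (Cfsg.upperPSeries p G (n + 1)).1) := by
  rw [← card_map_mk'_eq_relIndex]
  by_cases hn : Even n
  · rw [isStepFactor_of_even hn, upperPSeries_succ_of_even p G n hn,
      Subgroup.map_comap_eq_self_of_surjective (QuotientGroup.mk'_surjective _)]
    exact pPrimeCore_coprime p
  · rw [isStepFactor_of_not_even hn, upperPSeries_succ_of_not_even p G n hn,
      Subgroup.map_comap_eq_self_of_surjective (QuotientGroup.mk'_surjective _)]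
    exact (IsPGroup.iff_card.mp (pCore_isPGroup p))

/-- If `V ≤ U_n(G)`, `V'` is normal in `G` and `|V' : V ∩ V'|` is of the type allowed at step
`n`, then `V' ≤ U_{n+1}(G)`. -/
theorem le_upperPSeries_succ [Finite G] (p : ℕ) [Fact p.Prime] (n : ℕ) (V V' : Subgroup G)
    [V'.Normal] (hV : V ≤ (Cfsg.upperPSeries p G n).1) (h : IsStepFactor p n (V.relIndex V')) :
    V' ≤ (Cfsg.upperPSeries p G (n + 1)).1 := by
  have hnorm : (V'.map (QuotientGroup.mk' (Cfsg.upperPSeries p G n).1)).Normal :=
    Subgroup.Normal.map inferInstance _ (QuotientGroup.mk'_surjective _)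
  have h' : IsStepFactor p n
      (Nat.card (V'.map (QuotientGroup.mk' (Cfsg.upperPSeries p G n).1))) := by
    rw [card_map_mk'_eq_relIndex]
    exact h.of_dvd (Subgroup.relIndex_dvd_of_le_left V' hV)
  by_cases hn : Even n
  · rw [upperPSeries_succ_of_even p G n hn, ← Subgroup.map_le_iff_le_comap]
    rw [isStepFactor_of_even hn] at h'
    exact normal_coprime_le_pPrimeCore p _ h'
  · rw [upperPSeries_succ_of_not_even p G n hn, ← Subgroup.map_le_iff_le_comap]
    rw [isStepFactor_of_not_even hn] at h'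
    obtain ⟨m, hm⟩ := h'
    exact normal_pGroup_le_pCore p _ (IsPGroup.of_card hm)

theorem upperPSeries_le_succ (p : ℕ) (G : Type*) [Group G] (n : ℕ) :
    (Cfsg.upperPSeries p G n).1 ≤ (Cfsg.upperPSeries p G (n + 1)).1 := by
  by_cases hn : Even n
  · rw [upperPSeries_succ_of_even p G n hn]
    exact le_comap_mk' _ _
  · rw [upperPSeries_succ_of_not_even p G n hn]
    exact le_comap_mk' _ _

instance upperPSeries_characteristic [Finite G] (p n : ℕ) :
    (Cfsg.upperPSeries p G n).1.Characteristic :=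
  Subgroup.characteristic_iff_le_comap.mpr fun φ =>
    upperPSeries_le_comap p φ.toMonoidHom φ.surjective n

/-- For `N ⊴ G`, the upper `p`-series of `N` lies below that of `G`. -/
theorem map_subtype_upperPSeries_le [Finite G] (p : ℕ) [Fact p.Prime] (N : Subgroup G)
    [N.Normal] (n : ℕ) :
    (Cfsg.upperPSeries p N n).1.map N.subtype ≤ (Cfsg.upperPSeries p G n).1 := by
  induction n with
  | zero => rw [upperPSeries_zero, Subgroup.map_bot]; exact bot_le
  | succ n ih =>
    refine le_upperPSeries_succ p n _ _ ih ?_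
    rw [Subgroup.relIndex_map_map_of_injective _ _ N.subtype_injective]
    exact isStepFactor_upperPSeries p n

/-- For `N ⊴ G`, the upper `p`-series of `G` intersected with `N` lies below that of `N`. -/
theorem subgroupOf_upperPSeries_le [Finite G] (p : ℕ) [Fact p.Prime] (N : Subgroup G)
    [N.Normal] (n : ℕ) :
    (Cfsg.upperPSeries p G n).1.subgroupOf N ≤ (Cfsg.upperPSeries p N n).1 := by
  induction n with
  | zero => rw [upperPSeries_zero, Subgroup.bot_subgroupOf]; exact bot_le
  | succ n ih =>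
    refine le_upperPSeries_succ p n _ _ ih ?_
    rw [← Subgroup.inf_subgroupOf_right (Cfsg.upperPSeries p G (n + 1)).1 N,
      Subgroup.relIndex_subgroupOf inf_le_right]
    exact (isStepFactor_upperPSeries (G := G) p n).of_dvd
      (relIndex_dvd_relIndex_of_le_right _ inf_le_left)

/-- A normal subgroup of a group of `p`-length at most `k` has `p`-length at most `k`. -/
theorem PLengthLE.normal_subgroup [Finite G] {p k : ℕ} [Fact p.Prime] (N : Subgroup G)
    [N.Normal] (h : Cfsg.PLengthLE p k G) : Cfsg.PLengthLE p k N := by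
  unfold Cfsg.PLengthLE at h ⊢
  have h1 := subgroupOf_upperPSeries_le p N (2 * k + 1)
  rw [h, Subgroup.top_subgroupOf] at h1
  exact top_le_iff.mp h1

/-- If `N ⊴ G` has `p`-length at most `a`, the upper `p`-series of `G / N` pulls back into the
upper `p`-series of `G` shifted by `2a`. -/
theorem comap_upperPSeries_quotient_le [Finite G] (p : ℕ) [Fact p.Prime] (N : Subgroup G)
    [N.Normal] (a : ℕ) (hN : Cfsg.PLengthLE p a N) (m : ℕ) :
    (Cfsg.upperPSeries p (G ⧸ N) (m + 1)).1.comap (QuotientGroup.mk' N) ≤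
      (Cfsg.upperPSeries p G (2 * a + 1 + m)).1 := by
  induction m with
  | zero =>
    show (Cfsg.upperPSeries p (G ⧸ N) 1).1.comap (QuotientGroup.mk' N) ≤
      (Cfsg.upperPSeries p G (2 * a + 1)).1
    refine le_upperPSeries_succ p (2 * a) ((Cfsg.upperPSeries p N (2 * a)).1.map N.subtype) _
      (map_subtype_upperPSeries_le p N (2 * a)) ?_
    have hVN : (Cfsg.upperPSeries p N (2 * a)).1.map N.subtype ≤ N := Subgroup.map_subtype_le _
    have hNK : N ≤ (Cfsg.upperPSeries p (G ⧸ N) 1).1.comap (QuotientGroup.mk' N) :=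
      le_comap_mk' _ _
    rw [← Subgroup.relIndex_mul_relIndex _ _ _ hVN hNK]
    refine IsStepFactor.mul ?_ ?_
    · have h1 := isStepFactor_upperPSeries (G := N) p (2 * a)
      unfold Cfsg.PLengthLE at hN
      rw [hN] at h1
      have h2 : ((Cfsg.upperPSeries p N (2 * a)).1.map N.subtype).relIndex N =
          (Cfsg.upperPSeries p N (2 * a)).1.relIndex ⊤ := by
        have h3 : N = (⊤ : Subgroup N).map N.subtype := by
          rw [← MonoidHom.range_eq_map, Subgroup.range_subtype]
        conv_lhs => rhs; rw [h3]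
        rw [Subgroup.relIndex_map_map_of_injective _ _ N.subtype_injective]
      rw [h2]; exact h1
    · have h1 := isStepFactor_upperPSeries (G := G ⧸ N) p 0
      rw [upperPSeries_zero, Subgroup.relIndex_bot_left] at h1
      rw [← card_map_mk'_eq_relIndex,
        Subgroup.map_comap_eq_self_of_surjective (QuotientGroup.mk'_surjective N)]
      exact h1.congr (by simp)
  | succ m ih =>
    have h2 : 2 * a + 1 + (m + 1) = (2 * a + 1 + m) + 1 := by ring
    rw [h2]
    refine le_upperPSeries_succ p _ _ _ ih ?_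
    rw [Subgroup.relIndex_comap,
      Subgroup.map_comap_eq_self_of_surjective (QuotientGroup.mk'_surjective N)]
    exact (isStepFactor_upperPSeries (G := G ⧸ N) p (m + 1)).congr
      (by simp only [Nat.even_iff]; omega)

/-- Subadditivity of `p`-length: `l_p(G) ≤ l_p(N) + l_p(G/N)`. -/
theorem PLengthLE.of_normal_of_quotient [Finite G] {p a b : ℕ} [Fact p.Prime] (N : Subgroup G)
    [N.Normal] (hN : Cfsg.PLengthLE p a N) (hQ : Cfsg.PLengthLE p b (G ⧸ N)) :
    Cfsg.PLengthLE p (a + b) G := by
  have h1 := comap_upperPSeries_quotient_le p N a hN (2 * b)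
  unfold Cfsg.PLengthLE at hQ ⊢
  rw [hQ, Subgroup.comap_top] at h1
  have h2 : 2 * a + 1 + 2 * b = 2 * (a + b) + 1 := by ring
  rw [h2] at h1
  exact top_le_iff.mp h1

/-- A `p'`-group has `p`-length `0`. -/
theorem PLengthLE.zero_of_coprime [Finite G] {p : ℕ} [Fact p.Prime]
    (h : (Nat.card G).Coprime p) : Cfsg.PLengthLE p 0 G := by
  unfold Cfsg.PLengthLE
  have h1 : (⊤ : Subgroup G) ≤ (Cfsg.upperPSeries p G (0 + 1)).1 :=
    le_upperPSeries_succ p 0 ⊥ ⊤ bot_le (by
      rw [isStepFactor_of_even (by simp), Subgroup.relIndex_bot_left, Subgroup.card_top]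
      exact h)
  exact top_le_iff.mp h1

/-- A `p`-group has `p`-length at most `1`. -/
theorem PLengthLE.one_of_card_eq_pow [Finite G] {p m : ℕ} [Fact p.Prime]
    (h : Nat.card G = p ^ m) : Cfsg.PLengthLE p 1 G := by
  unfold Cfsg.PLengthLE
  have h2 : (⊤ : Subgroup G) ≤ (Cfsg.upperPSeries p G (1 + 1)).1 :=
    le_upperPSeries_succ p 1 ⊥ ⊤ bot_le (by
      rw [isStepFactor_of_not_even (by simp), Subgroup.relIndex_bot_left, Subgroup.card_top]
      exact ⟨m, h⟩)
  exact top_le_iff.mp (h2.trans (upperPSeries_le_succ p G 2))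

/-- `O_{p'}(G / O_{p'}(G)) = 1`. -/
theorem pPrimeCore_quotient_pPrimeCore [Finite G] (p : ℕ) :
    Cfsg.pPrimeCore p (G ⧸ Cfsg.pPrimeCore p G) = ⊥ := by
  set N := Cfsg.pPrimeCore p G with hN
  set K : Subgroup G := (Cfsg.pPrimeCore p (G ⧸ N)).comap (QuotientGroup.mk' N) with hK
  have hNK : N ≤ K := le_comap_mk' _ _
  have hcard : (Nat.card K).Coprime p := by
    rw [← Subgroup.relIndex_bot_left, ← Subgroup.relIndex_mul_relIndex ⊥ N K bot_le hNK,
      Subgroup.relIndex_bot_left]
    refine Nat.Coprime.mul_left (pPrimeCore_coprime p) ?_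
    rw [← card_map_mk'_eq_relIndex, hK,
      Subgroup.map_comap_eq_self_of_surjective (QuotientGroup.mk'_surjective N)]
    exact pPrimeCore_coprime p
  have hKN : K ≤ N := normal_coprime_le_pPrimeCore p K hcard
  rw [eq_bot_iff]
  intro y hy
  obtain ⟨x, rfl⟩ := QuotientGroup.mk'_surjective N y
  rw [Subgroup.mem_bot, QuotientGroup.mk'_apply, QuotientGroup.eq_one_iff]
  exact hKN hy

end Cfsg.Agent.Lib.helper66
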