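import Mathlib

set_option autoImplicit false

namespace Cfsg.Agent.Lib.helper66

/-- The commutant of an endomorphism, as a submodule of `End`. -/
def commSub {K : Type*} [Field K] {W : Type*} [AddCommGroup W] [Module K W]
    (X : Module.End K W) : Submodule K (Module.End K W) where
  carrier := {M | X * M = M * X}
  add_mem' := by
    intro A B hA hB
    simp only [Set.mem_setOf_eq] at hA hB ⊢
    rw [mul_add, add_mul, hA, hB]
  zero_mem' := by simp
  smul_mem' := by
    intro c A hA
    simp only [Set.mem_setOf_eq] at hA ⊢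
    rw [mul_smul_comm, smul_mul_assoc, hA]

theorem mem_commSub {K : Type*} [Field K] {W : Type*} [AddCommGroup W] [Module K W]
    (X M : Module.End K W) : M ∈ commSub X ↔ X * M = M * X := Iff.rfl

/-- Eigenvalue multiplicities of an endomorphism of finite order `h` (invertible in `K`):
they sum to the dimension, and the sum of their squares is at most the dimension of the
commutant. -/
theorem eigen_count {K : Type*} [Field K] [IsAlgClosed K] {W : Type*} [AddCommGroup W]
    [Module K W] [FiniteDimensional K W]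
    (X : Module.End K W) (h : ℕ) (hh : 0 < h) (hXh : X ^ h = 1) (hhK : (h : K) ≠ 0) :
    ∃ a : Fin h → ℕ, ∑ j, a j = Module.finrank K W ∧
      (∑ j, (a j) ^ 2 ≤ Module.finrank K (commSub X)) ∧
      ((∀ w, X w = w → w = 0) → a ⟨0, hh⟩ = 0) := by
  classical
  haveI : NeZero (h : K) := ⟨hhK⟩
  haveI : NeZero h := ⟨hh.ne'⟩
  obtain ⟨ζ, hζ⟩ := HasEnoughRootsOfUnity.exists_primitiveRoot K h
  have hss : X.IsSemisimple := by
    apply Module.End.isSemisimple_of_squarefree_aeval_eq_zero
      (p := Polynomial.X ^ h - Polynomial.C 1)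
    · exact (Polynomial.separable_X_pow_sub_C (1 : K) hhK one_ne_zero).squarefree
    · simp [hXh]
  have htop := hss.iSup_eigenspace_eq_top
  have hev : ∀ μ : K, X.eigenspace μ ≠ ⊥ → ∃ j : Fin h, ζ ^ (j : ℕ) = μ := by
    intro μ hμ
    obtain ⟨w, hw, hw0⟩ := (Submodule.ne_bot_iff _).mp hμ
    have h1 : X w = μ • w := Module.End.mem_eigenspace_iff.mp hw
    have h2 : ∀ k : ℕ, (X ^ k) w = μ ^ k • w := by
      intro k
      induction k with
      | zero => simp
      | succ k ih =>
        rw [pow_succ, Module.End.mul_apply, h1, map_smul, ih, smul_smul, pow_succ, mul_comm]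
    have h3 : μ ^ h = 1 := by
      have h5 := h2 h
      rw [hXh, Module.End.one_apply] at h5
      by_contra hne
      apply hw0
      have h6 : (μ ^ h - 1) • w = 0 := by rw [sub_smul, one_smul, ← h5, sub_self]
      rcases smul_eq_zero.mp h6 with h4 | h4
      · exact absurd (sub_eq_zero.mp h4) hne
      · exact h4
    obtain ⟨i, hi, hiμ⟩ := hζ.eq_pow_of_pow_eq_one h3
    exact ⟨⟨i, hi⟩, hiμ⟩
  let E : Fin h → Submodule K W := fun j => X.eigenspace (ζ ^ (j : ℕ))
  have hinj : Function.Injective (fun j : Fin h => ζ ^ (j : ℕ)) := by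
    intro i j hij
    exact Fin.ext (hζ.pow_inj i.2 j.2 hij)
  have hind : iSupIndep E := (Module.End.eigenspaces_iSupIndep X).comp hinj
  have hsup : ⨆ j, E j = ⊤ := by
    rw [eq_top_iff, ← htop]
    apply iSup_le
    intro μ
    by_cases hμ : X.eigenspace μ = ⊥
    · rw [hμ]; exact bot_le
    · obtain ⟨j, hj⟩ := hev μ hμ
      rw [← hj]; exact le_iSup E j
  have hint := DirectSum.isInternal_submodule_of_iSupIndep_of_iSup_eq_top hind hsup
  let a : Fin h → ℕ := fun j => Module.finrank K (E j)
  let bj : ∀ j, Module.Basis (Fin (a j)) K (E j) := fun j => Module.finBasis K (E j)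
  let b := hint.collectedBasis bj
  have hbX : ∀ i : (Σ j, Fin (a j)), X (b i) = ζ ^ (i.1 : ℕ) • b i := by
    intro i
    have := hint.collectedBasis_mem bj i
    exact Module.End.mem_eigenspace_iff.mp this
  refine ⟨a, ?_, ?_, ?_⟩
  · rw [Module.finrank_eq_card_basis b, Fintype.card_sigma]
    simp
  · let φ := LinearMap.toMatrixAlgEquiv b
    let d : (Σ j, Fin (a j)) → K := fun i => ζ ^ (i.1 : ℕ)
    have hD : φ X = Matrix.diagonal d := by
      ext i j
      rw [LinearMap.toMatrixAlgEquiv_apply, hbX, map_smul, Matrix.diagonal_apply]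
      simp only [Module.Basis.repr_self, Finsupp.smul_apply, smul_eq_mul, Finsupp.single_apply]
      by_cases hij : i = j
      · subst hij; simp [d]
      · simp [hij, Ne.symm hij]
    let e : (Σ j, Fin (a j) × Fin (a j)) → (Σ j, Fin (a j)) × (Σ j, Fin (a j)) :=
      fun t => (⟨t.1, t.2.1⟩, ⟨t.1, t.2.2⟩)
    have he : Function.Injective e := by
      rintro ⟨j, k, l⟩ ⟨j', k', l'⟩ hjj
      simp only [e, Prod.mk.injEq, Sigma.mk.injEq] at hjj
      obtain ⟨⟨rfl, hk⟩, ⟨_, hl⟩⟩ := hjj
      simp only [heq_eq_eq] at hk hl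
      subst hk; subst hl; rfl
    have hcomm : ∀ t : (Σ j, Fin (a j) × Fin (a j)),
        φ.symm (Matrix.single (e t).1 (e t).2 (1 : K)) ∈ commSub X := by
      intro t
      rw [mem_commSub]
      apply φ.injective
      rw [map_mul, map_mul, AlgEquiv.apply_symm_apply, hD]
      ext u v
      rw [Matrix.diagonal_mul, Matrix.mul_diagonal, Matrix.single_apply]
      by_cases huv : (e t).1 = u ∧ (e t).2 = v
      · rw [if_pos huv]
        obtain ⟨hu, hv⟩ := huv
        rw [← hu, ← hv]
        simp [d, e, mul_comm]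
      · rw [if_neg huv]; simp
    let F : (Σ j, Fin (a j) × Fin (a j)) → commSub X := fun t => ⟨_, hcomm t⟩
    have hF : LinearIndependent K F := by
      apply LinearIndependent.of_comp (commSub X).subtype
      have h1 : (commSub X).subtype ∘ F
          = φ.symm.toLinearMap ∘ ((Matrix.stdBasis K _ _) ∘ e) := by
        funext t
        simp only [Function.comp_apply, Submodule.subtype_apply, F, AlgEquiv.toLinearMap_apply]
        rw [Matrix.stdBasis_eq_single]
      rw [h1]
      apply LinearIndependent.map'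
      · exact (Matrix.stdBasis K _ _).linearIndependent.comp e he
      · exact LinearMap.ker_eq_bot.mpr φ.symm.injective
    have h2 := hF.fintype_card_le_finrank
    rw [Fintype.card_sigma] at h2
    simpa [pow_two] using h2
  · intro hfix
    have : E ⟨0, hh⟩ = ⊥ := by
      rw [Submodule.eq_bot_iff]
      intro w hw
      have h1 : X w = ζ ^ ((⟨0, hh⟩ : Fin h) : ℕ) • w := Module.End.mem_eigenspace_iff.mp hw
      apply hfix
      simpa using h1
    show Module.finrank K (E ⟨0, hh⟩) = 0
    rw [this]
    exact finrank_bot K W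

end Cfsg.Agent.Lib.helper66
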