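/-
Arithmetic lemma on multiplicities (helper66): if `a : Fin h → ℕ` satisfies
`h * ∑ a j ^ 2 ≤ (∑ a j) ^ 2 + h - 1` and `h ∣ (∑ a j) ^ 2 + h - 1`, then all `a j` are equal
except one which differs by `1`; in particular `∑ a j ≡ ± 1 (mod h)`.
-/
import Mathlib

set_option autoImplicit false

namespace Cfsg.Agent.Lib.helper66

theorem mult_lemma (h : ℕ) (hh : 0 < h) (a : Fin h → ℕ) (o : ℕ)
    (hn : 0 < ∑ j, a j)
    (h1 : h * ∑ j, (a j) ^ 2 + 1 ≤ (∑ j, a j) ^ 2 + h)
    (h2 : h * o + 1 = (∑ j, a j) ^ 2 + h) :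
    (∃ c, ∑ j, a j = h * c + 1 ∨ ∑ j, a j + 1 = h * c) ∧
    ((∃ j, a j = 0) → ∑ j, a j = 1 ∨ ∑ j, a j + 1 = h) := by
  classical
  obtain ⟨j₀, -, hj₀⟩ := Finset.exists_min_image Finset.univ a ⟨⟨0, hh⟩, Finset.mem_univ _⟩
  set m := a j₀ with hm
  have hma : ∀ j, m ≤ a j := fun j => hj₀ j (Finset.mem_univ j)
  set b : Fin h → ℕ := fun j => a j - m with hb
  have hab : ∀ j, a j = b j + m := fun j => by simp only [hb]; have := hma j; omega
  have hb0 : b j₀ = 0 := by simp [hb, hm]
  set B := ∑ j, b j with hB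
  set t := ∑ j, (b j) ^ 2 with ht
  have hnB : ∑ j, a j = h * m + B := by
    rw [Finset.sum_congr rfl (fun j _ => hab j), Finset.sum_add_distrib, Finset.sum_const,
      Finset.card_univ, Fintype.card_fin, smul_eq_mul]
    ring
  have hS : ∑ j, (a j) ^ 2 = h * m ^ 2 + 2 * m * B + t := by
    have : ∀ j, (a j) ^ 2 = (b j) ^ 2 + 2 * m * b j + m ^ 2 := fun j => by rw [hab j]; ring
    rw [Finset.sum_congr rfl (fun j _ => this j), Finset.sum_add_distrib, Finset.sum_add_distrib,
      Finset.sum_const, Finset.card_univ, Fintype.card_fin, smul_eq_mul, ← Finset.mul_sum]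
    ring
  rw [hnB, hS] at h1
  rw [hnB] at h2
  -- (1') h t + 1 ≤ B² + h
  have e1 : h * t + 1 ≤ B ^ 2 + h := by nlinarith
  -- (3) B ≤ t
  have e3 : B ≤ t := Finset.sum_le_sum (fun j _ => Nat.le_self_pow (by norm_num) (b j))
  -- (2) B² + t ≤ h t   (Cauchy–Schwarz on the entries other than j₀)
  have e2 : B ^ 2 + t ≤ h * t := by
    have hBs : B = ∑ j ∈ Finset.univ.erase j₀, b j * 1 := by
      rw [hB, ← Finset.add_sum_erase Finset.univ b (Finset.mem_univ j₀), hb0, zero_add]
      simp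
    have hts : t = ∑ j ∈ Finset.univ.erase j₀, (b j) ^ 2 := by
      rw [ht, ← Finset.add_sum_erase Finset.univ (fun j => (b j) ^ 2) (Finset.mem_univ j₀), hb0]
      simp
    have hcs := Finset.sum_mul_sq_le_sq_mul_sq (Finset.univ.erase j₀) b (fun _ => (1 : ℕ))
    rw [← hBs, ← hts] at hcs
    simp only [one_pow, Finset.sum_const, smul_eq_mul, mul_one] at hcs
    rw [Finset.card_erase_of_mem (Finset.mem_univ j₀), Finset.card_univ, Fintype.card_fin] at hcs
    have : t * (h - 1) + t = h * t := by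
      obtain ⟨h', rfl⟩ : ∃ h', h = h' + 1 := ⟨h - 1, by omega⟩
      simp only [Nat.add_sub_cancel]; ring
    omega
  have e4 : t + 1 ≤ h := by omega
  have hB2 : B ^ 2 ≤ t ^ 2 := Nat.pow_le_pow_left e3 2
  rcases Nat.eq_zero_or_pos t with ht0 | htpos
  · -- t = 0
    have hB0 : B = 0 := by omega
    rw [hB0, add_zero] at h2 hnB
    have hh1 : h = 1 := by
      have h3 : h * o + 1 = h * (h * m ^ 2 + 1) := by rw [h2]; ring
      have hdvd : h ∣ 1 := by
        have : h ∣ h * (h * m ^ 2 + 1) - h * o := Nat.dvd_sub (Dvd.intro _ rfl) (Dvd.intro _ rfl)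
        have h4 : h * (h * m ^ 2 + 1) - h * o = 1 := by omega
        rwa [h4] at this
      exact Nat.dvd_one.mp hdvd
    refine ⟨⟨m - 1, Or.inl ?_⟩, ?_⟩
    · rw [hnB, hh1]
      have : 0 < m := by rw [hnB, hh1] at hn; omega
      omega
    · rintro ⟨j, hj⟩
      have : m = 0 := by have := hma j; omega
      rw [hnB, this] at hn
      simp at hn
  · -- t ≥ 1
    have hcase : t = 1 ∨ h ≤ t + 1 := by
      by_contra hcon
      push Not at hcon
      obtain ⟨h₁, h₂⟩ := hcon
      have h5 : h * t + 1 ≤ t ^ 2 + h := by omega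
      have h6 : 2 ≤ t := by omega
      nlinarith
    rcases hcase with ht1 | hht
    · have hB1 : B = 1 := by
        have : 1 ≤ B ^ 2 := by rw [ht1] at e1; omega
        have : B ≠ 0 := by rintro h0; rw [h0] at this; simp at this
        omega
      refine ⟨⟨m, Or.inl (by rw [hnB, hB1])⟩, ?_⟩
      rintro ⟨j, hj⟩
      have : m = 0 := by have := hma j; omega
      left; rw [hnB, hB1, this]; simp
    · have hth : t + 1 = h := by omega
      have hBh : B + 1 = h := by
        have h7 : (h - 1) ^ 2 ≤ B ^ 2 := by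
          obtain ⟨h', rfl⟩ : ∃ h', h = h' + 1 := ⟨h - 1, by omega⟩
          simp only [Nat.add_sub_cancel]
          have : t = h' := by omega
          rw [this] at e1
          nlinarith
        have h8 : h - 1 ≤ B := by
          by_contra hcon
          push Not at hcon
          have := Nat.pow_lt_pow_left hcon (n := 2) (by norm_num)
          omega
        omega
      refine ⟨⟨m + 1, Or.inr (by rw [hnB]; rw [mul_add, mul_one]; omega)⟩, ?_⟩
      rintro ⟨j, hj⟩
      have : m = 0 := by have := hma j; omega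
      right; rw [hnB, this]; simp; exact hBh

end Cfsg.Agent.Lib.helper66
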