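import Mathlib
import Cfsg.Agent.Lib.helper66.ExtraRepA
import Cfsg.Agent.Lib.helper66.ExtraRepB
import Cfsg.Agent.Lib.helper66.MultLemma

set_option autoImplicit false

namespace Cfsg.Agent.Lib.helper66

section

variable {K : Type*} [Field K] {W : Type*} [AddCommGroup W] [Module K W]
  {Q : Type*} [Group Q]

/-- The automorphism of `Q ⧸ Z(Q)` induced by an automorphism of `Q`. -/
noncomputable def sigmaBar (σ : MulAut Q) :
    (Q ⧸ Subgroup.center Q) ≃* (Q ⧸ Subgroup.center Q) :=
  QuotientGroup.congr (Subgroup.center Q) (Subgroup.center Q) σ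
    (Subgroup.characteristic_iff_map_eq.mp inferInstance σ)

theorem sigmaBar_mk (σ : MulAut Q) (u : Q) :
    sigmaBar σ (QuotientGroup.mk u) = QuotientGroup.mk (σ u) :=
  QuotientGroup.congr_mk _ _ _ _ _

theorem sigmaBar_pow_mk (σ : MulAut Q) (i : ℕ) (u : Q) :
    (((sigmaBar σ).toEquiv : Equiv.Perm (Q ⧸ Subgroup.center Q)) ^ i) (QuotientGroup.mk u)
      = QuotientGroup.mk ((σ ^ i) u) := by
  induction i generalizing u with
  | zero => simp
  | succ i ih =>
    rw [pow_succ, Equiv.Perm.mul_apply, pow_succ, MulAut.mul_apply, ← ih (σ u)]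
    rfl

/-- Orbit counting for a permutation of order `h` all of whose nontrivial powers have exactly
one fixed point. -/
theorem orbit_count {Ω : Type*} [Fintype Ω] (τ : Equiv.Perm Ω) (h : ℕ) (hh : 0 < h)
    (hτh : τ ^ h = 1) (ω₀ : Ω) (hfix0 : τ ω₀ = ω₀)
    (hfpf : ∀ i, 0 < i → i < h → ∀ ω, (τ ^ i) ω = ω → ω = ω₀) (hnt : ∃ ω, ω ≠ ω₀) :
    h * Nat.card (MulAction.orbitRel.Quotient (Subgroup.zpowers τ) Ω) + 1
      = Nat.card Ω + h := by
  classical
  have hord : orderOf τ = h := by
    rw [orderOf_eq_iff hh]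
    refine ⟨hτh, fun m hm hm0 hm1 => ?_⟩
    obtain ⟨ω, hω⟩ := hnt
    apply hω
    apply hfpf m hm0 hm ω
    rw [hm1]
    rfl
  have hfix0' : ∀ i : ℕ, (τ ^ i) ω₀ = ω₀ := by
    intro i
    induction i with
    | zero => simp
    | succ i ih => rw [pow_succ, Equiv.Perm.mul_apply, hfix0, ih]
  have hB := MulAction.sum_card_fixedBy_eq_card_orbits_mul_card_group (Subgroup.zpowers τ) Ω
  have h1 : ∀ g : Subgroup.zpowers τ, Fintype.card (MulAction.fixedBy Ω g)
      = if g = 1 then Fintype.card Ω else 1 := by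
    intro g
    by_cases hg : g = 1
    · rw [if_pos hg, hg]
      exact Fintype.card_congr (Equiv.subtypeUnivEquiv (fun ω => by simp))
    · rw [if_neg hg]
      have hg2 := g.2
      rw [mem_zpowers_iff_mem_range_orderOf, hord] at hg2
      obtain ⟨i, hi, hig⟩ := Finset.mem_image.mp hg2
      have hi' := Finset.mem_range.mp hi
      have hig' : τ ^ i = (g : Equiv.Perm Ω) := hig
      have hi0 : 0 < i := by
        rcases Nat.eq_zero_or_pos i with h0 | h0
        · exfalso
          apply hg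
          apply Subtype.ext
          rw [← hig', h0]
          simp
        · exact h0
      rw [Fintype.card_eq_one_iff]
      refine ⟨⟨ω₀, ?_⟩, ?_⟩
      · rw [MulAction.mem_fixedBy]
        show (g : Equiv.Perm Ω) ω₀ = ω₀
        rw [← hig']
        exact hfix0' i
      · intro y
        apply Subtype.ext
        apply hfpf i hi0 hi' y.1
        have hy := y.2
        rw [MulAction.mem_fixedBy] at hy
        rw [hig']
        exact hy
  simp only [h1] at hB
  have hA : 1 ≤ Fintype.card Ω := Fintype.card_pos_iff.mpr ⟨ω₀⟩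
  have h2 : ∑ g : Subgroup.zpowers τ, (if g = 1 then Fintype.card Ω else 1)
      = Fintype.card (Subgroup.zpowers τ) + (Fintype.card Ω - 1) := by
    have h3 : ∀ g : Subgroup.zpowers τ, (if g = 1 then Fintype.card Ω else 1)
        = 1 + (if g = 1 then Fintype.card Ω - 1 else 0) := by
      intro g
      split_ifs <;> omega
    simp only [h3]
    rw [Finset.sum_add_distrib, Finset.sum_ite_eq', if_pos (Finset.mem_univ _)]
    simp
  rw [h2, Fintype.card_zpowers, hord] at hB
  rw [Nat.card_eq_fintype_card, Nat.card_eq_fintype_card]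
  have h4 : h * Fintype.card (MulAction.orbitRel.Quotient (Subgroup.zpowers τ) Ω)
      = h + (Fintype.card Ω - 1) := by
    rw [hB, mul_comm]
  omega

/-- A subspace whose coefficient-vanishing pattern is `τ`-invariant has dimension at most the
number of `τ`-orbits. -/
theorem finrank_le_orbits {V : Type*} [AddCommGroup V] [Module K V] [Module.Finite K V]
    {Ω : Type*} [Fintype Ω] (B : Module.Basis Ω K V) (τ : Equiv.Perm Ω) (C : Submodule K V)
    (hC : ∀ M ∈ C, ∀ ω, B.repr M (τ ω) = 0 ↔ B.repr M ω = 0) :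
    Module.finrank K C ≤ Nat.card (MulAction.orbitRel.Quotient (Subgroup.zpowers τ) Ω) := by
  classical
  let _ : Fintype (MulAction.orbitRel.Quotient (Subgroup.zpowers τ) Ω) := Fintype.ofFinite _
  let Ψ : C →ₗ[K] (MulAction.orbitRel.Quotient (Subgroup.zpowers τ) Ω → K) :=
    { toFun := fun M q => B.repr (M : V) (Quotient.out q)
      map_add' := by intro x y; ext q; simp
      map_smul' := by intro c x; ext q; simp }
  have hΨ : Function.Injective Ψ := by
    rw [← LinearMap.ker_eq_bot, LinearMap.ker_eq_bot']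
    intro M hM
    have key : ∀ (k : ℤ) (ω : Ω), B.repr (M : V) ((τ ^ k) ω) = 0 ↔ B.repr (M : V) ω = 0 := by
      intro k
      induction k using Int.induction_on with
      | zero => intro ω; simp
      | succ i ih =>
        intro ω
        rw [zpow_add_one, Equiv.Perm.mul_apply, ih (τ ω)]
        exact hC M M.2 ω
      | pred i ih =>
        intro ω
        rw [zpow_sub_one, Equiv.Perm.mul_apply, ih (τ⁻¹ ω)]
        have h1 := hC M M.2 (τ⁻¹ ω)
        have h0 : τ (τ⁻¹ ω) = ω := by simp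
        rw [h0] at h1
        exact h1.symm
    have hall : ∀ ω, B.repr (M : V) ω = 0 := by
      intro ω
      have h1 : Quotient.out (Quotient.mk'' ω :
          MulAction.orbitRel.Quotient (Subgroup.zpowers τ) Ω)
            ∈ MulAction.orbit (Subgroup.zpowers τ) ω := by
        have h2 := Quotient.mk_out (s := MulAction.orbitRel (Subgroup.zpowers τ) Ω) ω
        exact MulAction.orbitRel_apply.mp h2
      obtain ⟨⟨g, hg⟩, hgω⟩ := MulAction.mem_orbit_iff.mp h1
      obtain ⟨k, rfl⟩ := Subgroup.mem_zpowers_iff.mp hg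
      have h2 : B.repr (M : V) (Quotient.out (Quotient.mk'' ω :
          MulAction.orbitRel.Quotient (Subgroup.zpowers τ) Ω)) = 0 :=
        congrFun hM (Quotient.mk'' ω)
      have hgω' : (τ ^ k) ω = Quotient.out (Quotient.mk'' ω :
          MulAction.orbitRel.Quotient (Subgroup.zpowers τ) Ω) := hgω
      rw [← hgω'] at h2
      exact (key k ω).mp h2
    apply Subtype.ext
    apply B.repr.injective
    ext ω
    simp [hall ω]
  calc Module.finrank K C
      ≤ Module.finrank K (MulAction.orbitRel.Quotient (Subgroup.zpowers τ) Ω → K) :=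
        LinearMap.finrank_le_finrank_of_injective hΨ
    _ = Fintype.card (MulAction.orbitRel.Quotient (Subgroup.zpowers τ) Ω) :=
        Module.finrank_fintype_fun_eq_card K
    _ = Nat.card (MulAction.orbitRel.Quotient (Subgroup.zpowers τ) Ω) :=
        (Nat.card_eq_fintype_card).symm

theorem repr_tau [Nontrivial W] [Fintype Q] {R : Q →* Module.End K W} (hd : ExtraData R)
    (X : Module.End K W) (σ : MulAut Q) (h : ℕ) (hh : 0 < h)
    (hX : ∀ u, X * R u = R (σ u) * X) (hXh : X ^ h = 1)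
    (B : Module.Basis (Q ⧸ Subgroup.center Q) K (Module.End K W))
    (hB : ∀ ω, B ω = R (Quotient.out ω))
    (M : Module.End K W) (hM : X * M = M * X) (ω : Q ⧸ Subgroup.center Q) :
    ∃ κ : K, κ ≠ 0 ∧ B.repr M (sigmaBar σ ω) = B.repr M ω * κ := by
  classical
  choose κ hκ0 hκ using fun ω : Q ⧸ Subgroup.center Q => R_out_smul hd (σ (Quotient.out ω))
  have hmk : ∀ ω, (QuotientGroup.mk (σ (Quotient.out ω)) : Q ⧸ Subgroup.center Q)
      = sigmaBar σ ω := by
    intro ω
    rw [← sigmaBar_mk, QuotientGroup.out_eq']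
  have hκ' : ∀ ω, R (σ (Quotient.out ω)) = κ ω • B (sigmaBar σ ω) := by
    intro ω
    rw [hB, ← hmk]
    exact hκ ω
  set a := B.repr M with ha
  have hMsum : M = ∑ ω, a ω • B ω := (B.sum_repr M).symm
  have h1 : X * M = (∑ ω, (a ω * κ ω) • B (sigmaBar σ ω)) * X := by
    conv_lhs => rw [hMsum]
    rw [Finset.mul_sum, Finset.sum_mul]
    apply Finset.sum_congr rfl
    intro ω _
    rw [mul_smul_comm, hB ω, hX, hκ' ω, smul_mul_assoc, smul_mul_assoc, smul_smul]
  have h2 : (∑ ω, (a ω * κ ω) • B (sigmaBar σ ω)) = M := by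
    have hu : IsUnit X := IsUnit.of_pow_eq_one hXh hh.ne'
    exact hu.mul_left_inj.mp (h1.symm.trans hM)
  have h3 : (∑ ω, (a ω * κ ω) • B (sigmaBar σ ω))
      = ∑ ω', (a ((sigmaBar σ).symm ω') * κ ((sigmaBar σ).symm ω')) • B ω' := by
    apply Fintype.sum_equiv (sigmaBar σ).toEquiv
    intro ω
    simp
  rw [h3] at h2
  have h4 := congrArg (fun m => (B.repr m : (Q ⧸ Subgroup.center Q) → K)) h2
  beta_reduce at h4
  rw [B.repr_sum_self] at h4
  refine ⟨κ ω, hκ0 ω, ?_⟩
  have h5 := congrFun h4 (sigmaBar σ ω)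
  simp only [MulEquiv.symm_apply_apply] at h5
  exact h5.symm


/-- **Core theorem** (representations of groups of extraspecial type with a fixed-point-free
automorphism of order `h`, by dimension counting). -/
theorem extra_core [IsAlgClosed K] [FiniteDimensional K W] [Nontrivial W] [Fintype Q]
    (R : Q →* Module.End K W) (X : Module.End K W) (σ : MulAut Q) (h : ℕ) (hh : 0 < h)
    (hd : ExtraData R)
    (hX : ∀ u, X * R u = R (σ u) * X) (hXh : X ^ h = 1) (hσh : σ ^ h = 1)
    (hfpf : ∀ i, 0 < i → i < h → ∀ u, (σ ^ i) u * u⁻¹ ∈ Subgroup.center Q →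
      u ∈ Subgroup.center Q)
    (hirr : ∀ U : Submodule K W, (∀ u, ∀ w ∈ U, R u w ∈ U) → (∀ w ∈ U, X w ∈ U) →
      U = ⊥ ∨ U = ⊤)
    (hQK : (Fintype.card Q : K) ≠ 0) (hhK : (h : K) ≠ 0) :
    Module.finrank K W ^ 2 = (Subgroup.center Q).index ∧
    (∃ c, Module.finrank K W = h * c + 1 ∨ Module.finrank K W + 1 = h * c) ∧
    ((∀ w, X w = w → w = 0) → Module.finrank K W = 1 ∨ Module.finrank K W + 1 = h) := by
  classical
  have hirrQ : ∀ U : Submodule K W, (∀ u, ∀ w ∈ U, R u w ∈ U) → U = ⊥ ∨ U = ⊤ := by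
    intro U hU
    exact hirr U hU (X_invariant hd X σ h hh hX hXh
      (fun h1 u hu => hfpf 1 one_pos h1 u (by simpa using hu)) hirr hQK U hU)
  have hsq := finrank_sq_eq hd hirrQ hQK
  have hidx : (Subgroup.center Q).index = Nat.card (Q ⧸ Subgroup.center Q) :=
    Subgroup.index_eq_card _
  refine ⟨by rw [hsq, hidx], ?_⟩
  by_cases hnt : ∃ ω : Q ⧸ Subgroup.center Q, ω ≠ 1
  swap
  · push Not at hnt
    have hc1 : Nat.card (Q ⧸ Subgroup.center Q) = 1 := by
      rw [Nat.card_eq_one_iff_unique]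
      exact ⟨⟨fun a b => (hnt a).trans (hnt b).symm⟩, ⟨1⟩⟩
    have hn1 : Module.finrank K W = 1 := by
      rw [hc1] at hsq
      rcases pow_eq_one_iff.mp hsq with h6 | h6
      · exact h6
      · exact absurd h6 two_ne_zero
    exact ⟨⟨0, Or.inl (by rw [hn1]; simp)⟩, fun _ => Or.inl hn1⟩
  obtain ⟨B, hB⟩ := exists_basis_R hd hirrQ hQK
  set τ : Equiv.Perm (Q ⧸ Subgroup.center Q) := (sigmaBar σ).toEquiv with hτ
  have hτh : τ ^ h = 1 := by
    ext ω
    induction ω using QuotientGroup.induction_on with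
    | H u =>
      rw [hτ, sigmaBar_pow_mk, hσh]
      rfl
  have hτ1 : τ 1 = 1 := map_one (sigmaBar σ)
  have hτfpf : ∀ i, 0 < i → i < h → ∀ ω, (τ ^ i) ω = ω → ω = 1 := by
    intro i hi0 hi ω hω
    induction ω using QuotientGroup.induction_on with
    | H u =>
      rw [hτ, sigmaBar_pow_mk] at hω
      have h1 := QuotientGroup.eq.mp hω.symm
      have h2 : (σ ^ i) u * u⁻¹ ∈ Subgroup.center Q :=
        (inferInstance : (Subgroup.center Q).Normal).mem_comm h1
      exact (QuotientGroup.eq_one_iff u).mpr (hfpf i hi0 hi u h2)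
  have horb := orbit_count τ h hh hτh 1 hτ1 hτfpf hnt
  have hle := finrank_le_orbits B τ (commSub X) (by
    intro M hM ω
    obtain ⟨κ, hκ0, hκ⟩ := repr_tau hd X σ h hh hX hXh B hB M ((mem_commSub X M).mp hM) ω
    show B.repr M (sigmaBar σ ω) = 0 ↔ _
    rw [hκ]
    constructor
    · intro h0
      rcases mul_eq_zero.mp h0 with h0 | h0
      · exact h0
      · exact absurd h0 hκ0
    · intro h0
      rw [h0, zero_mul])
  obtain ⟨a, hasum, hasq, hafix⟩ := eigen_count X h hh hXh hhK
  have hcard : Nat.card (Q ⧸ Subgroup.center Q) = (∑ j, a j) ^ 2 := by rw [hasum, hsq]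
  have hm := mult_lemma h hh a
    (Nat.card (MulAction.orbitRel.Quotient (Subgroup.zpowers τ) (Q ⧸ Subgroup.center Q)))
    (by rw [hasum]; exact Module.finrank_pos)
    (by
      have h5 : h * ∑ j, a j ^ 2 ≤ h * Nat.card (MulAction.orbitRel.Quotient
          (Subgroup.zpowers τ) (Q ⧸ Subgroup.center Q)) :=
        Nat.mul_le_mul_left h (hasq.trans hle)
      rw [← hcard]
      omega)
    (by rw [← hcard]; exact horb)
  rw [hasum] at hm
  exact ⟨hm.1, fun hfix => hm.2 ⟨⟨0, hh⟩, hafix hfix⟩⟩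

end

end Cfsg.Agent.Lib.helper66
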