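import Mathlib
import Cfsg.Agent.Lib.helper66.ExtraRepA

set_option autoImplicit false

namespace Cfsg.Agent.Lib.helper66

section

variable {K : Type*} [Field K] {W : Type*} [AddCommGroup W] [Module K W]
  {Q : Type*} [Group Q]

/-- Hypotheses for a representation of "extraspecial type relative to a subgroup `Z`":
`Z` acts by scalars, commutators lie in `Z`, and elements outside `Z` do not act centrally. -/
structure ExtraDataZ (R : Q →* Module.End K W) (Z : Subgroup Q) : Prop where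
  scal : ∀ g ∈ Z, ∃ c : K, R g = c • (1 : Module.End K W)
  cl2 : ∀ u v : Q, u * v * u⁻¹ * v⁻¹ ∈ Z
  nondeg : ∀ w : Q, w ∉ Z → ∃ v, R v * R w ≠ R w * R v

variable {R : Q →* Module.End K W} {Z : Subgroup Q}

theorem exists_ccZ (hd : ExtraDataZ R Z) (u v : Q) : ∃ c : K, R u * R v = c • (R v * R u) := by
  obtain ⟨c, hc⟩ := hd.scal _ (hd.cl2 u v)
  refine ⟨c, ?_⟩
  have h1 : R u * R v = R (u * v * u⁻¹ * v⁻¹) * (R v * R u) := by
    rw [← map_mul, ← map_mul, ← map_mul]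
    congr 1
    group
  rw [h1, hc, smul_mul_assoc, one_mul]

/-- The commutator scalar. -/
noncomputable def ccZ (hd : ExtraDataZ R Z) (u v : Q) : K := (exists_ccZ hd u v).choose

theorem ccZ_spec (hd : ExtraDataZ R Z) (u v : Q) : R u * R v = ccZ hd u v • (R v * R u) :=
  (exists_ccZ hd u v).choose_spec

theorem ccZ_unique [Nontrivial W] (hd : ExtraDataZ R Z) (u v : Q) (c : K)
    (h : R u * R v = c • (R v * R u)) : ccZ hd u v = c := by
  have h1 := ccZ_spec hd u v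
  rw [h, ← map_mul] at h1
  exact (smul_R_cancel R (v * u) h1).symm

theorem ccZ_mul_right [Nontrivial W] (hd : ExtraDataZ R Z) (u v w : Q) :
    ccZ hd u (v * w) = ccZ hd u v * ccZ hd u w := by
  apply ccZ_unique
  calc R u * R (v * w) = (R u * R v) * R w := by rw [map_mul, mul_assoc]
    _ = ccZ hd u v • (R v * (R u * R w)) := by rw [ccZ_spec hd u v, smul_mul_assoc, mul_assoc]
    _ = (ccZ hd u v * ccZ hd u w) • (R (v * w) * R u) := by
      rw [ccZ_spec hd u w, mul_smul_comm, smul_smul, map_mul, mul_assoc]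

theorem ccZ_mul_left [Nontrivial W] (hd : ExtraDataZ R Z) (u v w : Q) :
    ccZ hd (u * v) w = ccZ hd u w * ccZ hd v w := by
  apply ccZ_unique
  calc R (u * v) * R w = R u * (R v * R w) := by rw [map_mul, mul_assoc]
    _ = ccZ hd v w • ((R u * R w) * R v) := by rw [ccZ_spec hd v w, mul_smul_comm, mul_assoc]
    _ = (ccZ hd u w * ccZ hd v w) • (R w * R (u * v)) := by
      rw [ccZ_spec hd u w, smul_mul_assoc, smul_smul, map_mul, mul_assoc,
        mul_comm (ccZ hd v w)]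

theorem ccZ_symm [Nontrivial W] (hd : ExtraDataZ R Z) (u v : Q) : ccZ hd u v * ccZ hd v u = 1 := by
  have h1 : (ccZ hd u v * ccZ hd v u) • R (u * v) = (1 : K) • R (u * v) := by
    rw [one_smul, map_mul, ← smul_smul, ← ccZ_spec hd v u, ← ccZ_spec hd u v]
  exact smul_R_cancel R _ h1

theorem ccZ_of_mem_right [Nontrivial W] (hd : ExtraDataZ R Z) (u : Q) {v : Q}
    (hv : v ∈ Z) : ccZ hd u v = 1 := by
  apply ccZ_unique
  obtain ⟨c, hc⟩ := hd.scal v hv
  rw [one_smul, hc, mul_smul_comm, mul_one, smul_mul_assoc, one_mul]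

theorem ccZ_of_mem_left [Nontrivial W] (hd : ExtraDataZ R Z) {u : Q} (v : Q)
    (hu : u ∈ Z) : ccZ hd u v = 1 := by
  apply ccZ_unique
  obtain ⟨c, hc⟩ := hd.scal u hu
  rw [one_smul, hc, mul_smul_comm, mul_one, smul_mul_assoc, one_mul]

theorem ccZ_inv_right [Nontrivial W] (hd : ExtraDataZ R Z) (u v : Q) :
    ccZ hd u v⁻¹ = ccZ hd v u := by
  have h1 : ccZ hd u v * ccZ hd u v⁻¹ = 1 := by
    rw [← ccZ_mul_right, mul_inv_cancel, ccZ_of_mem_right hd u (Subgroup.one_mem _)]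
  have h2 := ccZ_symm hd u v
  have h3 : ccZ hd u v ≠ 0 := left_ne_zero_of_mul_eq_one h2
  exact mul_left_cancel₀ h3 (h1.trans h2.symm)

theorem exists_ccZ_ne_one [Nontrivial W] (hd : ExtraDataZ R Z) {w : Q}
    (hw : w ∉ Z) : ∃ v, ccZ hd v w ≠ 1 := by
  obtain ⟨v, hv⟩ := hd.nondeg w hw
  refine ⟨v, fun h => hv ?_⟩
  rw [ccZ_spec hd v w, h, one_smul]

theorem sum_ccZ_eq_zero [Nontrivial W] [Fintype Q] (hd : ExtraDataZ R Z) {w : Q}
    (hw : w ∉ Z) : ∑ v, ccZ hd v w = 0 := by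
  obtain ⟨v₀, hv₀⟩ := exists_ccZ_ne_one hd hw
  have h1 : ∑ v, ccZ hd v w = ccZ hd v₀ w * ∑ v, ccZ hd v w := by
    calc ∑ v, ccZ hd v w = ∑ v, ccZ hd (v₀ * v) w :=
          (Fintype.sum_equiv (Equiv.mulLeft v₀) (fun v => ccZ hd (v₀ * v) w)
            (fun v => ccZ hd v w) (fun v => rfl)).symm
      _ = ∑ v, ccZ hd v₀ w * ccZ hd v w := by simp only [ccZ_mul_left]
      _ = ccZ hd v₀ w * ∑ v, ccZ hd v w := by rw [Finset.mul_sum]
  have h2 : (ccZ hd v₀ w - 1) * ∑ v, ccZ hd v w = 0 := by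
    rw [sub_mul, one_mul, ← h1, sub_self]
  rcases mul_eq_zero.mp h2 with h3 | h3
  · exact absurd (sub_eq_zero.mp h3) hv₀
  · exact h3

open Classical in
theorem sum_ccZ [Nontrivial W] [Fintype Q] (hd : ExtraDataZ R Z) (w : Q) :
    ∑ v, ccZ hd v w = if w ∈ Z then (Fintype.card Q : K) else 0 := by
  by_cases hw : w ∈ Z
  · rw [if_pos hw]
    simp [ccZ_of_mem_right hd _ hw]
  · rw [if_neg hw]
    exact sum_ccZ_eq_zero hd hw

open Classical in
theorem sum_ite_Z_smul [Fintype Q] {M : Type*} [AddCommGroup M] [Module K M] (A : M) :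
    ∑ u : Q, (if u ∈ Z then A else 0)
      = (Nat.card Z : K) • A := by
  have h1 : (Finset.univ.filter (· ∈ Z)).card
      = Nat.card (Z) := by
    rw [Nat.card_eq_fintype_card, Fintype.card_subtype]
  rw [Finset.sum_ite, Finset.sum_const_zero, add_zero, Finset.sum_const, h1,
    Nat.cast_smul_eq_nsmul]

theorem natCard_Z_ne_zero [Fintype Q] (hQK : (Fintype.card Q : K) ≠ 0) :
    (Nat.card Z : K) ≠ 0 := by
  intro h0
  apply hQK
  obtain ⟨m, hm⟩ := Subgroup.card_subgroup_dvd_card (Z)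
  rw [← Nat.card_eq_fintype_card, hm, Nat.cast_mul, h0, zero_mul]

/-- The twisted averaging operator. -/
noncomputable def EEZ [Fintype Q] (hd : ExtraDataZ R Z) (w : Q) :
    Module.End K W →ₗ[K] Module.End K W :=
  ∑ v, ccZ hd w v • ((LinearMap.mulLeft K (R v)).comp (LinearMap.mulRight K (R v⁻¹)))

theorem EEZ_apply [Fintype Q] (hd : ExtraDataZ R Z) (w : Q) (M : Module.End K W) :
    EEZ hd w M = ∑ v, ccZ hd w v • (R v * M * R v⁻¹) := by
  simp [EEZ, LinearMap.sum_apply, mul_assoc]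

theorem EEZ_R [Nontrivial W] [Fintype Q] (hd : ExtraDataZ R Z) (w u : Q) :
    EEZ hd w (R u) = (∑ v, ccZ hd v (w⁻¹ * u)) • R u := by
  rw [EEZ_apply, Finset.sum_smul]
  apply Finset.sum_congr rfl
  intro v _
  rw [ccZ_spec hd v u, smul_mul_assoc, mul_assoc, R_mul_inv, mul_one, smul_smul, ccZ_mul_right,
    ccZ_inv_right]

open Classical in
theorem EEZ_R' [Nontrivial W] [Fintype Q] (hd : ExtraDataZ R Z) (w u : Q) :
    EEZ hd w (R u) = if w⁻¹ * u ∈ Z then (Fintype.card Q : K) • R u else 0 := by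
  rw [EEZ_R, sum_ccZ]
  split_ifs
  · rfl
  · rw [zero_smul]

theorem EEZ_mul_R [Nontrivial W] [Fintype Q] (hd : ExtraDataZ R Z) (w u : Q)
    (M : Module.End K W) : EEZ hd w M * R u = ccZ hd w u • (R u * EEZ hd w M) := by
  rw [EEZ_apply, Finset.sum_mul, Finset.mul_sum, Finset.smul_sum]
  apply Fintype.sum_equiv (Equiv.mulLeft u⁻¹)
  intro v
  simp only [Equiv.coe_mulLeft]
  have h1 : ccZ hd w v = ccZ hd w u * ccZ hd w (u⁻¹ * v) := by
    rw [← ccZ_mul_right, mul_inv_cancel_left]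
  rw [h1, mul_inv_rev, inv_inv, map_mul, map_mul, mul_smul_comm, smul_smul, smul_mul_assoc]
  congr 1
  simp only [mul_assoc]
  rw [← mul_assoc (R u) (R u⁻¹), R_mul_inv, one_mul]

open Classical in
theorem sum_EEZ [Nontrivial W] [Fintype Q] (hd : ExtraDataZ R Z) (M : Module.End K W) :
    ∑ w, EEZ hd w M = (Nat.card Z : K) • (Fintype.card Q : K) • M := by
  have h1 : ∀ v : Q, ∑ w, ccZ hd w v • (R v * M * R v⁻¹)
      = if v ∈ Z then (Fintype.card Q : K) • M else 0 := by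
    intro v
    rw [← Finset.sum_smul, sum_ccZ]
    by_cases hv : v ∈ Z
    · rw [if_pos hv, if_pos hv]
      obtain ⟨c, hc⟩ := hd.scal v hv
      have h3 : R v * M * R v⁻¹ = M := by
        have h2 : R v * M = M * R v := by
          rw [hc, smul_mul_assoc, one_mul, mul_smul_comm, mul_one]
        rw [h2, mul_assoc, R_mul_inv, mul_one]
      rw [h3]
    · rw [if_neg hv, if_neg hv, zero_smul]
  simp only [EEZ_apply]
  rw [Finset.sum_comm]
  simp only [h1]
  exact sum_ite_Z_smul _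


/-- Step 3: the extra operator `X` preserves every `R`-invariant subspace. -/
theorem X_invariantZ [IsAlgClosed K] [FiniteDimensional K W] [Nontrivial W] [Fintype Q]
    (hd : ExtraDataZ R Z) (X : Module.End K W) (σ : MulAut Q) (h : ℕ) (hh : 0 < h)
    (hX : ∀ u, X * R u = R (σ u) * X) (hXh : X ^ h = 1)
    (hσZ : ∀ u, u ∈ Z ↔ σ u ∈ Z)
    (hfpf : 1 < h → ∀ u, σ u * u⁻¹ ∈ Z → u ∈ Z)
    (hirr : ∀ U : Submodule K W, (∀ u, ∀ w ∈ U, R u w ∈ U) → (∀ w ∈ U, X w ∈ U) →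
      U = ⊥ ∨ U = ⊤)
    (hQK : (Fintype.card Q : K) ≠ 0)
    (U : Submodule K W) (hU : ∀ u, ∀ w ∈ U, R u w ∈ U) : ∀ w ∈ U, X w ∈ U := by
  classical
  rcases Nat.lt_or_ge 1 h with h1 | h1
  swap
  · have h2 : h = 1 := by omega
    subst h2
    rw [pow_one] at hXh
    intro w hw
    rw [hXh]
    simpa using hw
  obtain ⟨k, rfl⟩ : ∃ k, h = k + 1 := ⟨h - 1, by omega⟩
  set Xi := X ^ k with hXi
  have hXXi : X * Xi = 1 := by rw [hXi, ← pow_succ', hXh]
  have hXiX : Xi * X = 1 := by rw [hXi, ← pow_succ, hXh]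
  have hXiR : ∀ u, Xi * R u = R (σ⁻¹ u) * Xi := by
    intro u
    have h2 := hX (σ⁻¹ u)
    rw [MulAut.apply_inv_self] at h2
    calc Xi * R u = Xi * (R u * X) * Xi := by rw [mul_assoc, mul_assoc, hXXi, mul_one]
      _ = Xi * (X * R (σ⁻¹ u)) * Xi := by rw [h2]
      _ = R (σ⁻¹ u) * Xi := by rw [← mul_assoc, hXiX, one_mul]
  set T' : Module.End K W := ∑ u, R u * Xi * R u⁻¹ with hT'
  have hT'R : ∀ v, T' * R v = R v * T' := by
    intro v
    rw [hT', Finset.sum_mul, Finset.mul_sum]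
    apply Fintype.sum_equiv (Equiv.mulLeft v⁻¹)
    intro u
    simp only [Equiv.coe_mulLeft]
    rw [mul_inv_rev, inv_inv, map_mul, map_mul]
    simp only [mul_assoc]
    rw [← mul_assoc (R v) (R v⁻¹), R_mul_inv, one_mul]
  have hT'X : T' * X = X * T' := by
    rw [hT', Finset.sum_mul, Finset.mul_sum]
    apply Fintype.sum_equiv (MulEquiv.toEquiv σ⁻¹)
    intro u
    have h2 := hX (σ⁻¹ u⁻¹)
    rw [MulAut.apply_inv_self] at h2
    have h3 := hX (σ⁻¹ u)
    rw [MulAut.apply_inv_self] at h3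
    show R u * Xi * R u⁻¹ * X = X * (R (σ⁻¹ u) * Xi * R (σ⁻¹ u)⁻¹)
    calc R u * Xi * R u⁻¹ * X = R u * Xi * (R u⁻¹ * X) := by rw [mul_assoc]
      _ = R u * (Xi * X) * R (σ⁻¹ u⁻¹) := by rw [← h2]; simp only [mul_assoc]
      _ = R u * R (σ⁻¹ u)⁻¹ := by rw [hXiX, mul_one, map_inv]
      _ = R u * X * Xi * R (σ⁻¹ u)⁻¹ := by rw [mul_assoc (R u), hXXi, mul_one]
      _ = X * (R (σ⁻¹ u) * Xi * R (σ⁻¹ u)⁻¹) := by rw [← h3]; simp only [mul_assoc]
  obtain ⟨τ, hτ⟩ := schur_set (Set.range R ∪ {X}) (by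
    intro U' hU'
    exact hirr U' (fun u w hw => hU' (R u) (Or.inl ⟨u, rfl⟩) w hw)
      (fun w hw => hU' X (Or.inr rfl) w hw)) T' (by
    rintro A (⟨u, rfl⟩ | rfl)
    · exact hT'R u
    · exact hT'X)
  set S' : Module.End K W := ∑ u, R (u * (σ⁻¹ u)⁻¹) with hS'
  have hT'S : T' = S' * Xi := by
    rw [hT', hS', Finset.sum_mul]
    apply Finset.sum_congr rfl
    intro u _
    rw [mul_assoc, hXiR u⁻¹, ← mul_assoc, ← map_mul, map_inv]
  have hS'X : S' = τ • X := by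
    have h2 : S' = T' * X := by rw [hT'S, mul_assoc, hXiX, mul_one]
    rw [h2, hτ, smul_mul_assoc, one_mul]
  have hES : EEZ hd 1 S' = (Nat.card Z : K) • (Fintype.card Q : K)
      • (1 : Module.End K W) := by
    have h2 : ∀ u : Q, EEZ hd 1 (R (u * (σ⁻¹ u)⁻¹))
        = if u ∈ Z then (Fintype.card Q : K) • (1 : Module.End K W)
          else 0 := by
      intro u
      rw [EEZ_R', inv_one, one_mul]
      by_cases hu : u ∈ Z
      · have h3 : R (σ⁻¹ u) = R u := by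
          obtain ⟨c, hc⟩ := hd.scal u hu
          have h4 := hXiR u
          have h5 : R (σ⁻¹ u) = R (σ⁻¹ u) * Xi * X := by rw [mul_assoc, hXiX, mul_one]
          rw [h5, ← h4, hc, mul_smul_comm, mul_one, smul_mul_assoc, hXiX]
        have h6 : σ⁻¹ u ∈ Z := by
          rw [hσZ, MulAut.apply_inv_self]
          exact hu
        have h7 : R (u * (σ⁻¹ u)⁻¹) = 1 := by rw [map_mul, ← h3, R_mul_inv]
        rw [if_pos (Z.mul_mem hu (Z.inv_mem h6)), if_pos hu, h7]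
      · have h3 : u * (σ⁻¹ u)⁻¹ ∉ Z := by
          intro hmem
          apply hu
          have h4 := hfpf h1 (σ⁻¹ u) (by rw [MulAut.apply_inv_self]; exact hmem)
          have h5 := (hσZ (σ⁻¹ u)).mp h4
          rwa [MulAut.apply_inv_self] at h5
        rw [if_neg h3, if_neg hu]
    rw [hS', map_sum]
    simp only [h2]
    exact sum_ite_Z_smul _
  have hτ0 : τ ≠ 0 := by
    intro h0
    rw [h0, zero_smul] at hS'X
    rw [hS'X, map_zero] at hES
    have h2 : ((Nat.card Z : K) * (Fintype.card Q : K))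
        • (1 : Module.End K W) = 0 := by rw [← smul_smul]; exact hES.symm
    rcases smul_eq_zero.mp h2 with h3 | h3
    · rcases mul_eq_zero.mp h3 with h4 | h4
      · exact natCard_Z_ne_zero hQK h4
      · exact hQK h4
    · exact one_ne_zero h3
  have hX' : X = τ⁻¹ • S' := by rw [hS'X, smul_smul, inv_mul_cancel₀ hτ0, one_smul]
  intro w hw
  rw [hX', LinearMap.smul_apply]
  apply U.smul_mem
  rw [hS', LinearMap.sum_apply]
  exact U.sum_mem (fun u _ => hU _ w hw)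


theorem EEZ_scalar [IsAlgClosed K] [FiniteDimensional K W] [Nontrivial W] [Fintype Q]
    (hd : ExtraDataZ R Z)
    (hirrQ : ∀ U : Submodule K W, (∀ u, ∀ w ∈ U, R u w ∈ U) → U = ⊥ ∨ U = ⊤)
    (w : Q) (M : Module.End K W) : ∃ κ : K, EEZ hd w M = κ • R w := by
  obtain ⟨κ, hκ⟩ := schur_set (Set.range R)
    (fun U hU => hirrQ U (fun u x hx => hU (R u) ⟨u, rfl⟩ x hx)) (EEZ hd w M * R w⁻¹) (by
    rintro A ⟨u, rfl⟩
    calc EEZ hd w M * R w⁻¹ * R u = EEZ hd w M * (R w⁻¹ * R u) := by rw [mul_assoc]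
      _ = ccZ hd w⁻¹ u • (EEZ hd w M * R u * R w⁻¹) := by
        rw [ccZ_spec hd w⁻¹ u, mul_smul_comm, mul_assoc]
      _ = (ccZ hd w⁻¹ u * ccZ hd w u) • (R u * EEZ hd w M * R w⁻¹) := by
        rw [EEZ_mul_R, smul_mul_assoc, smul_smul]
      _ = R u * (EEZ hd w M * R w⁻¹) := by
        rw [← ccZ_mul_left, inv_mul_cancel, ccZ_of_mem_left hd _ (Subgroup.one_mem _),
          one_smul, mul_assoc])
  refine ⟨κ, ?_⟩
  have h1 := congrArg (· * R w) hκ
  simp only [mul_assoc, R_inv_mul, mul_one, smul_mul_assoc, one_mul] at h1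
  exact h1

theorem R_out_smulZ [Nontrivial W] (hd : ExtraDataZ R Z) (u : Q) :
    ∃ c : K, c ≠ 0 ∧ R u = c • R (Quotient.out (QuotientGroup.mk u : Q ⧸ Z)) := by
  have h1 : (Quotient.out (QuotientGroup.mk u : Q ⧸ Z))⁻¹ * u
      ∈ Z :=
    QuotientGroup.eq.mp (QuotientGroup.out_eq' (QuotientGroup.mk u : Q ⧸ Z))
  obtain ⟨c, hc⟩ := hd.scal _ h1
  have h2 : R u = c • R (Quotient.out (QuotientGroup.mk u : Q ⧸ Z)) := by
    have h3 : u = Quotient.out (QuotientGroup.mk u : Q ⧸ Z)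
        * ((Quotient.out (QuotientGroup.mk u : Q ⧸ Z))⁻¹ * u) := by group
    conv_lhs => rw [h3]
    rw [map_mul, hc, mul_smul_comm, mul_one]
  refine ⟨c, ?_, h2⟩
  intro h0
  rw [h0, zero_smul] at h2
  have h4 : (1 : K) • R u = (0 : K) • R u := by rw [one_smul, zero_smul, h2]
  exact one_ne_zero (smul_R_cancel R u h4)

theorem linInd_RZ [Nontrivial W] [Fintype Q] (hd : ExtraDataZ R Z)
    (hQK : (Fintype.card Q : K) ≠ 0) :
    LinearIndependent K (fun ω : Q ⧸ Z => R (Quotient.out ω)) := by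
  classical
  rw [Fintype.linearIndependent_iff]
  intro g hg ω₀
  have h1 := congrArg (EEZ hd (Quotient.out ω₀)) hg
  rw [map_sum, map_zero] at h1
  simp only [map_smul, EEZ_R'] at h1
  have h2 : ∀ ω : Q ⧸ Z,
      ((Quotient.out ω₀)⁻¹ * Quotient.out ω ∈ Z) ↔ ω = ω₀ := by
    intro ω
    rw [← QuotientGroup.eq, QuotientGroup.out_eq', QuotientGroup.out_eq']
    exact eq_comm
  simp only [h2, smul_ite, smul_zero, Finset.sum_ite_eq', Finset.mem_univ, if_true] at h1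
  rw [smul_smul] at h1
  have h3 : (g ω₀ * (Fintype.card Q : K)) • R (Quotient.out ω₀)
      = (0 : K) • R (Quotient.out ω₀) := by rw [h1, zero_smul]
  have h4 := smul_R_cancel R _ h3
  rcases mul_eq_zero.mp h4 with h5 | h5
  · exact h5
  · exact absurd h5 hQK

theorem span_RZ [IsAlgClosed K] [FiniteDimensional K W] [Nontrivial W] [Fintype Q]
    (hd : ExtraDataZ R Z)
    (hirrQ : ∀ U : Submodule K W, (∀ u, ∀ w ∈ U, R u w ∈ U) → U = ⊥ ∨ U = ⊤)
    (hQK : (Fintype.card Q : K) ≠ 0) :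
    ⊤ ≤ Submodule.span K (Set.range (fun ω : Q ⧸ Z => R (Quotient.out ω))) := by
  intro M _
  have h1 : ∀ u : Q, R u ∈ Submodule.span K
      (Set.range (fun ω : Q ⧸ Z => R (Quotient.out ω))) := by
    intro u
    obtain ⟨c, -, hc⟩ := R_out_smulZ hd u
    rw [hc]
    exact Submodule.smul_mem _ _ (Submodule.subset_span ⟨_, rfl⟩)
  have h2 := sum_EEZ hd M
  have h3 : M = ((Nat.card Z : K) * (Fintype.card Q : K))⁻¹
      • ∑ w, EEZ hd w M := by
    rw [h2, smul_smul, smul_smul, mul_assoc,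
      inv_mul_cancel₀ (mul_ne_zero (natCard_Z_ne_zero hQK) hQK), one_smul]
  rw [h3]
  apply Submodule.smul_mem
  apply Submodule.sum_mem
  intro w _
  obtain ⟨κ, hκ⟩ := EEZ_scalar hd hirrQ w M
  rw [hκ]
  exact Submodule.smul_mem _ _ (h1 w)

/-- Step 4: the operators `R (out ω)` form a basis of `End K W`. -/
theorem exists_basis_RZ [IsAlgClosed K] [FiniteDimensional K W] [Nontrivial W] [Fintype Q]
    (hd : ExtraDataZ R Z)
    (hirrQ : ∀ U : Submodule K W, (∀ u, ∀ w ∈ U, R u w ∈ U) → U = ⊥ ∨ U = ⊤)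
    (hQK : (Fintype.card Q : K) ≠ 0) :
    ∃ B : Module.Basis (Q ⧸ Z) K (Module.End K W),
      ∀ ω, B ω = R (Quotient.out ω) :=
  ⟨Module.Basis.mk (linInd_RZ hd hQK) (span_RZ hd hirrQ hQK), fun ω => by
    rw [Module.Basis.mk_apply]⟩

theorem finrank_sq_eqZ [IsAlgClosed K] [FiniteDimensional K W] [Nontrivial W] [Fintype Q]
    (hd : ExtraDataZ R Z)
    (hirrQ : ∀ U : Submodule K W, (∀ u, ∀ w ∈ U, R u w ∈ U) → U = ⊥ ∨ U = ⊤)
    (hQK : (Fintype.card Q : K) ≠ 0) :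
    Module.finrank K W ^ 2 = Nat.card (Q ⧸ Z) := by
  classical
  obtain ⟨B, -⟩ := exists_basis_RZ hd hirrQ hQK
  have h1 := Module.finrank_eq_card_basis B
  rw [Module.finrank_linearMap] at h1
  rw [pow_two, h1, Nat.card_eq_fintype_card]

end

end Cfsg.Agent.Lib.helper66
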