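import Mathlib
import Cfsg.Agent.Lib.helper66.ExtraZA
import Cfsg.Agent.Lib.helper66.ExtraRepC

set_option autoImplicit false

namespace Cfsg.Agent.Lib.helper66

section

variable {K : Type*} [Field K] {W : Type*} [AddCommGroup W] [Module K W]
  {Q : Type*} [Group Q]

theorem map_sigma_eqZ (Z : Subgroup Q) (σ : MulAut Q) (hσZ : ∀ u, u ∈ Z ↔ σ u ∈ Z) :
    Z.map σ.toMonoidHom = Z := by
  ext g
  constructor
  · rintro ⟨u, hu, rfl⟩
    exact (hσZ u).mp hu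
  · intro hg
    refine ⟨σ⁻¹ g, ?_, ?_⟩
    · rw [SetLike.mem_coe, hσZ, MulAut.apply_inv_self]
      exact hg
    · exact MulAut.apply_inv_self Q σ g

/-- The automorphism of `Q ⧸ Z` induced by an automorphism of `Q` preserving `Z`. -/
noncomputable def sigmaBarZ (Z : Subgroup Q) [Z.Normal] (σ : MulAut Q)
    (hσZ : ∀ u, u ∈ Z ↔ σ u ∈ Z) : (Q ⧸ Z) ≃* (Q ⧸ Z) :=
  QuotientGroup.congr Z Z σ (map_sigma_eqZ Z σ hσZ)

theorem sigmaBarZ_mk (Z : Subgroup Q) [Z.Normal] (σ : MulAut Q)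
    (hσZ : ∀ u, u ∈ Z ↔ σ u ∈ Z) (u : Q) :
    sigmaBarZ Z σ hσZ (QuotientGroup.mk u) = QuotientGroup.mk (σ u) :=
  QuotientGroup.congr_mk _ _ _ _ _

theorem sigmaBarZ_pow_mk (Z : Subgroup Q) [Z.Normal] (σ : MulAut Q)
    (hσZ : ∀ u, u ∈ Z ↔ σ u ∈ Z) (i : ℕ) (u : Q) :
    (((sigmaBarZ Z σ hσZ).toEquiv : Equiv.Perm (Q ⧸ Z)) ^ i) (QuotientGroup.mk u)
      = QuotientGroup.mk ((σ ^ i) u) := by
  induction i generalizing u with
  | zero => simp
  | succ i ih =>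
    rw [pow_succ, Equiv.Perm.mul_apply, pow_succ, MulAut.mul_apply, ← ih (σ u)]
    rfl

theorem repr_tauZ [Nontrivial W] [Fintype Q] {R : Q →* Module.End K W} {Z : Subgroup Q}
    [Z.Normal] (hd : ExtraDataZ R Z)
    (X : Module.End K W) (σ : MulAut Q) (hσZ : ∀ u, u ∈ Z ↔ σ u ∈ Z) (h : ℕ) (hh : 0 < h)
    (hX : ∀ u, X * R u = R (σ u) * X) (hXh : X ^ h = 1)
    (B : Module.Basis (Q ⧸ Z) K (Module.End K W))
    (hB : ∀ ω, B ω = R (Quotient.out ω))
    (M : Module.End K W) (hM : X * M = M * X) (ω : Q ⧸ Z) :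
    ∃ κ : K, κ ≠ 0 ∧ B.repr M (sigmaBarZ Z σ hσZ ω) = B.repr M ω * κ := by
  classical
  choose κ hκ0 hκ using fun ω : Q ⧸ Z => R_out_smulZ hd (σ (Quotient.out ω))
  have hmk : ∀ ω, (QuotientGroup.mk (σ (Quotient.out ω)) : Q ⧸ Z)
      = sigmaBarZ Z σ hσZ ω := by
    intro ω
    rw [← sigmaBarZ_mk, QuotientGroup.out_eq']
  have hκ' : ∀ ω, R (σ (Quotient.out ω)) = κ ω • B (sigmaBarZ Z σ hσZ ω) := by
    intro ω
    rw [hB, ← hmk]
    exact hκ ω
  set a := B.repr M with ha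
  have hMsum : M = ∑ ω, a ω • B ω := (B.sum_repr M).symm
  have h1 : X * M = (∑ ω, (a ω * κ ω) • B (sigmaBarZ Z σ hσZ ω)) * X := by
    conv_lhs => rw [hMsum]
    rw [Finset.mul_sum, Finset.sum_mul]
    apply Finset.sum_congr rfl
    intro ω _
    rw [mul_smul_comm, hB ω, hX, hκ' ω, smul_mul_assoc, smul_mul_assoc, smul_smul]
  have h2 : (∑ ω, (a ω * κ ω) • B (sigmaBarZ Z σ hσZ ω)) = M := by
    have hu : IsUnit X := IsUnit.of_pow_eq_one hXh hh.ne'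
    exact hu.mul_left_inj.mp (h1.symm.trans hM)
  have h3 : (∑ ω, (a ω * κ ω) • B (sigmaBarZ Z σ hσZ ω))
      = ∑ ω', (a ((sigmaBarZ Z σ hσZ).symm ω') * κ ((sigmaBarZ Z σ hσZ).symm ω')) • B ω' := by
    apply Fintype.sum_equiv (sigmaBarZ Z σ hσZ).toEquiv
    intro ω
    simp
  rw [h3] at h2
  have h4 := congrArg (fun m => (B.repr m : (Q ⧸ Z) → K)) h2
  beta_reduce at h4
  rw [B.repr_sum_self] at h4
  refine ⟨κ ω, hκ0 ω, ?_⟩
  have h5 := congrFun h4 (sigmaBarZ Z σ hσZ ω)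
  simp only [MulEquiv.symm_apply_apply] at h5
  exact h5.symm


/-- **Core theorem** (representations of groups of extraspecial type with a fixed-point-free
automorphism of order `h`, by dimension counting). -/
theorem extra_coreZ [IsAlgClosed K] [FiniteDimensional K W] [Nontrivial W] [Fintype Q]
    (R : Q →* Module.End K W) (Z : Subgroup Q) [Z.Normal]
    (X : Module.End K W) (σ : MulAut Q) (h : ℕ) (hh : 0 < h)
    (hd : ExtraDataZ R Z) (hσZ : ∀ u, u ∈ Z ↔ σ u ∈ Z)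
    (hX : ∀ u, X * R u = R (σ u) * X) (hXh : X ^ h = 1) (hσh : σ ^ h = 1)
    (hfpf : ∀ i, 0 < i → i < h → ∀ u, (σ ^ i) u * u⁻¹ ∈ Z →
      u ∈ Z)
    (hirr : ∀ U : Submodule K W, (∀ u, ∀ w ∈ U, R u w ∈ U) → (∀ w ∈ U, X w ∈ U) →
      U = ⊥ ∨ U = ⊤)
    (hQK : (Fintype.card Q : K) ≠ 0) (hhK : (h : K) ≠ 0) :
    Module.finrank K W ^ 2 = Z.index ∧
    (∃ c, Module.finrank K W = h * c + 1 ∨ Module.finrank K W + 1 = h * c) ∧
    ((∀ w, X w = w → w = 0) → Module.finrank K W = 1 ∨ Module.finrank K W + 1 = h) := by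
  classical
  have hirrQ : ∀ U : Submodule K W, (∀ u, ∀ w ∈ U, R u w ∈ U) → U = ⊥ ∨ U = ⊤ := by
    intro U hU
    exact hirr U hU (X_invariantZ hd X σ h hh hX hXh hσZ
      (fun h1 u hu => hfpf 1 one_pos h1 u (by simpa using hu)) hirr hQK U hU)
  have hsq := finrank_sq_eqZ hd hirrQ hQK
  have hidx : Z.index = Nat.card (Q ⧸ Z) :=
    Subgroup.index_eq_card _
  refine ⟨by rw [hsq, hidx], ?_⟩
  by_cases hnt : ∃ ω : Q ⧸ Z, ω ≠ 1
  swap
  · push Not at hnt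
    have hc1 : Nat.card (Q ⧸ Z) = 1 := by
      rw [Nat.card_eq_one_iff_unique]
      exact ⟨⟨fun a b => (hnt a).trans (hnt b).symm⟩, ⟨1⟩⟩
    have hn1 : Module.finrank K W = 1 := by
      rw [hc1] at hsq
      rcases pow_eq_one_iff.mp hsq with h6 | h6
      · exact h6
      · exact absurd h6 two_ne_zero
    exact ⟨⟨0, Or.inl (by rw [hn1]; simp)⟩, fun _ => Or.inl hn1⟩
  obtain ⟨B, hB⟩ := exists_basis_RZ hd hirrQ hQK
  set τ : Equiv.Perm (Q ⧸ Z) := (sigmaBarZ Z σ hσZ).toEquiv with hτ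
  have hτh : τ ^ h = 1 := by
    ext ω
    induction ω using QuotientGroup.induction_on with
    | H u =>
      rw [hτ, sigmaBarZ_pow_mk, hσh]
      rfl
  have hτ1 : τ 1 = 1 := map_one (sigmaBarZ Z σ hσZ)
  have hτfpf : ∀ i, 0 < i → i < h → ∀ ω, (τ ^ i) ω = ω → ω = 1 := by
    intro i hi0 hi ω hω
    induction ω using QuotientGroup.induction_on with
    | H u =>
      rw [hτ, sigmaBarZ_pow_mk] at hω
      have h1 := QuotientGroup.eq.mp hω.symm
      have h2 : (σ ^ i) u * u⁻¹ ∈ Z :=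
        (inferInstance : Z.Normal).mem_comm h1
      exact (QuotientGroup.eq_one_iff u).mpr (hfpf i hi0 hi u h2)
  have horb := orbit_count τ h hh hτh 1 hτ1 hτfpf hnt
  have hle := finrank_le_orbits B τ (commSub X) (by
    intro M hM ω
    obtain ⟨κ, hκ0, hκ⟩ := repr_tauZ hd X σ hσZ h hh hX hXh B hB M ((mem_commSub X M).mp hM) ω
    show B.repr M (sigmaBarZ Z σ hσZ ω) = 0 ↔ _
    rw [hκ]
    constructor
    · intro h0
      rcases mul_eq_zero.mp h0 with h0 | h0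
      · exact h0
      · exact absurd h0 hκ0
    · intro h0
      rw [h0, zero_mul])
  obtain ⟨a, hasum, hasq, hafix⟩ := eigen_count X h hh hXh hhK
  have hcard : Nat.card (Q ⧸ Z) = (∑ j, a j) ^ 2 := by rw [hasum, hsq]
  have hm := mult_lemma h hh a
    (Nat.card (MulAction.orbitRel.Quotient (Subgroup.zpowers τ) (Q ⧸ Z)))
    (by rw [hasum]; exact Module.finrank_pos)
    (by
      have h5 : h * ∑ j, a j ^ 2 ≤ h * Nat.card (MulAction.orbitRel.Quotient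
          (Subgroup.zpowers τ) (Q ⧸ Z)) :=
        Nat.mul_le_mul_left h (hasq.trans hle)
      rw [← hcard]
      omega)
    (by rw [← hcard]; exact horb)
  rw [hasum] at hm
  exact ⟨hm.1, fun hfix => hm.2 ⟨⟨0, hh⟩, hafix hfix⟩⟩

end

end Cfsg.Agent.Lib.helper66
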