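import Mathlib
import Cfsg.Agent.Lib.helper66.ExtraZC

set_option autoImplicit false

namespace Cfsg.Agent.Lib.helper66

open scoped commutatorElement

section

variable {K : Type*} [Field K] {W : Type*} [AddCommGroup W] [Module K W]
  {Q : Type*} [Group Q]

/-- The elements of `Q` whose image commutes with all operators of a given set. -/
def commSubgroup (R : Q →* Module.End K W) (S : Set (Module.End K W)) : Subgroup Q where
  carrier := {u | ∀ T ∈ S, T * R u = R u * T}
  mul_mem' := by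
    intro a b ha hb T hT
    rw [map_mul, ← mul_assoc, ha T hT, mul_assoc, hb T hT, mul_assoc]
  one_mem' := by
    intro T _
    simp
  inv_mem' := by
    intro a ha T hT
    have h1 := ha T hT
    calc T * R a⁻¹ = R a⁻¹ * (R a * T) * R a⁻¹ := by rw [← mul_assoc, R_inv_mul, one_mul]
      _ = R a⁻¹ * (T * R a) * R a⁻¹ := by rw [h1]
      _ = R a⁻¹ * T := by rw [mul_assoc, mul_assoc, R_mul_inv, mul_one]

theorem mem_commSubgroup (R : Q →* Module.End K W) (S : Set (Module.End K W)) (u : Q) :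
    u ∈ commSubgroup R S ↔ ∀ T ∈ S, T * R u = R u * T := Iff.rfl

/-- Lemma L: an automorphism of order dividing `r` (prime to `|Q|`) that acts trivially (through
`P`) on an invariant subgroup `D` and on the cosets of `D` acts trivially through `P`. -/
theorem lemL [Finite Q] {M : Type*} [Monoid M] (P : Q →* M) (σ : MulAut Q) (r : ℕ)
    (hσr : σ ^ r = 1) (hcop : Nat.Coprime (Nat.card Q) r) (D : Subgroup Q)
    (hD : ∀ d ∈ D, σ d ∈ D) (hPD : ∀ d ∈ D, P (σ d) = P d)
    (hu : ∀ u, u⁻¹ * σ u ∈ D) : ∀ u, P (σ u) = P u := by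
  intro u
  obtain ⟨d, hd⟩ : ∃ d, d = u⁻¹ * σ u := ⟨_, rfl⟩
  have hdD : d ∈ D := by rw [hd]; exact hu u
  have hσu : σ u = u * d := by rw [hd, mul_inv_cancel_left]
  have hσd : ∀ k : ℕ, (σ ^ k) d ∈ D ∧ P ((σ ^ k) d) = P d := by
    intro k
    induction k with
    | zero => exact ⟨by simpa using hdD, by simp⟩
    | succ k ih =>
      rw [pow_succ', MulAut.mul_apply]
      exact ⟨hD _ ih.1, (hPD _ ih.1).trans ih.2⟩
  have hk : ∀ k : ℕ, P ((σ ^ k) u) = P u * P d ^ k := by
    intro k
    induction k with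
    | zero => simp
    | succ k ih =>
      rw [pow_succ, MulAut.mul_apply, hσu, map_mul, map_mul, ih, (hσd k).2, pow_succ, mul_assoc]
  have h1 : P u = P u * P d ^ r := by
    have h2 := hk r
    rw [hσr] at h2
    simpa using h2
  have h2 : P d ^ r = 1 := by
    have h3 : P u⁻¹ * P u = 1 := by rw [← map_mul, inv_mul_cancel, map_one]
    calc P d ^ r = P u⁻¹ * (P u * P d ^ r) := by rw [← mul_assoc, h3, one_mul]
      _ = P u⁻¹ * P u := by rw [← h1]
      _ = 1 := h3
  have h3 : P d ^ Nat.card Q = 1 := by rw [← map_pow, pow_card_eq_one', map_one]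
  have h4 : P d = 1 := by
    have h5 := Nat.dvd_gcd (orderOf_dvd_of_pow_eq_one h3) (orderOf_dvd_of_pow_eq_one h2)
    rw [hcop.gcd_eq_one] at h5
    exact orderOf_eq_one_iff.mp (Nat.dvd_one.mp h5)
  rw [hσu, map_mul, h4, mul_one]

theorem sum_char_eq_zero [Fintype Q] (χ : Q → K) (hχ : ∀ u v, χ (u * v) = χ u * χ v)
    (v₀ : Q) (hv₀ : χ v₀ ≠ 1) : ∑ u, χ u = 0 := by
  have h1 : ∑ v, χ v = χ v₀ * ∑ v, χ v := by
    calc ∑ v, χ v = ∑ v, χ (v₀ * v) :=
          (Fintype.sum_equiv (Equiv.mulLeft v₀) (fun v => χ (v₀ * v))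
            (fun v => χ v) (fun v => rfl)).symm
      _ = ∑ v, χ v₀ * χ v := by simp only [hχ]
      _ = χ v₀ * ∑ v, χ v := by rw [Finset.mul_sum]
  have h2 : (χ v₀ - 1) * ∑ v, χ v = 0 := by
    rw [sub_mul, one_mul, ← h1, sub_self]
  rcases mul_eq_zero.mp h2 with h3 | h3
  · exact absurd (sub_eq_zero.mp h3) hv₀
  · exact h3

theorem exists_pow_pow_eq {M : Type*} [Monoid M] (X : M) (r : ℕ) (hr : r.Prime)
    (hXr : X ^ r = 1) (i : ℕ) (hi0 : 0 < i) (hi : i < r) : ∃ k, (X ^ i) ^ k = X := by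
  have hcop : Nat.Coprime i r :=
    Nat.Coprime.symm ((Nat.Prime.coprime_iff_not_dvd hr).mpr (Nat.not_dvd_of_pos_of_lt hi0 hi))
  obtain ⟨k, -, hk⟩ := Nat.exists_mul_mod_eq_one_of_coprime hcop hr.one_lt
  refine ⟨k, ?_⟩
  rw [← pow_mul, ← Nat.div_add_mod (i * k) r, hk, pow_add, pow_mul, hXr, one_pow, one_mul,
    pow_one]

theorem X_pow_mul_R (R : Q →* Module.End K W) (X : Module.End K W) (σ : MulAut Q)
    (hX : ∀ u, X * R u = R (σ u) * X) (i : ℕ) (v : Q) :
    X ^ i * R v = R ((σ ^ i) v) * X ^ i := by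
  induction i generalizing v with
  | zero => simp
  | succ i ih =>
    rw [pow_succ, mul_assoc, hX, ← mul_assoc, ih, pow_succ, MulAut.mul_apply, mul_assoc]


/-- Case A: if `R(Q)` is commutative, the hypotheses are contradictory. -/
theorem caseA_false [IsAlgClosed K] [FiniteDimensional K W] [Nontrivial W] [Fintype Q]
    (R : Q →* Module.End K W) (X : Module.End K W) (σ : MulAut Q) (r : ℕ) (hr : r.Prime)
    (hσr : σ ^ r = 1) (hcop : Nat.Coprime (Nat.card Q) r)
    (hX : ∀ u, X * R u = R (σ u) * X) (hXr : X ^ r = 1)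
    (hmin : ∀ D : Subgroup Q, D ≠ ⊤ → (∀ u, u ∈ D ↔ σ u ∈ D) → ∀ d ∈ D, R (σ d) = R d)
    (hnt : ∃ u, R (σ u) ≠ R u)
    (hQfix : ∀ w, (∀ u, R u w = w) → w = 0)
    (hXfix : ∀ w, X w = w → w = 0)
    (hQK : (Fintype.card Q : K) ≠ 0)
    (hcomm : ∀ u v, R u * R v = R v * R u) : False := by
  classical
  let S : Set (Submodule K W) := {U | U ≠ ⊥ ∧ ∀ u, ∀ w ∈ U, R u w ∈ U}
  have hSne : S.Nonempty := ⟨⊤, top_ne_bot, fun u w _ => Submodule.mem_top⟩
  obtain ⟨E, ⟨hEne, hEinv⟩, hEmin⟩ := (wellFounded_lt :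
    WellFounded ((· < ·) : Submodule K W → Submodule K W → Prop)).has_min S hSne
  have hscal : ∀ u : Q, ∃ μ : K, ∀ w ∈ E, R u w = μ • w := by
    intro u
    have : Nontrivial E := Submodule.nontrivial_iff_ne_bot.mpr hEne
    obtain ⟨μ, hμ⟩ := Module.End.exists_eigenvalue ((R u).restrict (hEinv u))
    obtain ⟨e₀, he₀⟩ := hμ.exists_hasEigenvector
    refine ⟨μ, ?_⟩
    have hE'S : E ⊓ (R u).eigenspace μ ∈ S := by
      refine ⟨?_, ?_⟩
      · intro h0
        apply he₀.2
        have h1 : (e₀ : W) ∈ E ⊓ (R u).eigenspace μ := by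
          refine ⟨e₀.2, ?_⟩
          rw [SetLike.mem_coe, Module.End.mem_eigenspace_iff]
          exact congrArg Subtype.val (Module.End.mem_eigenspace_iff.mp he₀.1)
        rw [h0] at h1
        exact Subtype.ext ((Submodule.mem_bot K).mp h1)
      · intro v w hw
        refine ⟨hEinv v w hw.1, ?_⟩
        have h2 := Module.End.mem_eigenspace_iff.mp hw.2
        rw [SetLike.mem_coe, Module.End.mem_eigenspace_iff, ← Module.End.mul_apply, hcomm u v,
          Module.End.mul_apply, h2, map_smul]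
    have hle : E ⊓ (R u).eigenspace μ ≤ E := inf_le_left
    have heq : E ⊓ (R u).eigenspace μ = E := by
      by_contra hne
      exact hEmin _ hE'S (lt_of_le_of_ne hle hne)
    intro w hw
    have h3 : w ∈ E ⊓ (R u).eigenspace μ := by rw [heq]; exact hw
    exact Module.End.mem_eigenspace_iff.mp h3.2
  choose lam hlam using hscal
  obtain ⟨w₀, hw₀E, hw₀⟩ := Submodule.exists_mem_ne_zero_of_ne_bot hEne
  have hinj : ∀ a b : K, a • w₀ = b • w₀ → a = b := fun a b h => smul_left_injective K hw₀ h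
  have hlam_mul : ∀ u v, lam (u * v) = lam u * lam v := by
    intro u v
    apply hinj
    rw [← hlam (u * v) w₀ hw₀E, map_mul, Module.End.mul_apply, hlam v w₀ hw₀E, map_smul,
      hlam u w₀ hw₀E, smul_smul, mul_comm]
  have hlam_one : lam 1 = 1 := by
    apply hinj
    rw [← hlam 1 w₀ hw₀E, map_one, Module.End.one_apply, one_smul]
  have hlam_inv : ∀ u, lam u * lam u⁻¹ = 1 := by
    intro u
    rw [← hlam_mul, mul_inv_cancel, hlam_one]
  have hlam_ne : ∀ u, lam u ≠ 0 := fun u => left_ne_zero_of_mul_eq_one (hlam_inv u)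
  have hact : ∀ (i : ℕ) (v : Q), R ((σ ^ i) v) ((X ^ i) w₀) = lam v • (X ^ i) w₀ := by
    intro i v
    have h1 := LinearMap.congr_fun (X_pow_mul_R R X σ hX i v) w₀
    rw [Module.End.mul_apply, Module.End.mul_apply, hlam v w₀ hw₀E, map_smul] at h1
    exact h1.symm
  have hP : ∀ i : ℕ, (∑ u, (lam u)⁻¹ • R u) ((X ^ i) w₀)
      = (∑ v, lam v * (lam ((σ ^ i) v))⁻¹) • (X ^ i) w₀ := by
    intro i
    rw [LinearMap.sum_apply, Finset.sum_smul]
    apply (Fintype.sum_equiv (MulEquiv.toEquiv (σ ^ i)) _ _ _).symm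
    intro v
    show (lam v * (lam ((σ ^ i) v))⁻¹) • (X ^ i) w₀
      = ((lam ((σ ^ i) v))⁻¹ • R ((σ ^ i) v)) ((X ^ i) w₀)
    rw [LinearMap.smul_apply, hact, smul_smul, mul_comm]
  have hχ : ∀ i : ℕ, 0 < i → i < r → ∑ v, lam v * (lam ((σ ^ i) v))⁻¹ = 0 := by
    intro i hi0 hi
    by_contra hne
    have hall : ∀ v, lam v * (lam ((σ ^ i) v))⁻¹ = 1 := by
      intro v
      by_contra hv
      exact hne (sum_char_eq_zero (fun v => lam v * (lam ((σ ^ i) v))⁻¹) (by
        intro a b
        simp only [map_mul, hlam_mul, mul_inv]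
        ring) v hv)
    have hσi : ∀ v, lam ((σ ^ i) v) = lam v := by
      intro v
      exact ((mul_inv_eq_one₀ (hlam_ne _)).mp (hall v)).symm
    obtain ⟨k, hk⟩ := exists_pow_pow_eq σ r hr hσr i hi0 hi
    have hσik : ∀ (k : ℕ) (v : Q), lam (((σ ^ i) ^ k) v) = lam v := by
      intro k
      induction k with
      | zero => intro v; simp
      | succ k ih =>
        intro v
        rw [pow_succ, MulAut.mul_apply, ih, hσi]
    have hσ1 : ∀ v, lam (σ v) = lam v := by
      intro v
      have h1 := hσik k v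
      rwa [hk] at h1
    let D : Subgroup Q :=
      { carrier := {u | lam u = 1}
        mul_mem' := by
          intro a b ha hb
          show lam (a * b) = 1
          rw [hlam_mul, ha, hb, mul_one]
        one_mem' := hlam_one
        inv_mem' := by
          intro a ha
          show lam a⁻¹ = 1
          have h1 := hlam_inv a
          rwa [ha, one_mul] at h1 }
    have hDmem : ∀ u, u ∈ D ↔ lam u = 1 := fun u => Iff.rfl
    by_cases hDtop : D = ⊤
    · apply hw₀
      apply hQfix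
      intro u
      have h1 : u ∈ D := by rw [hDtop]; trivial
      rw [hlam u w₀ hw₀E, (hDmem u).mp h1, one_smul]
    · have h1 := hmin D hDtop (fun u => by rw [hDmem, hDmem, hσ1])
      obtain ⟨u, hu⟩ := hnt
      apply hu
      exact lemL R σ r hσr hcop D (fun d hd => by rw [hDmem, hσ1]; exact hd) h1 (fun u => by
        rw [hDmem, hlam_mul, hσ1]
        have h2 := hlam_inv u
        rw [mul_comm] at h2
        exact h2) u
  have hT : X (∑ i ∈ Finset.range r, (X ^ i) w₀) = ∑ i ∈ Finset.range r, (X ^ i) w₀ := by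
    rw [map_sum]
    have h1 : ∀ i, X ((X ^ i) w₀) = (X ^ (i + 1)) w₀ := by
      intro i
      rw [pow_succ', Module.End.mul_apply]
    simp only [h1]
    have h2 := Finset.sum_range_succ (fun i => (X ^ i) w₀) r
    have h3 := Finset.sum_range_succ' (fun i => (X ^ i) w₀) r
    rw [h3] at h2
    simp only [hXr, pow_zero] at h2
    exact add_right_cancel h2
  have hT0 := hXfix _ hT
  have hPT : (∑ u, (lam u)⁻¹ • R u) (∑ i ∈ Finset.range r, (X ^ i) w₀)
      = (Fintype.card Q : K) • w₀ := by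
    rw [map_sum, Finset.sum_eq_single 0]
    · rw [hP 0]
      simp only [pow_zero, MulAut.one_apply, Module.End.one_apply]
      congr 1
      rw [Finset.sum_congr rfl (fun v _ => mul_inv_cancel₀ (hlam_ne v))]
      simp
    · intro i hi hi0
      rw [hP i, hχ i (Nat.pos_of_ne_zero hi0) (Finset.mem_range.mp hi), zero_smul]
    · intro h0
      exact absurd (Finset.mem_range.mpr hr.pos) h0
  rw [hT0, map_zero] at hPT
  rcases smul_eq_zero.mp hPT.symm with h | h
  · exact hQK h
  · exact hw₀ h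


/-- **Abstract Theorem S**: a finite solvable group `Q` with an automorphism `σ` of prime order
`r` prime to `|Q|`, acting (through `R`, compatibly with `X`) irreducibly, such that `σ` acts
trivially (through `R`) on every proper `σ`-invariant subgroup but not on `Q`, without nonzero
`Q`-fixed or `X`-fixed vectors. -/
theorem extra_absS [IsAlgClosed K] [FiniteDimensional K W] [Nontrivial W] [Fintype Q]
    [Group.IsSolvable Q]
    (R : Q →* Module.End K W) (X : Module.End K W) (σ : MulAut Q) (r : ℕ) (hr : r.Prime)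
    (hσr : σ ^ r = 1) (hcop : Nat.Coprime (Nat.card Q) r)
    (hX : ∀ u, X * R u = R (σ u) * X) (hXr : X ^ r = 1)
    (hirr : ∀ U : Submodule K W, (∀ u, ∀ w ∈ U, R u w ∈ U) → (∀ w ∈ U, X w ∈ U) →
      U = ⊥ ∨ U = ⊤)
    (hmin : ∀ D : Subgroup Q, D ≠ ⊤ → (∀ u, u ∈ D ↔ σ u ∈ D) → ∀ d ∈ D, R (σ d) = R d)
    (hnt : ∃ u, R (σ u) ≠ R u)
    (hQfix : ∀ w, (∀ u, R u w = w) → w = 0)
    (hXfix : ∀ w, X w = w → w = 0)
    (hQK : (Fintype.card Q : K) ≠ 0) (hrK : (r : K) ≠ 0) :
    (∃ u v : Q, u * v ≠ v * u) ∧ ∃ n : ℕ, n ≠ 1 ∧ n ^ 2 ∣ Nat.card Q ∧ n + 1 = r := by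
  classical
  have hXu : IsUnit X := IsUnit.of_pow_eq_one hXr hr.ne_zero
  have hconj : ∀ a b : Q, R (σ a) = R (σ b) ↔ R a = R b := by
    intro a b
    constructor
    · intro h
      apply hXu.mul_right_inj.mp
      rw [hX, hX, h]
    · intro h
      apply hXu.mul_left_inj.mp
      rw [← hX, ← hX, h]
  have hσsurj : ∀ v : Q, ∃ v', σ v' = v := fun v => ⟨σ⁻¹ v, MulAut.apply_inv_self Q σ v⟩
  obtain ⟨Y, hYdef⟩ : ∃ Y : Subgroup Q, Y = commSubgroup R (Set.range R) := ⟨_, rfl⟩
  have hYmem : ∀ w, w ∈ Y ↔ ∀ v, R (v * w) = R (w * v) := by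
    intro w
    rw [hYdef, mem_commSubgroup]
    constructor
    · intro h v
      rw [map_mul, map_mul]
      exact h (R v) ⟨v, rfl⟩
    · rintro h T ⟨v, rfl⟩
      rw [← map_mul, ← map_mul]
      exact h v
  have hYσ : ∀ u, u ∈ Y ↔ σ u ∈ Y := by
    intro w
    rw [hYmem, hYmem]
    constructor
    · intro h v
      obtain ⟨v', rfl⟩ := hσsurj v
      rw [← map_mul, ← map_mul, hconj]
      exact h v'
    · intro h v
      have h1 := h (σ v)
      rw [← map_mul, ← map_mul, hconj] at h1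
      exact h1
  by_cases hY : Y = ⊤
  · exfalso
    apply caseA_false R X σ r hr hσr hcop hX hXr hmin hnt hQfix hXfix hQK
    intro u v
    have h1 : v ∈ Y := by rw [hY]; trivial
    have h2 := (hYmem v).mp h1 u
    rw [← map_mul, ← map_mul]
    exact h2
  have hYC : ∀ d ∈ Y, R (σ d) = R d := hmin Y hY hYσ
  have : Nontrivial Q := by
    obtain ⟨u, hu⟩ := hnt
    exact nontrivial_of_ne (σ u) u (fun h => hu (by rw [h]))
  have hQ' : ∀ u v : Q, R (σ (u * v * u⁻¹ * v⁻¹)) = R (u * v * u⁻¹ * v⁻¹) := by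
    intro u v
    have h1 : commutator Q ≠ ⊤ := (Group.IsSolvable.commutator_lt_top_of_nontrivial Q).ne
    have hchar : (commutator Q).Characteristic := by
      rw [commutator_def]
      infer_instance
    have h2 : ∀ a, a ∈ commutator Q ↔ σ a ∈ commutator Q := by
      intro a
      have hc : (commutator Q).comap σ.toMonoidHom = commutator Q :=
        Subgroup.characteristic_iff_comap_eq.mp hchar σ
      constructor
      · intro ha
        have h3 : a ∈ (commutator Q).comap σ.toMonoidHom := by rw [hc]; exact ha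
        exact h3
      · intro ha
        have h3 : a ∈ (commutator Q).comap σ.toMonoidHom := ha
        rwa [hc] at h3
    apply hmin (commutator Q) h1 h2
    have h3 : ⁅u, v⁆ ∈ commutator Q :=
      Subgroup.commutator_mem_commutator (Subgroup.mem_top u) (Subgroup.mem_top v)
    rwa [commutatorElement_def] at h3
  have hXc : ∀ u, R (σ u) = R u ↔ X * R u = R u * X := by
    intro u
    rw [hX]
    exact ⟨fun h => by rw [h], fun h => hXu.mul_left_inj.mp h⟩
  obtain ⟨Ru, hRuval⟩ : ∃ Ru : Q →* (Module.End K W)ˣ, ∀ a, ((Ru a : (Module.End K W)ˣ) :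
      Module.End K W) = R a := ⟨R.toHomUnits, fun a => rfl⟩
  have hRu : ∀ a b : Q, R a = R b ↔ Ru a = Ru b := by
    intro a b
    constructor
    · intro h
      apply Units.ext
      rw [hRuval, hRuval, h]
    · intro h
      rw [← hRuval, ← hRuval, h]
  have hCY : ∀ c, R (σ c) = R c → c ∈ Y := by
    intro c hc
    obtain ⟨E, hEdef⟩ : ∃ E : Subgroup Q, E = commSubgroup R {R c} := ⟨_, rfl⟩
    have hEmem : ∀ u, u ∈ E ↔ R (c * u) = R (u * c) := by
      intro u
      rw [hEdef, mem_commSubgroup]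
      constructor
      · intro h
        rw [map_mul, map_mul]
        exact h (R c) rfl
      · intro h T hT
        rw [Set.mem_singleton_iff.mp hT, ← map_mul, ← map_mul]
        exact h
    have hEσ : ∀ u, u ∈ E ↔ σ u ∈ E := by
      intro u
      rw [hEmem, hEmem]
      have h1 : R (c * σ u) = R (σ (c * u)) := by rw [map_mul σ, map_mul, map_mul, hc]
      have h2 : R (σ u * c) = R (σ (u * c)) := by rw [map_mul σ, map_mul, map_mul, hc]
      rw [h1, h2, hconj]
    have hEtop : E = ⊤ := by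
      by_contra hE
      have h1 := hmin E hE hEσ
      obtain ⟨u₀, hu₀⟩ := hnt
      apply hu₀
      refine lemL R σ r hσr hcop E (fun d hd => (hEσ d).mp hd) h1 (fun u => ?_) u₀
      rw [hEmem]
      have h3 := (hRu _ _).mp (hQ' u c)
      have h4 := (hRu _ _).mp hc
      have h5 : Ru (σ u) * Ru c * (Ru (σ u))⁻¹ * (Ru c)⁻¹
          = Ru u * Ru c * (Ru u)⁻¹ * (Ru c)⁻¹ := by
        have h8 : Ru (σ (u * c * u⁻¹ * c⁻¹))
            = Ru (σ u) * Ru (σ c) * (Ru (σ u))⁻¹ * (Ru (σ c))⁻¹ := by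
          simp only [map_mul, map_inv]
        rw [h8, h4] at h3
        rw [h3]
        simp only [map_mul, map_inv]
      have h6 : Ru (σ u) * Ru c * (Ru (σ u))⁻¹ = Ru u * Ru c * (Ru u)⁻¹ := mul_right_cancel h5
      have h7 : Ru c * ((Ru u)⁻¹ * Ru (σ u)) = (Ru u)⁻¹ * Ru (σ u) * Ru c := by
        calc Ru c * ((Ru u)⁻¹ * Ru (σ u))
            = (Ru u)⁻¹ * (Ru u * Ru c * (Ru u)⁻¹) * Ru (σ u) := by group
          _ = (Ru u)⁻¹ * (Ru (σ u) * Ru c * (Ru (σ u))⁻¹) * Ru (σ u) := by rw [h6]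
          _ = (Ru u)⁻¹ * Ru (σ u) * Ru c := by group
      rw [hRu]
      simp only [map_mul, map_inv]
      exact h7
    rw [hYmem]
    intro v
    have h1 : v ∈ E := by rw [hEtop]; trivial
    exact ((hEmem v).mp h1).symm
  have hYnormal : Y.Normal := by
    constructor
    intro w hw g
    rw [hYmem] at hw ⊢
    intro v
    have h1 : R (g * w * g⁻¹) = R w := by
      rw [mul_assoc, map_mul, ← hw g⁻¹, map_mul, ← mul_assoc, R_mul_inv, one_mul]
    rw [map_mul R v (g * w * g⁻¹), map_mul R (g * w * g⁻¹) v, h1, ← map_mul, ← map_mul]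
    exact hw v
  have hdZ : ExtraDataZ R Y := by
    refine ⟨?_, ?_, ?_⟩
    · intro g hg
      apply schur_set (Set.range R ∪ {X}) (by
        intro U' hU'
        exact hirr U' (fun u w hw => hU' (R u) (Or.inl ⟨u, rfl⟩) w hw)
          (fun w hw => hU' X (Or.inr rfl) w hw)) (R g)
      rintro A (⟨u, rfl⟩ | rfl)
      · rw [← map_mul, ← map_mul]
        exact ((hYmem g).mp hg u).symm
      · exact ((hXc g).mp (hYC g hg)).symm
    · intro u v
      exact hCY _ (hQ' u v)
    · intro w hw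
      by_contra hall
      push Not at hall
      apply hw
      rw [hYmem]
      intro v
      rw [map_mul, map_mul]
      exact hall v
  have hfpf : ∀ i, 0 < i → i < r → ∀ u, (σ ^ i) u * u⁻¹ ∈ Y → u ∈ Y := by
    intro i hi0 hi u hu
    obtain ⟨γ, hγ⟩ := hdZ.scal _ hu
    have h0 : R ((σ ^ i) u) = γ • R u := by
      have e : (σ ^ i) u = ((σ ^ i) u * u⁻¹) * u := by group
      calc R ((σ ^ i) u) = R (((σ ^ i) u * u⁻¹) * u) := by rw [← e]
        _ = γ • R u := by rw [map_mul, hγ, smul_mul_assoc, one_mul]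
    have h1 : X ^ i * R u = γ • (R u * X ^ i) := by
      rw [X_pow_mul_R R X σ hX i u, h0, smul_mul_assoc]
    have h2 : ∀ k : ℕ, (X ^ i) ^ k * R u = γ ^ k • (R u * (X ^ i) ^ k) := by
      intro k
      induction k with
      | zero => simp
      | succ k ih =>
        calc (X ^ i) ^ (k + 1) * R u = (X ^ i) ^ k * (X ^ i * R u) := by
              rw [pow_succ, mul_assoc]
          _ = γ • ((X ^ i) ^ k * R u * X ^ i) := by rw [h1, mul_smul_comm, mul_assoc]
          _ = γ ^ (k + 1) • (R u * (X ^ i) ^ (k + 1)) := by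
              rw [ih, smul_mul_assoc, smul_smul, mul_assoc, ← pow_succ, ← pow_succ']
    have hXir : (X ^ i) ^ r = 1 := by rw [← pow_mul, mul_comm, pow_mul, hXr, one_pow]
    have h3 : γ ^ r = 1 := by
      have h4 := h2 r
      rw [hXir, one_mul, mul_one] at h4
      have h5 : (1 : K) • R u = γ ^ r • R u := by
        rw [one_smul]
        exact h4
      exact (smul_R_cancel R u h5).symm
    have h4 : γ ^ Nat.card Q = 1 := by
      have h5 : R ((σ ^ i) u * u⁻¹) ^ Nat.card Q = 1 := by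
        rw [← map_pow, pow_card_eq_one', map_one]
      rw [hγ, smul_pow, one_pow] at h5
      have h6 : γ ^ Nat.card Q • R 1 = (1 : K) • R 1 := by
        rw [map_one, one_smul]
        exact h5
      exact smul_R_cancel R 1 h6
    have h5 : γ = 1 := by
      have h6 := Nat.dvd_gcd (orderOf_dvd_of_pow_eq_one h4) (orderOf_dvd_of_pow_eq_one h3)
      rw [hcop.gcd_eq_one] at h6
      exact orderOf_eq_one_iff.mp (Nat.dvd_one.mp h6)
    rw [h5, one_smul] at h1
    obtain ⟨k, hk⟩ := exists_pow_pow_eq X r hr hXr i hi0 hi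
    have h6 : X * R u = R u * X := by
      have h7 : Commute (X ^ i) (R u) := h1
      have h8 := h7.pow_left k
      rw [hk] at h8
      exact h8
    exact hCY u ((hXc u).mpr h6)
  obtain ⟨c1, -, c3⟩ := extra_coreZ R Y X σ r hr.pos hdZ hYσ hX hXr hσr hfpf hirr hQK hrK
  have hn := c3 hXfix
  have hn1 : Module.finrank K W ≠ 1 := by
    intro h1
    rw [h1, one_pow] at c1
    exact hY (Subgroup.index_eq_one.mp c1.symm)
  refine ⟨?_, Module.finrank K W, hn1, ?_, ?_⟩
  · by_contra hab
    push Not at hab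
    apply hY
    rw [eq_top_iff]
    intro w _
    rw [hYmem]
    intro v
    rw [hab v w]
  · rw [c1]
    exact Subgroup.index_dvd_card Y
  · rcases hn with h | h
    · exact absurd h hn1
    · exact h

end

end Cfsg.Agent.Lib.helper66
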