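import Mathlib
import Cfsg.Agent.Lib.helper66.ExtraS1
import Cfsg.Agent.Lib.helper66.ExtraRepD

set_option autoImplicit false

namespace Cfsg.Agent.Lib.helper66

section

variable {K : Type*} [Field K] {V : Type*} [AddCommGroup V] [Module K V]
  {Γ : Type*} [Group Γ]

/-- **Theorem S** (concrete form).  `Q` a finite solvable subgroup of `Γ` normalized by `x` with
`x ^ r = 1`, `r` prime not dividing `|Q|`; `M₀` a `(Q, x)`-invariant subspace of a representation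
over an algebraically closed field in which `|Q|` and `r` are invertible.  If `x` acts trivially
modulo the kernel on `M₀` on every proper `x`-invariant subgroup of `Q` but not on `Q`, and `x`
has no nonzero fixed vector in `M₀`, then `Q` is not abelian and `r = n + 1` for some `n ≠ 1`
with `n ^ 2 ∣ |Q|`. -/
theorem extra_thmS [IsAlgClosed K] [FiniteDimensional K V] (ρ : Γ →* Module.End K V)
    (M₀ : Submodule K V) (Q : Subgroup Γ) [Finite Q] [Group.IsSolvable Q] (x : Γ) (r : ℕ)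
    (hr : r.Prime)
    (hxQ : x ∈ Subgroup.normalizer (Q : Set Γ)) (hxr : x ^ r = 1)
    (hcop : Nat.Coprime (Nat.card Q) r)
    (hQK : (Nat.card Q : K) ≠ 0) (hrK : (r : K) ≠ 0)
    (hMQ : ∀ u ∈ Q, ∀ w ∈ M₀, ρ u w ∈ M₀) (hMx : ∀ w ∈ M₀, ρ x w ∈ M₀)
    (hmin : ∀ D : Subgroup Γ, D ≤ Q → D ≠ Q → x ∈ Subgroup.normalizer (D : Set Γ) →
      ∀ d ∈ D, ∀ w ∈ M₀, ρ (x * d * x⁻¹) w = ρ d w)
    (hnt : ∃ u ∈ Q, ∃ w ∈ M₀, ρ (x * u * x⁻¹) w ≠ ρ u w)
    (hfix : ∀ w ∈ M₀, ρ x w = w → w = 0) :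
    (∃ u ∈ Q, ∃ v ∈ Q, u * v ≠ v * u) ∧
      ∃ n : ℕ, n ≠ 1 ∧ n ^ 2 ∣ Nat.card Q ∧ n + 1 = r := by
  classical
  let _ : Fintype Q := Fintype.ofFinite Q
  obtain ⟨σ, hσ⟩ : ∃ σ : MulAut Q, ∀ (i : ℕ) (u : Q),
      (((σ ^ i) u : Q) : Γ) = x ^ i * u * x⁻¹ ^ i :=
    ⟨conjAut Q x hxQ, conjAut_pow Q x hxQ⟩
  have hσ1 : ∀ u : Q, ((σ u : Q) : Γ) = x * u * x⁻¹ := by
    intro u
    have h1 := hσ 1 u
    simpa using h1
  have hσr : σ ^ r = 1 := by
    apply MulEquiv.ext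
    intro u
    apply Subtype.ext
    rw [hσ, inv_pow, hxr]
    simp
  obtain ⟨T₀, hT₀⟩ : ∃ T₀ : Module.End K V, T₀ = ∑ u : Q, ρ (u : Γ) := ⟨_, rfl⟩
  have hT₀r : ∀ v : Q, T₀ * ρ (v : Γ) = T₀ := by
    intro v
    rw [hT₀, Finset.sum_mul]
    apply Fintype.sum_equiv (Equiv.mulRight v)
    intro u
    simp [map_mul]
  have hT₀x : ρ x * T₀ = T₀ * ρ x := by
    rw [hT₀, Finset.mul_sum, Finset.sum_mul]
    apply Fintype.sum_equiv (MulEquiv.toEquiv σ)
    intro u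
    show ρ x * ρ (u : Γ) = ρ ((σ u : Q) : Γ) * ρ x
    rw [hσ1, ← map_mul, ← map_mul]
    congr 1
    group
  obtain ⟨M₁, hM₁⟩ : ∃ M₁ : Submodule K V, M₁ = M₀ ⊓ LinearMap.ker T₀ := ⟨_, rfl⟩
  have hM₁mem : ∀ w, w ∈ M₁ ↔ w ∈ M₀ ∧ T₀ w = 0 := by
    intro w
    rw [hM₁, Submodule.mem_inf, LinearMap.mem_ker]
  have hM₁Q : ∀ u ∈ Q, ∀ w ∈ M₁, ρ u w ∈ M₁ := by
    intro u hu w hw
    rw [hM₁mem] at hw ⊢
    refine ⟨hMQ u hu w hw.1, ?_⟩
    rw [← Module.End.mul_apply, hT₀r ⟨u, hu⟩]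
    exact hw.2
  have hM₁x : ∀ w ∈ M₁, ρ x w ∈ M₁ := by
    intro w hw
    rw [hM₁mem] at hw ⊢
    refine ⟨hMx w hw.1, ?_⟩
    rw [← Module.End.mul_apply, ← hT₀x, Module.End.mul_apply, hw.2, map_zero]
  have hQK' : (Fintype.card Q : K) ≠ 0 := by rwa [← Nat.card_eq_fintype_card]
  have hM₁fix : ∀ w ∈ M₁, (∀ u ∈ Q, ρ u w = w) → w = 0 := by
    intro w hw hfixw
    rw [hM₁mem] at hw
    have h1 : T₀ w = (Fintype.card Q : K) • w := by
      rw [hT₀, LinearMap.sum_apply, Finset.sum_congr rfl (fun (u : Q) _ => hfixw (u : Γ) u.2)]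
      simp [Nat.cast_smul_eq_nsmul]
    rw [hw.2] at h1
    rcases smul_eq_zero.mp h1.symm with h | h
    · exact absurd h hQK'
    · exact h
  have hM₁ne : M₁ ≠ ⊥ := by
    obtain ⟨u, hu, w, hw, hne⟩ := hnt
    have h2 : ∃ v ∈ Q, ρ v w ≠ w := by
      by_contra hall
      push Not at hall
      apply hne
      rw [hall u hu, hall (x * u * x⁻¹) ((Subgroup.mem_normalizer_iff.mp hxQ u).mp hu)]
    obtain ⟨v, hv, hvw⟩ := h2
    intro h0
    apply hvw
    have h1 : ρ v w - w ∈ M₁ := by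
      rw [hM₁mem]
      refine ⟨M₀.sub_mem (hMQ v hv w hw) hw, ?_⟩
      rw [map_sub, ← Module.End.mul_apply, hT₀r ⟨v, hv⟩, sub_self]
    rw [h0] at h1
    exact sub_eq_zero.mp ((Submodule.mem_bot K).mp h1)
  have hM₁le : M₁ ≤ M₀ := by
    rw [hM₁]
    exact inf_le_left
  let S : Set (Submodule K V) := {U | U ≠ ⊥ ∧ U ≤ M₁ ∧
    (∀ u ∈ Q, ∀ w ∈ U, ρ u w ∈ U) ∧ (∀ w ∈ U, ρ x w ∈ U)}
  have hSne : S.Nonempty := ⟨M₁, hM₁ne, le_refl _, hM₁Q, hM₁x⟩
  obtain ⟨W, hWS, hWmin⟩ := (wellFounded_lt :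
    WellFounded ((· < ·) : Submodule K V → Submodule K V → Prop)).has_min S hSne
  obtain ⟨hWne, hWle, hWQ, hWx⟩ := hWS
  have : Nontrivial W := Submodule.nontrivial_iff_ne_bot.mpr hWne
  obtain ⟨R', hR'⟩ : ∃ R' : Q →* Module.End K W, ∀ (u : Q) (w : W),
      ((R' u w : W) : V) = ρ u w := ⟨restrictHom ρ Q W hWQ, fun u w => rfl⟩
  obtain ⟨X', hX'⟩ : ∃ X' : Module.End K W, ∀ w : W, ((X' w : W) : V) = ρ x w :=
    ⟨(ρ x).restrict hWx, fun w => rfl⟩
  obtain ⟨P₀, hP₀⟩ : ∃ P₀ : Q →* Module.End K M₀, ∀ (u : Q) (w : M₀),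
      ((P₀ u w : M₀) : V) = ρ u w := ⟨restrictHom ρ Q M₀ hMQ, fun u w => rfl⟩
  have hR'eq : ∀ a b : Q, R' a = R' b ↔ ∀ w ∈ W, ρ (a : Γ) w = ρ (b : Γ) w := by
    intro a b
    constructor
    · intro h w hw
      have h1 := congrArg Subtype.val (LinearMap.congr_fun h ⟨w, hw⟩)
      rwa [hR', hR'] at h1
    · intro h
      apply LinearMap.ext
      intro w
      apply Subtype.ext
      rw [hR', hR']
      exact h w w.2
  have hP₀eq : ∀ a b : Q, P₀ a = P₀ b ↔ ∀ w ∈ M₀, ρ (a : Γ) w = ρ (b : Γ) w := by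
    intro a b
    constructor
    · intro h w hw
      have h1 := congrArg Subtype.val (LinearMap.congr_fun h ⟨w, hw⟩)
      rwa [hP₀, hP₀] at h1
    · intro h
      apply LinearMap.ext
      intro w
      apply Subtype.ext
      rw [hP₀, hP₀]
      exact h w w.2
  have hXR : ∀ u, X' * R' u = R' (σ u) * X' := by
    intro u
    apply LinearMap.ext
    intro w
    apply Subtype.ext
    rw [Module.End.mul_apply, Module.End.mul_apply, hX', hR', hR', hX', hσ1]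
    have e2 : ρ x * ρ (u : Γ) = ρ (x * u * x⁻¹) * ρ x := by
      rw [← map_mul, ← map_mul]
      congr 1
      group
    exact LinearMap.congr_fun e2 (w : V)
  have hX'pow : ∀ (k : ℕ) (w : W), (((X' ^ k) w : W) : V) = (ρ x ^ k) w := by
    intro k
    induction k with
    | zero => intro w; simp
    | succ k ih =>
      intro w
      rw [pow_succ, Module.End.mul_apply, ih, hX', pow_succ, Module.End.mul_apply]
  have hX'r : X' ^ r = 1 := by
    apply LinearMap.ext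
    intro w
    apply Subtype.ext
    rw [hX'pow, ← map_pow, hxr, map_one]
    rfl
  have hirr : ∀ U : Submodule K W, (∀ u, ∀ w ∈ U, R' u w ∈ U) → (∀ w ∈ U, X' w ∈ U) →
      U = ⊥ ∨ U = ⊤ := by
    intro U hUR hUX
    by_cases hU : U = ⊥
    · exact Or.inl hU
    right
    have hU'S : U.map W.subtype ∈ S := by
      refine ⟨?_, ?_, ?_, ?_⟩
      · intro h0
        apply hU
        rw [Submodule.eq_bot_iff]
        intro w hw
        have h1 : (w : V) ∈ U.map W.subtype := ⟨w, hw, rfl⟩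
        rw [h0] at h1
        exact Subtype.ext ((Submodule.mem_bot K).mp h1)
      · exact (Submodule.map_subtype_le W U).trans hWle
      · rintro u hu _ ⟨w, hw, rfl⟩
        exact ⟨R' ⟨u, hu⟩ w, hUR ⟨u, hu⟩ w hw, hR' ⟨u, hu⟩ w⟩
      · rintro _ ⟨w, hw, rfl⟩
        exact ⟨X' w, hUX w hw, hX' w⟩
    have hle : U.map W.subtype ≤ W := Submodule.map_subtype_le W U
    have heq : U.map W.subtype = W := by
      by_contra hne
      exact hWmin _ hU'S (lt_of_le_of_ne hle hne)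
    rw [eq_top_iff]
    intro w _
    have h1 : (w : V) ∈ U.map W.subtype := by rw [heq]; exact w.2
    obtain ⟨w', hw', hww'⟩ := h1
    have h2 : w' = w := Subtype.ext hww'
    rwa [h2] at hw'
  have hminQ : ∀ D : Subgroup Q, D ≠ ⊤ → (∀ u, u ∈ D ↔ σ u ∈ D) → ∀ d ∈ D, ∀ w ∈ M₀,
      ρ ((σ d : Q) : Γ) w = ρ (d : Γ) w := by
    intro D hD hDσ d hd w hw
    rw [hσ1]
    apply hmin (D.map Q.subtype) (Subgroup.map_subtype_le D) ?_ ?_ d ⟨d, hd, rfl⟩ w hw
    · intro h0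
      apply hD
      rw [eq_top_iff]
      intro u _
      have h1 : (u : Γ) ∈ D.map Q.subtype := by rw [h0]; exact u.2
      obtain ⟨u', hu', hu'u⟩ := h1
      have h2 : u' = u := Subtype.ext hu'u
      rwa [← h2]
    · rw [Subgroup.mem_normalizer_iff]
      intro g
      constructor
      · rintro ⟨u, hu, rfl⟩
        exact ⟨σ u, (hDσ u).mp hu, hσ1 u⟩
      · rintro ⟨v, hv, hvg⟩
        have hvg' : (v : Γ) = x * g * x⁻¹ := hvg
        have hgQ : g ∈ Q :=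
          (Subgroup.mem_normalizer_iff.mp hxQ g).mpr (by rw [← hvg']; exact v.2)
        refine ⟨⟨g, hgQ⟩, ?_, rfl⟩
        have h3 : σ ⟨g, hgQ⟩ = v := Subtype.ext (by rw [hσ1]; exact hvg'.symm)
        rw [SetLike.mem_coe, hDσ, h3]
        exact hv
  have hmin' : ∀ D : Subgroup Q, D ≠ ⊤ → (∀ u, u ∈ D ↔ σ u ∈ D) → ∀ d ∈ D,
      R' (σ d) = R' d := by
    intro D hD hDσ d hd
    rw [hR'eq]
    intro w hw
    exact hminQ D hD hDσ d hd w (hM₁le (hWle hw))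
  have hQfix' : ∀ w : W, (∀ u, R' u w = w) → w = 0 := by
    intro w hw
    apply Subtype.ext
    apply hM₁fix (w : V) (hWle w.2)
    intro u hu
    have h1 := congrArg Subtype.val (hw ⟨u, hu⟩)
    rwa [hR'] at h1
  have hXfix' : ∀ w : W, X' w = w → w = 0 := by
    intro w hw
    apply Subtype.ext
    apply hfix (w : V) (hM₁le (hWle w.2))
    rw [← hX', hw]
  have hnt' : ∃ u, R' (σ u) ≠ R' u := by
    by_contra hall
    push Not at hall
    have hNσ : ∀ u, u ∈ MonoidHom.ker R' ↔ σ u ∈ MonoidHom.ker R' := by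
      intro u
      rw [MonoidHom.mem_ker, MonoidHom.mem_ker, hall]
    have hNtop : MonoidHom.ker R' ≠ ⊤ := by
      intro h0
      obtain ⟨w, hw0⟩ := exists_ne (0 : W)
      apply hw0
      apply hQfix'
      intro u
      have h1 : u ∈ MonoidHom.ker R' := by rw [h0]; trivial
      rw [MonoidHom.mem_ker.mp h1]
      rfl
    have h1 := hminQ (MonoidHom.ker R') hNtop hNσ
    have h2 := lemL P₀ σ r hσr hcop (MonoidHom.ker R') (fun d hd => (hNσ d).mp hd)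
      (fun d hd => (hP₀eq _ _).mpr (h1 d hd)) (fun u => by
        rw [MonoidHom.mem_ker, map_mul, hall, ← map_mul, inv_mul_cancel, map_one])
    obtain ⟨u, hu, w, hw, hne⟩ := hnt
    apply hne
    have h3 := (hP₀eq _ _).mp (h2 ⟨u, hu⟩) w hw
    rw [hσ1] at h3
    exact h3
  obtain ⟨⟨u, v, huv⟩, hn⟩ := extra_absS R' X' σ r hr hσr hcop hXR hX'r hirr hmin' hnt'
    hQfix' hXfix' hQK' hrK
  exact ⟨⟨u, u.2, v, v.2, fun h => huv (Subtype.ext h)⟩, hn⟩

end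

end Cfsg.Agent.Lib.helper66
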