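import Mathlib
import Cfsg.Agent.Lib.helper66.ExtraRepD

set_option autoImplicit false

namespace Cfsg.Agent.Lib.helper66

section

variable {K : Type*} [Field K] {V : Type*} [AddCommGroup V] [Module K V]
  {Γ : Type*} [Group Γ]

/-- **Theorem A with an invariant subspace** `M₀`: a subgroup `Q` of extraspecial type (center `⟨z⟩` of prime order,
commutators central) with an element `x` of order dividing `h` acting fixed-point-freely on
`Q / ⟨z⟩` and centralizing `z`, in a representation (over an algebraically closed field in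
which `|Q|` and `h` are invertible) on which `z` acts nontrivially. -/
theorem extra_thmA_sub [IsAlgClosed K] [FiniteDimensional K V] (ρ : Γ →* Module.End K V)
    (M₀ : Submodule K V)
    (Q : Subgroup Γ) [Finite Q] (z x : Γ) (h : ℕ) (hh : 0 < h)
    (hzQ : z ∈ Q) (hzq : (orderOf z).Prime)
    (hcen : ∀ u ∈ Q, (∀ v ∈ Q, u * v = v * u) ↔ u ∈ Subgroup.zpowers z)
    (hcomm : ∀ u ∈ Q, ∀ v ∈ Q, u * v * u⁻¹ * v⁻¹ ∈ Subgroup.zpowers z)
    (hxQ : x ∈ Subgroup.normalizer (Q : Set Γ)) (hxz : x * z = z * x) (hxh : x ^ h = 1)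
    (hfpf : ∀ i, 0 < i → i < h → ∀ u ∈ Q,
      x ^ i * u * x⁻¹ ^ i * u⁻¹ ∈ Subgroup.zpowers z → u ∈ Subgroup.zpowers z)
    (hQK : (Nat.card Q : K) ≠ 0) (hhK : (h : K) ≠ 0)
    (hMQ : ∀ u ∈ Q, ∀ w ∈ M₀, ρ u w ∈ M₀) (hMx : ∀ w ∈ M₀, ρ x w ∈ M₀)
    (hz : ∃ w ∈ M₀, ρ z w ≠ w) :
    ∃ n : ℕ, n ^ 2 = (Subgroup.zpowers z).relIndex Q ∧
      (∃ c, n = h * c + 1 ∨ n + 1 = h * c) ∧
      ((∀ v ∈ M₀, ρ x v = v → v = 0) → n = 1 ∨ n + 1 = h) := by
  classical
  set q := orderOf z with hq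
  have : Fact q.Prime := ⟨hzq⟩
  have hqK : (q : K) ≠ 0 := by
    intro h0
    apply hQK
    have h1 : q ∣ Nat.card Q := by
      have h2 := orderOf_dvd_natCard (⟨z, hzQ⟩ : Q)
      rwa [Subgroup.orderOf_mk] at h2
    obtain ⟨m, hm⟩ := h1
    rw [hm, Nat.cast_mul, h0, zero_mul]
  have hAq : ρ z ^ q = 1 := by rw [← map_pow, hq, pow_orderOf_eq_one, map_one]
  have hA'pow : ∀ (k : ℕ) (w : M₀),
      (((((ρ z).restrict (hMQ z hzQ)) ^ k) w : M₀) : V) = (ρ z ^ k) w := by
    intro k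
    induction k with
    | zero => intro w; simp
    | succ k ih =>
      intro w
      rw [pow_succ, Module.End.mul_apply, ih, pow_succ, Module.End.mul_apply]
      rfl
  have hA'q : ((ρ z).restrict (hMQ z hzQ)) ^ q = 1 := by
    apply LinearMap.ext
    intro w
    apply Subtype.ext
    rw [hA'pow, hAq]
    rfl
  have hA'1 : ((ρ z).restrict (hMQ z hzQ)) ≠ 1 := by
    intro h1
    obtain ⟨w, hw, hzw⟩ := hz
    apply hzw
    have h2 := LinearMap.congr_fun h1 ⟨w, hw⟩
    exact congrArg Subtype.val h2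
  obtain ⟨ζ, hζ1, hζq, hζne'⟩ := exists_eigen_ne_one ((ρ z).restrict (hMQ z hzQ)) q hqK
    hA'q hA'1
  have hζne : (ρ z).eigenspace ζ ⊓ M₀ ≠ ⊥ := by
    obtain ⟨w, hw, hw0⟩ := (Submodule.ne_bot_iff _).mp hζne'
    intro h0
    apply hw0
    have h1 : (w : V) ∈ (ρ z).eigenspace ζ ⊓ M₀ := by
      refine ⟨?_, w.2⟩
      rw [SetLike.mem_coe, Module.End.mem_eigenspace_iff]
      have h2 := congrArg Subtype.val (Module.End.mem_eigenspace_iff.mp hw)
      exact h2
    rw [h0] at h1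
    exact Subtype.ext ((Submodule.mem_bot K).mp h1)
  have hζord : orderOf ζ = q := orderOf_eq_prime hζq hζ1
  have hzc : ∀ v ∈ Q, z * v = v * z := (hcen z hzQ).mpr (Subgroup.mem_zpowers z)
  have hinv : ∀ g : Γ, g * z = z * g → ∀ w ∈ (ρ z).eigenspace ζ,
      ρ g w ∈ (ρ z).eigenspace ζ := by
    intro g hg w hw
    rw [Module.End.mem_eigenspace_iff] at hw ⊢
    rw [← Module.End.mul_apply, ← map_mul, ← hg, map_mul, Module.End.mul_apply, hw, map_smul]
  let S : Set (Submodule K V) := {U | U ≠ ⊥ ∧ U ≤ (ρ z).eigenspace ζ ⊓ M₀ ∧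
    (∀ u ∈ Q, ∀ w ∈ U, ρ u w ∈ U) ∧ (∀ w ∈ U, ρ x w ∈ U)}
  have hSne : S.Nonempty := ⟨(ρ z).eigenspace ζ ⊓ M₀, hζne, le_refl _,
    fun u hu w hw => ⟨hinv u (hzc u hu).symm w hw.1, hMQ u hu w hw.2⟩,
    fun w hw => ⟨hinv x hxz w hw.1, hMx w hw.2⟩⟩
  obtain ⟨W, hWS, hWmin⟩ := (wellFounded_lt :
    WellFounded ((· < ·) : Submodule K V → Submodule K V → Prop)).has_min S hSne
  obtain ⟨hWne, hWle, hWQ, hWx⟩ := hWS
  have : Nontrivial W := Submodule.nontrivial_iff_ne_bot.mpr hWne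
  let _ : Fintype Q := Fintype.ofFinite Q
  have hzW : ∀ (k : ℕ) (w : V), w ∈ W → ρ (z ^ k) w = ζ ^ k • w := by
    intro k w hw
    rw [map_pow]
    exact pow_apply_eigen (ρ z) ζ w (Module.End.mem_eigenspace_iff.mp (hWle hw).1) k
  have hcenter : ∀ g : Q, g ∈ Subgroup.center Q ↔ (g : Γ) ∈ Subgroup.zpowers z := by
    intro g
    constructor
    · intro hg
      apply (hcen g g.2).mp
      intro v hv
      have h1 := Subgroup.mem_center_iff.mp hg ⟨v, hv⟩
      exact (congrArg Subtype.val h1).symm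
    · intro hg
      rw [Subgroup.mem_center_iff]
      intro v
      apply Subtype.ext
      exact ((hcen g g.2).mpr hg v v.2).symm
  have hfin : IsOfFinOrder z := orderOf_pos_iff.mp hzq.pos
  have hpowers : ∀ g : Γ, g ∈ Subgroup.zpowers z → ∃ k : ℕ, z ^ k = g := by
    intro g hg
    exact (Submonoid.mem_powers_iff _ _).mp (hfin.mem_powers_iff_mem_zpowers.mpr hg)
  obtain ⟨R', hR'⟩ : ∃ R' : Q →* Module.End K W, ∀ (u : Q) (w : W),
      ((R' u w : W) : V) = ρ u w := ⟨restrictHom ρ Q W hWQ, fun u w => rfl⟩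
  obtain ⟨X', hX'⟩ : ∃ X' : Module.End K W, ∀ w : W, ((X' w : W) : V) = ρ x w :=
    ⟨(ρ x).restrict hWx, fun w => rfl⟩
  obtain ⟨σ, hσ⟩ : ∃ σ : MulAut Q, ∀ (i : ℕ) (u : Q),
      (((σ ^ i) u : Q) : Γ) = x ^ i * u * x⁻¹ ^ i :=
    ⟨conjAut Q x hxQ, conjAut_pow Q x hxQ⟩
  have hσ1 : ∀ u : Q, ((σ u : Q) : Γ) = x * u * x⁻¹ := by
    intro u
    have h1 := hσ 1 u
    simpa using h1
  have hd : ExtraData R' := by
    refine ⟨?_, ?_, ?_⟩
    · intro g hg
      obtain ⟨k, hk⟩ := hpowers g ((hcenter g).mp hg)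
      refine ⟨ζ ^ k, ?_⟩
      apply LinearMap.ext
      intro w
      apply Subtype.ext
      rw [hR', ← hk, hzW k w w.2]
      simp
    · intro g hg h1
      obtain ⟨k, hk⟩ := hpowers g ((hcenter g).mp hg)
      obtain ⟨w, hw0⟩ := exists_ne (0 : W)
      have h2 : ζ ^ k • (w : V) = (w : V) := by
        rw [← hzW k w w.2, hk, ← hR' g w, h1]
        rfl
      have h3 : ζ ^ k = 1 := by
        by_contra hne
        apply hw0
        have h4 : (ζ ^ k - 1) • (w : V) = 0 := by rw [sub_smul, one_smul, h2, sub_self]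
        rcases smul_eq_zero.mp h4 with h5 | h5
        · exact absurd (sub_eq_zero.mp h5) hne
        · exact Subtype.ext h5
      have h4 : q ∣ k := by
        rw [← hζord]
        exact orderOf_dvd_of_pow_eq_one h3
      apply Subtype.ext
      rw [← hk]
      exact orderOf_dvd_iff_pow_eq_one.mp h4
    · intro u v
      rw [hcenter]
      exact hcomm u u.2 v v.2
  have hXR : ∀ u, X' * R' u = R' (σ u) * X' := by
    intro u
    apply LinearMap.ext
    intro w
    apply Subtype.ext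
    rw [Module.End.mul_apply, Module.End.mul_apply, hX', hR', hR', hX', hσ1]
    have e2 : ρ x * ρ (u : Γ) = ρ (x * u * x⁻¹) * ρ x := by
      rw [← map_mul, ← map_mul]
      congr 1
      group
    exact LinearMap.congr_fun e2 (w : V)
  have hX'pow : ∀ (k : ℕ) (w : W), (((X' ^ k) w : W) : V) = (ρ x ^ k) w := by
    intro k
    induction k with
    | zero => intro w; simp
    | succ k ih =>
      intro w
      rw [pow_succ, Module.End.mul_apply, ih, hX', pow_succ, Module.End.mul_apply]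
  have hX'h : X' ^ h = 1 := by
    apply LinearMap.ext
    intro w
    apply Subtype.ext
    rw [hX'pow, ← map_pow, hxh, map_one]
    rfl
  have hσh : σ ^ h = 1 := by
    apply MulEquiv.ext
    intro u
    apply Subtype.ext
    rw [hσ, inv_pow, hxh]
    simp
  have hfpf' : ∀ i, 0 < i → i < h → ∀ u : Q, (σ ^ i) u * u⁻¹ ∈ Subgroup.center Q →
      u ∈ Subgroup.center Q := by
    intro i hi0 hi u hu
    rw [hcenter] at hu ⊢
    apply hfpf i hi0 hi u u.2
    have h1 : (((σ ^ i) u * u⁻¹ : Q) : Γ) = x ^ i * u * x⁻¹ ^ i * (u : Γ)⁻¹ := by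
      rw [Subgroup.coe_mul, hσ, Subgroup.coe_inv]
    rwa [h1] at hu
  have hirr : ∀ U : Submodule K W, (∀ u, ∀ w ∈ U, R' u w ∈ U) → (∀ w ∈ U, X' w ∈ U) →
      U = ⊥ ∨ U = ⊤ := by
    intro U hUR hUX
    by_cases hU : U = ⊥
    · exact Or.inl hU
    right
    have hU'S : U.map W.subtype ∈ S := by
      refine ⟨?_, ?_, ?_, ?_⟩
      · intro h0
        apply hU
        rw [Submodule.eq_bot_iff]
        intro w hw
        have h1 : (w : V) ∈ U.map W.subtype := ⟨w, hw, rfl⟩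
        rw [h0] at h1
        exact Subtype.ext ((Submodule.mem_bot K).mp h1)
      · exact (Submodule.map_subtype_le W U).trans hWle
      · rintro u hu _ ⟨w, hw, rfl⟩
        exact ⟨R' ⟨u, hu⟩ w, hUR ⟨u, hu⟩ w hw, hR' ⟨u, hu⟩ w⟩
      · rintro _ ⟨w, hw, rfl⟩
        exact ⟨X' w, hUX w hw, hX' w⟩
    have hle : U.map W.subtype ≤ W := Submodule.map_subtype_le W U
    have heq : U.map W.subtype = W := by
      by_contra hne
      exact hWmin _ hU'S (lt_of_le_of_ne hle hne)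
    rw [eq_top_iff]
    intro w _
    have h1 : (w : V) ∈ U.map W.subtype := by rw [heq]; exact w.2
    obtain ⟨w', hw', hww'⟩ := h1
    have h2 : w' = w := Subtype.ext hww'
    rwa [h2] at hw'
  have hQK' : (Fintype.card Q : K) ≠ 0 := by rwa [← Nat.card_eq_fintype_card]
  obtain ⟨c1, c2, c3⟩ := extra_core R' X' σ h hh hd hXR hX'h hσh hfpf' hirr hQK' hhK
  refine ⟨Module.finrank K W, ?_, c2, ?_⟩
  · rw [c1]
    have h1 : Subgroup.center Q = (Subgroup.zpowers z).subgroupOf Q := by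
      ext g
      rw [hcenter, Subgroup.mem_subgroupOf]
    rw [h1]
    rfl
  · intro hfix
    apply c3
    intro w hw
    apply Subtype.ext
    apply hfix _ (hWle w.2).2
    rw [← hX', hw]

end

end Cfsg.Agent.Lib.helper66
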