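import Mathlib
import Cfsg.Agent.Lib.helper66.ExtraRepF

set_option autoImplicit false

namespace Cfsg.Agent.Lib.helper66

section

variable (K : Type*) [Field K] {G : Type*} [Group G]

/-- The conjugation action on functions on the group. -/
def conjFunRep (K : Type*) [Field K] (G : Type*) [Group G] : G →* Module.End K (G → K) where
  toFun g := LinearMap.funLeft K K (fun a => g⁻¹ * a * g)
  map_one' := by
    ext f a
    simp [LinearMap.funLeft_apply]
  map_mul' g g' := by
    ext f a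
    simp [LinearMap.funLeft_apply, mul_assoc]

theorem conjFunRep_apply (g : G) (f : G → K) (a : G) :
    conjFunRep K G g f a = f (g⁻¹ * a * g) := rfl

/-- Functions on `G` that are additive on the subgroup `V` and vanish outside it: a model of
`Hom(V, K)` inside the function space. -/
def addHomSub (V : Subgroup G) : Submodule K (G → K) where
  carrier := {f | (∀ a ∈ V, ∀ b ∈ V, f (a * b) = f a + f b) ∧ ∀ a, a ∉ V → f a = 0}
  add_mem' := by
    rintro f g ⟨hf1, hf2⟩ ⟨hg1, hg2⟩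
    refine ⟨fun a ha b hb => ?_, fun a ha => ?_⟩
    · simp only [Pi.add_apply]
      rw [hf1 a ha b hb, hg1 a ha b hb]
      ring
    · simp only [Pi.add_apply]
      rw [hf2 a ha, hg2 a ha, add_zero]
  zero_mem' := ⟨fun a _ b _ => by simp, fun a _ => rfl⟩
  smul_mem' := by
    rintro c f ⟨hf1, hf2⟩
    refine ⟨fun a ha b hb => ?_, fun a ha => ?_⟩
    · simp only [Pi.smul_apply, smul_eq_mul]
      rw [hf1 a ha b hb]
      ring
    · simp only [Pi.smul_apply, smul_eq_mul]
      rw [hf2 a ha, mul_zero]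

theorem mem_addHomSub (V : Subgroup G) (f : G → K) :
    f ∈ addHomSub K V ↔ (∀ a ∈ V, ∀ b ∈ V, f (a * b) = f a + f b) ∧ ∀ a, a ∉ V → f a = 0 :=
  Iff.rfl

theorem conjFunRep_mem_addHomSub (V : Subgroup G) (g : G)
    (hg : g ∈ Subgroup.normalizer (V : Set G)) (f : G → K) (hf : f ∈ addHomSub K V) :
    conjFunRep K G g f ∈ addHomSub K V := by
  have hgV : ∀ a, a ∈ V ↔ g⁻¹ * a * g ∈ V := by
    intro a
    have h1 := Subgroup.mem_normalizer_iff.mp (inv_mem hg) a
    simpa using h1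
  obtain ⟨hf1, hf2⟩ := hf
  refine ⟨fun a ha b hb => ?_, fun a ha => ?_⟩
  · rw [conjFunRep_apply, conjFunRep_apply, conjFunRep_apply,
      ← hf1 _ ((hgV a).mp ha) _ ((hgV b).mp hb)]
    congr 1
    group
  · rw [conjFunRep_apply]
    exact hf2 _ (fun h => ha ((hgV a).mpr h))

theorem sep_aux1 {A : Type*} [AddCommGroup A] (p : ℕ) [Fact p.Prime] [Module (ZMod p) A]
    (K : Type*) [Field K] [Algebra (ZMod p) K] (w : A) (hw : w ≠ 0) :
    ∃ f : A → K, (∀ a b, f (a + b) = f a + f b) ∧ f w ≠ 0 := by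
  obtain ⟨φ, hφ⟩ : ∃ φ : A →ₗ[ZMod p] ZMod p, φ w ≠ 0 := by
    by_contra hall
    push Not at hall
    exact hw ((Module.forall_dual_apply_eq_zero_iff (ZMod p) w).mp hall)
  refine ⟨fun a => algebraMap (ZMod p) K (φ a), ?_, ?_⟩
  · intro a b
    rw [← map_add (algebraMap (ZMod p) K), ← map_add φ]
  · intro h0
    apply hφ
    exact (map_eq_zero_iff _ (algebraMap (ZMod p) K).injective).mp h0

theorem sep_aux2 {A : Type*} [AddCommGroup A] (p : ℕ) [Fact p.Prime]
    (hA : ∀ a : A, p • a = 0) (K : Type*) [Field K] [CharP K p] (w : A) (hw : w ≠ 0) :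
    ∃ f : A → K, (∀ a b, f (a + b) = f a + f b) ∧ f w ≠ 0 :=
  @sep_aux1 A _ p _ (AddCommGroup.zmodModule hA) K _ (ZMod.algebra K p) w hw

/-- Additive functions separate the points of an elementary abelian `p`-subgroup. -/
theorem exists_additive_sep (V : Subgroup G) (p : ℕ) (hp : p.Prime)
    (hVc : ∀ a ∈ V, ∀ b ∈ V, a * b = b * a) (hVp : ∀ a ∈ V, a ^ p = 1)
    [CharP K p] (w : G) (hw : w ∈ V) (hw1 : w ≠ 1) :
    ∃ f ∈ addHomSub K V, f w ≠ 0 := by
  classical
  have : Fact p.Prime := ⟨hp⟩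
  obtain ⟨f, hf1, hf2⟩ := @sep_aux2 (Additive V)
    (@Additive.addCommGroup V { (inferInstance : Group V) with
      mul_comm := fun a b => Subtype.ext (hVc a a.2 b b.2) }) p _
    (fun a => congrArg Additive.ofMul
      (Subtype.ext (by simpa using hVp (Additive.toMul a : V) (Additive.toMul a).2) :
        (Additive.toMul a : V) ^ p = 1)) K _ _ (Additive.ofMul ⟨w, hw⟩)
    (fun h => hw1 (congrArg Subtype.val (congrArg Additive.toMul h : (⟨w, hw⟩ : V) = 1)))
  refine ⟨fun a => if ha : a ∈ V then f (Additive.ofMul ⟨a, ha⟩) else 0, ⟨?_, ?_⟩, ?_⟩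
  · intro a ha b hb
    simp only [dif_pos ha, dif_pos hb, dif_pos (V.mul_mem ha hb)]
    exact hf1 (Additive.ofMul ⟨a, ha⟩) (Additive.ofMul ⟨b, hb⟩)
  · intro a ha
    simp only [dif_neg ha]
  · simp only [dif_pos hw]
    exact hf2

end

end Cfsg.Agent.Lib.helper66
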