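import Mathlib
import Cfsg.Agent.Lib.helper66.ExtraRepG

set_option autoImplicit false

namespace Cfsg.Agent.Lib.helper66

section

variable (K : Type*) [Field K] {G : Type*} [Group G]

/-- Elements centralizing `V` act trivially on `addHomSub K V`. -/
theorem addHom_fixed (V : Subgroup G) (g : G) (hg : g ∈ Subgroup.centralizer (V : Set G))
    (f : G → K) (hf : f ∈ addHomSub K V) : conjFunRep K G g f = f := by
  have hgN : g ∈ Subgroup.normalizer (V : Set G) := Subgroup.centralizer_le_normalizer _ hg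
  funext a
  rw [conjFunRep_apply]
  by_cases ha : a ∈ V
  · have h1 : a * g = g * a := Subgroup.mem_centralizer_iff.mp hg a ha
    have h2 : g⁻¹ * a * g = a := by rw [mul_assoc, h1, inv_mul_cancel_left]
    rw [h2]
  · have h1 : g⁻¹ * a * g ∉ V := by
      intro h
      apply ha
      have h2 := (Subgroup.mem_normalizer_iff.mp hgN (g⁻¹ * a * g)).mp h
      have h3 : g * (g⁻¹ * a * g) * g⁻¹ = a := by group
      rwa [h3] at h2
    rw [hf.2 _ h1, hf.2 _ ha]

/-- Elements normalizing but not centralizing an elementary abelian `p`-subgroup `V` act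
nontrivially on `addHomSub K V` (in characteristic `p`). -/
theorem addHom_moves (V : Subgroup G) (p : ℕ) (hp : p.Prime)
    (hVc : ∀ a ∈ V, ∀ b ∈ V, a * b = b * a) (hVp : ∀ a ∈ V, a ^ p = 1) [CharP K p]
    (g : G) (hgN : g ∈ Subgroup.normalizer (V : Set G))
    (hg : g ∉ Subgroup.centralizer (V : Set G)) :
    ∃ f ∈ addHomSub K V, conjFunRep K G g f ≠ f := by
  obtain ⟨v, hvV, hvz⟩ : ∃ v ∈ V, g * v ≠ v * g := by
    by_contra hall
    push Not at hall
    apply hg
    rw [Subgroup.mem_centralizer_iff]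
    intro v hv
    exact (hall v hv).symm
  have hwV : g⁻¹ * v * g * v⁻¹ ∈ V := by
    have h1 : g⁻¹ * v * g ∈ V := by
      have h2 := (Subgroup.mem_normalizer_iff.mp (inv_mem hgN) v).mp hvV
      simpa using h2
    exact V.mul_mem h1 (V.inv_mem hvV)
  have hw1 : g⁻¹ * v * g * v⁻¹ ≠ 1 := by
    intro h1
    apply hvz
    have h2 : g⁻¹ * v * g = v := mul_inv_eq_one.mp h1
    calc g * v = g * (g⁻¹ * v * g) := by rw [h2]
      _ = v * g := by group
  obtain ⟨f, hfM, hfw⟩ := exists_additive_sep K V p hp hVc hVp _ hwV hw1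
  refine ⟨f, hfM, ?_⟩
  intro h1
  have h2 := congrFun h1 v
  rw [conjFunRep_apply] at h2
  have h3 : g⁻¹ * v * g = (g⁻¹ * v * g * v⁻¹) * v := by group
  rw [h3, hfM.1 _ hwV _ hvV] at h2
  exact hfw (add_eq_right.mp h2)

/-- If `x` normalizes `V` and centralizes no nontrivial element of `V`, then `x` has no nonzero
fixed vector in `addHomSub K V`. -/
theorem addHom_fixfree [Finite G] (V : Subgroup G) (x : G)
    (hxN : x ∈ Subgroup.normalizer (V : Set G))
    (hCx : ∀ t ∈ V, x * t = t * x → t = 1)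
    (f : G → K) (hf : f ∈ addHomSub K V) (hxf : conjFunRep K G x f = f) : f = 0 := by
  obtain ⟨hf1, hf2⟩ := hf
  have hxV : ∀ a ∈ V, x⁻¹ * a * x ∈ V := by
    intro a ha
    have h1 := (Subgroup.mem_normalizer_iff.mp (inv_mem hxN) a).mp ha
    simpa using h1
  have hf_one : f 1 = 0 := by
    have h1 := hf1 1 V.one_mem 1 V.one_mem
    rw [mul_one] at h1
    exact left_eq_add.mp h1
  have hf_inv : ∀ a ∈ V, f a⁻¹ = - f a := by
    intro a ha
    have h1 := hf1 a ha a⁻¹ (V.inv_mem ha)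
    rw [mul_inv_cancel, hf_one] at h1
    exact eq_neg_of_add_eq_zero_right h1.symm
  let φ : V → V := fun a =>
    ⟨(a : G)⁻¹ * (x⁻¹ * a * x), V.mul_mem (V.inv_mem a.2) (hxV a a.2)⟩
  have hφinj : Function.Injective φ := by
    intro a b hab
    have h1 : (a : G)⁻¹ * (x⁻¹ * a * x) = (b : G)⁻¹ * (x⁻¹ * b * x) :=
      congrArg Subtype.val hab
    have h3 : x * ((b : G) * (a : G)⁻¹) = (b : G) * (a : G)⁻¹ * x := by
      calc x * ((b : G) * (a : G)⁻¹)
          = x * ((b : G) * ((a : G)⁻¹ * (x⁻¹ * a * x)) * (x⁻¹ * a * x)⁻¹) := by group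
        _ = x * ((b : G) * ((b : G)⁻¹ * (x⁻¹ * b * x)) * (x⁻¹ * a * x)⁻¹) := by rw [h1]
        _ = (b : G) * (a : G)⁻¹ * x := by group
    have h4 : (b : G) * (a : G)⁻¹ = 1 := hCx _ (V.mul_mem b.2 (V.inv_mem a.2)) h3
    exact Subtype.ext (mul_inv_eq_one.mp h4).symm
  have hφsurj : Function.Surjective φ := Finite.injective_iff_surjective.mp hφinj
  funext a
  by_cases ha : a ∈ V
  · obtain ⟨b, hb⟩ := hφsurj ⟨a, ha⟩
    have h1 : a = (b : G)⁻¹ * (x⁻¹ * b * x) := (congrArg Subtype.val hb).symm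
    have h2 := congrFun hxf (b : G)
    rw [conjFunRep_apply] at h2
    rw [h1, hf1 _ (V.inv_mem b.2) _ (hxV b b.2), hf_inv b b.2, h2]
    simp
  · exact hf2 a ha

end

end Cfsg.Agent.Lib.helper66
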