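import Mathlib

/-!
# Coprime automorphism groups of finite abelian `p`-groups (Gorenstein 5.2)

`A` is a finite commutative group, `X ≤ MulAut A`.  `AutInv X B` means `x b ∈ B` for all `x ∈ X`,
`b ∈ B`.

* `autInv_iff_map_eq` : `AutInv X B ↔ ∀ x ∈ X, B.map x = B`.
* `exists_invariant_compl` (Maschke, Gorenstein 5.2.1) : if `|X|` is prime to `|V|`, `V` and
  `U ≤ V` are invariant and `U` has a complement in `V`, then `U` has an invariant complement.
* `exists_compl_of_inf_pow_eq_bot` : a subgroup `C ≤ F` with `C ∩ F^p = 1` has a complement in `F`.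
* `exists_invariant_compl_of_inf_pow` : the invariant version.
* `decomposable_of_reducible` : if `X` is a `p'`-group, `A` a `p`-group, `F` invariant and
  `Ω₁(F)` has a proper nontrivial invariant subgroup, then `F` is the direct product of two
  nontrivial invariant subgroups.
-/

set_option autoImplicit false

namespace Cfsg.Agent.Lib.helper66

variable {A : Type*} [CommGroup A]

/-- `B` is mapped into itself by every element of `X`. -/
def AutInv (X : Subgroup (MulAut A)) (B : Subgroup A) : Prop :=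
  ∀ x ∈ X, ∀ b ∈ B, x b ∈ B

theorem autInv_iff_map_eq (X : Subgroup (MulAut A)) (B : Subgroup A) :
    AutInv X B ↔ ∀ x ∈ X, B.map x.toMonoidHom = B := by
  constructor
  · intro h x hx
    apply le_antisymm
    · rintro _ ⟨b, hb, rfl⟩
      exact h x hx b hb
    · intro b hb
      exact ⟨x⁻¹ b, h x⁻¹ (X.inv_mem hx) b hb, MulAut.apply_inv_self _ x b⟩
  · intro h x hx b hb
    rw [← h x hx]
    exact ⟨b, hb, rfl⟩

theorem AutInv.inf {X : Subgroup (MulAut A)} {B C : Subgroup A} (hB : AutInv X B)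
    (hC : AutInv X C) : AutInv X (B ⊓ C) :=
  fun x hx b hb => ⟨hB x hx b hb.1, hC x hx b hb.2⟩

theorem AutInv.map_pow {X : Subgroup (MulAut A)} {B : Subgroup A} (hB : AutInv X B) (n : ℕ) :
    AutInv X (B.map (powMonoidHom n)) := by
  rintro x hx _ ⟨b, hb, rfl⟩
  exact ⟨x b, hB x hx b hb, by rw [powMonoidHom_apply, powMonoidHom_apply, _root_.map_pow]⟩

theorem AutInv.comap_pow {X : Subgroup (MulAut A)} {B : Subgroup A} (hB : AutInv X B) (n : ℕ) :
    AutInv X (B.comap (powMonoidHom n)) := by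
  intro x hx b hb
  rw [Subgroup.mem_comap, powMonoidHom_apply] at hb ⊢
  rw [← _root_.map_pow]
  exact hB x hx _ hb

theorem autInv_ker_pow (X : Subgroup (MulAut A)) (n : ℕ) :
    AutInv X (powMonoidHom n : A →* A).ker := by
  intro x hx b hb
  rw [MonoidHom.mem_ker, powMonoidHom_apply] at hb ⊢
  rw [← _root_.map_pow, hb, map_one]

theorem autInv_bot (X : Subgroup (MulAut A)) : AutInv X (⊥ : Subgroup A) := by
  intro x _ b hb
  rw [Subgroup.mem_bot] at hb ⊢
  rw [hb, map_one]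

theorem autInv_top (X : Subgroup (MulAut A)) : AutInv X (⊤ : Subgroup A) :=
  fun _ _ _ _ => Subgroup.mem_top _

/-- **Maschke's theorem for abelian groups** (Gorenstein 5.2.1): under a coprime action, an
invariant subgroup that is complemented admits an invariant complement. -/
theorem exists_invariant_compl [Finite A] (X : Subgroup (MulAut A)) (V U W : Subgroup A)
    (hcop : (Nat.card X).Coprime (Nat.card V)) (hV : AutInv X V) (hU : AutInv X U) (hUV : U ≤ V)
    (hUW : U ⊓ W = ⊥) (hsup : U ⊔ W = V) :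
    ∃ W' : Subgroup A, W' ≤ V ∧ AutInv X W' ∧ U ⊓ W' = ⊥ ∧ U ⊔ W' = V := by
  classical
  haveI : Fintype X := Fintype.ofFinite X
  by_cases hV1 : Nat.card V = 1
  · have hVbot : V = ⊥ := Subgroup.card_eq_one.mp hV1
    refine ⟨⊥, bot_le, autInv_bot X, inf_bot_eq _, ?_⟩
    rw [sup_bot_eq]
    exact le_antisymm hUV (by rw [hVbot]; exact bot_le)
  have hV1' : 1 < Nat.card V := by
    have := Nat.card_pos (α := V)
    omega
  obtain ⟨m, -, hm⟩ := Nat.exists_mul_mod_eq_one_of_coprime hcop hV1'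
  have hpow : ∀ v ∈ V, v ^ (Nat.card X * m) = v := by
    intro v hv
    have h1 : v ^ Nat.card V = 1 := by
      have h2 := pow_card_eq_one' (G := V) (x := ⟨v, hv⟩)
      exact congrArg Subtype.val h2
    conv_lhs => rw [← Nat.div_add_mod (Nat.card X * m) (Nat.card V), hm]
    rw [pow_add, pow_mul, h1, one_pow, one_mul, pow_one]
  -- the projection onto `U` along `W`
  have hex : ∀ v : A, ∃ u : A, v ∈ V → (u ∈ U ∧ v * u⁻¹ ∈ W) := by
    intro v
    by_cases hv : v ∈ V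
    · rw [← hsup, Subgroup.mem_sup] at hv
      obtain ⟨u, hu, w, hw, rfl⟩ := hv
      refine ⟨u, fun _ => ⟨hu, ?_⟩⟩
      rw [mul_comm u w, mul_inv_cancel_right]
      exact hw
    · exact ⟨1, fun h => absurd h hv⟩
  choose β₀ hβ₀ using hex
  have huniq : ∀ u ∈ U, ∀ u' ∈ U, ∀ v, v * u⁻¹ ∈ W → v * u'⁻¹ ∈ W → u = u' := by
    intro u hu u' hu' v h1 h2
    have h3 : u' * u⁻¹ ∈ U ⊓ W := by
      refine ⟨U.mul_mem hu' (U.inv_mem hu), ?_⟩
      have h4 : u' * u⁻¹ = (v * u⁻¹) * (v * u'⁻¹)⁻¹ := by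
        rw [mul_inv, inv_inv, mul_mul_mul_comm, mul_inv_cancel, one_mul, mul_comm]
      rw [h4]
      exact W.mul_mem h1 (W.inv_mem h2)
    rw [hUW, Subgroup.mem_bot] at h3
    exact (mul_inv_eq_one.mp h3).symm
  have hβmul : ∀ v ∈ V, ∀ v' ∈ V, β₀ (v * v') = β₀ v * β₀ v' := by
    intro v hv v' hv'
    obtain ⟨h1, h2⟩ := hβ₀ v hv
    obtain ⟨h1', h2'⟩ := hβ₀ v' hv'
    obtain ⟨h1'', h2''⟩ := hβ₀ (v * v') (V.mul_mem hv hv')
    refine huniq _ h1'' _ (U.mul_mem h1 h1') (v * v') h2'' ?_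
    rw [mul_inv, mul_mul_mul_comm]
    exact W.mul_mem h2 h2'
  have hβU : ∀ u ∈ U, β₀ u = u := by
    intro u hu
    obtain ⟨h1, h2⟩ := hβ₀ u (hUV hu)
    exact huniq _ h1 _ hu u h2 (by rw [mul_inv_cancel]; exact W.one_mem)
  -- the averaged projection
  let P : A → A := fun v => (∏ x : X, (x : MulAut A) (β₀ ((x : MulAut A)⁻¹ v))) ^ m
  have hxinv : ∀ (x : X) (v : A), v ∈ V → (x : MulAut A)⁻¹ v ∈ V :=
    fun x v hv => hV _ (X.inv_mem x.2) v hv
  have hPU : ∀ v ∈ V, P v ∈ U := by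
    intro v hv
    refine U.pow_mem (Subgroup.prod_mem U (fun x _ => ?_)) m
    exact hU _ x.2 _ (hβ₀ _ (hxinv x v hv)).1
  have hPmul : ∀ v ∈ V, ∀ v' ∈ V, P (v * v') = P v * P v' := by
    intro v hv v' hv'
    show (∏ x : X, (x : MulAut A) (β₀ ((x : MulAut A)⁻¹ (v * v')))) ^ m =
      (∏ x : X, (x : MulAut A) (β₀ ((x : MulAut A)⁻¹ v))) ^ m *
        (∏ x : X, (x : MulAut A) (β₀ ((x : MulAut A)⁻¹ v'))) ^ m
    rw [← mul_pow, ← Finset.prod_mul_distrib]
    congr 1
    refine Finset.prod_congr rfl (fun x _ => ?_)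
    rw [map_mul, hβmul _ (hxinv x v hv) _ (hxinv x v' hv'), map_mul]
  have hPid : ∀ u ∈ U, P u = u := by
    intro u hu
    show (∏ x : X, (x : MulAut A) (β₀ ((x : MulAut A)⁻¹ u))) ^ m = u
    have h1 : ∀ x : X, (x : MulAut A) (β₀ ((x : MulAut A)⁻¹ u)) = u := by
      intro x
      rw [hβU _ (hU _ (X.inv_mem x.2) u hu), MulAut.apply_inv_self]
    rw [Finset.prod_congr rfl (fun x _ => h1 x), Finset.prod_const, Finset.card_univ, ← pow_mul,
      ← Nat.card_eq_fintype_card]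
    exact hpow u (hUV hu)
  have hPeq : ∀ (y : X) (v : A), P ((y : MulAut A) v) = (y : MulAut A) (P v) := by
    intro y v
    show (∏ x : X, (x : MulAut A) (β₀ ((x : MulAut A)⁻¹ ((y : MulAut A) v)))) ^ m =
      (y : MulAut A) ((∏ x : X, (x : MulAut A) (β₀ ((x : MulAut A)⁻¹ v))) ^ m)
    rw [map_pow, map_prod]
    congr 1
    refine Fintype.prod_equiv (Equiv.mulLeft y⁻¹) _ _ (fun x => ?_)
    simp only [Equiv.coe_mulLeft, Subgroup.coe_mul, Subgroup.coe_inv, MulAut.mul_apply,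
      mul_inv_rev, inv_inv, MulAut.apply_inv_self]
  have hP1 : P 1 = 1 := by
    have h1 := hPmul 1 V.one_mem 1 V.one_mem
    rw [mul_one] at h1
    exact left_eq_mul.mp h1
  have hPinv : ∀ v ∈ V, P v⁻¹ = (P v)⁻¹ := by
    intro v hv
    have h1 := hPmul v⁻¹ (V.inv_mem hv) v hv
    rw [inv_mul_cancel, hP1] at h1
    exact eq_inv_of_mul_eq_one_left h1.symm
  refine ⟨{ carrier := {v | v ∈ V ∧ P v = 1}
            mul_mem' := ?_
            one_mem' := ⟨V.one_mem, hP1⟩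
            inv_mem' := ?_ }, ?_, ?_, ?_, ?_⟩
  · rintro a b ⟨ha, ha'⟩ ⟨hb, hb'⟩
    exact ⟨V.mul_mem ha hb, by rw [hPmul a ha b hb, ha', hb', mul_one]⟩
  · rintro a ⟨ha, ha'⟩
    exact ⟨V.inv_mem ha, by rw [hPinv a ha, ha', inv_one]⟩
  · intro v hv
    exact hv.1
  · intro y hy v hv
    refine ⟨hV y hy v hv.1, ?_⟩
    have h1 := hPeq ⟨y, hy⟩ v
    rw [hv.2, map_one] at h1
    exact h1
  · rw [eq_bot_iff]
    rintro u ⟨hu, -, hu'⟩
    rw [Subgroup.mem_bot, ← hPid u hu]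
    exact hu'
  · apply le_antisymm
    · exact sup_le hUV (fun v hv => hv.1)
    · intro v hv
      have h1 : v = P v * ((P v)⁻¹ * v) := by rw [mul_inv_cancel_left]
      rw [h1]
      refine Subgroup.mul_mem_sup (hPU v hv) ⟨V.mul_mem (V.inv_mem (hUV (hPU v hv))) hv, ?_⟩
      rw [hPmul _ (V.inv_mem (hUV (hPU v hv))) _ hv, hPinv _ (hUV (hPU v hv)),
        hPid _ (hPU v hv), inv_mul_cancel]

/-- A subgroup `C ≤ F` of a finite abelian group meeting `F^p` trivially has a complement. -/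
theorem exists_compl_of_inf_pow_eq_bot [Finite A] (p : ℕ) [hp : Fact p.Prime] (F C : Subgroup A)
    (hCF : C ≤ F) (hC : C ⊓ F.map (powMonoidHom p) = ⊥) :
    ∃ W : Subgroup A, W ≤ F ∧ C ⊓ W = ⊥ ∧ C ⊔ W = F := by
  have hFp : F.map (powMonoidHom p) ≤ F := by
    rintro _ ⟨f, hf, rfl⟩
    exact F.pow_mem hf p
  obtain ⟨W, ⟨hKW, hWF, hCW⟩, hmax⟩ :=
    (Set.toFinite {W : Subgroup A | F.map (powMonoidHom p) ≤ W ∧ W ≤ F ∧ C ⊓ W = ⊥}).exists_maximal
      ⟨F.map (powMonoidHom p), le_rfl, hFp, hC⟩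
  refine ⟨W, hWF, hCW, le_antisymm (sup_le hCF hWF) ?_⟩
  intro f hf
  by_contra hfn
  have hmem : W ⊔ Subgroup.zpowers f ∈
      {W : Subgroup A | F.map (powMonoidHom p) ≤ W ∧ W ≤ F ∧ C ⊓ W = ⊥} := by
    refine ⟨hKW.trans le_sup_left, sup_le hWF (by rw [Subgroup.zpowers_le]; exact hf), ?_⟩
    rw [eq_bot_iff]
    rintro c ⟨hcC', hcW'⟩
    have hcC : c ∈ C := hcC'
    have hcW : c ∈ W ⊔ Subgroup.zpowers f := hcW'
    rw [Subgroup.mem_bot]
    rw [Subgroup.mem_sup] at hcW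
    obtain ⟨w, hw, z, hz, hwz⟩ := hcW
    obtain ⟨i, rfl⟩ := Subgroup.mem_zpowers_iff.mp hz
    by_cases hpi : (p : ℤ) ∣ i
    · obtain ⟨k, rfl⟩ := hpi
      have h1 : f ^ ((p : ℤ) * k) ∈ W := by
        apply hKW
        refine ⟨f ^ k, F.zpow_mem hf k, ?_⟩
        rw [powMonoidHom_apply, ← zpow_natCast, ← zpow_mul, mul_comm]
      have h2 : c ∈ C ⊓ W := ⟨hcC, by rw [← hwz]; exact W.mul_mem hw h1⟩
      rw [hCW, Subgroup.mem_bot] at h2
      exact h2
    · exfalso
      have hcop : IsCoprime (p : ℤ) i :=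
        ((Nat.prime_iff_prime_int.mp hp.out).coprime_iff_not_dvd).mpr hpi
      obtain ⟨a, b, hab⟩ := hcop
      have h1 : f ^ i ∈ C ⊔ W := by
        have h2 : f ^ i = c * w⁻¹ := by rw [← hwz, mul_comm w, mul_inv_cancel_right]
        rw [h2]
        exact Subgroup.mul_mem_sup hcC (W.inv_mem hw)
      have h3 : (f ^ a) ^ p ∈ C ⊔ W := by
        apply le_sup_right (a := C)
        apply hKW
        exact ⟨f ^ a, F.zpow_mem hf a, rfl⟩
      apply hfn
      have h4 : f = (f ^ a) ^ p * (f ^ i) ^ b := by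
        rw [← zpow_natCast, ← zpow_mul, ← zpow_mul, ← zpow_add]
        have h5 : a * (p : ℤ) + i * b = 1 := by rw [← hab]; ring
        rw [h5, zpow_one]
      rw [h4]
      exact (C ⊔ W).mul_mem h3 ((C ⊔ W).zpow_mem h1 b)
  have h1 : W ⊔ Subgroup.zpowers f ≤ W := hmax hmem le_sup_left
  exact hfn (le_sup_right (a := C) (h1 (le_sup_right (a := W) (Subgroup.mem_zpowers f))))

/-- Invariant version: an invariant subgroup `C ≤ F` with `C ∩ F^p = 1` has an invariant
complement in the invariant subgroup `F`, for a `p'`-group `X` of automorphisms of an abelian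
`p`-group. -/
theorem exists_invariant_compl_of_inf_pow [Finite A] {p : ℕ} [Fact p.Prime] (hA : IsPGroup p A)
    (X : Subgroup (MulAut A)) (hX : (Nat.card X).Coprime p) (F C : Subgroup A) (hF : AutInv X F)
    (hC : AutInv X C) (hCF : C ≤ F) (hCp : C ⊓ F.map (powMonoidHom p) = ⊥) :
    ∃ D : Subgroup A, D ≤ F ∧ AutInv X D ∧ C ⊓ D = ⊥ ∧ C ⊔ D = F := by
  obtain ⟨W, _, hCW, hsup⟩ := exists_compl_of_inf_pow_eq_bot p F C hCF hCp
  obtain ⟨k, hk⟩ := IsPGroup.iff_card.mp (hA.to_subgroup F)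
  exact exists_invariant_compl X F C W (by rw [hk]; exact Nat.Coprime.pow_right k hX) hF hC hCF
    hCW hsup

/-- If `Ω₁(F)` has a proper nontrivial invariant subgroup, then `F` is the direct product of two
nontrivial invariant subgroups (Gorenstein 5.2.2, the key step). -/
theorem decomposable_of_reducible [Finite A] {p : ℕ} [Fact p.Prime] (hA : IsPGroup p A)
    (X : Subgroup (MulAut A)) (hX : (Nat.card X).Coprime p) :
    ∀ (n : ℕ) (F : Subgroup A), Nat.card F = n → AutInv X F →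
      (∃ B : Subgroup A, AutInv X B ∧ B ≤ F ⊓ (powMonoidHom p : A →* A).ker ∧ B ≠ ⊥ ∧
        B ≠ F ⊓ (powMonoidHom p : A →* A).ker) →
      ∃ F₁ F₂ : Subgroup A, AutInv X F₁ ∧ AutInv X F₂ ∧ F₁ ≠ ⊥ ∧ F₂ ≠ ⊥ ∧ F₁ ⊓ F₂ = ⊥ ∧
        F₁ ⊔ F₂ = F := by
  intro n
  induction n using Nat.strong_induction_on with
  | _ n ih =>
  intro F hn hFinv hB
  obtain ⟨B, hBinv, hBle, hB0, hBne⟩ := hB
  have hOm : AutInv X (powMonoidHom p : A →* A).ker := autInv_ker_pow X p
  have hmemOm : ∀ a : A, a ∈ (powMonoidHom p : A →* A).ker ↔ a ^ p = 1 := fun a => by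
    rw [MonoidHom.mem_ker, powMonoidHom_apply]
  have hFp_le : F.map (powMonoidHom p) ≤ F := by
    rintro _ ⟨f, hf, rfl⟩
    exact F.pow_mem hf p
  have hFpinv : AutInv X (F.map (powMonoidHom p)) := hFinv.map_pow p
  have hFoinv : AutInv X (F ⊓ (powMonoidHom p : A →* A).ker) := hFinv.inf hOm
  -- a subgroup inside `Ω₁` has trivial `p`-th powers
  have hpow_bot : ∀ H : Subgroup A, H ≤ (powMonoidHom p : A →* A).ker →
      H.map (powMonoidHom p) = ⊥ := by
    intro H hH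
    rw [eq_bot_iff]
    rintro _ ⟨h, hh, rfl⟩
    rw [Subgroup.mem_bot]
    exact (hmemOm h).mp (hH hh)
  by_cases hFp : F.map (powMonoidHom p) = ⊥
  · -- `F` is elementary abelian
    have hFOm : F ≤ (powMonoidHom p : A →* A).ker := by
      intro f hf
      rw [hmemOm]
      have h1 : f ^ p ∈ F.map (powMonoidHom p) := ⟨f, hf, rfl⟩
      rw [hFp, Subgroup.mem_bot] at h1
      exact h1
    have hFo : F ⊓ (powMonoidHom p : A →* A).ker = F := inf_eq_left.mpr hFOm
    rw [hFo] at hBle hBne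
    obtain ⟨D, _, hDinv, hBD, hsup⟩ := exists_invariant_compl_of_inf_pow hA X hX F B hFinv hBinv
      hBle (by rw [hFp]; exact inf_bot_eq _)
    refine ⟨B, D, hBinv, hDinv, hB0, ?_, hBD, hsup⟩
    intro hD
    rw [hD, sup_bot_eq] at hsup
    exact hBne hsup
  by_cases hcase : F ⊓ (powMonoidHom p : A →* A).ker ≤ F.map (powMonoidHom p)
  · -- every element of order `p` of `F` is a `p`-th power in `F`
    have hFo : F.map (powMonoidHom p) ⊓ (powMonoidHom p : A →* A).ker =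
        F ⊓ (powMonoidHom p : A →* A).ker :=
      le_antisymm (inf_le_inf_right _ hFp_le) (le_inf hcase inf_le_right)
    have hcard : Nat.card (F.map (powMonoidHom p)) < n := by
      rw [← hn]
      by_contra hnot
      push Not at hnot
      have heq : F.map (powMonoidHom p) = F := Subgroup.eq_of_le_of_card_ge hFp_le hnot
      -- then `f ↦ f ^ p` is surjective on `F`, hence injective
      have hsurj : Function.Surjective (fun f : F => (⟨(f : A) ^ p, F.pow_mem f.2 p⟩ : F)) := by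
        rintro ⟨g, hg⟩
        rw [← heq] at hg
        obtain ⟨f, hf, hfg⟩ := hg
        exact ⟨⟨f, hf⟩, Subtype.ext hfg⟩
      have hinj := Finite.injective_iff_surjective.mpr hsurj
      apply hB0
      rw [eq_bot_iff]
      intro b hb
      have hbF : b ∈ F := (hBle hb).1
      have hbp : b ^ p = 1 := (hmemOm b).mp (hBle hb).2
      have h1 : (⟨b, hbF⟩ : F) = ⟨1, F.one_mem⟩ :=
        hinj (Subtype.ext (by show b ^ p = 1 ^ p; rw [hbp, one_pow]))
      exact congrArg Subtype.val h1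
    obtain ⟨E₁, E₂, hE₁inv, hE₂inv, hE₁0, hE₂0, hE12, hEsup⟩ :=
      ih _ hcard (F.map (powMonoidHom p)) rfl hFpinv
        ⟨B, hBinv, by rw [hFo]; exact hBle, hB0, by rw [hFo]; exact hBne⟩
    have hE₁F : E₁ ≤ F.map (powMonoidHom p) := hEsup ▸ le_sup_left
    have hE₂F : E₂ ≤ F.map (powMonoidHom p) := hEsup ▸ le_sup_right
    -- the two preimages
    have hF₁inv : AutInv X (F ⊓ E₁.comap (powMonoidHom p)) := hFinv.inf (hE₁inv.comap_pow p)
    have hF₂inv : AutInv X (F ⊓ E₂.comap (powMonoidHom p)) := hFinv.inf (hE₂inv.comap_pow p)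
    have hC₁inv : AutInv X (E₁ ⊓ (powMonoidHom p : A →* A).ker) := hE₁inv.inf hOm
    have hC₂inv : AutInv X (E₂ ⊓ (powMonoidHom p : A →* A).ker) := hE₂inv.inf hOm
    have hC₂F₁ : E₂ ⊓ (powMonoidHom p : A →* A).ker ≤ F ⊓ E₁.comap (powMonoidHom p) := by
      rintro c ⟨hc1, hc2⟩
      refine ⟨hFp_le (hE₂F hc1), ?_⟩
      show c ∈ E₁.comap (powMonoidHom p)
      rw [Subgroup.mem_comap, powMonoidHom_apply, (hmemOm c).mp hc2]
      exact E₁.one_mem
    have hC₁F₂ : E₁ ⊓ (powMonoidHom p : A →* A).ker ≤ F ⊓ E₂.comap (powMonoidHom p) := by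
      rintro c ⟨hc1, hc2⟩
      refine ⟨hFp_le (hE₁F hc1), ?_⟩
      show c ∈ E₂.comap (powMonoidHom p)
      rw [Subgroup.mem_comap, powMonoidHom_apply, (hmemOm c).mp hc2]
      exact E₂.one_mem
    have hF₁p : (F ⊓ E₁.comap (powMonoidHom p)).map (powMonoidHom p) ≤ E₁ := by
      rintro _ ⟨f, hf, rfl⟩
      exact hf.2
    have hF₂p : (F ⊓ E₂.comap (powMonoidHom p)).map (powMonoidHom p) ≤ E₂ := by
      rintro _ ⟨f, hf, rfl⟩
      exact hf.2
    obtain ⟨A₁, hA₁F, hA₁inv, hCA₁, hsup₁⟩ := exists_invariant_compl_of_inf_pow hA X hX _ _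
      hF₁inv hC₂inv hC₂F₁ (by
        rw [eq_bot_iff, ← hE12]
        exact le_inf ((inf_le_right).trans hF₁p) ((inf_le_left).trans inf_le_left))
    obtain ⟨A₂, hA₂F, hA₂inv, hCA₂, hsup₂⟩ := exists_invariant_compl_of_inf_pow hA X hX _ _
      hF₂inv hC₁inv hC₁F₂ (by
        rw [eq_bot_iff, ← hE12]
        exact le_inf ((inf_le_left).trans inf_le_left) ((inf_le_right).trans hF₂p))
    -- `E₁ ≤ A₁` and `E₂ ≤ A₂`
    have hE₁A₁ : E₁ ≤ A₁ := by
      intro e he
      obtain ⟨g, hg, hge⟩ := hE₁F he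
      rw [powMonoidHom_apply] at hge
      have hgF₁ : g ∈ F ⊓ E₁.comap (powMonoidHom p) :=
        Subgroup.mem_inf.mpr ⟨hg, by rw [Subgroup.mem_comap, powMonoidHom_apply, hge]; exact he⟩
      rw [← hsup₁, Subgroup.mem_sup] at hgF₁
      obtain ⟨c, hc, a, ha, hca⟩ := hgF₁
      rw [← hge, ← hca, mul_pow, (hmemOm c).mp hc.2, one_mul]
      exact A₁.pow_mem ha p
    have hE₂A₂ : E₂ ≤ A₂ := by
      intro e he
      obtain ⟨g, hg, hge⟩ := hE₂F he
      rw [powMonoidHom_apply] at hge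
      have hgF₂ : g ∈ F ⊓ E₂.comap (powMonoidHom p) :=
        Subgroup.mem_inf.mpr ⟨hg, by rw [Subgroup.mem_comap, powMonoidHom_apply, hge]; exact he⟩
      rw [← hsup₂, Subgroup.mem_sup] at hgF₂
      obtain ⟨c, hc, a, ha, hca⟩ := hgF₂
      rw [← hge, ← hca, mul_pow, (hmemOm c).mp hc.2, one_mul]
      exact A₂.pow_mem ha p
    refine ⟨A₁, A₂, hA₁inv, hA₂inv, ?_, ?_, ?_, ?_⟩
    · intro h
      apply hE₁0
      rw [eq_bot_iff, ← h]
      exact hE₁A₁
    · intro h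
      apply hE₂0
      rw [eq_bot_iff, ← h]
      exact hE₂A₂
    · -- `A₁ ⊓ A₂ = ⊥`
      rw [eq_bot_iff]
      rintro g ⟨hg1, hg2⟩
      rw [Subgroup.mem_bot]
      have hg1' : g ∈ A₁ := hg1
      have hg2' : g ∈ A₂ := hg2
      have hgp : g ^ p = 1 := by
        have h1 : g ^ p ∈ E₁ ⊓ E₂ := ⟨(hA₁F hg1').2, (hA₂F hg2').2⟩
        rw [hE12, Subgroup.mem_bot] at h1
        exact h1
      have hgFp : g ∈ F.map (powMonoidHom p) := hcase ⟨(hA₁F hg1').1, (hmemOm g).mpr hgp⟩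
      rw [← hEsup, Subgroup.mem_sup] at hgFp
      obtain ⟨e₁, he₁, e₂, he₂, he12⟩ := hgFp
      have he₁p : e₁ ^ p = 1 := by
        have h1 : e₁ ^ p ∈ E₁ ⊓ E₂ := by
          refine ⟨E₁.pow_mem he₁ p, ?_⟩
          have h2 : e₁ ^ p = (e₂ ^ p)⁻¹ := by
            rw [eq_inv_iff_mul_eq_one, ← mul_pow, he12, hgp]
          rw [h2]
          exact E₂.inv_mem (E₂.pow_mem he₂ p)
        rw [hE12, Subgroup.mem_bot] at h1
        exact h1
      have he₂p : e₂ ^ p = 1 := by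
        have h1 := hgp
        rw [← he12, mul_pow, he₁p, one_mul] at h1
        exact h1
      have he₂1 : e₂ = 1 := by
        have h1 : e₂ ∈ (E₂ ⊓ (powMonoidHom p : A →* A).ker) ⊓ A₁ := by
          refine ⟨⟨he₂, (hmemOm e₂).mpr he₂p⟩, ?_⟩
          have h2 : e₂ = e₁⁻¹ * g := by rw [← he12, inv_mul_cancel_left]
          rw [h2]
          exact A₁.mul_mem (A₁.inv_mem (hE₁A₁ he₁)) hg1'
        rw [hCA₁, Subgroup.mem_bot] at h1
        exact h1
      have he₁1 : e₁ = 1 := by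
        have h1 : e₁ ∈ (E₁ ⊓ (powMonoidHom p : A →* A).ker) ⊓ A₂ := by
          refine ⟨⟨he₁, (hmemOm e₁).mpr he₁p⟩, ?_⟩
          have h2 : e₁ = g * e₂⁻¹ := by rw [← he12, mul_inv_cancel_right]
          rw [h2]
          exact A₂.mul_mem hg2' (A₂.inv_mem (hE₂A₂ he₂))
        rw [hCA₂, Subgroup.mem_bot] at h1
        exact h1
      rw [← he12, he₁1, he₂1, mul_one]
    · -- `A₁ ⊔ A₂ = F`
      apply le_antisymm
      · exact sup_le (hA₁F.trans inf_le_left) (hA₂F.trans inf_le_left)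
      · intro f hf
        have hfp : f ^ p ∈ F.map (powMonoidHom p) := ⟨f, hf, rfl⟩
        rw [← hEsup, Subgroup.mem_sup] at hfp
        obtain ⟨e₁, he₁, e₂, he₂, he12⟩ := hfp
        obtain ⟨g₁, hg₁, hg₁e⟩ := hE₁F he₁
        rw [powMonoidHom_apply] at hg₁e
        have hg₁F₁ : g₁ ∈ F ⊓ E₁.comap (powMonoidHom p) :=
          Subgroup.mem_inf.mpr
            ⟨hg₁, by rw [Subgroup.mem_comap, powMonoidHom_apply, hg₁e]; exact he₁⟩
        have hhF₂ : f * g₁⁻¹ ∈ F ⊓ E₂.comap (powMonoidHom p) := by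
          refine Subgroup.mem_inf.mpr ⟨F.mul_mem hf (F.inv_mem hg₁), ?_⟩
          rw [Subgroup.mem_comap, powMonoidHom_apply, mul_pow, inv_pow, hg₁e, ← he12,
            mul_comm e₁, mul_inv_cancel_right]
          exact he₂
        have hle₁ : F ⊓ E₁.comap (powMonoidHom p) ≤ A₁ ⊔ A₂ := by
          rw [← hsup₁]
          exact sup_le ((inf_le_left.trans hE₂A₂).trans le_sup_right) le_sup_left
        have hle₂ : F ⊓ E₂.comap (powMonoidHom p) ≤ A₁ ⊔ A₂ := by
          rw [← hsup₂]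
          exact sup_le ((inf_le_left.trans hE₁A₁).trans le_sup_left) le_sup_right
        have h1 : f = g₁ * (f * g₁⁻¹) := by rw [mul_comm f, mul_inv_cancel_left]
        rw [h1]
        exact (A₁ ⊔ A₂).mul_mem (hle₁ hg₁F₁) (hle₂ hhF₂)
  · -- some element of order `p` of `F` is not a `p`-th power
    obtain ⟨C', hC'F, hC'inv, hVC, hsupC⟩ := exists_invariant_compl_of_inf_pow hA X hX
      (F ⊓ (powMonoidHom p : A →* A).ker)
      ((F ⊓ (powMonoidHom p : A →* A).ker) ⊓ F.map (powMonoidHom p)) hFoinv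
      (hFoinv.inf hFpinv) inf_le_left (by
        rw [hpow_bot _ inf_le_right]
        exact inf_bot_eq _)
    have hC'0 : C' ≠ ⊥ := by
      intro h
      rw [h, sup_bot_eq] at hsupC
      apply hcase
      rw [← hsupC]
      exact inf_le_right
    obtain ⟨D, _, hDinv, hCD, hsupD⟩ := exists_invariant_compl_of_inf_pow hA X hX F C' hFinv
      hC'inv (hC'F.trans inf_le_left) (by
        rw [eq_bot_iff, ← hVC]
        exact le_inf (le_inf (inf_le_left.trans hC'F) inf_le_right) inf_le_left)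
    refine ⟨C', D, hC'inv, hDinv, hC'0, ?_, hCD, hsupD⟩
    intro hD
    rw [hD, sup_bot_eq] at hsupD
    apply hFp
    rw [← hsupD]
    exact hpow_bot C' (hC'F.trans inf_le_right)

end Cfsg.Agent.Lib.helper66
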