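import Mathlib

set_option autoImplicit false

namespace Cfsg.Agent.Lib.helper66

universe u

/-- The core statement in the proof of Ward's theorem (interface between the representation
part and the group-theoretic reduction).  `V` is an elementary abelian `l`-group, `A`, `S`, `R`
are groups of automorphisms of `V`: `A` elementary abelian of order `p ^ 2` acting without
fixed points on `V`, `S` and `R`; `S` a `t`-group normalized by `A` and `R`; `R` a `q`-group
normalized by `A`; for every `b ∈ A`, `b ≠ 1`, the centralizers of `b` in `S` and `R` commute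
elementwise, and the centralizer of `b` in `S` is trivial on the fixed points of `b` in `V`.
Then `S` and `R` commute elementwise. -/
def WardCoreStmt : Prop :=
  ∀ (V : Type u) [Group V] [Finite V] (l p t q : ℕ),
    l.Prime → p.Prime → t.Prime → q.Prime →
    l ≠ p → t ≠ p → q ≠ p → q ≠ t → t ≠ l →
    (∀ x y : V, x * y = y * x) → (∀ v : V, v ^ l = 1) →
    ∀ (A S R : Subgroup (MulAut V)),
      (∀ a ∈ A, ∀ b ∈ A, a * b = b * a) → (∀ a ∈ A, a ^ p = 1) → Nat.card A = p ^ 2 →
      (∀ v : V, (∀ a ∈ A, a v = v) → v = 1) →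
      IsPGroup t S → IsPGroup q R →
      A ≤ Subgroup.normalizer (S : Set (MulAut V)) →
      A ≤ Subgroup.normalizer (R : Set (MulAut V)) →
      R ≤ Subgroup.normalizer (S : Set (MulAut V)) →
      (∀ u ∈ S, (∀ a ∈ A, a * u = u * a) → u = 1) →
      (∀ r ∈ R, (∀ a ∈ A, a * r = r * a) → r = 1) →
      (∀ b ∈ A, b ≠ 1 → ∀ u ∈ S, ∀ r ∈ R, u * b = b * u → r * b = b * r → u * r = r * u) →
      (∀ b ∈ A, b ≠ 1 → ∀ u ∈ S, u * b = b * u → ∀ v : V, b v = v → u v = v) →
      ∀ u ∈ S, ∀ r ∈ R, u * r = r * u

end Cfsg.Agent.Lib.helper66
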