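import Mathlib

/-!
# S0996 split project: Sylow subgroups of prime order that are self-centralizing (helper66)

Elementary facts used by the pieces SING, G3, G4.
-/

set_option autoImplicit false

namespace Cfsg.Agent.Lib.helper66.Br

open Subgroup

variable {G : Type*} [Group G] {p : ℕ} [Fact p.Prime]

theorem h66_mem_smul (P : Sylow p G) (g x : G) :
    x ∈ ((g • P : Sylow p G) : Subgroup G) ↔ g⁻¹ * x * g ∈ (P : Subgroup G) := by
  rw [Sylow.coe_subgroup_smul, Subgroup.mem_pointwise_smul_iff_inv_smul_mem]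
  simp [MulAut.smul_def]

theorem h66_smul_eq_iff (Q : Sylow p G) (g : G) :
    g • Q = Q ↔ g ∈ normalizer ((Q : Subgroup G) : Set G) :=
  Sylow.smul_eq_iff_mem_normalizer

theorem h66_norm_smul (Q : Sylow p G) (k g : G) :
    g ∈ normalizer (((k • Q : Sylow p G) : Subgroup G) : Set G) ↔
      k⁻¹ * g * k ∈ normalizer ((Q : Subgroup G) : Set G) := by
  rw [← h66_smul_eq_iff, ← h66_smul_eq_iff, mul_smul, mul_smul]
  constructor
  · intro h; rw [h, inv_smul_smul]
  · intro h
    have h' := congrArg (fun R : Sylow p G => k • R) h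
    simpa using h'

theorem h66_card_sylow [Finite G] (P Q : Sylow p G) : Nat.card Q = Nat.card P := by
  rw [Sylow.card_eq_multiplicity, Sylow.card_eq_multiplicity]

theorem h66_order (Q : Sylow p G) (hQ : Nat.card Q = p) {g : G} (hg : g ∈ (Q : Subgroup G))
    (hg1 : g ≠ 1) : orderOf g = p := by
  have h := Subgroup.orderOf_dvd_natCard (Q : Subgroup G) hg
  rw [hQ] at h
  rcases (Nat.dvd_prime (Fact.out : p.Prime)).mp h with h1 | h1
  · exact absurd (orderOf_eq_one_iff.mp h1) hg1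
  · exact h1

theorem h66_zpowers [Finite G] (Q : Sylow p G) (hQ : Nat.card Q = p) {g : G}
    (hg : g ∈ (Q : Subgroup G)) (hg1 : g ≠ 1) : zpowers g = (Q : Subgroup G) := by
  apply Subgroup.eq_of_le_of_card_ge ((zpowers_le).mpr hg)
  rw [Nat.card_zpowers, h66_order Q hQ hg hg1, hQ]

theorem h66_eq_of_mem [Finite G] (Q Q' : Sylow p G) (hQ : Nat.card Q = p) (hQ' : Nat.card Q' = p)
    {g : G} (hg : g ∈ (Q : Subgroup G)) (hg' : g ∈ (Q' : Subgroup G)) (hg1 : g ≠ 1) : Q = Q' :=
  Sylow.ext (by rw [← h66_zpowers Q hQ hg hg1, h66_zpowers Q' hQ' hg' hg1])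

theorem h66_comm [Finite G] (Q : Sylow p G) (hQ : Nat.card Q = p) {a b : G}
    (ha : a ∈ (Q : Subgroup G)) (hb : b ∈ (Q : Subgroup G)) : a * b = b * a := by
  by_cases ha1 : a = 1
  · rw [ha1, one_mul, mul_one]
  · have hb' : b ∈ zpowers a := by rw [h66_zpowers Q hQ ha ha1]; exact hb
    obtain ⟨j, rfl⟩ := mem_zpowers_iff.mp hb'
    exact ((Commute.refl a).zpow_right j).eq

theorem h66_cent [Finite G] (P : Sylow p G)
    (hC : Subgroup.centralizer ((P : Subgroup G) : Set G) = (P : Subgroup G)) (Q : Sylow p G)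
    (g : G) (hcomm : ∀ y ∈ (Q : Subgroup G), g * y = y * g) : g ∈ (Q : Subgroup G) := by
  obtain ⟨k, rfl⟩ := MulAction.exists_smul_eq G P Q
  rw [h66_mem_smul, ← hC, mem_centralizer_iff]
  intro h hh
  have hh' : h ∈ (P : Subgroup G) := hh
  have h0 : k⁻¹ * (k * h * k⁻¹) * k = h := by group
  have h1 := hcomm (k * h * k⁻¹) (by rw [h66_mem_smul, h0]; exact hh')
  calc h * (k⁻¹ * g * k) = k⁻¹ * ((k * h * k⁻¹) * g) * k := by group
    _ = k⁻¹ * (g * (k * h * k⁻¹)) * k := by rw [h1]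
    _ = k⁻¹ * g * k * h := by group

theorem h66_cent_elt [Finite G] (P : Sylow p G) (hP : Nat.card P = p)
    (hC : Subgroup.centralizer ((P : Subgroup G) : Set G) = (P : Subgroup G)) (Q : Sylow p G)
    {x : G} (hx : x ∈ (Q : Subgroup G)) (hx1 : x ≠ 1) {g : G} (hgx : g * x = x * g) :
    g ∈ (Q : Subgroup G) := by
  have hQ : Nat.card Q = p := (h66_card_sylow P Q).trans hP
  apply h66_cent P hC Q g
  intro y hy
  have hy' : y ∈ zpowers x := by rw [h66_zpowers Q hQ hx hx1]; exact hy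
  obtain ⟨j, rfl⟩ := mem_zpowers_iff.mp hy'
  have hc : Commute g x := hgx
  exact (hc.zpow_right j).eq

theorem h66_mem_of_normalizer (Q : Sylow p G) {y : G}
    (hy : y ∈ normalizer ((Q : Subgroup G) : Set G)) (hyp : IsPGroup p (zpowers y)) :
    y ∈ (Q : Subgroup G) := by
  have h1 : IsPGroup p ↥(zpowers y ⊔ (Q : Subgroup G)) :=
    IsPGroup.to_sup_of_normal_right' hyp Q.isPGroup' ((zpowers_le).mpr hy)
  have h2 : zpowers y ⊔ (Q : Subgroup G) = (Q : Subgroup G) := Q.is_maximal' h1 le_sup_right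
  rw [← h2]
  exact (le_sup_left : zpowers y ≤ _) (mem_zpowers y)

theorem h66_mem_of_normalizer_order (Q : Sylow p G) {y : G}
    (hy : y ∈ normalizer ((Q : Subgroup G) : Set G)) (hyo : orderOf y = p) :
    y ∈ (Q : Subgroup G) :=
  h66_mem_of_normalizer Q hy (IsPGroup.of_card (n := 1) (by rw [Nat.card_zpowers, hyo, pow_one]))

/-- A non-identity element of a Sylow subgroup of order `p` normalizes no other Sylow subgroup. -/
theorem h66_free [Finite G] (R : Sylow p G) (hR : Nat.card R = p) (Q : Sylow p G) (hQR : Q ≠ R)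
    {x : G} (hx : x ∈ (R : Subgroup G)) (hxn : x ∈ normalizer ((Q : Subgroup G) : Set G)) :
    x = 1 := by
  by_contra hx1
  have hxo : orderOf x = p := h66_order R hR hx hx1
  have hxQ : x ∈ (Q : Subgroup G) := h66_mem_of_normalizer_order Q hxn hxo
  exact hQR (h66_eq_of_mem Q R ((h66_card_sylow R Q).trans hR) hR hxQ hx hx1)

theorem h66_exists_sylow [Finite G] (P : Sylow p G) (hP : Nat.card P = p)
    (hC : Subgroup.centralizer ((P : Subgroup G) : Set G) = (P : Subgroup G)) {g : G}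
    (hg : p ∣ orderOf g) : ∃ Q : Sylow p G, g ∈ (Q : Subgroup G) := by
  have hxo : orderOf (g ^ (orderOf g / p)) = p :=
    orderOf_pow_orderOf_div (orderOf_pos g).ne' hg
  have hpg : IsPGroup p (zpowers (g ^ (orderOf g / p))) :=
    IsPGroup.of_card (n := 1) (by rw [Nat.card_zpowers, hxo, pow_one])
  obtain ⟨Q, hQ⟩ := hpg.exists_le_sylow
  refine ⟨Q, ?_⟩
  have hx : g ^ (orderOf g / p) ∈ (Q : Subgroup G) := hQ (mem_zpowers _)
  have hx1 : g ^ (orderOf g / p) ≠ 1 := by
    intro h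
    rw [h, orderOf_one] at hxo
    exact (Fact.out : p.Prime).one_lt.ne hxo
  exact h66_cent_elt P hP hC Q hx hx1 ((Commute.refl g).pow_right _).eq

end Cfsg.Agent.Lib.helper66.Br
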