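import Mathlib
import Cfsg.Prelude.Def_Characters
import Cfsg.Prelude.Def_Blocks
import Cfsg.Agent.Lib.helper84.BrDefs
import Cfsg.Agent.Lib.helper66.BrBase

/-!
# S0996 split project, piece SING: `psing_conj`, `psing_sum`, `fix_P`, `brauer_card_singular`
-/

set_option autoImplicit false

namespace Cfsg.Agent.Lib.helper66.Br

open Cfsg Cfsg.Agent.Lib.helper81 Cfsg.Agent.Lib.helper84.Br Subgroup
open scoped ComplexConjugate

universe u

theorem h66_conj_pow {G : Type*} [Group G] (h x : G) (n : ℕ) :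
    (h⁻¹ * x * h) ^ n = h⁻¹ * x ^ n * h := by
  have h0 := conj_pow (a := h⁻¹) (b := x) (i := n)
  rwa [inv_inv] at h0

theorem h66_conj_zpow {G : Type*} [Group G] (h x : G) (n : ℤ) :
    (h⁻¹ * x * h) ^ n = h⁻¹ * x ^ n * h := by
  have h0 := conj_zpow (a := h⁻¹) (b := x) (i := n)
  rwa [inv_inv] at h0

section pieces

variable {G : Type u} [Group G] [Fintype G] {p : ℕ} [Fact p.Prime] {P : Sylow p G} {e n : ℕ}

/-- G1a : `p`-singular elements are conjugate into `P`. -/
theorem psing_conj (hP : Nat.card P = p)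
    (hC : Subgroup.centralizer ((P : Subgroup G) : Set G) = (P : Subgroup G))
    (g : G) (hg : p ∣ orderOf g) : ∃ h : G, h⁻¹ * g * h ∈ (P : Subgroup G) := by
  obtain ⟨Q, hQ⟩ := h66_exists_sylow P hP hC hg
  obtain ⟨k, rfl⟩ := MulAction.exists_smul_eq G P Q
  exact ⟨k, (h66_mem_smul P k g).mp hQ⟩

/-- G1b : the sum of a class function over the `p`-singular elements. -/
theorem psing_sum (hP : Nat.card P = p)
    (hC : Subgroup.centralizer ((P : Subgroup G) : Set G) = (P : Subgroup G))
    (f : G → ℂ) (hf : IsClassFunction G f) :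
    (∑ g : G, if p ∣ orderOf g then f g else 0) =
      (Nat.card (Sylow p G) : ℂ) * psum (P : Subgroup G) f := by
  classical
  have : Fintype (Sylow p G) := Fintype.ofFinite _
  have hcardQ : ∀ Q : Sylow p G, Nat.card Q = p := fun Q => (h66_card_sylow P Q).trans hP
  have h1 : ∀ g : G, (if p ∣ orderOf g then f g else 0) =
      ∑ Q : Sylow p G, (if g ∈ (Q : Subgroup G) ∧ g ≠ 1 then f g else 0) := by
    intro g
    by_cases hg : p ∣ orderOf g
    · obtain ⟨Q₀, hQ₀⟩ := h66_exists_sylow P hP hC hg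
      have hg1 : g ≠ 1 := by
        rintro rfl
        rw [orderOf_one] at hg
        exact (Fact.out : p.Prime).one_lt.ne' (Nat.dvd_one.mp hg)
      rw [if_pos hg, Finset.sum_eq_single Q₀]
      · rw [if_pos ⟨hQ₀, hg1⟩]
      · intro Q _ hQ
        rw [if_neg]
        rintro ⟨hgQ, -⟩
        exact hQ (h66_eq_of_mem Q Q₀ (hcardQ Q) (hcardQ Q₀) hgQ hQ₀ hg1)
      · intro h; exact absurd (Finset.mem_univ _) h
    · rw [if_neg hg]
      symm
      apply Finset.sum_eq_zero
      intro Q _
      rw [if_neg]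
      rintro ⟨hgQ, hg1⟩
      exact hg (by rw [h66_order Q (hcardQ Q) hgQ hg1])
  have h2 : ∀ Q : Sylow p G, (∑ g : G, if g ∈ (Q : Subgroup G) ∧ g ≠ 1 then f g else 0) =
      psum (P : Subgroup G) f := by
    intro Q
    obtain ⟨k, rfl⟩ := MulAction.exists_smul_eq G P Q
    unfold psum
    rw [← Equiv.sum_comp (MulAut.conj k).toEquiv]
    apply Finset.sum_congr rfl
    intro g _
    have e1 : (MulAut.conj k).toEquiv g = k * g * k⁻¹ := rfl
    rw [e1]
    have e0 : k⁻¹ * (k * g * k⁻¹) * k = g := by group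
    have e2 : (k * g * k⁻¹ ∈ ((k • P : Sylow p G) : Subgroup G) ∧ k * g * k⁻¹ ≠ 1) ↔
        (g ∈ (P : Subgroup G) ∧ g ≠ 1) := by
      rw [h66_mem_smul, e0]
      constructor
      · rintro ⟨h, h'⟩
        refine ⟨h, ?_⟩
        rintro rfl
        exact h' (by group)
      · rintro ⟨h, h'⟩
        refine ⟨h, ?_⟩
        intro h''
        apply h'
        rw [← e0, h'']
        group
    by_cases hg : g ∈ (P : Subgroup G) ∧ g ≠ 1
    · rw [if_pos hg, if_pos (e2.mpr hg), hf]
    · rw [if_neg hg, if_neg (fun h => hg (e2.mp h))]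
  rw [Finset.sum_congr rfl (fun g _ => h1 g), Finset.sum_comm,
    Finset.sum_congr rfl (fun Q _ => h2 Q), Finset.sum_const, Finset.card_univ, nsmul_eq_mul,
    Nat.card_eq_fintype_card]

/-- G1d : a non-identity element of `P` lies in no other conjugate of `N_G(P)`. -/
theorem fix_P (hP : Nat.card P = p) (x : G) (hx : x ∈ (P : Subgroup G)) (hx1 : x ≠ 1) (h : G)
    (hh : h⁻¹ * x * h ∈ Subgroup.normalizer ((P : Subgroup G) : Set G)) :
    h ∈ Subgroup.normalizer ((P : Subgroup G) : Set G) := by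
  have hxo : orderOf x = p := h66_order P hP hx hx1
  have hyp : (h⁻¹ * x * h) ^ p = 1 := by
    rw [h66_conj_pow, ← hxo, pow_orderOf_eq_one]; group
  have hy1 : h⁻¹ * x * h ≠ 1 := by
    intro h0
    apply hx1
    have e0 : x = h * (h⁻¹ * x * h) * h⁻¹ := by group
    rw [e0, h0]; group
  have hyo : orderOf (h⁻¹ * x * h) = p := orderOf_eq_prime hyp hy1
  have hyP : h⁻¹ * x * h ∈ (P : Subgroup G) := h66_mem_of_normalizer_order P hh hyo
  have hzy : zpowers (h⁻¹ * x * h) = (P : Subgroup G) := h66_zpowers P hP hyP hy1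
  have hzx : zpowers x = (P : Subgroup G) := h66_zpowers P hP hx hx1
  have e1 : h * (h⁻¹ * x * h) * h⁻¹ = x := by group
  rw [mem_normalizer_iff]
  intro g
  constructor
  · intro hg
    rw [← hzy] at hg
    obtain ⟨j, rfl⟩ := mem_zpowers_iff.mp hg
    rw [← conj_zpow, e1]
    exact zpow_mem hx j
  · intro hg
    rw [← hzx] at hg
    obtain ⟨j, hj⟩ := mem_zpowers_iff.mp hg
    have e2 : g = (h⁻¹ * x * h) ^ j := by
      rw [h66_conj_zpow, hj]; group
    rw [e2]
    exact zpow_mem hyP j

end pieces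

/-- BR-SING (G1c) : the number of `p`-singular elements. -/
theorem brauer_card_singular {G : Type*} [Group G] [Finite G] (p : ℕ) [Fact p.Prime]
    (P : Sylow p G) (hP : Nat.card P = p)
    (hC : Subgroup.centralizer ((P : Subgroup G) : Set G) = (P : Subgroup G)) :
    Nat.card {g : G // p ∣ orderOf g} = (p - 1) * Nat.card (Sylow p G) := by
  classical
  have : Fintype G := Fintype.ofFinite G
  have h := psing_sum (P := P) hP hC (fun _ => (1 : ℂ)) (fun _ _ => rfl)
  have hl : (∑ g : G, if p ∣ orderOf g then (1 : ℂ) else 0) =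
      (Nat.card {g : G // p ∣ orderOf g} : ℂ) := by
    rw [Finset.sum_boole, Nat.card_eq_fintype_card, Fintype.card_subtype]
  have hr : psum (P : Subgroup G) (fun _ => (1 : ℂ)) = ((p - 1 : ℕ) : ℂ) := by
    unfold psum
    rw [Finset.sum_boole]
    congr 1
    have e : (Finset.univ.filter (fun g : G => g ∈ (P : Subgroup G) ∧ g ≠ 1)) =
        (Finset.univ.filter (fun g : G => g ∈ (P : Subgroup G))).erase 1 := by
      ext g; simp [and_comm]
    have e' : (Finset.univ.filter (fun g : G => g ∈ (P : Subgroup G))).card = p := by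
      calc (Finset.univ.filter (fun g : G => g ∈ (P : Subgroup G))).card
          = Fintype.card {g : G // g ∈ (P : Subgroup G)} := (Fintype.card_subtype _).symm
        _ = Nat.card {g : G // g ∈ (P : Subgroup G)} := Nat.card_eq_fintype_card.symm
        _ = p := hP
    rw [e, Finset.card_erase_of_mem (by simp [one_mem]), e']
  rw [hl, hr] at h
  have h' : (Nat.card {g : G // p ∣ orderOf g} : ℂ) =
      (((p - 1) * Nat.card (Sylow p G) : ℕ) : ℂ) := by
    rw [h]; push_cast; ring
  exact_mod_cast h'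

end Cfsg.Agent.Lib.helper66.Br
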