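import Mathlib
import Cfsg.Prelude.Def_Characters
import Cfsg.Prelude.Def_Blocks
import Cfsg.Agent.Lib.helper84.BrDefs
import Cfsg.Agent.Lib.helper66.BrBase

/-!
# S0996 split project, piece G3: `orbits_le`
-/

set_option autoImplicit false

namespace Cfsg.Agent.Lib.helper66.Br

open Cfsg Cfsg.Agent.Lib.helper81 Cfsg.Agent.Lib.helper84.Br Subgroup
open scoped ComplexConjugate

universe u

section pieces

variable {G : Type u} [Group G] [Fintype G] {p : ℕ} [Fact p.Prime] {P : Sylow p G} {e n : ℕ}

/-- The stabilizer of `Q` in `N_G(P)` is `N_G(P) ⊓ N_G(Q)`. -/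
noncomputable def h66StabEquiv (P Q : Sylow p G) :
    ↥(MulAction.stabilizer ↥(Subgroup.normalizer ((P : Subgroup G) : Set G)) Q) ≃
      ↥(Subgroup.normalizer ((P : Subgroup G) : Set G) ⊓
          Subgroup.normalizer ((Q : Subgroup G) : Set G)) where
  toFun h := ⟨(h.1 : G), ⟨h.1.2, (h66_smul_eq_iff Q _).mp (by
    have h2 := MulAction.mem_stabilizer_iff.mp h.2
    rwa [Subgroup.smul_def] at h2)⟩⟩
  invFun k := ⟨⟨k.1, k.2.1⟩, by
    rw [MulAction.mem_stabilizer_iff, Subgroup.smul_def]
    exact (h66_smul_eq_iff Q _).mpr k.2.2⟩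
  left_inv h := rfl
  right_inv k := rfl

/-- G3 : the number of orbits of `N_G(P)` on the Sylow `p`-subgroups is at most `n + 1`, and in
case of equality all two-point stabilisers have order `e`. -/
theorem orbits_le (hctx : Ctx G p P e n) :
    Nat.card (MulAction.orbitRel.Quotient
        (Subgroup.normalizer ((P : Subgroup G) : Set G)) (Sylow p G)) ≤ n + 1 ∧
    (Nat.card (MulAction.orbitRel.Quotient
        (Subgroup.normalizer ((P : Subgroup G) : Set G)) (Sylow p G)) = n + 1 →
      ∀ Q : Sylow p G, Q ≠ P →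
        Nat.card ↥(Subgroup.normalizer ((P : Subgroup G) : Set G) ⊓
          Subgroup.normalizer ((Q : Subgroup G) : Set G)) = e) := by
  classical
  have hp : p.Prime := Fact.out
  have : Fintype (Sylow p G) := Fintype.ofFinite _
  have : Fintype (MulAction.orbitRel.Quotient
      (Subgroup.normalizer ((P : Subgroup G) : Set G)) (Sylow p G)) := Fintype.ofFinite _
  let π : Sylow p G → MulAction.orbitRel.Quotient
      (Subgroup.normalizer ((P : Subgroup G) : Set G)) (Sylow p G) := Quotient.mk''
  have hπ : ∀ Q Q' : Sylow p G, π Q' = π Q ↔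
      Q' ∈ MulAction.orbit ↥(Subgroup.normalizer ((P : Subgroup G) : Set G)) Q := by
    intro Q Q'
    rw [← MulAction.orbitRel_apply]
    exact Quotient.eq''
  have hcardQ : ∀ Q : Sylow p G, Nat.card Q = p := fun Q => (h66_card_sylow P Q).trans hctx.hP
  -- the fibre over the orbit of `P`
  have hfibP : ∀ Q : Sylow p G, π Q = π P → Q = P := by
    intro Q hQ
    obtain ⟨h, rfl⟩ := (hπ P Q).mp hQ
    show h • P = P
    rw [Subgroup.smul_def]
    exact (h66_smul_eq_iff P _).mpr h.2
  -- `P` acts freely on the other Sylow subgroups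
  have hfree : ∀ Q : Sylow p G, Q ≠ P → ∀ x ∈ (P : Subgroup G), x • Q = Q → x = 1 := by
    intro Q hQ x hx hxQ
    exact h66_free P hctx.hP Q hQ hx ((h66_smul_eq_iff Q x).mp hxQ)
  let F : MulAction.orbitRel.Quotient
      (Subgroup.normalizer ((P : Subgroup G) : Set G)) (Sylow p G) → ℕ :=
    fun ω => (Finset.univ.filter (fun Q : Sylow p G => π Q = ω)).card
  have hF : ∀ Q : Sylow p G, Q ≠ P → p ≤ F (π Q) := by
    intro Q hQP
    have : Fintype ↥(P : Subgroup G) := Fintype.ofFinite _
    have hc : (Finset.univ : Finset ↥(P : Subgroup G)).card = p := by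
      rw [Finset.card_univ, ← Nat.card_eq_fintype_card]; exact hctx.hP
    rw [← hc]
    apply Finset.card_le_card_of_injOn (fun x : ↥(P : Subgroup G) => (x : G) • Q)
    · intro x _
      simp only [Finset.coe_filter, Finset.mem_univ, true_and, Set.mem_ofPred_eq]
      rw [hπ]
      exact ⟨⟨(x : G), le_normalizer x.2⟩, rfl⟩
    · intro x _ y _ hxy
      simp only at hxy
      have h1 : ((y : G)⁻¹ * (x : G)) • Q = Q := by
        rw [mul_smul, hxy, inv_smul_smul]
      have h2 := hfree Q hQP _ (mul_mem (inv_mem y.2) x.2) h1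
      exact Subtype.ext (inv_mul_eq_one.mp h2).symm
  have hFP : F (π P) = 1 := by
    have : (Finset.univ.filter (fun Q : Sylow p G => π Q = π P)) = {P} := by
      ext Q
      simp only [Finset.mem_filter, Finset.mem_univ, true_and, Finset.mem_singleton]
      exact ⟨hfibP Q, fun h => by rw [h]⟩
    show (Finset.univ.filter (fun Q : Sylow p G => π Q = π P)).card = 1
    rw [this, Finset.card_singleton]
  have hsum : Fintype.card (Sylow p G) = ∑ ω, F ω := by
    rw [← Finset.card_univ]
    exact Finset.card_eq_sum_card_fiberwise (fun _ _ => Finset.mem_coe.mpr (Finset.mem_univ _))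
  have hΩ : Fintype.card (Sylow p G) = 1 + n * p := by
    rw [← Nat.card_eq_fintype_card]; exact hctx.hn
  have hsplit : F (π P) + ∑ ω ∈ Finset.univ.erase (π P), F ω = ∑ ω, F ω :=
    Finset.add_sum_erase _ _ (Finset.mem_univ _)
  have hge : ∀ ω ∈ Finset.univ.erase (π P), p ≤ F ω := by
    intro ω hω
    obtain ⟨Q, rfl⟩ := Quotient.exists_rep ω
    have hQP : Q ≠ P := by
      rintro rfl
      exact (Finset.mem_erase.mp hω).1 rfl
    exact hF Q hQP
  have hcard_erase : (Finset.univ.erase (π P)).card = Fintype.card (MulAction.orbitRel.Quotient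
      (Subgroup.normalizer ((P : Subgroup G) : Set G)) (Sylow p G)) - 1 := by
    rw [Finset.card_erase_of_mem (Finset.mem_univ _), Finset.card_univ]
  have hlow : (Finset.univ.erase (π P)).card * p ≤ ∑ ω ∈ Finset.univ.erase (π P), F ω := by
    have h0 := Finset.card_nsmul_le_sum (Finset.univ.erase (π P)) F p hge
    rwa [smul_eq_mul] at h0
  have hsumE : ∑ ω ∈ Finset.univ.erase (π P), F ω = n * p := by
    have := hsplit
    rw [hFP, ← hsum, hΩ] at this
    omega
  have hcpos : 0 < Fintype.card (MulAction.orbitRel.Quotient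
      (Subgroup.normalizer ((P : Subgroup G) : Set G)) (Sylow p G)) :=
    Fintype.card_pos_iff.mpr ⟨π P⟩
  rw [Nat.card_eq_fintype_card]
  constructor
  · rw [hsumE, hcard_erase] at hlow
    have := Nat.le_of_mul_le_mul_right hlow hp.pos
    omega
  · intro heq Q hQP
    have hmem : π Q ∈ Finset.univ.erase (π P) :=
      Finset.mem_erase.mpr ⟨fun h => hQP (hfibP Q h), Finset.mem_univ _⟩
    have hsplit2 : F (π Q) + ∑ ω ∈ (Finset.univ.erase (π P)).erase (π Q), F ω =
        ∑ ω ∈ Finset.univ.erase (π P), F ω := Finset.add_sum_erase _ _ hmem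
    have hge2 : ∀ ω ∈ (Finset.univ.erase (π P)).erase (π Q), p ≤ F ω :=
      fun ω hω => hge ω (Finset.mem_of_mem_erase hω)
    have hlow2 : (n + 1 - 1 - 1) * p ≤ ∑ ω ∈ (Finset.univ.erase (π P)).erase (π Q), F ω := by
      have h0 := Finset.card_nsmul_le_sum ((Finset.univ.erase (π P)).erase (π Q)) F p hge2
      rwa [smul_eq_mul, Finset.card_erase_of_mem hmem, hcard_erase, heq] at h0
    have hFQ : F (π Q) = p := by
      have h1 := hF Q hQP
      have h2 : (n + 1 - 1 - 1) * p + p = n * p := by
        have hn1 := hctx.hn1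
        obtain ⟨m, rfl⟩ : ∃ m, n = m + 1 := ⟨n - 1, by omega⟩
        simp only [Nat.add_sub_cancel]
        ring
      rw [hsumE] at hsplit2
      omega
    -- orbit-stabilizer
    have : Fintype ↥(Subgroup.normalizer ((P : Subgroup G) : Set G)) := Fintype.ofFinite _
    have : Fintype ↥(MulAction.orbit ↥(Subgroup.normalizer ((P : Subgroup G) : Set G)) Q) :=
      Fintype.ofFinite _
    have : Fintype ↥(MulAction.stabilizer ↥(Subgroup.normalizer ((P : Subgroup G) : Set G)) Q) :=
      Fintype.ofFinite _
    have hos := MulAction.card_orbit_mul_card_stabilizer_eq_card_group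
      ↥(Subgroup.normalizer ((P : Subgroup G) : Set G)) Q
    have horb : Fintype.card ↥(MulAction.orbit
        ↥(Subgroup.normalizer ((P : Subgroup G) : Set G)) Q) = p := by
      have h4 : (MulAction.orbit ↥(Subgroup.normalizer ((P : Subgroup G) : Set G)) Q).toFinset =
          Finset.univ.filter (fun Q' : Sylow p G => π Q' = π Q) := by
        ext Q'
        simp only [Set.mem_toFinset, Finset.mem_filter, Finset.mem_univ, true_and]
        exact (hπ Q Q').symm
      calc Fintype.card ↥(MulAction.orbit
            ↥(Subgroup.normalizer ((P : Subgroup G) : Set G)) Q)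
          = (MulAction.orbit ↥(Subgroup.normalizer ((P : Subgroup G) : Set G)) Q).toFinset.card :=
            (Set.toFinset_card _).symm
        _ = F (π Q) := by rw [h4]
        _ = p := hFQ
    have hNc : Fintype.card ↥(Subgroup.normalizer ((P : Subgroup G) : Set G)) = e * p := by
      rw [← Nat.card_eq_fintype_card]; exact hctx.he
    rw [horb, hNc] at hos
    have hst : Fintype.card ↥(MulAction.stabilizer
        ↥(Subgroup.normalizer ((P : Subgroup G) : Set G)) Q) = e := by
      have h3 : p * Fintype.card ↥(MulAction.stabilizer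
          ↥(Subgroup.normalizer ((P : Subgroup G) : Set G)) Q) = p * e := by
        rw [hos, mul_comm]
      exact Nat.eq_of_mul_eq_mul_left hp.pos h3
    rw [← Nat.card_congr (h66StabEquiv P Q), Nat.card_eq_fintype_card]
    exact hst

end pieces

end Cfsg.Agent.Lib.helper66.Br
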