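import Mathlib
import Cfsg.Prelude.Def_Characters
import Cfsg.Prelude.Def_Blocks
import Cfsg.Agent.Lib.helper84.BrDefs
import Cfsg.Agent.Lib.helper66.BrBase

/-!
# S0996 split project, piece G4 (BLOCKS): `blocks`

If all two-point stabilisers `N(P) ⊓ N(Q)` have order `e ≥ 2`, the fixed-point sets of the
two-point stabilisers are the blocks of a Steiner system `S(2, n + 1, 1 + n p)` on the Sylow
`p`-subgroups; counting the flags gives `n + 1 ∣ p (p - 1)`.
-/

set_option autoImplicit false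

namespace Cfsg.Agent.Lib.helper66.Br

open Cfsg Cfsg.Agent.Lib.helper81 Cfsg.Agent.Lib.helper84.Br Subgroup
open scoped ComplexConjugate

universe u

section base

variable {G : Type*} [Group G] [Finite G] {p : ℕ} [Fact p.Prime]

/-- Hypotheses at a base Sylow subgroup `R`. -/
structure H66BH (R : Sylow p G) (e : ℕ) : Prop where
  hR : Nat.card R = p
  hN : Nat.card ↥(normalizer ((R : Subgroup G) : Set G)) = e * p
  hK : ∀ Q : Sylow p G, Q ≠ R →
    Nat.card ↥(normalizer ((R : Subgroup G) : Set G) ⊓ normalizer ((Q : Subgroup G) : Set G)) = e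

theorem h66_card_conj (P Q' : Sylow p G) (k : G) :
    Nat.card ↥(normalizer (((k • P : Sylow p G) : Subgroup G) : Set G) ⊓
        normalizer (((k • Q' : Sylow p G) : Subgroup G) : Set G)) =
      Nat.card ↥(normalizer ((P : Subgroup G) : Set G) ⊓
        normalizer ((Q' : Subgroup G) : Set G)) := by
  apply Nat.card_congr
  refine
    { toFun := fun g => ⟨k⁻¹ * g.1 * k,
        ⟨(h66_norm_smul P k g.1).mp g.2.1, (h66_norm_smul Q' k g.1).mp g.2.2⟩⟩
      invFun := fun g => ⟨k * g.1 * k⁻¹, ⟨(h66_norm_smul P k _).mpr ?_,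
        (h66_norm_smul Q' k _).mpr ?_⟩⟩
      left_inv := fun g => Subtype.ext ?_
      right_inv := fun g => Subtype.ext ?_ }
  · have e0 : k⁻¹ * (k * g.1 * k⁻¹) * k = g.1 := by group
    rw [e0]; exact g.2.1
  · have e0 : k⁻¹ * (k * g.1 * k⁻¹) * k = g.1 := by group
    rw [e0]; exact g.2.2
  · show k * (k⁻¹ * g.1 * k) * k⁻¹ = g.1
    group
  · show k⁻¹ * (k * g.1 * k⁻¹) * k = g.1
    group

theorem h66_transfer (P : Sylow p G) {e : ℕ} (hb : H66BH P e) (R : Sylow p G) : H66BH R e := by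
  have hp : p.Prime := Fact.out
  refine ⟨(h66_card_sylow P R).trans hb.hR, ?_, ?_⟩
  · have h1 := Sylow.card_eq_index_normalizer P
    have h2 := Sylow.card_eq_index_normalizer R
    have h3 := Subgroup.index_mul_card (normalizer ((P : Subgroup G) : Set G))
    have h4 := Subgroup.index_mul_card (normalizer ((R : Subgroup G) : Set G))
    have h5 : (normalizer ((R : Subgroup G) : Set G)).index =
        (normalizer ((P : Subgroup G) : Set G)).index := h2.symm.trans h1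
    rw [hb.hN] at h3
    rw [h5, ← h3] at h4
    have hpos : 0 < (normalizer ((P : Subgroup G) : Set G)).index := by
      have := Subgroup.index_ne_zero_of_finite (H := normalizer ((P : Subgroup G) : Set G))
      omega
    exact Nat.eq_of_mul_eq_mul_left hpos h4
  · intro Q hQ
    obtain ⟨k, rfl⟩ := MulAction.exists_smul_eq G P R
    have hQ' : k⁻¹ • Q ≠ P := by
      intro h
      apply hQ
      rw [← h, smul_inv_smul]
    have h1 := h66_card_conj P (k⁻¹ • Q) k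
    rw [smul_inv_smul] at h1
    rw [h1]
    exact hb.hK _ hQ'

theorem h66_orb {R : Sylow p G} {e : ℕ} (hb : H66BH R e) (Q : Sylow p G) (hQ : Q ≠ R) (g : G)
    (hg : g ∈ normalizer ((R : Subgroup G) : Set G)) :
    ∃ y ∈ (R : Subgroup G), ∃ k ∈ normalizer ((R : Subgroup G) : Set G) ⊓
      normalizer ((Q : Subgroup G) : Set G), g = y * k := by
  let f : ↥(R : Subgroup G) × ↥(normalizer ((R : Subgroup G) : Set G) ⊓
      normalizer ((Q : Subgroup G) : Set G)) → ↥(normalizer ((R : Subgroup G) : Set G)) :=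
    fun yk => ⟨(yk.1 : G) * (yk.2 : G), mul_mem (le_normalizer yk.1.2) yk.2.2.1⟩
  have hinj : Function.Injective f := by
    rintro ⟨y, k⟩ ⟨y', k'⟩ h
    have h0 : (y : G) * (k : G) = (y' : G) * (k' : G) := congrArg Subtype.val h
    have h1 : (y' : G)⁻¹ * (y : G) = (k' : G) * (k : G)⁻¹ := by
      calc (y' : G)⁻¹ * (y : G) = (y' : G)⁻¹ * ((y : G) * (k : G)) * (k : G)⁻¹ := by group
        _ = (y' : G)⁻¹ * ((y' : G) * (k' : G)) * (k : G)⁻¹ := by rw [h0]
        _ = (k' : G) * (k : G)⁻¹ := by group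
    have h2 : (y' : G)⁻¹ * (y : G) = 1 :=
      h66_free R hb.hR Q hQ (mul_mem (inv_mem y'.2) y.2)
        (by rw [h1]; exact mul_mem k'.2.2 (inv_mem k.2.2))
    have hy : y = y' := Subtype.ext (inv_mul_eq_one.mp h2).symm
    have hk : k = k' := by
      apply Subtype.ext
      rw [h2] at h1
      exact (mul_inv_eq_one.mp h1.symm).symm
    rw [hy, hk]
  have hcard : Nat.card ↥(normalizer ((R : Subgroup G) : Set G)) ≤
      Nat.card (↥(R : Subgroup G) × ↥(normalizer ((R : Subgroup G) : Set G) ⊓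
        normalizer ((Q : Subgroup G) : Set G))) := by
    rw [Nat.card_prod, hb.hR, hb.hK Q hQ, hb.hN, mul_comm]
  have hbij := hinj.bijective_of_nat_card_le hcard
  obtain ⟨⟨y, k⟩, hyk⟩ := hbij.2 ⟨g, hg⟩
  exact ⟨y, y.2, k, k.2, (congrArg Subtype.val hyk).symm⟩

theorem h66_at1 (P : Sylow p G) (hP : Nat.card P = p)
    (hC : Subgroup.centralizer ((P : Subgroup G) : Set G) = (P : Subgroup G))
    {R : Sylow p G} (hR : Nat.card R = p) {h : G}
    (hh : h ∈ normalizer ((R : Subgroup G) : Set G)) (hhR : h ∉ (R : Subgroup G))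
    (Q₁ : Sylow p G) (hQ₁ : Q₁ ≠ R) {y : G} (hy : y ∈ (R : Subgroup G))
    (h1 : h ∈ normalizer ((Q₁ : Subgroup G) : Set G))
    (h2 : h ∈ normalizer (((y • Q₁ : Sylow p G) : Subgroup G) : Set G)) : y = 1 := by
  by_contra hy1
  have h2' : y⁻¹ * h * y ∈ normalizer ((Q₁ : Subgroup G) : Set G) := (h66_norm_smul Q₁ y h).mp h2
  have hc : y⁻¹ * (h * y * h⁻¹) ∈ (R : Subgroup G) :=
    mul_mem (inv_mem hy) ((mem_normalizer_iff.mp hh y).mp hy)
  have hc' : y⁻¹ * (h * y * h⁻¹) ∈ normalizer ((Q₁ : Subgroup G) : Set G) := by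
    have e0 : y⁻¹ * (h * y * h⁻¹) = (y⁻¹ * h * y) * h⁻¹ := by group
    rw [e0]; exact mul_mem h2' (inv_mem h1)
  have hc1 := h66_free R hR Q₁ hQ₁ hc hc'
  have hcomm : h * y = y * h := by
    have e0 : h * y = y * (y⁻¹ * (h * y * h⁻¹)) * h := by group
    rw [e0, hc1, mul_one]
  exact hhR (h66_cent_elt P hP hC R hy hy1 hcomm)

theorem h66_abel (P : Sylow p G) (hP : Nat.card P = p)
    (hC : Subgroup.centralizer ((P : Subgroup G) : Set G) = (P : Subgroup G))
    {R : Sylow p G} (hR : Nat.card R = p) {h k : G}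
    (hh : h ∈ normalizer ((R : Subgroup G) : Set G))
    (hk : k ∈ normalizer ((R : Subgroup G) : Set G)) :
    h⁻¹ * k⁻¹ * h * k ∈ (R : Subgroup G) := by
  have hp : p.Prime := Fact.out
  have hne : (R : Subgroup G) ≠ ⊥ := by
    intro h0
    rw [h0, Subgroup.card_bot] at hR
    exact hp.one_lt.ne hR
  obtain ⟨⟨x, hx⟩, hx1'⟩ := (Subgroup.ne_bot_iff_exists_ne_one).mp hne
  have hx1 : x ≠ 1 := fun h0 => hx1' (Subtype.ext h0)
  have hzx : zpowers x = (R : Subgroup G) := h66_zpowers R hR hx hx1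
  have ha : h * x * h⁻¹ ∈ zpowers x := by rw [hzx]; exact (mem_normalizer_iff.mp hh x).mp hx
  have hb : k * x * k⁻¹ ∈ zpowers x := by rw [hzx]; exact (mem_normalizer_iff.mp hk x).mp hx
  obtain ⟨a, ha⟩ := mem_zpowers_iff.mp ha
  obtain ⟨b, hb⟩ := mem_zpowers_iff.mp hb
  have E1 : h * k * x * (h * k)⁻¹ = x ^ (a * b) := by
    calc h * k * x * (h * k)⁻¹ = h * (k * x * k⁻¹) * h⁻¹ := by group
      _ = h * x ^ b * h⁻¹ := by rw [hb]
      _ = (h * x * h⁻¹) ^ b := (conj_zpow).symm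
      _ = x ^ (a * b) := by rw [← ha, zpow_mul]
  have E2 : k * h * x * (k * h)⁻¹ = x ^ (a * b) := by
    calc k * h * x * (k * h)⁻¹ = k * (h * x * h⁻¹) * k⁻¹ := by group
      _ = k * x ^ a * k⁻¹ := by rw [ha]
      _ = (k * x * k⁻¹) ^ a := (conj_zpow).symm
      _ = x ^ (a * b) := by rw [← hb, mul_comm a b, zpow_mul]
  have hcomm : (h⁻¹ * k⁻¹ * h * k) * x = x * (h⁻¹ * k⁻¹ * h * k) := by
    calc (h⁻¹ * k⁻¹ * h * k) * x = (k * h)⁻¹ * (h * k * x * (h * k)⁻¹) * (h * k) := by group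
      _ = (k * h)⁻¹ * (k * h * x * (k * h)⁻¹) * (h * k) := by rw [E1, E2]
      _ = x * (h⁻¹ * k⁻¹ * h * k) := by group
  exact h66_cent_elt P hP hC R hx hx1 hcomm

theorem h66_fixpt (P : Sylow p G) (hP : Nat.card P = p)
    (hC : Subgroup.centralizer ((P : Subgroup G) : Set G) = (P : Subgroup G))
    {R : Sylow p G} {e : ℕ} (hb : H66BH R e) (Q₁ : Sylow p G) (hQ₁ : Q₁ ≠ R) {h : G}
    (hh : h ∈ normalizer ((R : Subgroup G) : Set G)) (hhR : h ∉ (R : Subgroup G)) :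
    ∃ x ∈ (R : Subgroup G), h ∈ normalizer (((x • Q₁ : Sylow p G) : Subgroup G) : Set G) := by
  obtain ⟨y₀, hy₀, k₀, hk₀, hdec⟩ := h66_orb hb Q₁ hQ₁ h hh
  let c : ↥(R : Subgroup G) → ↥(R : Subgroup G) := fun x =>
    ⟨(x : G)⁻¹ * (h * x * h⁻¹), mul_mem (inv_mem x.2) ((mem_normalizer_iff.mp hh x).mp x.2)⟩
  have hcinj : Function.Injective c := by
    intro x x' hxx
    have h0 : (x : G)⁻¹ * (h * x * h⁻¹) = (x' : G)⁻¹ * (h * x' * h⁻¹) := congrArg Subtype.val hxx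
    have e1 : (x' : G) * (x : G)⁻¹ = (h * x' * h⁻¹) * (h * x * h⁻¹)⁻¹ := by
      calc (x' : G) * (x : G)⁻¹
          = x' * ((x : G)⁻¹ * (h * x * h⁻¹)) * (h * x * h⁻¹)⁻¹ := by group
        _ = x' * ((x' : G)⁻¹ * (h * x' * h⁻¹)) * (h * x * h⁻¹)⁻¹ := by rw [h0]
        _ = (h * x' * h⁻¹) * (h * x * h⁻¹)⁻¹ := by group
    have e2 : (h * x' * h⁻¹) * (h * x * h⁻¹)⁻¹ = h * ((x' : G) * (x : G)⁻¹) * h⁻¹ := by group
    have e3 : (x' : G) * (x : G)⁻¹ = h * ((x' : G) * (x : G)⁻¹) * h⁻¹ := e1.trans e2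
    have hw : h * ((x' : G) * (x : G)⁻¹) = ((x' : G) * (x : G)⁻¹) * h := by
      calc h * ((x' : G) * (x : G)⁻¹) = (h * ((x' : G) * (x : G)⁻¹) * h⁻¹) * h := by group
        _ = ((x' : G) * (x : G)⁻¹) * h := by rw [← e3]
    by_contra hne
    have hw1 : (x' : G) * (x : G)⁻¹ ≠ 1 :=
      fun h1 => hne (Subtype.ext (mul_inv_eq_one.mp h1).symm)
    exact hhR (h66_cent_elt P hP hC R (mul_mem x'.2 (inv_mem x.2)) hw1 hw)
  have hcsurj : Function.Surjective c := Finite.injective_iff_surjective.mp hcinj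
  obtain ⟨x, hx⟩ := hcsurj ⟨y₀⁻¹, inv_mem hy₀⟩
  have hx' : (x : G)⁻¹ * (h * x * h⁻¹) = y₀⁻¹ := congrArg Subtype.val hx
  refine ⟨x, x.2, ?_⟩
  rw [← h66_smul_eq_iff]
  have hk₀Q : k₀ • Q₁ = Q₁ := (h66_smul_eq_iff Q₁ k₀).mpr hk₀.2
  have e : h * (x : G) = (x : G) * k₀ := by
    calc h * (x : G) = x * ((x : G)⁻¹ * (h * x * h⁻¹)) * h := by group
      _ = x * y₀⁻¹ * h := by rw [hx']
      _ = x * y₀⁻¹ * (y₀ * k₀) := by rw [← hdec]
      _ = x * k₀ := by group
  rw [← mul_smul, e, mul_smul, hk₀Q]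

theorem h66_exists_ne_one {R : Sylow p G} {e : ℕ} (hb : H66BH R e) (he2 : 2 ≤ e)
    (Q : Sylow p G) (hQ : Q ≠ R) :
    ∃ h ∈ normalizer ((R : Subgroup G) : Set G) ⊓ normalizer ((Q : Subgroup G) : Set G),
      h ≠ 1 ∧ h ∉ (R : Subgroup G) := by
  have hne : normalizer ((R : Subgroup G) : Set G) ⊓ normalizer ((Q : Subgroup G) : Set G) ≠ ⊥ := by
    intro h0
    have h1 := hb.hK Q hQ
    rw [h0, Subgroup.card_bot] at h1
    omega
  obtain ⟨⟨h, hh⟩, hh1'⟩ := (Subgroup.ne_bot_iff_exists_ne_one).mp hne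
  have hh1 : h ≠ 1 := fun h0 => hh1' (Subtype.ext h0)
  exact ⟨h, hh, hh1, fun hR' => hh1 (h66_free R hb.hR Q hQ hR' hh.2)⟩

theorem h66_smul_ne {R : Sylow p G} (Q₁ : Sylow p G) (hQ₁ : Q₁ ≠ R) {x : G}
    (hx : x ∈ (R : Subgroup G)) : x • Q₁ ≠ R := by
  intro h0
  apply hQ₁
  have e0 : Q₁ = x⁻¹ • (x • Q₁) := by rw [inv_smul_smul]
  rw [e0, h0]
  exact (h66_smul_eq_iff R x⁻¹).mpr (inv_mem (le_normalizer hx))

theorem h66_conj (P : Sylow p G) (hP : Nat.card P = p)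
    (hC : Subgroup.centralizer ((P : Subgroup G) : Set G) = (P : Subgroup G))
    {R : Sylow p G} {e : ℕ} (hb : H66BH R e) (he2 : 2 ≤ e) (Q : Sylow p G) (hQ : Q ≠ R)
    (Q₁ : Sylow p G) (hQ₁ : Q₁ ≠ R) :
    ∃ x ∈ (R : Subgroup G),
      normalizer ((R : Subgroup G) : Set G) ⊓ normalizer ((Q : Subgroup G) : Set G) ≤
        normalizer (((x • Q₁ : Sylow p G) : Subgroup G) : Set G) := by
  obtain ⟨h, hhK, hh1, hhR⟩ := h66_exists_ne_one hb he2 Q hQ
  obtain ⟨x, hx, hxh⟩ := h66_fixpt P hP hC hb Q₁ hQ₁ hhK.1 hhR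
  refine ⟨x, hx, ?_⟩
  have hQ₂R : x • Q₁ ≠ R := h66_smul_ne Q₁ hQ₁ hx
  intro k hk
  obtain ⟨y, hy, k₂, hk₂, hdec⟩ := h66_orb hb (x • Q₁) hQ₂R k hk.1
  have hcomm : h * k = k * h := by
    have h1 : h⁻¹ * k⁻¹ * h * k ∈ (R : Subgroup G) := h66_abel P hP hC hb.hR hhK.1 hk.1
    have h2 : h⁻¹ * k⁻¹ * h * k ∈ normalizer ((Q : Subgroup G) : Set G) :=
      mul_mem (mul_mem (mul_mem (inv_mem hhK.2) (inv_mem hk.2)) hhK.2) hk.2
    have h3 := h66_free R hb.hR Q hQ h1 h2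
    calc h * k = k * h * (h⁻¹ * k⁻¹ * h * k) := by group
      _ = k * h := by rw [h3, mul_one]
  have hk₂Q : k₂ • (x • Q₁) = x • Q₁ := (h66_smul_eq_iff (x • Q₁) k₂).mpr hk₂.2
  have hkQ : k • (x • Q₁) = y • (x • Q₁) := by rw [hdec, mul_smul, hk₂Q]
  have hhQ₂ : h • (x • Q₁) = x • Q₁ := (h66_smul_eq_iff (x • Q₁) h).mpr hxh
  have hfix : h • (y • (x • Q₁)) = y • (x • Q₁) := by
    rw [← hkQ, ← mul_smul, hcomm, mul_smul, hhQ₂]
  have hy1 : y = 1 := h66_at1 P hP hC hb.hR hhK.1 hhR (x • Q₁) hQ₂R hy hxh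
    ((h66_smul_eq_iff _ h).mp hfix)
  rw [hdec, hy1, one_mul]
  exact hk₂.2

open Classical in
theorem h66_fixcount (P : Sylow p G) (hP : Nat.card P = p)
    (hC : Subgroup.centralizer ((P : Subgroup G) : Set G) = (P : Subgroup G))
    {R : Sylow p G} {e n : ℕ} (hb : H66BH R e) (he2 : 2 ≤ e) [Fintype (Sylow p G)]
    (hΩ : Fintype.card (Sylow p G) = 1 + n * p) (Q : Sylow p G) (hQ : Q ≠ R) :
    (Finset.univ.filter (fun Q'' : Sylow p G =>
      normalizer ((R : Subgroup G) : Set G) ⊓ normalizer ((Q : Subgroup G) : Set G) ≤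
        normalizer ((Q'' : Subgroup G) : Set G))).card = n + 1 := by
  have hp : p.Prime := Fact.out
  have : Fintype ↥(R : Subgroup G) := Fintype.ofFinite _
  set Fx := Finset.univ.filter (fun Q'' : Sylow p G =>
      normalizer ((R : Subgroup G) : Set G) ⊓ normalizer ((Q : Subgroup G) : Set G) ≤
        normalizer ((Q'' : Subgroup G) : Set G)) with hFx
  have hmemFx : ∀ Q'' : Sylow p G, Q'' ∈ Fx ↔
      normalizer ((R : Subgroup G) : Set G) ⊓ normalizer ((Q : Subgroup G) : Set G) ≤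
        normalizer ((Q'' : Subgroup G) : Set G) := by
    intro Q''; simp [hFx]
  have hRFx : R ∈ Fx := (hmemFx R).mpr inf_le_left
  obtain ⟨h, hhK, hh1, hhR⟩ := h66_exists_ne_one hb he2 Q hQ
  let φ : ↥(R : Subgroup G) × Sylow p G → Sylow p G := fun yq => (yq.1 : G) • yq.2
  set S : Finset (↥(R : Subgroup G) × Sylow p G) :=
    (Finset.univ : Finset ↥(R : Subgroup G)) ×ˢ Fx.erase R with hS
  have himg : S.image φ = Finset.univ.erase R := by
    ext Q₁
    simp only [hS, Finset.mem_image, Finset.mem_product, Finset.mem_univ, true_and,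
      Finset.mem_erase, and_true, Prod.exists]
    constructor
    · rintro ⟨y, Q₂, ⟨hQ₂R, -⟩, rfl⟩
      exact h66_smul_ne Q₂ hQ₂R y.2
    · intro hQ₁
      obtain ⟨x, hx, hle⟩ := h66_conj P hP hC hb he2 Q hQ Q₁ hQ₁
      refine ⟨⟨x⁻¹, inv_mem hx⟩, x • Q₁, ⟨h66_smul_ne Q₁ hQ₁ hx, (hmemFx _).mpr hle⟩, ?_⟩
      show x⁻¹ • (x • Q₁) = Q₁
      rw [inv_smul_smul]
  have hinj : Set.InjOn φ (S : Set (↥(R : Subgroup G) × Sylow p G)) := by
    rintro ⟨y, Q₂⟩ hm ⟨y', Q₂'⟩ hm' heq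
    have hm0 : (y, Q₂) ∈ S := Finset.mem_coe.mp hm
    have hm0' : (y', Q₂') ∈ S := Finset.mem_coe.mp hm'
    rw [hS] at hm0 hm0'
    have hm1 := (Finset.mem_product.mp hm0).2
    have hm1' := (Finset.mem_product.mp hm0').2
    have hQ₂R : Q₂ ≠ R := (Finset.mem_erase.mp hm1).1
    have hQ₂F := (hmemFx Q₂).mp (Finset.mem_erase.mp hm1).2
    have hQ₂F' := (hmemFx Q₂').mp (Finset.mem_erase.mp hm1').2
    have heq' : (y : G) • Q₂ = (y' : G) • Q₂' := heq
    have e1 : Q₂' = ((y' : G)⁻¹ * (y : G)) • Q₂ := by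
      rw [mul_smul, heq', inv_smul_smul]
    have h2 : h ∈ normalizer ((((y' : G)⁻¹ * (y : G)) • Q₂ : Sylow p G) : Set G) := by
      rw [← e1]; exact hQ₂F' hhK
    have hyy : (y' : G)⁻¹ * (y : G) = 1 :=
      h66_at1 P hP hC hb.hR hhK.1 hhR Q₂ hQ₂R (mul_mem (inv_mem y'.2) y.2) (hQ₂F hhK) h2
    have hy : y = y' := Subtype.ext (inv_mul_eq_one.mp hyy).symm
    have hq : Q₂ = Q₂' := by rw [e1, hyy, one_smul]
    rw [hy, hq]
  have hcard := Finset.card_image_of_injOn hinj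
  rw [himg, hS, Finset.card_product, Finset.card_erase_of_mem (Finset.mem_univ R), Finset.card_univ,
    Finset.card_univ, hΩ, Finset.card_erase_of_mem hRFx, ← Nat.card_eq_fintype_card, hb.hR] at hcard
  have hpos : 0 < Fx.card := Finset.card_pos.mpr ⟨R, hRFx⟩
  have h3 : p * (Fx.card - 1) = p * n := by
    rw [← hcard]; simp [mul_comm]
  have h4 := Nat.eq_of_mul_eq_mul_left hp.pos h3
  omega

end base

section pieces

variable {G : Type u} [Group G] [Fintype G] {p : ℕ} [Fact p.Prime] {P : Sylow p G} {e n : ℕ}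

theorem h66_sq_sub (a : ℕ) : (a + 1) * (a + 1) - (a + 1) = (a + 1) * a := by
  rw [Nat.sub_eq_iff_eq_add (by nlinarith)]
  ring

/-- G4 (BLOCKS) : if all two-point stabilisers have order `e` then `n + 1 ∣ p (p - 1)`. -/
theorem blocks (hctx : Ctx G p P e n)
    (hK : ∀ Q : Sylow p G, Q ≠ P →
        Nat.card ↥(Subgroup.normalizer ((P : Subgroup G) : Set G) ⊓
          Subgroup.normalizer ((Q : Subgroup G) : Set G)) = e) :
    n + 1 ∣ p * (p - 1) := by
  classical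
  have hp : p.Prime := Fact.out
  have : Fintype (Sylow p G) := Fintype.ofFinite _
  have hΩ : Fintype.card (Sylow p G) = 1 + n * p := by
    rw [← Nat.card_eq_fintype_card]; exact hctx.hn
  have hbP : H66BH P e := ⟨hctx.hP, hctx.he, hK⟩
  have hb : ∀ R : Sylow p G, H66BH R e := fun R => h66_transfer P hbP R
  have hfc : ∀ Q Q' : Sylow p G, Q ≠ Q' →
      (Finset.univ.filter (fun Q'' : Sylow p G =>
        normalizer ((Q : Subgroup G) : Set G) ⊓ normalizer ((Q' : Subgroup G) : Set G) ≤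
          normalizer ((Q'' : Subgroup G) : Set G))).card = n + 1 :=
    fun Q Q' h => h66_fixcount P hctx.hP hctx.hC (hb Q) hctx.he2 hΩ Q' (Ne.symm h)
  let κ : Sylow p G × Sylow p G → Subgroup G :=
    fun q => normalizer ((q.1 : Subgroup G) : Set G) ⊓ normalizer ((q.2 : Subgroup G) : Set G)
  let T : Finset (Sylow p G × Sylow p G) := (Finset.univ : Finset (Sylow p G)).offDiag
  have hT : T.card = (n * p + 1) * (n * p) := by
    show (Finset.univ : Finset (Sylow p G)).offDiag.card = _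
    rw [Finset.offDiag_card, Finset.card_univ, hΩ, add_comm 1 (n * p), h66_sq_sub]
  have hfw : T.card = ∑ K ∈ T.image κ, (T.filter (fun q => κ q = K)).card :=
    Finset.card_eq_sum_card_fiberwise
      (fun q hq => Finset.mem_coe.mpr (Finset.mem_image_of_mem κ (Finset.mem_coe.mp hq)))
  have hfib : ∀ K ∈ T.image κ, (T.filter (fun q => κ q = K)).card = (n + 1) * n := by
    intro K hK'
    obtain ⟨⟨Q, Q'⟩, hq, rfl⟩ := Finset.mem_image.mp hK'
    have hQQ' : Q ≠ Q' := (Finset.mem_offDiag.mp hq).2.2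
    have hset : T.filter (fun q => κ q = κ (Q, Q')) =
        (Finset.univ.filter (fun Q'' : Sylow p G =>
          normalizer ((Q : Subgroup G) : Set G) ⊓ normalizer ((Q' : Subgroup G) : Set G) ≤
            normalizer ((Q'' : Subgroup G) : Set G))).offDiag := by
      ext ⟨Q₁, Q₂⟩
      simp only [Finset.mem_filter, Finset.mem_offDiag, Finset.mem_univ, true_and, T, κ]
      constructor
      · rintro ⟨hne, heq⟩
        refine ⟨?_, ?_, hne⟩
        · rw [← heq]; exact inf_le_left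
        · rw [← heq]; exact inf_le_right
      · rintro ⟨h1, h2, hne⟩
        refine ⟨hne, ?_⟩
        symm
        apply Subgroup.eq_of_le_of_card_ge (le_inf h1 h2)
        rw [(hb Q₁).hK Q₂ (Ne.symm hne), (hb Q).hK Q' (Ne.symm hQQ')]
    rw [hset, Finset.offDiag_card, hfc Q Q' hQQ', h66_sq_sub]
  rw [Finset.sum_congr rfl hfib, Finset.sum_const, smul_eq_mul, hT] at hfw
  -- hfw : (n p + 1) (n p) = b ((n + 1) n)
  have hn1 := hctx.hn1
  have hE : (n * p + 1) * p = (n + 1) * (T.image κ).card := by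
    have h1 : ((n * p + 1) * p) * n = ((n + 1) * (T.image κ).card) * n := by
      calc ((n * p + 1) * p) * n = (n * p + 1) * (n * p) := by ring
        _ = (T.image κ).card * ((n + 1) * n) := hfw
        _ = ((n + 1) * (T.image κ).card) * n := by ring
    exact Nat.eq_of_mul_eq_mul_right (by omega) h1
  have h2 : n + 1 ∣ (n + 1) * (p * p) - (n * p + 1) * p :=
    Nat.dvd_sub (dvd_mul_right _ _) ⟨_, hE⟩
  have h3 : (n + 1) * (p * p) - (n * p + 1) * p = p * (p - 1) := by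
    obtain ⟨q, rfl⟩ : ∃ q, p = q + 1 := ⟨p - 1, by have := hp.pos; omega⟩
    simp only [Nat.add_sub_cancel]
    rw [Nat.sub_eq_iff_eq_add (by nlinarith)]
    ring
  rw [h3] at h2
  exact h2

end pieces

end Cfsg.Agent.Lib.helper66.Br
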