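import Mathlib
import Cfsg.Prelude.Def_Characters
import Cfsg.Prelude.Def_Blocks
import Cfsg.Prelude.Def_Solvable
import Cfsg.Prelude.Def_CaseTheorems
import Cfsg.Agent.Lib.helper84.BrDefs
import Cfsg.Agent.Lib.helper14.BR0Defs
import Cfsg.Agent.Lib.helper40.Cores

/-!
S4700 piece QC (helper66): the quotient of a perfect group by `O_{p'}(G)` is perfect, has trivial
`p'`-core, and `O_{p'}(G)` has order prime to `p`.
-/

set_option autoImplicit false

namespace Cfsg.Agent.Lib.helper66.BR

open Cfsg Cfsg.Agent.Lib.helper81 Cfsg.Agent.Lib.helper84.Br Cfsg.Agent.Lib.helper14.BR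
open scoped ComplexConjugate

universe u

theorem h66_commutator_quot_top {G : Type u} [Group G] (N : Subgroup G) [N.Normal]
    (hperf : commutator G = ⊤) : commutator (G ⧸ N) = ⊤ := by
  have hs : Function.Surjective (QuotientGroup.mk' N) := QuotientGroup.mk'_surjective N
  have h1 : (⊤ : Subgroup (G ⧸ N)) = (⊤ : Subgroup G).map (QuotientGroup.mk' N) :=
    (Subgroup.map_top_of_surjective _ hs).symm
  rw [commutator_def] at hperf ⊢
  conv_lhs => rw [h1]
  rw [← Subgroup.map_commutator, hperf, Subgroup.map_top_of_surjective _ hs]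

theorem h66_card_map_mk'_eq_relIndex {G : Type u} [Group G] (M K : Subgroup G) [M.Normal] :
    Nat.card (K.map (QuotientGroup.mk' M)) = M.relIndex K := by
  have h : M = (⊥ : Subgroup (G ⧸ M)).comap (QuotientGroup.mk' M) := by
    ext x
    rw [Subgroup.mem_comap, Subgroup.mem_bot, QuotientGroup.mk'_apply, QuotientGroup.eq_one_iff]
  conv_rhs => rw [h]
  rw [Subgroup.relIndex_comap, Subgroup.relIndex_bot_left]

theorem h66_pPrimeCore_quot_bot {G : Type u} [Group G] [Finite G] (p : ℕ) :
    Cfsg.pPrimeCore p (G ⧸ Cfsg.pPrimeCore p G) = ⊥ := by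
  set N := Cfsg.pPrimeCore p G with hN
  set K : Subgroup G := (Cfsg.pPrimeCore p (G ⧸ N)).comap (QuotientGroup.mk' N) with hK
  have hNK : N ≤ K := by
    intro x hx
    rw [hK, Subgroup.mem_comap]
    have : QuotientGroup.mk' N x = 1 := by
      rw [QuotientGroup.mk'_apply, QuotientGroup.eq_one_iff]; exact hx
    rw [this]; exact one_mem _
  have hKn : K.Normal := by
    rw [hK]; infer_instance
  have hcard : (Nat.card K).Coprime p := by
    rw [← Subgroup.relIndex_bot_left, ← Subgroup.relIndex_mul_relIndex ⊥ N K bot_le hNK,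
      Subgroup.relIndex_bot_left]
    refine Nat.Coprime.mul_left (Cfsg.Agent.Lib.helper40.pPrimeCore_card_coprime p G) ?_
    rw [← h66_card_map_mk'_eq_relIndex, hK,
      Subgroup.map_comap_eq_self_of_surjective (QuotientGroup.mk'_surjective N)]
    exact Cfsg.Agent.Lib.helper40.pPrimeCore_card_coprime p (G ⧸ N)
  have hKN : K ≤ N := Cfsg.Agent.Lib.helper40.le_pPrimeCore K hKn hcard
  rw [eq_bot_iff]
  intro y hy
  obtain ⟨x, rfl⟩ := QuotientGroup.mk'_surjective N y
  rw [Subgroup.mem_bot, QuotientGroup.mk'_apply, QuotientGroup.eq_one_iff]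
  exact hKN hy

/-- QC : the quotient by `O_{p'}(G)`. -/
theorem quot_core {G : Type u} [Group G] [Finite G] (hperf : commutator G = ⊤) (p : ℕ)
    [Fact p.Prime] :
    commutator (G ⧸ Cfsg.pPrimeCore p G) = ⊤ ∧
      Cfsg.pPrimeCore p (G ⧸ Cfsg.pPrimeCore p G) = ⊥ ∧
      (Nat.card (Cfsg.pPrimeCore p G)).Coprime p :=
  ⟨h66_commutator_quot_top _ hperf, h66_pPrimeCore_quot_bot p,
    Cfsg.Agent.Lib.helper40.pPrimeCore_card_coprime p G⟩

end Cfsg.Agent.Lib.helper66.BR
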