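import Mathlib
import Cfsg.Agent.Lib.helper66.ExtraRepA
import Cfsg.Agent.Lib.helper66.ExtraRepD

set_option autoImplicit false

namespace Cfsg.Agent.Lib.helper66

section

variable {K : Type*} [Field K] {V : Type*} [AddCommGroup V] [Module K V]
  {Γ : Type*} [Group Γ]

/-- Joint eigenvectors of a family of operators for pairwise distinct weights are independent:
if they sum to zero, each of them is zero. -/
theorem wt_indep {ι : Type*} [DecidableEq ι] (ρ : Γ →* Module.End K V) (Z : Subgroup Γ)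
    (T : Finset ι) : ∀ (μ : ι → Γ → K) (x : ι → V),
    (∀ i ∈ T, ∀ z ∈ Z, ρ z (x i) = μ i z • x i) →
    (∀ i ∈ T, ∀ j ∈ T, i ≠ j → ∃ z ∈ Z, μ i z ≠ μ j z) →
    ∑ i ∈ T, x i = 0 → ∀ i ∈ T, x i = 0 := by
  induction T using Finset.induction_on with
  | empty =>
    intro μ x _ _ _ i hi
    simp at hi
  | insert j T' hj ih =>
    intro μ x hx hμ hsum
    have hT' : ∀ i ∈ T', x i = 0 := by
      intro i₀ hi₀
      have hne0 : i₀ ≠ j := by
        rintro rfl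
        exact hj hi₀
      obtain ⟨z, hz, hne⟩ := hμ i₀ (Finset.mem_insert_of_mem hi₀) j
        (Finset.mem_insert_self j T') hne0
      have hx' : ∀ i ∈ T', ∀ z' ∈ Z, ρ z' ((μ i z - μ j z) • x i) =
          μ i z' • ((μ i z - μ j z) • x i) := by
        intro i hi z' hz'
        rw [map_smul, hx i (Finset.mem_insert_of_mem hi) z' hz', smul_comm]
      have hμ' : ∀ i ∈ T', ∀ i' ∈ T', i ≠ i' → ∃ z ∈ Z, μ i z ≠ μ i' z := by
        intro i hi i' hi' hii'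
        exact hμ i (Finset.mem_insert_of_mem hi) i' (Finset.mem_insert_of_mem hi') hii'
      have hsum' : ∑ i ∈ T', (μ i z - μ j z) • x i = 0 := by
        have h2 : ρ z (∑ i ∈ insert j T', x i) = 0 := by rw [hsum, map_zero]
        rw [map_sum, Finset.sum_insert hj] at h2
        rw [Finset.sum_insert hj] at hsum
        have h3 : ∑ i ∈ T', ρ z (x i) = ∑ i ∈ T', μ i z • x i :=
          Finset.sum_congr rfl (fun i hi => hx i (Finset.mem_insert_of_mem hi) z hz)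
        rw [h3, hx j (Finset.mem_insert_self j T') z hz] at h2
        have h4 : x j = - ∑ i ∈ T', x i := eq_neg_of_add_eq_zero_left hsum
        rw [h4, smul_neg, neg_add_eq_zero] at h2
        simp only [sub_smul, Finset.sum_sub_distrib, ← Finset.smul_sum]
        rw [sub_eq_zero]
        exact h2.symm
      have h1 := ih μ (fun i => (μ i z - μ j z) • x i) hx' hμ' hsum' i₀ hi₀
      rcases smul_eq_zero.mp h1 with h | h
      · exact absurd (sub_eq_zero.mp h) hne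
      · exact h
    intro i hi
    rcases Finset.mem_insert.mp hi with rfl | hi'
    · rw [Finset.sum_insert hj, Finset.sum_eq_zero hT', add_zero] at hsum
      exact hsum
    · exact hT' i hi'

/-- A fixed-point-free conjugation action on a finite subgroup: every element is a "commutator". -/
theorem fpf_surj (X : Subgroup Γ) [Finite X] (g : Γ)
    (hg : g ∈ Subgroup.normalizer (X : Set Γ))
    (hfpf : ∀ y ∈ X, g * y = y * g → y = 1) :
    ∀ x ∈ X, ∃ y ∈ X, x = y⁻¹ * (g * y * g⁻¹) := by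
  have hgX : ∀ y ∈ X, g * y * g⁻¹ ∈ X := fun y hy =>
    (Subgroup.mem_normalizer_iff.mp hg y).mp hy
  let f : X → X := fun y => ⟨(y : Γ)⁻¹ * (g * y * g⁻¹), X.mul_mem (X.inv_mem y.2) (hgX y y.2)⟩
  have hinj : Function.Injective f := by
    intro y y' h
    have h1 : (y : Γ)⁻¹ * (g * y * g⁻¹) = (y' : Γ)⁻¹ * (g * y' * g⁻¹) := congrArg Subtype.val h
    have h2 : g * ((y' : Γ) * (y : Γ)⁻¹) = ((y' : Γ) * (y : Γ)⁻¹) * g := by
      have e1 : g * (y : Γ) = (y : Γ) * ((y : Γ)⁻¹ * (g * y * g⁻¹)) * g := by group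
      have e2 : g * (y' : Γ) = (y' : Γ) * ((y' : Γ)⁻¹ * (g * y' * g⁻¹)) * g := by group
      have e3 : g * ((y' : Γ) * (y : Γ)⁻¹) = (g * (y' : Γ)) * (g * (y : Γ))⁻¹ * g := by group
      rw [e3, e2, e1, h1]
      group
    have h3 := hfpf _ (X.mul_mem y'.2 (X.inv_mem y.2)) h2
    apply Subtype.ext
    exact (mul_inv_eq_one.mp h3).symm
  have hsurj : Function.Surjective f := Finite.injective_iff_surjective.mp hinj
  intro x hx
  obtain ⟨y, hy⟩ := hsurj ⟨x, hx⟩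
  exact ⟨y, y.2, (congrArg Subtype.val hy).symm⟩

/-- Variant of `fpf_surj`. -/
theorem fpf_surj' (X : Subgroup Γ) [Finite X] (g : Γ)
    (hg : g ∈ Subgroup.normalizer (X : Set Γ))
    (hfpf : ∀ y ∈ X, g * y = y * g → y = 1) :
    ∀ x ∈ X, ∃ y ∈ X, x = (g * y * g⁻¹)⁻¹ * y := by
  intro x hx
  obtain ⟨y, hy, h⟩ := fpf_surj X g hg hfpf x⁻¹ (X.inv_mem hx)
  refine ⟨y, hy, ?_⟩
  have h1 : x = (y⁻¹ * (g * y * g⁻¹))⁻¹ := by rw [← h, inv_inv]
  rw [h1]
  group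

/-- In an elementary abelian group of order `p ^ 2`, two elements `a`, `b` with `b ≠ 1` and
`a ∉ ⟨b⟩` generate: every element is `a ^ i * b ^ j`. -/
theorem elemAb_sq_decomp [Finite Γ] (A : Subgroup Γ) (p : ℕ) (hp : p.Prime)
    (hAc : ∀ a ∈ A, ∀ b ∈ A, a * b = b * a) (hAp : ∀ a ∈ A, a ^ p = 1)
    (hAcard : Nat.card A = p ^ 2) (a b : Γ) (ha : a ∈ A) (hb : b ∈ A) (hb1 : b ≠ 1)
    (hab : a ∉ Subgroup.zpowers b) : ∀ c ∈ A, ∃ i j : ℤ, c = a ^ i * b ^ j := by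
  have hcomm : Commute a b := hAc a ha b hb
  let P : Subgroup Γ :=
    { carrier := {c | ∃ i j : ℤ, c = a ^ i * b ^ j}
      one_mem' := ⟨0, 0, by simp⟩
      mul_mem' := by
        rintro _ _ ⟨i, j, rfl⟩ ⟨i', j', rfl⟩
        refine ⟨i + i', j + j', ?_⟩
        have h1 : Commute (b ^ j) (a ^ i') := (hcomm.symm.zpow_zpow j i')
        calc a ^ i * b ^ j * (a ^ i' * b ^ j') = a ^ i * (b ^ j * a ^ i') * b ^ j' := by group
          _ = a ^ i * (a ^ i' * b ^ j) * b ^ j' := by rw [h1.eq]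
          _ = a ^ (i + i') * b ^ (j + j') := by rw [zpow_add, zpow_add]; group
      inv_mem' := by
        rintro _ ⟨i, j, rfl⟩
        refine ⟨-i, -j, ?_⟩
        have h1 : Commute (b ^ j) (a ^ i) := (hcomm.symm.zpow_zpow j i)
        rw [mul_inv_rev, ← zpow_neg, ← zpow_neg]
        exact ((hcomm.symm.zpow_zpow (-j) (-i))).eq }
  have : Fact p.Prime := ⟨hp⟩
  have hordb : orderOf b = p := orderOf_eq_prime (hAp b hb) hb1
  have hcardb : Nat.card (Subgroup.zpowers b) = p := by rw [Nat.card_zpowers, hordb]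
  let H : Subgroup Γ := Subgroup.zpowers a ⊔ Subgroup.zpowers b
  have hHA : H ≤ A := sup_le ((Subgroup.zpowers_le).mpr ha) ((Subgroup.zpowers_le).mpr hb)
  have hbH : Subgroup.zpowers b ≤ H := le_sup_right
  have haH : a ∈ H := (le_sup_left : Subgroup.zpowers a ≤ H) (Subgroup.mem_zpowers a)
  have hcardH : Nat.card H = p ^ 2 := by
    have h1 : Nat.card H ∣ p ^ 2 := by
      rw [← hAcard]
      exact Subgroup.card_dvd_of_le hHA
    obtain ⟨k, hk, hk'⟩ := (Nat.dvd_prime_pow hp).mp h1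
    have h2 : p < Nat.card H := by
      by_contra hle
      push Not at hle
      have h3 : Subgroup.zpowers b = H :=
        Subgroup.eq_of_le_of_card_ge hbH (by rw [hcardb]; exact hle)
      exact hab (by rw [h3]; exact haH)
    rw [hk'] at h2 ⊢
    have h4 : 1 < k := by
      by_contra hk1
      push Not at hk1
      have : p ^ k ≤ p ^ 1 := Nat.pow_le_pow_right hp.pos hk1
      rw [pow_one] at this
      omega
    have h5 : k = 2 := by omega
    rw [h5]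
  have hHeq : H = A := Subgroup.eq_of_le_of_card_ge hHA (by rw [hcardH, hAcard])
  have hHP : H ≤ P := by
    apply sup_le
    · rw [Subgroup.zpowers_le]
      exact ⟨1, 0, by simp⟩
    · rw [Subgroup.zpowers_le]
      exact ⟨0, 1, by simp⟩
  intro c hc
  rw [← hHeq] at hc
  exact hHP hc

/-- There is an element outside any cyclic subgroup of an elementary abelian group of order `p²`. -/
theorem elemAb_sq_exists_not_mem [Finite Γ] (A : Subgroup Γ) (p : ℕ) (hp : p.Prime)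
    (hAp : ∀ a ∈ A, a ^ p = 1) (hAcard : Nat.card A = p ^ 2) (b : Γ) (hb : b ∈ A) :
    ∃ a ∈ A, a ∉ Subgroup.zpowers b := by
  by_contra hall
  push Not at hall
  have h1 : A ≤ Subgroup.zpowers b := fun a ha => hall a ha
  have h2 : Nat.card A ≤ Nat.card (Subgroup.zpowers b) := Subgroup.card_le_of_le h1
  have h3 : Nat.card (Subgroup.zpowers b) ≤ p := by
    rw [Nat.card_zpowers]
    exact Nat.le_of_dvd hp.pos (orderOf_dvd_of_pow_eq_one (hAp b hb))
  rw [hAcard] at h2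
  have h4 : p < p ^ 2 := by
    have := hp.one_lt
    nlinarith
  omega

/-- If `x ^ p = 1` and `m` is prime to the prime `p`, then `x` is a power of `x ^ m`. -/
theorem mem_zpowers_pow_of_coprime (x : Γ) (p m : ℕ) (hp : p.Prime) (hx : x ^ p = 1)
    (hm : Nat.Coprime m p) : x ∈ Subgroup.zpowers (x ^ m) := by
  obtain ⟨k, hk⟩ := Nat.exists_mul_mod_eq_one_of_coprime hm hp.one_lt
  rw [Subgroup.mem_zpowers_iff]
  refine ⟨(k : ℤ), ?_⟩
  rw [zpow_natCast, ← pow_mul]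
  have h1 : m * k = p * (m * k / p) + 1 := by
    have := Nat.div_add_mod (m * k) p
    omega
  rw [h1, pow_succ, pow_mul, hx, one_pow, one_mul]

/-- The kernel of the action of `S` on the invariant subspace `M₀`. -/
def kerMod (ρ : Γ →* Module.End K V) (M₀ : Submodule K V) (S : Subgroup Γ) : Subgroup Γ where
  carrier := {g | g ∈ S ∧ ∀ w ∈ M₀, ρ g w = w}
  one_mem' := ⟨S.one_mem, fun w _ => by rw [map_one, Module.End.one_apply]⟩
  mul_mem' := by
    rintro g h ⟨hg, hg'⟩ ⟨hh, hh'⟩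
    refine ⟨S.mul_mem hg hh, fun w hw => ?_⟩
    rw [map_mul, Module.End.mul_apply, hh' w hw, hg' w hw]
  inv_mem' := by
    rintro g ⟨hg, hg'⟩
    refine ⟨S.inv_mem hg, fun w hw => ?_⟩
    have h1 : ρ g⁻¹ (ρ g w) = w := by
      rw [← Module.End.mul_apply, ← map_mul, inv_mul_cancel, map_one, Module.End.one_apply]
    rw [hg' w hw] at h1
    exact h1

theorem mem_kerMod (ρ : Γ →* Module.End K V) (M₀ : Submodule K V) (S : Subgroup Γ) (g : Γ) :
    g ∈ kerMod ρ M₀ S ↔ g ∈ S ∧ ∀ w ∈ M₀, ρ g w = w := Iff.rfl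

/-- The preimage in `S` of the centre of the image of `S` acting on `M₀`. -/
def cenMod (ρ : Γ →* Module.End K V) (M₀ : Submodule K V) (S : Subgroup Γ)
    (hMS : ∀ u ∈ S, ∀ w ∈ M₀, ρ u w ∈ M₀) : Subgroup Γ where
  carrier := {z | z ∈ S ∧ ∀ v ∈ S, ∀ w ∈ M₀, ρ (z * v) w = ρ (v * z) w}
  one_mem' := ⟨S.one_mem, fun v _ w _ => by rw [one_mul, mul_one]⟩
  mul_mem' := by
    rintro z z' ⟨hz, hz'⟩ ⟨hy, hy'⟩
    refine ⟨S.mul_mem hz hy, fun v hv w hw => ?_⟩
    have h1 : ρ (z * z' * v) w = ρ z (ρ (z' * v) w) := by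
      rw [mul_assoc, map_mul, Module.End.mul_apply]
    have h2 : ρ z (ρ (v * z') w) = ρ (z * v) (ρ z' w) := by
      rw [← Module.End.mul_apply, ← map_mul, ← Module.End.mul_apply, ← map_mul, mul_assoc]
    have h3 : ρ (v * z) (ρ z' w) = ρ (v * (z * z')) w := by
      rw [← Module.End.mul_apply, ← map_mul, mul_assoc]
    rw [h1, hy' v hv w hw, h2, hz' v hv _ (hMS z' hy w hw), h3]
  inv_mem' := by
    rintro z ⟨hz, hz'⟩
    refine ⟨S.inv_mem hz, fun v hv w hw => ?_⟩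
    have hw' : ρ z⁻¹ w ∈ M₀ := hMS _ (S.inv_mem hz) w hw
    have h1 := hz' v hv _ hw'
    have h2 : ρ (z * v) (ρ z⁻¹ w) = ρ z (ρ (v * z⁻¹) w) := by
      rw [← Module.End.mul_apply, ← map_mul, ← Module.End.mul_apply, ← map_mul, mul_assoc]
    have h3 : ρ (v * z) (ρ z⁻¹ w) = ρ v w := by
      rw [← Module.End.mul_apply, ← map_mul]
      congr 2
      group
    rw [h2, h3] at h1
    have h4 : ρ z⁻¹ (ρ z (ρ (v * z⁻¹) w)) = ρ (v * z⁻¹) w := by
      rw [← Module.End.mul_apply, ← map_mul, inv_mul_cancel, map_one, Module.End.one_apply]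
    rw [h1] at h4
    rw [← h4, ← Module.End.mul_apply, ← map_mul]

theorem mem_cenMod (ρ : Γ →* Module.End K V) (M₀ : Submodule K V) (S : Subgroup Γ)
    (hMS : ∀ u ∈ S, ∀ w ∈ M₀, ρ u w ∈ M₀) (z : Γ) :
    z ∈ cenMod ρ M₀ S hMS ↔ z ∈ S ∧ ∀ v ∈ S, ∀ w ∈ M₀, ρ (z * v) w = ρ (v * z) w := Iff.rfl

theorem cenMod_le (ρ : Γ →* Module.End K V) (M₀ : Submodule K V) (S : Subgroup Γ)
    (hMS : ∀ u ∈ S, ∀ w ∈ M₀, ρ u w ∈ M₀) : cenMod ρ M₀ S hMS ≤ S := fun _ h => h.1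

/-- Conjugation by an element normalizing `S` and preserving `M₀` preserves `cenMod`. -/
theorem conj_mem_cenMod (ρ : Γ →* Module.End K V) (M₀ : Submodule K V) (S : Subgroup Γ)
    (hMS : ∀ u ∈ S, ∀ w ∈ M₀, ρ u w ∈ M₀) (g : Γ)
    (hgS : g ∈ Subgroup.normalizer (S : Set Γ)) (hg : ∀ w ∈ M₀, ρ g w ∈ M₀)
    (hg' : ∀ w ∈ M₀, ρ g⁻¹ w ∈ M₀) (z : Γ) (hz : z ∈ cenMod ρ M₀ S hMS) :
    g * z * g⁻¹ ∈ cenMod ρ M₀ S hMS := by
  obtain ⟨hzS, hz'⟩ := hz
  refine ⟨(Subgroup.mem_normalizer_iff.mp hgS z).mp hzS, fun v hv w hw => ?_⟩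
  have hv' : g⁻¹ * v * g ∈ S := by
    have h1 := (Subgroup.mem_normalizer_iff.mp (inv_mem hgS) v).mp hv
    simpa using h1
  have h1 := hz' _ hv' _ (hg' w hw)
  have e1 : g * z * g⁻¹ * v = g * (z * (g⁻¹ * v * g)) * g⁻¹ := by group
  have e2 : v * (g * z * g⁻¹) = g * ((g⁻¹ * v * g) * z) * g⁻¹ := by group
  have e : ∀ X : Γ, ρ (g * X * g⁻¹) w = ρ g (ρ X (ρ g⁻¹ w)) := by
    intro X
    rw [map_mul, map_mul, Module.End.mul_apply, Module.End.mul_apply]
  rw [e1, e2, e, e, h1]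

/-- If the centre-mod-kernel of a finite `t`-group `S` acting on `M₀` acts trivially, so
does `S`. -/
theorem le_kerMod_of_cenMod_le (ρ : Γ →* Module.End K V) (M₀ : Submodule K V) (S : Subgroup Γ)
    [Finite S] (hMS : ∀ u ∈ S, ∀ w ∈ M₀, ρ u w ∈ M₀) (t : ℕ) [Fact t.Prime]
    (hS : IsPGroup t S) (h : cenMod ρ M₀ S hMS ≤ kerMod ρ M₀ S) : S ≤ kerMod ρ M₀ S := by
  have hnil : Group.IsNilpotent S := hS.isNilpotent
  obtain ⟨n, hn⟩ := hnil.nilpotent
  have key : ∀ k : ℕ, ∀ x : S, x ∈ Subgroup.upperCentralSeries S k → (x : Γ) ∈ kerMod ρ M₀ S := by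
    intro k
    induction k with
    | zero =>
      intro x hx
      rw [Subgroup.upperCentralSeries_zero, Subgroup.mem_bot] at hx
      rw [hx]
      exact (kerMod ρ M₀ S).one_mem
    | succ k ih =>
      intro x hx
      rw [Subgroup.mem_upperCentralSeries_succ_iff] at hx
      apply h
      refine ⟨x.2, fun v hv w hw => ?_⟩
      have h1 : (x : Γ) * v * (x : Γ)⁻¹ * v⁻¹ ∈ kerMod ρ M₀ S := ih _ (hx ⟨v, hv⟩)
      have h2 := h1.2 _ (hMS _ (S.mul_mem hv x.2) w hw)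
      have e1 : (x : Γ) * v = ((x : Γ) * v * (x : Γ)⁻¹ * v⁻¹) * (v * x) := by
        group
      rw [e1, map_mul, Module.End.mul_apply, h2]
  intro x hx
  have h1 : (⟨x, hx⟩ : S) ∈ Subgroup.upperCentralSeries S n := by rw [hn]; trivial
  exact key n ⟨x, hx⟩ h1

/-- A joint eigenvector with a nontrivial weight for a group acting by commuting operators. -/
theorem exists_joint_eigen [IsAlgClosed K] [FiniteDimensional K V] (ρ : Γ →* Module.End K V)
    (M₀ : Submodule K V) (Z : Subgroup Γ)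
    (hMZ : ∀ z ∈ Z, ∀ w ∈ M₀, ρ z w ∈ M₀)
    (hcomm : ∀ z ∈ Z, ∀ z' ∈ Z, ∀ w ∈ M₀, ρ (z * z') w = ρ (z' * z) w)
    (z₀ : Γ) (hz₀ : z₀ ∈ Z) (n : ℕ) (hn : (n : K) ≠ 0) (hz₀n : z₀ ^ n = 1)
    (hnt : ∃ w ∈ M₀, ρ z₀ w ≠ w) :
    ∃ (lam : Γ → K) (w₀ : V), w₀ ∈ M₀ ∧ w₀ ≠ 0 ∧ (∀ z ∈ Z, ρ z w₀ = lam z • w₀) ∧
      lam z₀ ≠ 1 := by
  classical
  obtain ⟨P₀, hP₀⟩ : ∃ P₀ : Z →* Module.End K M₀, ∀ (u : Z) (w : M₀),
      ((P₀ u w : M₀) : V) = ρ u w := ⟨restrictHom ρ Z M₀ hMZ, fun u w => rfl⟩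
  have hT₀n : P₀ ⟨z₀, hz₀⟩ ^ n = 1 := by
    rw [← map_pow]
    have : (⟨z₀, hz₀⟩ : Z) ^ n = 1 := Subtype.ext (by simpa using hz₀n)
    rw [this, map_one]
  have hT₀ne : P₀ ⟨z₀, hz₀⟩ ≠ 1 := by
    obtain ⟨w, hw, hne⟩ := hnt
    intro h
    apply hne
    have h1 := congrArg Subtype.val (LinearMap.congr_fun h ⟨w, hw⟩)
    rw [hP₀] at h1
    exact h1
  obtain ⟨ζ, hζ1, -, hζ⟩ := exists_eigen_ne_one (P₀ ⟨z₀, hz₀⟩) n hn hT₀n hT₀ne
  obtain ⟨w₁, hw₁, hw₁0⟩ := Submodule.exists_mem_ne_zero_of_ne_bot hζ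
  rw [Module.End.mem_eigenspace_iff] at hw₁
  have hw₁V : ρ z₀ (w₁ : V) = ζ • (w₁ : V) := by
    have h1 := congrArg Subtype.val hw₁
    rw [hP₀] at h1
    exact h1
  let 𝒰 : Set (Submodule K V) := {U | U ≠ ⊥ ∧ U ≤ M₀ ∧ (∀ w ∈ U, ρ z₀ w = ζ • w) ∧
    ∀ z ∈ Z, ∀ w ∈ U, ρ z w ∈ U}
  have h𝒰ne : 𝒰.Nonempty := by
    refine ⟨M₀ ⊓ (ρ z₀).eigenspace ζ, ?_, inf_le_left, ?_, ?_⟩
    · intro h0
      have h1 : (w₁ : V) ∈ M₀ ⊓ (ρ z₀).eigenspace ζ :=
        ⟨w₁.2, Module.End.mem_eigenspace_iff.mpr hw₁V⟩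
      rw [h0] at h1
      exact hw₁0 (Subtype.ext ((Submodule.mem_bot K).mp h1))
    · intro w hw
      exact Module.End.mem_eigenspace_iff.mp hw.2
    · intro z hz w hw
      have hw1 : w ∈ M₀ := (Submodule.mem_inf.mp hw).1
      have hw2 : ρ z₀ w = ζ • w := Module.End.mem_eigenspace_iff.mp (Submodule.mem_inf.mp hw).2
      refine Submodule.mem_inf.mpr ⟨hMZ z hz w hw1, ?_⟩
      rw [Module.End.mem_eigenspace_iff, ← Module.End.mul_apply, ← map_mul,
        hcomm z₀ hz₀ z hz w hw1, map_mul, Module.End.mul_apply, hw2, map_smul]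
  obtain ⟨U, hU𝒰, hUmin⟩ := (wellFounded_lt :
    WellFounded ((· < ·) : Submodule K V → Submodule K V → Prop)).has_min 𝒰 h𝒰ne
  obtain ⟨hUne, hUle, hUζ, hUZ⟩ := hU𝒰
  have : Nontrivial U := Submodule.nontrivial_iff_ne_bot.mpr hUne
  obtain ⟨R', hR'⟩ : ∃ R' : Z →* Module.End K U, ∀ (u : Z) (w : U),
      ((R' u w : U) : V) = ρ u w := ⟨restrictHom ρ Z U hUZ, fun u w => rfl⟩
  have hirr : ∀ U' : Submodule K U, (∀ T ∈ Set.range R', ∀ w ∈ U', T w ∈ U') →
      U' = ⊥ ∨ U' = ⊤ := by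
    intro U' hU'R
    by_cases hU' : U' = ⊥
    · exact Or.inl hU'
    right
    have hU'S : U'.map U.subtype ∈ 𝒰 := by
      refine ⟨?_, ?_, ?_, ?_⟩
      · intro h0
        apply hU'
        rw [Submodule.eq_bot_iff]
        intro w hw
        have h1 : (w : V) ∈ U'.map U.subtype := ⟨w, hw, rfl⟩
        rw [h0] at h1
        exact Subtype.ext ((Submodule.mem_bot K).mp h1)
      · exact (Submodule.map_subtype_le U U').trans hUle
      · rintro _ ⟨w, _, rfl⟩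
        exact hUζ _ w.2
      · rintro z hz _ ⟨w, hw, rfl⟩
        exact ⟨R' ⟨z, hz⟩ w, hU'R _ ⟨⟨z, hz⟩, rfl⟩ w hw, hR' ⟨z, hz⟩ w⟩
    have hle : U'.map U.subtype ≤ U := Submodule.map_subtype_le U U'
    have heq : U'.map U.subtype = U := by
      by_contra hne
      exact hUmin _ hU'S (lt_of_le_of_ne hle hne)
    rw [eq_top_iff]
    intro w _
    have h1 : (w : V) ∈ U'.map U.subtype := by rw [heq]; exact w.2
    obtain ⟨w', hw', hww'⟩ := h1
    have h2 : w' = w := Subtype.ext hww'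
    rwa [h2] at hw'
  have hscal : ∀ z : Z, ∃ τ : K, R' z = τ • (1 : Module.End K U) := by
    intro z
    apply schur_set (Set.range R') hirr (R' z)
    rintro _ ⟨z', rfl⟩
    apply LinearMap.ext
    intro w
    apply Subtype.ext
    rw [Module.End.mul_apply, Module.End.mul_apply, hR', hR', hR', hR',
      ← Module.End.mul_apply, ← map_mul, ← Module.End.mul_apply, ← map_mul]
    exact hcomm z z.2 z' z'.2 _ (hUle w.2)
  obtain ⟨w₀, hw₀U, hw₀0⟩ := Submodule.exists_mem_ne_zero_of_ne_bot hUne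
  refine ⟨fun g => if h : g ∈ Z then Classical.choose (hscal ⟨g, h⟩) else 0, w₀, hUle hw₀U,
    hw₀0, ?_, ?_⟩
  · intro z hz
    simp only [dif_pos hz]
    have h1 := Classical.choose_spec (hscal ⟨z, hz⟩)
    have h2 := congrArg Subtype.val (LinearMap.congr_fun h1 ⟨w₀, hw₀U⟩)
    rw [hR'] at h2
    simpa using h2
  · simp only [dif_pos hz₀]
    have h1 := Classical.choose_spec (hscal ⟨z₀, hz₀⟩)
    have h2 := congrArg Subtype.val (LinearMap.congr_fun h1 ⟨w₀, hw₀U⟩)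
    rw [hR'] at h2
    have h3 : ρ z₀ w₀ = Classical.choose (hscal ⟨z₀, hz₀⟩) • w₀ := by simpa using h2
    rw [hUζ w₀ hw₀U] at h3
    intro h4
    rw [h4, one_smul] at h3
    have h5 : (ζ - 1) • w₀ = 0 := by rw [sub_smul, one_smul, h3, sub_self]
    rcases smul_eq_zero.mp h5 with h | h
    · exact hζ1 (sub_eq_zero.mp h)
    · exact hw₀0 h

end

end Cfsg.Agent.Lib.helper66
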