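import Mathlib
import Cfsg.Agent.Lib.helper66.WardA
import Cfsg.Agent.Lib.helper37.CoprimeGen
import Cfsg.Agent.Lib.helper13.Count

set_option autoImplicit false

namespace Cfsg.Agent.Lib.helper66

section

variable {K : Type*} [Field K] {V : Type*} [AddCommGroup V] [Module K V]
  {Γ : Type*} [Group Γ]

theorem rho_mul (ρ : Γ →* Module.End K V) (g h : Γ) (x : V) : ρ (g * h) x = ρ g (ρ h x) := by
  rw [map_mul, Module.End.mul_apply]

theorem rho_inv_apply (ρ : Γ →* Module.End K V) (g : Γ) (x : V) : ρ g⁻¹ (ρ g x) = x := by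
  rw [← rho_mul, inv_mul_cancel, map_one, Module.End.one_apply]

theorem rho_apply_inv (ρ : Γ →* Module.End K V) (g : Γ) (x : V) : ρ g (ρ g⁻¹ x) = x := by
  rw [← rho_mul, mul_inv_cancel, map_one, Module.End.one_apply]

theorem conj_mem_of_normalizer (H : Subgroup Γ) (g : Γ)
    (hg : g ∈ Subgroup.normalizer (H : Set Γ)) (x : Γ) (hx : x ∈ H) : g * x * g⁻¹ ∈ H :=
  (Subgroup.mem_normalizer_iff.mp hg x).mp hx

theorem conj_mem_of_normalizer' (H : Subgroup Γ) (g : Γ)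
    (hg : g ∈ Subgroup.normalizer (H : Set Γ)) (x : Γ) (hx : x ∈ H) : g⁻¹ * x * g ∈ H := by
  have h1 := (Subgroup.mem_normalizer_iff.mp (inv_mem hg) x).mp hx
  simpa using h1

/-- The stabilizer of a vector. -/
def fixSub (ρ : Γ →* Module.End K V) (w : V) : Subgroup Γ where
  carrier := {g | ρ g w = w}
  one_mem' := by
    show ρ 1 w = w
    rw [map_one, Module.End.one_apply]
  mul_mem' := by
    intro g h hg hh
    show ρ (g * h) w = w
    rw [rho_mul, (hh : ρ h w = w), (hg : ρ g w = w)]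
  inv_mem' := by
    intro g hg
    show ρ g⁻¹ w = w
    have h1 := rho_inv_apply ρ g w
    rwa [(hg : ρ g w = w)] at h1

theorem mem_fixSub (ρ : Γ →* Module.End K V) (w : V) (g : Γ) :
    g ∈ fixSub ρ w ↔ ρ g w = w := Iff.rfl

/-- The elements of `S` whose `g`-conjugate acts in the same way on `M'`. -/
def conjEq (ρ : Γ →* Module.End K V) (M' : Submodule K V) (S : Subgroup Γ)
    (hM'S : ∀ u ∈ S, ∀ x ∈ M', ρ u x ∈ M') (g : Γ) : Subgroup Γ where
  carrier := {u | u ∈ S ∧ ∀ x ∈ M', ρ (g * u * g⁻¹) x = ρ u x}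
  one_mem' := ⟨S.one_mem, fun x _ => by simp⟩
  mul_mem' := by
    rintro u u' ⟨hu, hu'⟩ ⟨hv, hv'⟩
    refine ⟨S.mul_mem hu hv, fun x hx => ?_⟩
    have e : g * (u * u') * g⁻¹ = (g * u * g⁻¹) * (g * u' * g⁻¹) := by group
    rw [e, rho_mul, hv' x hx, hu' _ (hM'S u' hv x hx), rho_mul]
  inv_mem' := by
    rintro u ⟨hu, hu'⟩
    refine ⟨S.inv_mem hu, fun x hx => ?_⟩
    have hx' : ρ u⁻¹ x ∈ M' := hM'S _ (S.inv_mem hu) x hx
    have h1 := hu' _ hx'
    rw [rho_apply_inv] at h1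
    have e : g * u⁻¹ * g⁻¹ = (g * u * g⁻¹)⁻¹ := by group
    rw [e]
    nth_rewrite 1 [← h1]
    rw [rho_inv_apply]

theorem mem_conjEq (ρ : Γ →* Module.End K V) (M' : Submodule K V) (S : Subgroup Γ)
    (hM'S : ∀ u ∈ S, ∀ x ∈ M', ρ u x ∈ M') (g : Γ) (u : Γ) :
    u ∈ conjEq ρ M' S hM'S g ↔ u ∈ S ∧ ∀ x ∈ M', ρ (g * u * g⁻¹) x = ρ u x := Iff.rfl

/-- If `a ∈ ⟨b⟩` is nontrivial and `b` has prime exponent, then `b ∈ ⟨a⟩`. -/
theorem mem_zpowers_of_mem_zpowers [Finite Γ] (p : ℕ) (hp : p.Prime) (a b : Γ) (hb : b ^ p = 1)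
    (ha : a ∈ Subgroup.zpowers b) (ha1 : a ≠ 1) : b ∈ Subgroup.zpowers a := by
  have : Fact p.Prime := ⟨hp⟩
  have hb1 : b ≠ 1 := by
    rintro rfl
    apply ha1
    rw [Subgroup.zpowers_one_eq_bot, Subgroup.mem_bot] at ha
    exact ha
  have hap : a ^ p = 1 := by
    obtain ⟨k, rfl⟩ := Subgroup.mem_zpowers_iff.mp ha
    rw [← zpow_natCast, ← zpow_mul, mul_comm, zpow_mul, zpow_natCast, hb, one_zpow]
  have h1 : Nat.card (Subgroup.zpowers a) = p := by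
    rw [Nat.card_zpowers, orderOf_eq_prime hap ha1]
  have h2 : Nat.card (Subgroup.zpowers b) = p := by
    rw [Nat.card_zpowers, orderOf_eq_prime hb hb1]
  have h3 : Subgroup.zpowers a ≤ Subgroup.zpowers b := Subgroup.zpowers_le.mpr ha
  have h4 : Subgroup.zpowers a = Subgroup.zpowers b :=
    Subgroup.eq_of_le_of_card_ge h3 (by rw [h1, h2])
  rw [h4]
  exact Subgroup.mem_zpowers b

/-- An element commuting with `a` commutes with every element of `⟨a⟩`. -/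
theorem comm_of_mem_zpowers (a b u : Γ) (hb : b ∈ Subgroup.zpowers a) (hu : u * a = a * u) :
    u * b = b * u := by
  obtain ⟨k, rfl⟩ := Subgroup.mem_zpowers_iff.mp hb
  exact ((show Commute u a from hu).zpow_right k).eq

theorem mem_normalizer_of_conj (H : Subgroup Γ) (g : Γ) (h : ∀ x ∈ H, g * x * g⁻¹ ∈ H)
    (h' : ∀ x ∈ H, g⁻¹ * x * g ∈ H) : g ∈ Subgroup.normalizer (H : Set Γ) := by
  rw [Subgroup.mem_normalizer_iff]
  intro x
  refine ⟨h x, fun hx => ?_⟩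
  have h1 := h' _ hx
  have e : g⁻¹ * (g * x * g⁻¹) * g = x := by group
  rwa [e] at h1

theorem mem_cent_single (g b : Γ) : g ∈ Subgroup.centralizer ({b} : Set Γ) ↔ b * g = g * b := by
  rw [Subgroup.mem_centralizer_iff]
  constructor
  · intro h
    exact h b rfl
  · intro h x hx
    rw [Set.mem_singleton_iff] at hx
    rw [hx]
    exact h

/-- The setting of the core lemma in Ward's theorem. -/
structure WardCtx (K : Type*) [Field K] (V : Type*) [AddCommGroup V] [Module K V]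
    (Γ : Type*) [Group Γ] where
  ρ : Γ →* Module.End K V
  M₀ : Submodule K V
  A : Subgroup Γ
  S : Subgroup Γ
  R : Subgroup Γ
  p : ℕ
  t : ℕ
  q : ℕ
  hp : p.Prime
  ht : t.Prime
  hq : q.Prime
  htp : t ≠ p
  hqp : q ≠ p
  hqt : q ≠ t
  htK : (t : K) ≠ 0
  hAc : ∀ a ∈ A, ∀ b ∈ A, a * b = b * a
  hAp : ∀ a ∈ A, a ^ p = 1
  hAcard : Nat.card A = p ^ 2
  hS : IsPGroup t S
  hR : IsPGroup q R
  hAS : A ≤ Subgroup.normalizer (S : Set Γ)
  hAR : A ≤ Subgroup.normalizer (R : Set Γ)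
  hRS : R ≤ Subgroup.normalizer (S : Set Γ)
  hCS : ∀ u ∈ S, (∀ a ∈ A, a * u = u * a) → u = 1
  hCR : ∀ r ∈ R, (∀ a ∈ A, a * r = r * a) → r = 1
  hMS : ∀ u ∈ S, ∀ w ∈ M₀, ρ u w ∈ M₀
  hMR : ∀ r ∈ R, ∀ w ∈ M₀, ρ r w ∈ M₀
  hMA : ∀ a ∈ A, ∀ w ∈ M₀, ρ a w ∈ M₀
  hN1 : ∀ b ∈ A, b ≠ 1 → ∀ u ∈ S, ∀ r ∈ R, u * b = b * u → r * b = b * r → u * r = r * u
  hN2 : ∀ b ∈ A, b ≠ 1 → ∀ u ∈ S, u * b = b * u → ∀ w ∈ M₀, ρ b w = w → ρ u w = w

namespace WardCtx

variable (C : WardCtx K V Γ)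

/-- The elements normalizing `S` and preserving `M₀`. -/
def N : Subgroup Γ where
  carrier := {g | g ∈ Subgroup.normalizer (C.S : Set Γ) ∧ (∀ w ∈ C.M₀, C.ρ g w ∈ C.M₀) ∧
    ∀ w ∈ C.M₀, C.ρ g⁻¹ w ∈ C.M₀}
  one_mem' := ⟨Subgroup.one_mem _, fun w hw => by simpa using hw, fun w hw => by simpa using hw⟩
  mul_mem' := by
    rintro g h ⟨hg1, hg2, hg3⟩ ⟨hh1, hh2, hh3⟩
    refine ⟨Subgroup.mul_mem _ hg1 hh1, fun w hw => ?_, fun w hw => ?_⟩
    · rw [rho_mul]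
      exact hg2 _ (hh2 w hw)
    · rw [mul_inv_rev, rho_mul]
      exact hh3 _ (hg3 w hw)
  inv_mem' := by
    rintro g ⟨hg1, hg2, hg3⟩
    refine ⟨Subgroup.inv_mem _ hg1, hg3, fun w hw => ?_⟩
    rw [inv_inv]
    exact hg2 w hw

theorem mem_N (g : Γ) : g ∈ C.N ↔ g ∈ Subgroup.normalizer (C.S : Set Γ) ∧
    (∀ w ∈ C.M₀, C.ρ g w ∈ C.M₀) ∧ ∀ w ∈ C.M₀, C.ρ g⁻¹ w ∈ C.M₀ := Iff.rfl

theorem A_le_N : C.A ≤ C.N := fun a ha =>
  ⟨C.hAS ha, C.hMA a ha, C.hMA _ (C.A.inv_mem ha)⟩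

theorem R_le_N : C.R ≤ C.N := fun r hr =>
  ⟨C.hRS hr, C.hMR r hr, C.hMR _ (C.R.inv_mem hr)⟩

theorem S_le_N : C.S ≤ C.N := fun u hu =>
  ⟨Subgroup.le_normalizer hu, C.hMS u hu, C.hMS _ (C.S.inv_mem hu)⟩

/-- The preimage in `S` of the centre of the image of `S` on `M₀`. -/
def Z : Subgroup Γ := cenMod C.ρ C.M₀ C.S C.hMS

theorem Z_le_S : C.Z ≤ C.S := cenMod_le _ _ _ _

theorem conj_mem_Z (g : Γ) (hg : g ∈ C.N) (z : Γ) (hz : z ∈ C.Z) : g * z * g⁻¹ ∈ C.Z :=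
  conj_mem_cenMod C.ρ C.M₀ C.S C.hMS g hg.1 hg.2.1 hg.2.2 z hz

theorem conj_mem_Z' (g : Γ) (hg : g ∈ C.N) (z : Γ) (hz : z ∈ C.Z) : g⁻¹ * z * g ∈ C.Z := by
  have h1 := C.conj_mem_Z g⁻¹ (C.N.inv_mem hg) z hz
  simpa using h1

/-- `w` is a vector of `M₀` of weight `μ` for `Z`. -/
def IsWt (μ : Γ → K) (w : V) : Prop := w ∈ C.M₀ ∧ ∀ z ∈ C.Z, C.ρ z w = μ z • w

theorem isWt_sub (μ : Γ → K) (w w' : V) (hw : C.IsWt μ w) (hw' : C.IsWt μ w') :
    C.IsWt μ (w - w') :=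
  ⟨C.M₀.sub_mem hw.1 hw'.1, fun z hz => by rw [map_sub, hw.2 z hz, hw'.2 z hz, smul_sub]⟩

/-- `S` preserves the weight spaces. -/
theorem isWt_S (μ : Γ → K) (w : V) (hw : C.IsWt μ w) (u : Γ) (hu : u ∈ C.S) :
    C.IsWt μ (C.ρ u w) := by
  refine ⟨C.hMS u hu w hw.1, fun z hz => ?_⟩
  rw [← rho_mul, hz.2 u hu w hw.1, rho_mul, hw.2 z hz, map_smul]

/-- Elements of `N` permute the weight spaces. -/
theorem isWt_conj (μ : Γ → K) (w : V) (hw : C.IsWt μ w) (g : Γ) (hg : g ∈ C.N) :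
    C.IsWt (fun z => μ (g⁻¹ * z * g)) (C.ρ g w) := by
  refine ⟨hg.2.1 w hw.1, fun z hz => ?_⟩
  have e : z * g = g * (g⁻¹ * z * g) := by group
  rw [← rho_mul, e, rho_mul, hw.2 _ (C.conj_mem_Z' g hg z hz), map_smul]

/-- `g` fixes the weight `μ`. -/
def Fixes (g : Γ) (μ : Γ → K) : Prop := ∀ z ∈ C.Z, μ (g⁻¹ * z * g) = μ z

/-- The stabilizer of a weight. -/
def stab (μ : Γ → K) : Subgroup Γ where
  carrier := {g | g ∈ C.N ∧ C.Fixes g μ}
  one_mem' := ⟨C.N.one_mem, fun z _ => by simp⟩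
  mul_mem' := by
    rintro g h ⟨hg, hg'⟩ ⟨hh, hh'⟩
    refine ⟨C.N.mul_mem hg hh, fun z hz => ?_⟩
    have e : (g * h)⁻¹ * z * (g * h) = h⁻¹ * (g⁻¹ * z * g) * h := by group
    rw [e, hh' _ (C.conj_mem_Z' g hg z hz), hg' z hz]
  inv_mem' := by
    rintro g ⟨hg, hg'⟩
    refine ⟨C.N.inv_mem hg, fun z hz => ?_⟩
    have h1 := hg' _ (C.conj_mem_Z g hg z hz)
    have e : g⁻¹ * (g * z * g⁻¹) * g = z := by group
    rw [e] at h1
    rw [inv_inv]
    exact h1.symm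

theorem mem_stab (μ : Γ → K) (g : Γ) : g ∈ C.stab μ ↔ g ∈ C.N ∧ C.Fixes g μ := Iff.rfl

/-- Generation of an `A`-invariant subgroup of `S` by centralizers of nontrivial elements
of `A`. -/
theorem gen_le [Finite Γ] (X T : Subgroup Γ) (pr : ℕ) (hpr : pr.Prime) (hprp : pr ≠ C.p)
    (hX : IsPGroup pr X)
    (hAX : C.A ≤ Subgroup.normalizer (X : Set Γ))
    (h : ∀ b ∈ C.A, b ≠ 1 → ∀ x ∈ X, x * b = b * x → x ∈ T) : X ≤ T := by
  have : Fact C.p.Prime := ⟨C.hp⟩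
  have hpX : ¬ C.p ∣ Nat.card X := by
    intro hdvd
    have : Fact pr.Prime := ⟨hpr⟩
    obtain ⟨n, hn⟩ := IsPGroup.iff_card.mp hX
    rw [hn] at hdvd
    have := (Nat.prime_dvd_prime_iff_eq C.hp hpr).mp (C.hp.dvd_of_dvd_pow hdvd)
    exact hprp this.symm
  have h1 := Cfsg.Agent.Lib.helper37.coprime_gen_hyperplane C.p C.A X C.hAc C.hAp hpX hAX
  rw [h1]
  apply iSup_le
  rintro ⟨B, hBA, hBi⟩
  have hBne : B ≠ ⊥ := by
    rintro rfl
    have h2 := Cfsg.Agent.Lib.helper13.relIndex_mul_card_of_le (bot_le : (⊥ : Subgroup Γ) ≤ C.A)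
    rw [Subgroup.card_bot, mul_one, C.hAcard] at h2
    rw [h2] at hBi
    have := C.hp.one_lt
    nlinarith
  obtain ⟨b, hb1⟩ := (Subgroup.ne_bot_iff_exists_ne_one).mp hBne
  intro x hx
  have hx1 : x ∈ X := (Subgroup.mem_inf.mp hx).1
  have hx2 := (Subgroup.mem_inf.mp hx).2
  have hxb : (b : Γ) * x = x * b := Subgroup.mem_centralizer_iff.mp hx2 b b.2
  exact h b (hBA b.2) (fun h0 => hb1 (Subtype.ext h0)) x hx1 hxb.symm

/-- An element commuting with two independent elements of `A` commutes with `A`. -/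
theorem comm_A [Finite Γ] (a b : Γ) (ha : a ∈ C.A) (hb : b ∈ C.A) (hb1 : b ≠ 1)
    (hab : a ∉ Subgroup.zpowers b) (y : Γ) (hya : a * y = y * a) (hyb : b * y = y * b) :
    ∀ c ∈ C.A, c * y = y * c := by
  intro c hc
  obtain ⟨i, j, rfl⟩ := elemAb_sq_decomp C.A C.p C.hp C.hAc C.hAp C.hAcard a b ha hb hb1 hab c hc
  have h1 : Commute (a ^ i) y := (show Commute a y from hya).zpow_left i
  have h2 : Commute (b ^ j) y := (show Commute b y from hyb).zpow_left j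
  exact (h1.mul_left h2).eq

/-- **Purity**: if `a ∈ A` does not fix the weight `μ`, then the centralizer of `a` in `S`
acts trivially on the vectors of weight `μ`. -/
theorem purity [Finite Γ] (μ : Γ → K) (a : Γ) (ha : a ∈ C.A) (hfix : ¬ C.Fixes a μ)
    (u : Γ) (hu : u ∈ C.S) (hua : u * a = a * u) (w : V) (hw : C.IsWt μ w) : C.ρ u w = w := by
  classical
  have ha1 : a ≠ 1 := by
    rintro rfl
    exact hfix (fun z _ => by simp)
  have haN : a ∈ C.N := C.A_le_N ha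
  have hap : a ^ C.p = 1 := C.hAp a ha
  set y := C.ρ u w - w with hy
  have hyw : C.IsWt μ y := C.isWt_sub μ _ _ (C.isWt_S μ w hw u hu) hw
  have hx : ∀ k ∈ Finset.range C.p, ∀ z ∈ C.Z,
      C.ρ z (C.ρ (a ^ k) y) = μ ((a ^ k)⁻¹ * z * a ^ k) • C.ρ (a ^ k) y := by
    intro k _ z hz
    exact (C.isWt_conj μ y hyw (a ^ k) (C.N.pow_mem haN k)).2 z hz
  have key : ∀ i j, i < j → j < C.p →
      ∃ z ∈ C.Z, μ ((a ^ i)⁻¹ * z * a ^ i) ≠ μ ((a ^ j)⁻¹ * z * a ^ j) := by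
    intro i j hij hj
    by_contra hall
    push Not at hall
    apply hfix
    have h1 : a ^ (j - i) ∈ C.stab μ := by
      refine ⟨C.N.pow_mem haN _, fun z hz => ?_⟩
      have h2 := hall _ (C.conj_mem_Z (a ^ i) (C.N.pow_mem haN i) z hz)
      have e1 : (a ^ i)⁻¹ * (a ^ i * z * (a ^ i)⁻¹) * a ^ i = z := by group
      have e2 : (a ^ j)⁻¹ * (a ^ i * z * (a ^ i)⁻¹) * a ^ j =
          (a ^ (j - i))⁻¹ * z * a ^ (j - i) := by
        have e3 : a ^ j = a ^ i * a ^ (j - i) := by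
          rw [← pow_add]
          congr 1
          omega
        rw [e3]
        group
      rw [e1, e2] at h2
      exact h2.symm
    have h3 : a ∈ Subgroup.zpowers (a ^ (j - i)) :=
      mem_zpowers_pow_of_coprime a C.p (j - i) C.hp hap
        (Nat.coprime_of_lt_prime (by omega) (by omega) C.hp).symm
    have h4 : a ∈ C.stab μ := (Subgroup.zpowers_le.mpr h1) h3
    exact h4.2
  have hμ : ∀ i ∈ Finset.range C.p, ∀ j ∈ Finset.range C.p, i ≠ j →
      ∃ z ∈ C.Z, μ ((a ^ i)⁻¹ * z * a ^ i) ≠ μ ((a ^ j)⁻¹ * z * a ^ j) := by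
    intro i hi j hj hij
    rcases lt_or_gt_of_ne hij with h | h
    · exact key i j h (Finset.mem_range.mp hj)
    · obtain ⟨z, hz, hne⟩ := key j i h (Finset.mem_range.mp hi)
      exact ⟨z, hz, hne.symm⟩
  have hsum : ∑ k ∈ Finset.range C.p, C.ρ (a ^ k) y = 0 := by
    obtain ⟨Nw, hNw⟩ : ∃ Nw, Nw = ∑ k ∈ Finset.range C.p, C.ρ (a ^ k) w := ⟨_, rfl⟩
    have hNwM : Nw ∈ C.M₀ := by
      rw [hNw]
      exact Submodule.sum_mem _ (fun k _ => (C.N.pow_mem haN k).2.1 w hw.1)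
    have hNwa : C.ρ a Nw = Nw := by
      rw [hNw, map_sum]
      have h1 : ∀ k, C.ρ a (C.ρ (a ^ k) w) = C.ρ (a ^ (k + 1)) w := by
        intro k
        rw [← rho_mul, ← pow_succ']
      simp_rw [h1]
      have h2 := Finset.sum_range_succ' (fun k => C.ρ (a ^ k) w) C.p
      have h3 := Finset.sum_range_succ (fun k => C.ρ (a ^ k) w) C.p
      rw [h3] at h2
      simp only [hap, pow_zero] at h2
      exact (add_right_cancel h2).symm
    have h4 := C.hN2 a ha ha1 u hu hua Nw hNwM hNwa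
    have h5 : ∀ k, C.ρ (a ^ k) y = C.ρ u (C.ρ (a ^ k) w) - C.ρ (a ^ k) w := by
      intro k
      rw [hy, map_sub, ← rho_mul, ← rho_mul]
      have e : a ^ k * u = u * a ^ k := ((show Commute u a from hua).pow_right k).eq.symm
      rw [e]
    simp_rw [h5]
    rw [Finset.sum_sub_distrib, ← map_sum, ← hNw, h4, sub_self]
  have h0 := wt_indep C.ρ C.Z (Finset.range C.p) (fun k z => μ ((a ^ k)⁻¹ * z * a ^ k))
    (fun k => C.ρ (a ^ k) y) hx hμ hsum 0 (Finset.mem_range.mpr C.hp.pos)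
  simp only [pow_zero, map_one, Module.End.one_apply] at h0
  exact sub_eq_zero.mp h0

/-- If all of `A` fixes the weight `μ`, then `Z` is trivial on the vectors of weight `μ`. -/
theorem fixA [Finite Γ] (μ : Γ → K) (hfix : ∀ a ∈ C.A, C.Fixes a μ) (w : V) (hw : C.IsWt μ w) :
    ∀ z ∈ C.Z, C.ρ z w = w := by
  have hAZ : C.A ≤ Subgroup.normalizer (C.Z : Set Γ) := fun a ha =>
    mem_normalizer_of_conj _ a (C.conj_mem_Z a (C.A_le_N ha)) (C.conj_mem_Z' a (C.A_le_N ha))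
  have hZT : C.Z ≤ fixSub C.ρ w := by
    apply C.gen_le C.Z (fixSub C.ρ w) C.t C.ht C.htp (C.hS.to_le C.Z_le_S) hAZ
    intro b hb hb1 z hz hzb
    obtain ⟨a, ha, hab⟩ := elemAb_sq_exists_not_mem C.A C.p C.hp C.hAp C.hAcard b hb
    have hcab : a * b = b * a := C.hAc a ha b hb
    obtain ⟨Y, hY⟩ : ∃ Y : Subgroup Γ, Y = C.Z ⊓ Subgroup.centralizer ({b} : Set Γ) := ⟨_, rfl⟩
    have hmemY : ∀ y, y ∈ Y ↔ y ∈ C.Z ∧ b * y = y * b := by
      intro y
      rw [hY, Subgroup.mem_inf, mem_cent_single]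
    have haY : a ∈ Subgroup.normalizer (Y : Set Γ) := by
      apply mem_normalizer_of_conj
      · intro y hy
        rw [hmemY] at hy ⊢
        refine ⟨C.conj_mem_Z a (C.A_le_N ha) y hy.1, ?_⟩
        calc b * (a * y * a⁻¹) = a * (b * y) * a⁻¹ := by
              rw [← mul_assoc, ← mul_assoc, ← hcab]
              group
          _ = a * (y * b) * a⁻¹ := by rw [hy.2]
          _ = a * y * (a⁻¹ * (a * b) * a⁻¹) := by group
          _ = a * y * a⁻¹ * b := by rw [hcab]; group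
      · intro y hy
        rw [hmemY] at hy ⊢
        refine ⟨C.conj_mem_Z' a (C.A_le_N ha) y hy.1, ?_⟩
        calc b * (a⁻¹ * y * a) = a⁻¹ * (a * b) * a⁻¹ * y * a := by group
          _ = a⁻¹ * (b * y) * a := by rw [hcab]; group
          _ = a⁻¹ * (y * b) * a := by rw [hy.2]
          _ = a⁻¹ * y * (b * a) := by group
          _ = a⁻¹ * y * a * b := by rw [← hcab]; group
    have hfpf : ∀ y ∈ Y, a * y = y * a → y = 1 := by
      intro y hy hya
      rw [hmemY] at hy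
      exact C.hCS y (C.Z_le_S hy.1) (C.comm_A a b ha hb hb1 hab y hya hy.2)
    obtain ⟨y, hy, hzy⟩ := fpf_surj Y a haY hfpf z ((hmemY z).mpr ⟨hz, hzb.symm⟩)
    rw [hmemY] at hy
    rw [mem_fixSub, hzy, rho_mul, hw.2 _ (C.conj_mem_Z a (C.A_le_N ha) y hy.1)]
    have h1 : μ (a * y * a⁻¹) = μ y := by
      have h2 := hfix a⁻¹ (C.A.inv_mem ha) y hy.1
      rwa [inv_inv] at h2
    rw [h1, ← hw.2 y hy.1, rho_inv_apply]
  intro z hz
  exact hZT hz

/-- The critical configuration in stage 1: some `b ∈ A` fixes the weight, and no element of `A`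
outside `⟨b⟩` does. -/
theorem stage1_2b [Finite Γ] (b₁ : Γ) (hb₁ : b₁ ∈ C.A) (hb₁1 : b₁ ≠ 1)
    (hb₁R : ∀ r ∈ C.R, r * b₁ = b₁ * r)
    (hgen : C.S ≤ Subgroup.closure {x | ∃ u ∈ C.S, ∃ r ∈ C.R, x = r * u * r⁻¹ * u⁻¹})
    (lam : Γ → K) (w₀ : V) (hw₀ : C.IsWt lam w₀) (hw₀0 : w₀ ≠ 0)
    (z₀ : Γ) (hz₀ : z₀ ∈ C.Z) (hlz : lam z₀ ≠ 1)
    (b : Γ) (hb : b ∈ C.A) (hb1 : b ≠ 1) (hbfix : C.Fixes b lam)
    (h2 : ∀ a ∈ C.A, a ∉ Subgroup.zpowers b → ¬ C.Fixes a lam) : False := by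
  classical
  have hbN : b ∈ C.N := C.A_le_N hb
  have hbp : b ^ C.p = 1 := C.hAp b hb
  have hi : ∀ r ∈ C.R, ∀ a ∈ C.A, a ∉ Subgroup.zpowers b →
      ¬ C.Fixes a (fun z => lam (r⁻¹ * z * r)) := by
    intro r hr a ha hab hfix
    have hrN : r ∈ C.N := C.R_le_N hr
    have haN : a ∈ C.N := C.A_le_N ha
    by_cases hb₁b : b₁ ∈ Subgroup.zpowers b
    · have hbb₁ : b ∈ Subgroup.zpowers b₁ :=
        mem_zpowers_of_mem_zpowers C.p C.hp b₁ b hbp hb₁b hb₁1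
      have hrb : r * b = b * r := comm_of_mem_zpowers b₁ b r hbb₁ (hb₁R r hr)
      have hbfix' : C.Fixes b (fun z => lam (r⁻¹ * z * r)) := by
        intro z hz
        show lam (r⁻¹ * (b⁻¹ * z * b) * r) = lam (r⁻¹ * z * r)
        have h3 := hbfix _ (C.conj_mem_Z' r hrN z hz)
        have e : b⁻¹ * (r⁻¹ * z * r) * b = r⁻¹ * (b⁻¹ * z * b) * r := by
          have e1 : b⁻¹ * r⁻¹ = r⁻¹ * b⁻¹ := by rw [← mul_inv_rev, hrb, mul_inv_rev]
          calc b⁻¹ * (r⁻¹ * z * r) * b = (b⁻¹ * r⁻¹) * z * (r * b) := by group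
            _ = (r⁻¹ * b⁻¹) * z * (b * r) := by rw [e1, hrb]
            _ = r⁻¹ * (b⁻¹ * z * b) * r := by group
        rw [e] at h3
        exact h3
      have hAfix : ∀ c ∈ C.A, C.Fixes c (fun z => lam (r⁻¹ * z * r)) := by
        intro c hc
        obtain ⟨i, j, rfl⟩ :=
          elemAb_sq_decomp C.A C.p C.hp C.hAc C.hAp C.hAcard a b ha hb hb1 hab c hc
        have h4 : a ∈ C.stab (fun z => lam (r⁻¹ * z * r)) := ⟨haN, hfix⟩
        have h5 : b ∈ C.stab (fun z => lam (r⁻¹ * z * r)) := ⟨hbN, hbfix'⟩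
        exact (Subgroup.mul_mem _ (Subgroup.zpow_mem _ h4 i) (Subgroup.zpow_mem _ h5 j)).2
      have h6 := C.fixA _ hAfix (C.ρ r w₀) (C.isWt_conj lam w₀ hw₀ r hrN) (r * z₀ * r⁻¹)
        (C.conj_mem_Z r hrN z₀ hz₀)
      have e : r * z₀ * r⁻¹ * r = r * z₀ := by group
      rw [← rho_mul, e, rho_mul, hw₀.2 z₀ hz₀, map_smul] at h6
      have h7 : (lam z₀ - 1) • C.ρ r w₀ = 0 := by rw [sub_smul, one_smul, h6, sub_self]
      rcases smul_eq_zero.mp h7 with h | h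
      · exact hlz (sub_eq_zero.mp h)
      · apply hw₀0
        have h8 := rho_inv_apply C.ρ r w₀
        rw [h, map_zero] at h8
        exact h8.symm
    · obtain ⟨i, j, haij⟩ :=
        elemAb_sq_decomp C.A C.p C.hp C.hAc C.hAp C.hAcard b₁ b hb₁ hb hb1 hb₁b a ha
      obtain ⟨c₁, hc₁⟩ : ∃ c₁, c₁ = (b ^ j)⁻¹ * r⁻¹ * b ^ j * r := ⟨_, rfl⟩
      have hbjA : b ^ j ∈ C.A := C.A.zpow_mem hb j
      have hb₁iA : b₁ ^ i ∈ C.A := C.A.zpow_mem hb₁ i
      have hc₁R : c₁ ∈ C.R := by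
        have h3 := conj_mem_of_normalizer' C.R (b ^ j) (C.hAR hbjA) r⁻¹ (C.R.inv_mem hr)
        rw [hc₁]
        exact C.R.mul_mem h3 hr
      have hb₁ir : Commute (b₁ ^ i) r := ((show Commute r b₁ from hb₁R r hr).zpow_right i).symm
      have hb₁ic : Commute (b₁ ^ i) c₁ :=
        ((show Commute c₁ b₁ from hb₁R c₁ hc₁R).zpow_right i).symm
      have hconj : r⁻¹ * a * r = b ^ j * (b₁ ^ i * c₁) := by
        rw [haij, hc₁]
        have e1 : b₁ ^ i * b ^ j = b ^ j * b₁ ^ i := C.hAc _ hb₁iA _ hbjA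
        have e2 : r⁻¹ * b₁ ^ i = b₁ ^ i * r⁻¹ := (hb₁ir.inv_right).eq.symm
        calc r⁻¹ * (b₁ ^ i * b ^ j) * r = (r⁻¹ * b₁ ^ i) * b ^ j * r := by group
          _ = b₁ ^ i * r⁻¹ * b ^ j * r := by rw [e2]
          _ = (b₁ ^ i * b ^ j) * ((b ^ j)⁻¹ * r⁻¹ * b ^ j * r) := by group
          _ = b ^ j * (b₁ ^ i * ((b ^ j)⁻¹ * r⁻¹ * b ^ j * r)) := by rw [e1]; group
      have hst1 : r⁻¹ * a * r ∈ C.stab lam := by
        refine ⟨C.N.mul_mem (C.N.mul_mem (C.N.inv_mem hrN) haN) hrN, fun z hz => ?_⟩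
        have h3 : lam (r⁻¹ * (a⁻¹ * (r * z * r⁻¹) * a) * r) = lam (r⁻¹ * (r * z * r⁻¹) * r) :=
          hfix _ (C.conj_mem_Z r hrN z hz)
        have e1 : r⁻¹ * (a⁻¹ * (r * z * r⁻¹) * a) * r =
            (r⁻¹ * a * r)⁻¹ * z * (r⁻¹ * a * r) := by group
        have e2 : r⁻¹ * (r * z * r⁻¹) * r = z := by group
        rw [e1, e2] at h3
        exact h3
      have hbst : b ∈ C.stab lam := ⟨hbN, hbfix⟩
      have hst2 : b ^ j ∈ C.stab lam := Subgroup.zpow_mem _ hbst j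
      have hst3 : b₁ ^ i * c₁ ∈ C.stab lam := by
        have h3 := Subgroup.mul_mem _ (Subgroup.inv_mem _ hst2) hst1
        rw [hconj, inv_mul_cancel_left] at h3
        exact h3
      have hst4 : (b₁ ^ i) ^ (orderOf c₁) ∈ C.stab lam := by
        have h3 := Subgroup.pow_mem _ hst3 (orderOf c₁)
        rw [hb₁ic.mul_pow, pow_orderOf_eq_one, mul_one] at h3
        exact h3
      have hdA : (b₁ ^ i) ^ (orderOf c₁) ∈ C.A := C.A.pow_mem hb₁iA _
      have hdb : (b₁ ^ i) ^ (orderOf c₁) ∈ Subgroup.zpowers b := by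
        by_contra hnot
        exact h2 _ hdA hnot hst4.2
      have hncop : Nat.Coprime (orderOf c₁) C.p := by
        obtain ⟨k, hk⟩ := C.hR ⟨c₁, hc₁R⟩
        have h3 : orderOf c₁ ∣ C.q ^ k := by
          apply orderOf_dvd_of_pow_eq_one
          have h4 := congrArg Subtype.val hk
          simpa using h4
        exact Nat.Coprime.coprime_dvd_left h3
          (Nat.Coprime.pow_left k ((Nat.coprime_primes C.hq C.hp).mpr C.hqp))
      have h5 : b₁ ^ i ∈ Subgroup.zpowers ((b₁ ^ i) ^ (orderOf c₁)) :=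
        mem_zpowers_pow_of_coprime (b₁ ^ i) C.p _ C.hp (C.hAp _ hb₁iA) hncop
      have h6 : b₁ ^ i ∈ Subgroup.zpowers b := (Subgroup.zpowers_le.mpr hdb) h5
      apply hab
      rw [haij]
      exact Subgroup.mul_mem _ h6 (Subgroup.zpow_mem _ (Subgroup.mem_zpowers b) j)
  obtain ⟨M', hM'⟩ : ∃ M' : Submodule K V, M' =
      Submodule.span K {x | ∃ r ∈ C.R, ∃ w, C.IsWt lam w ∧ x = C.ρ r w} := ⟨_, rfl⟩
  have hw₀M' : w₀ ∈ M' := by
    rw [hM']
    apply Submodule.subset_span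
    exact ⟨1, C.R.one_mem, w₀, hw₀, by simp⟩
  have hM'R : ∀ r ∈ C.R, ∀ x ∈ M', C.ρ r x ∈ M' := by
    intro r hr x hx
    rw [hM'] at hx ⊢
    induction hx using Submodule.span_induction with
    | mem x hx =>
      obtain ⟨r', hr', w, hw, rfl⟩ := hx
      apply Submodule.subset_span
      exact ⟨r * r', C.R.mul_mem hr hr', w, hw, by rw [rho_mul]⟩
    | zero =>
      rw [map_zero]
      exact Submodule.zero_mem _
    | add x y _ _ hx hy =>
      rw [map_add]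
      exact Submodule.add_mem _ hx hy
    | smul c x _ hx =>
      rw [map_smul]
      exact Submodule.smul_mem _ c hx
  have hM'S : ∀ u ∈ C.S, ∀ x ∈ M', C.ρ u x ∈ M' := by
    intro u hu x hx
    rw [hM'] at hx ⊢
    induction hx using Submodule.span_induction with
    | mem x hx =>
      obtain ⟨r, hr, w, hw, rfl⟩ := hx
      apply Submodule.subset_span
      refine ⟨r, hr, C.ρ (r⁻¹ * u * r) w,
        C.isWt_S lam w hw _ (conj_mem_of_normalizer' C.S r (C.hRS hr) u hu), ?_⟩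
      rw [← rho_mul, ← rho_mul]
      congr 2
      group
    | zero =>
      rw [map_zero]
      exact Submodule.zero_mem _
    | add x y _ _ hx hy =>
      rw [map_add]
      exact Submodule.add_mem _ hx hy
    | smul c x _ hx =>
      rw [map_smul]
      exact Submodule.smul_mem _ c hx
  have hii : ∀ a ∈ C.A, a ∉ Subgroup.zpowers b → ∀ u ∈ C.S, u * a = a * u →
      ∀ x ∈ M', C.ρ u x = x := by
    intro a ha hab u hu hua x hx
    rw [hM'] at hx
    induction hx using Submodule.span_induction with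
    | mem x hx =>
      obtain ⟨r, hr, w, hw, rfl⟩ := hx
      exact C.purity _ a ha (hi r hr a ha hab) u hu hua _
        (C.isWt_conj lam w hw r (C.R_le_N hr))
    | zero => rw [map_zero]
    | add x y _ _ hx hy => rw [map_add, hx, hy]
    | smul c x _ hx => rw [map_smul, hx]
  have hiv : ∀ u ∈ C.S, ∀ x ∈ M', C.ρ (b * u * b⁻¹) x = C.ρ u x := by
    have h3 : C.S ≤ conjEq C.ρ M' C.S hM'S b := by
      apply C.gen_le C.S _ C.t C.ht C.htp C.hS C.hAS
      intro a ha ha1 u hu hua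
      refine ⟨hu, fun x hx => ?_⟩
      by_cases hab : a ∈ Subgroup.zpowers b
      · have hba : b ∈ Subgroup.zpowers a :=
          mem_zpowers_of_mem_zpowers C.p C.hp a b hbp hab ha1
        have hub : u * b = b * u := comm_of_mem_zpowers a b u hba hua
        have e : b * u * b⁻¹ = u := by
          rw [← hub]
          group
        rw [e]
      · have hu' : b * u * b⁻¹ ∈ C.S := conj_mem_of_normalizer C.S b (C.hAS hb) u hu
        have hcab : a * b = b * a := C.hAc a ha b hb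
        have hu'a : b * u * b⁻¹ * a = a * (b * u * b⁻¹) := by
          calc b * u * b⁻¹ * a = b * u * (b⁻¹ * (a * b) * b⁻¹) := by group
            _ = b * (u * a) * b⁻¹ := by rw [hcab]; group
            _ = b * (a * u) * b⁻¹ := by rw [hua]
            _ = (b * a) * u * b⁻¹ := by group
            _ = a * (b * u * b⁻¹) := by rw [← hcab]; group
        rw [hii a ha hab u hu hua x hx, hii a ha hab _ hu' hu'a x hx]
    intro u hu x hx
    exact (h3 hu).2 x hx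
  have hiv' : ∀ u ∈ C.S, ∀ x ∈ M', C.ρ (b⁻¹ * u * b) x = C.ρ u x := by
    intro u hu x hx
    have h3 := hiv _ (conj_mem_of_normalizer' C.S b (C.hAS hb) u hu) x hx
    have e : b * (b⁻¹ * u * b) * b⁻¹ = u := by group
    rw [e] at h3
    exact h3.symm
  have hv : ∀ r ∈ C.R, ∀ u ∈ C.S, ∀ x ∈ M', C.ρ (r * u * r⁻¹) x = C.ρ u x := by
    intro r hr
    by_cases hb₁b : b₁ ∈ Subgroup.zpowers b
    · have hbb₁ : b ∈ Subgroup.zpowers b₁ :=
        mem_zpowers_of_mem_zpowers C.p C.hp b₁ b hbp hb₁b hb₁1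
      have hrb : r * b = b * r := comm_of_mem_zpowers b₁ b r hbb₁ (hb₁R r hr)
      have h3 : C.S ≤ conjEq C.ρ M' C.S hM'S r := by
        apply C.gen_le C.S _ C.t C.ht C.htp C.hS C.hAS
        intro a ha ha1 u hu hua
        refine ⟨hu, fun x hx => ?_⟩
        by_cases hab : a ∈ Subgroup.zpowers b
        · have hba : b ∈ Subgroup.zpowers a :=
            mem_zpowers_of_mem_zpowers C.p C.hp a b hbp hab ha1
          have hub : u * b = b * u := comm_of_mem_zpowers a b u hba hua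
          have hur : u * r = r * u := C.hN1 b hb hb1 u hu r hr hub hrb
          have e : r * u * r⁻¹ = u := by
            rw [← hur]
            group
          rw [e]
        · rw [rho_mul, rho_mul, hii a ha hab u hu hua _ (hM'R _ (C.R.inv_mem hr) x hx),
            rho_apply_inv, hii a ha hab u hu hua x hx]
      intro u hu x hx
      exact (h3 hu).2 x hx
    · have hfpf : ∀ y ∈ C.R, b⁻¹ * y = y * b⁻¹ → y = 1 := by
        intro y hy hyb
        have hyb' : b * y = y * b := by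
          calc b * y = b * (y * b⁻¹) * b := by group
            _ = b * (b⁻¹ * y) * b := by rw [hyb]
            _ = y * b := by group
        exact C.hCR y hy (C.comm_A b₁ b hb₁ hb hb1 hb₁b y (hb₁R y hy).symm hyb')
      obtain ⟨c, hc, hrc⟩ := fpf_surj' C.R b⁻¹ (C.hAR (C.A.inv_mem hb)) hfpf r hr
      intro u hu x hx
      have hu₁ : c * u * c⁻¹ ∈ C.S := conj_mem_of_normalizer C.S c (C.hRS hc) u hu
      have hu₂ : b * (c * u * c⁻¹) * b⁻¹ ∈ C.S :=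
        conj_mem_of_normalizer C.S b (C.hAS hb) _ hu₁
      have hu₃ : c⁻¹ * (b * (c * u * c⁻¹) * b⁻¹) * c ∈ C.S :=
        conj_mem_of_normalizer' C.S c (C.hRS hc) _ hu₂
      have e : r * u * r⁻¹ = b⁻¹ * (c⁻¹ * (b * (c * u * c⁻¹) * b⁻¹) * c) * b := by
        rw [hrc]
        group
      rw [e, hiv' _ hu₃ x hx, rho_mul, rho_mul, hiv _ hu₁ _ (hM'R c hc x hx), ← rho_mul,
        ← rho_mul]
      congr 2
      group
  have hvi : C.S ≤ kerMod C.ρ M' C.S := by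
    refine hgen.trans ((Subgroup.closure_le _).mpr ?_)
    rintro _ ⟨u, hu, r, hr, rfl⟩
    have hu' : r * u * r⁻¹ ∈ C.S := conj_mem_of_normalizer C.S r (C.hRS hr) u hu
    refine ⟨C.S.mul_mem hu' (C.S.inv_mem hu), fun x hx => ?_⟩
    rw [rho_mul, hv r hr u hu _ (hM'S _ (C.S.inv_mem hu) x hx), rho_apply_inv]
  have h9 := (hvi (C.Z_le_S hz₀)).2 w₀ hw₀M'
  rw [hw₀.2 z₀ hz₀] at h9
  have h10 : (lam z₀ - 1) • w₀ = 0 := by rw [sub_smul, one_smul, h9, sub_self]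
  rcases smul_eq_zero.mp h10 with h | h
  · exact hlz (sub_eq_zero.mp h)
  · exact hw₀0 h

/-- **Stage 1**: if some nontrivial element of `A` centralizes `R` and `S = [S, R]`, then `S`
acts trivially on `M₀`. -/
theorem stage1 [Finite Γ] [IsAlgClosed K] [FiniteDimensional K V] (b₁ : Γ) (hb₁ : b₁ ∈ C.A)
    (hb₁1 : b₁ ≠ 1) (hb₁R : ∀ r ∈ C.R, r * b₁ = b₁ * r)
    (hgen : C.S ≤ Subgroup.closure {x | ∃ u ∈ C.S, ∃ r ∈ C.R, x = r * u * r⁻¹ * u⁻¹}) :
    ∀ u ∈ C.S, ∀ w ∈ C.M₀, C.ρ u w = w := by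
  classical
  have : Fact C.t.Prime := ⟨C.ht⟩
  have hle : C.S ≤ kerMod C.ρ C.M₀ C.S := by
    apply le_kerMod_of_cenMod_le C.ρ C.M₀ C.S C.hMS C.t C.hS
    by_contra hnot
    obtain ⟨z₀, hz₀, hz₀'⟩ := SetLike.not_le_iff_exists.mp hnot
    have hz₀Z : z₀ ∈ C.Z := hz₀
    have hnt : ∃ w ∈ C.M₀, C.ρ z₀ w ≠ w := by
      by_contra hall
      push Not at hall
      exact hz₀' ⟨C.Z_le_S hz₀Z, hall⟩
    obtain ⟨k, hk⟩ := C.hS ⟨z₀, C.Z_le_S hz₀Z⟩
    have hz₀n : z₀ ^ (C.t ^ k) = 1 := by simpa using congrArg Subtype.val hk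
    have hnK : ((C.t ^ k : ℕ) : K) ≠ 0 := by
      rw [Nat.cast_pow]
      exact pow_ne_zero _ C.htK
    obtain ⟨lam, w₀, hw₀M, hw₀0, hw₀Z, hlz⟩ := exists_joint_eigen C.ρ C.M₀ C.Z
      (fun z hz w hw => C.hMS z (C.Z_le_S hz) w hw)
      (fun z hz z' hz' w hw => hz.2 z' (C.Z_le_S hz') w hw)
      z₀ hz₀Z (C.t ^ k) hnK hz₀n hnt
    have hw₀ : C.IsWt lam w₀ := ⟨hw₀M, hw₀Z⟩
    have hcontra : C.ρ z₀ w₀ = w₀ → False := by
      intro h9
      rw [hw₀Z z₀ hz₀Z] at h9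
      have h10 : (lam z₀ - 1) • w₀ = 0 := by rw [sub_smul, one_smul, h9, sub_self]
      rcases smul_eq_zero.mp h10 with h | h
      · exact hlz (sub_eq_zero.mp h)
      · exact hw₀0 h
    by_cases h1 : ∃ b ∈ C.A, b ≠ 1 ∧ C.Fixes b lam
    · obtain ⟨b, hb, hb1, hbfix⟩ := h1
      by_cases h2 : ∃ a ∈ C.A, a ∉ Subgroup.zpowers b ∧ C.Fixes a lam
      · obtain ⟨a, ha, hab, hafix⟩ := h2
        have hAfix : ∀ c ∈ C.A, C.Fixes c lam := by
          intro c hc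
          obtain ⟨i, j, rfl⟩ :=
            elemAb_sq_decomp C.A C.p C.hp C.hAc C.hAp C.hAcard a b ha hb hb1 hab c hc
          have h4 : a ∈ C.stab lam := ⟨C.A_le_N ha, hafix⟩
          have h5 : b ∈ C.stab lam := ⟨C.A_le_N hb, hbfix⟩
          exact (Subgroup.mul_mem _ (Subgroup.zpow_mem _ h4 i) (Subgroup.zpow_mem _ h5 j)).2
        exact hcontra (C.fixA lam hAfix w₀ hw₀ z₀ hz₀Z)
      · push Not at h2
        exact C.stage1_2b b₁ hb₁ hb₁1 hb₁R hgen lam w₀ hw₀ hw₀0 z₀ hz₀Z hlz b hb hb1 hbfix h2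
    · push Not at h1
      have h3 : C.S ≤ fixSub C.ρ w₀ := by
        apply C.gen_le C.S _ C.t C.ht C.htp C.hS C.hAS
        intro b hb hb1 u hu hub
        exact C.purity lam b hb (h1 b hb hb1) u hu hub w₀ hw₀
      exact hcontra (h3 (C.Z_le_S hz₀Z))
  intro u hu w hw
  exact (hle hu).2 w hw

end WardCtx

end

end Cfsg.Agent.Lib.helper66
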