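import Mathlib
import Cfsg.Agent.Lib.helper66.WardB
import Cfsg.Agent.Lib.helper66.WardStmt
import Cfsg.Agent.Lib.helper66.ExtraRepG
import Cfsg.Agent.Lib.helper1.Coprime

set_option autoImplicit false

namespace Cfsg.Agent.Lib.helper66

section

variable {K : Type*} [Field K] {V : Type*} [AddCommGroup V] [Module K V]
  {Γ : Type*} [Group Γ]

/-- An element normalizing two subgroups normalizes their commutator. -/
theorem normalizer_commutator (H₁ H₂ : Subgroup Γ) (g : Γ)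
    (h1 : g ∈ Subgroup.normalizer (H₁ : Set Γ)) (h2 : g ∈ Subgroup.normalizer (H₂ : Set Γ)) :
    g ∈ Subgroup.normalizer ((⁅H₁, H₂⁆ : Subgroup Γ) : Set Γ) := by
  have key : ∀ g : Γ, g ∈ Subgroup.normalizer (H₁ : Set Γ) →
      g ∈ Subgroup.normalizer (H₂ : Set Γ) → ∀ x ∈ ⁅H₁, H₂⁆, g * x * g⁻¹ ∈ ⁅H₁, H₂⁆ := by
    intro g h1 h2
    have h3 : ⁅H₁, H₂⁆ ≤ (⁅H₁, H₂⁆).comap (MulAut.conj g).toMonoidHom := by
      rw [Subgroup.commutator_le]
      intro u hu r hr
      rw [Subgroup.mem_comap]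
      show (MulAut.conj g) (u * r * u⁻¹ * r⁻¹) ∈ _
      rw [MulAut.conj_apply]
      have h4 : (g * u * g⁻¹) * (g * r * g⁻¹) * (g * u * g⁻¹)⁻¹ * (g * r * g⁻¹)⁻¹ ∈ ⁅H₁, H₂⁆ :=
        Subgroup.commutator_mem_commutator (conj_mem_of_normalizer H₁ g h1 u hu)
          (conj_mem_of_normalizer H₂ g h2 r hr)
      have e : g * (u * r * u⁻¹ * r⁻¹) * g⁻¹ =
          (g * u * g⁻¹) * (g * r * g⁻¹) * (g * u * g⁻¹)⁻¹ * (g * r * g⁻¹)⁻¹ := by group
      rw [e]
      exact h4
    intro x hx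
    have h5 := h3 hx
    rw [Subgroup.mem_comap] at h5
    have h6 : (MulAut.conj g) x ∈ ⁅H₁, H₂⁆ := h5
    rwa [MulAut.conj_apply] at h6
  apply mem_normalizer_of_conj
  · exact key g h1 h2
  · intro x hx
    have h5 := key g⁻¹ (inv_mem h1) (inv_mem h2) x hx
    rwa [inv_inv] at h5

/-- An element normalizing `H` and commuting with `b` normalizes `C_H(b)`. -/
theorem normalizer_inf_cent (H : Subgroup Γ) (a b : Γ)
    (ha : a ∈ Subgroup.normalizer (H : Set Γ)) (hab : a * b = b * a) :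
    a ∈ Subgroup.normalizer ((H ⊓ Subgroup.centralizer ({b} : Set Γ) : Subgroup Γ) : Set Γ) := by
  apply mem_normalizer_of_conj
  · intro y hy
    rw [Subgroup.mem_inf, mem_cent_single] at hy ⊢
    refine ⟨conj_mem_of_normalizer H a ha y hy.1, ?_⟩
    calc b * (a * y * a⁻¹) = a * (b * y) * a⁻¹ := by
          rw [← mul_assoc, ← mul_assoc, ← hab]
          group
      _ = a * (y * b) * a⁻¹ := by rw [hy.2]
      _ = a * y * (a⁻¹ * (a * b) * a⁻¹) := by group
      _ = a * y * a⁻¹ * b := by rw [hab]; group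
  · intro y hy
    rw [Subgroup.mem_inf, mem_cent_single] at hy ⊢
    refine ⟨conj_mem_of_normalizer' H a ha y hy.1, ?_⟩
    calc b * (a⁻¹ * y * a) = a⁻¹ * (a * b) * a⁻¹ * y * a := by group
      _ = a⁻¹ * (b * y) * a := by rw [hab]; group
      _ = a⁻¹ * (y * b) * a := by rw [hy.2]
      _ = a⁻¹ * y * (b * a) := by group
      _ = a⁻¹ * y * a * b := by rw [← hab]; group

/-- The elements normalizing `S` whose conjugation action on `S` is invisible on `M₀`. -/
def normEq (ρ : Γ →* Module.End K V) (M₀ : Submodule K V) (S : Subgroup Γ) : Subgroup Γ where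
  carrier := {r | r ∈ Subgroup.normalizer (S : Set Γ) ∧
    ∀ u ∈ S, ∀ w ∈ M₀, ρ (r * u * r⁻¹) w = ρ u w}
  one_mem' := ⟨Subgroup.one_mem _, fun u _ w _ => by simp⟩
  mul_mem' := by
    rintro r r' ⟨hr, hr'⟩ ⟨hs, hs'⟩
    refine ⟨Subgroup.mul_mem _ hr hs, fun u hu w hw => ?_⟩
    have e : r * r' * u * (r * r')⁻¹ = r * (r' * u * r'⁻¹) * r⁻¹ := by group
    rw [e, hr' _ (conj_mem_of_normalizer S r' hs u hu) w hw, hs' u hu w hw]
  inv_mem' := by
    rintro r ⟨hr, hr'⟩
    refine ⟨Subgroup.inv_mem _ hr, fun u hu w hw => ?_⟩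
    have h1 := hr' _ (conj_mem_of_normalizer' S r hr u hu) w hw
    have e : r * (r⁻¹ * u * r) * r⁻¹ = u := by group
    rw [e] at h1
    rw [inv_inv]
    exact h1.symm

namespace WardCtx

variable (C : WardCtx K V Γ)

/-- Shrinking `S`. -/
def restrictS (S₂ : Subgroup Γ) (hS₂S : S₂ ≤ C.S)
    (hAS : C.A ≤ Subgroup.normalizer (S₂ : Set Γ))
    (hRS : C.R ≤ Subgroup.normalizer (S₂ : Set Γ)) : WardCtx K V Γ :=
  { C with
    S := S₂
    hS := C.hS.to_le hS₂S
    hAS := hAS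
    hRS := hRS
    hCS := fun u hu h => C.hCS u (hS₂S hu) h
    hMS := fun u hu w hw => C.hMS u (hS₂S hu) w hw
    hN1 := fun b hb hb1 u hu r hr h1 h2 => C.hN1 b hb hb1 u (hS₂S hu) r hr h1 h2
    hN2 := fun b hb hb1 u hu h1 w hw h2 => C.hN2 b hb hb1 u (hS₂S hu) h1 w hw h2 }

/-- Shrinking `R`. -/
def restrictR (R₂ : Subgroup Γ) (hR₂R : R₂ ≤ C.R)
    (hAR : C.A ≤ Subgroup.normalizer (R₂ : Set Γ)) : WardCtx K V Γ :=
  { C with
    R := R₂
    hR := C.hR.to_le hR₂R
    hAR := hAR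
    hRS := hR₂R.trans C.hRS
    hCR := fun r hr h => C.hCR r (hR₂R hr) h
    hMR := fun r hr w hw => C.hMR r (hR₂R hr) w hw
    hN1 := fun b hb hb1 u hu r hr h1 h2 => C.hN1 b hb hb1 u hu r (hR₂R hr) h1 h2 }

/-- **Stage 2**: if some nontrivial element of `A` centralizes `R`, then `[S, R]` acts trivially
on `M₀`. -/
theorem stage2 [Finite Γ] [IsAlgClosed K] [FiniteDimensional K V] (b₁ : Γ) (hb₁ : b₁ ∈ C.A)
    (hb₁1 : b₁ ≠ 1) (hb₁R : ∀ r ∈ C.R, r * b₁ = b₁ * r) :
    ∀ u ∈ C.S, ∀ r ∈ C.R, ∀ w ∈ C.M₀, C.ρ (r * u * r⁻¹ * u⁻¹) w = w := by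
  obtain ⟨S₂, hS₂⟩ : ∃ S₂ : Subgroup Γ, S₂ = ⁅C.S, C.R⁆ := ⟨_, rfl⟩
  have hS₂S : S₂ ≤ C.S := by
    rw [hS₂, Subgroup.commutator_le]
    intro u hu r hr
    show u * r * u⁻¹ * r⁻¹ ∈ C.S
    have h1 := conj_mem_of_normalizer C.S r (C.hRS hr) u⁻¹ (C.S.inv_mem hu)
    have e : u * r * u⁻¹ * r⁻¹ = u * (r * u⁻¹ * r⁻¹) := by group
    rw [e]
    exact C.S.mul_mem hu h1
  have hcop : (Nat.card C.R).Coprime (Nat.card C.S) := by
    have hq' : Fact C.q.Prime := ⟨C.hq⟩
    have ht' : Fact C.t.Prime := ⟨C.ht⟩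
    obtain ⟨n, hn⟩ := IsPGroup.iff_card.mp C.hR
    obtain ⟨m, hm⟩ := IsPGroup.iff_card.mp C.hS
    rw [hn, hm]
    exact Nat.Coprime.pow _ _ ((Nat.coprime_primes C.hq C.ht).mpr C.hqt)
  have hsolv : Group.IsSolvable C.R ∨ Group.IsSolvable C.S := by
    left
    have hq' : Fact C.q.Prime := ⟨C.hq⟩
    have hnil : Group.IsNilpotent C.R := C.hR.isNilpotent
    infer_instance
  have hcc := Cfsg.Agent.Lib.helper1.commutator_commutator_eq C.R C.S C.hRS hcop hsolv
  have hgen : S₂ ≤ Subgroup.closure {x | ∃ u ∈ S₂, ∃ r ∈ C.R, x = r * u * r⁻¹ * u⁻¹} := by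
    have h1 : ⁅S₂, C.R⁆ ≤
        Subgroup.closure {x | ∃ u ∈ S₂, ∃ r ∈ C.R, x = r * u * r⁻¹ * u⁻¹} := by
      rw [Subgroup.commutator_le]
      intro u hu r hr
      show u * r * u⁻¹ * r⁻¹ ∈ _
      have e : u * r * u⁻¹ * r⁻¹ = (r * u * r⁻¹ * u⁻¹)⁻¹ := by group
      rw [e]
      exact Subgroup.inv_mem _ (Subgroup.subset_closure ⟨u, hu, r, hr, rfl⟩)
    have h2 : S₂ ≤ ⁅S₂, C.R⁆ := by rw [hS₂, hcc]
    exact h2.trans h1
  have hAS₂ : C.A ≤ Subgroup.normalizer (S₂ : Set Γ) := by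
    intro a ha
    rw [hS₂]
    exact normalizer_commutator C.S C.R a (C.hAS ha) (C.hAR ha)
  have hRS₂ : C.R ≤ Subgroup.normalizer (S₂ : Set Γ) := by
    intro r hr
    rw [hS₂]
    exact normalizer_commutator C.S C.R r (C.hRS hr) (Subgroup.le_normalizer hr)
  have h3 := (C.restrictS S₂ hS₂S hAS₂ hRS₂).stage1 b₁ hb₁ hb₁1 hb₁R hgen
  intro u hu r hr w hw
  apply h3 _ _ w hw
  show r * u * r⁻¹ * u⁻¹ ∈ S₂
  rw [hS₂, Subgroup.commutator_comm]
  exact Subgroup.commutator_mem_commutator hr hu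

/-- **Stage 3** (the core lemma in module form): the conjugation action of `R` on `S` is
invisible on `M₀`. -/
theorem stage3 [Finite Γ] [IsAlgClosed K] [FiniteDimensional K V] :
    ∀ u ∈ C.S, ∀ r ∈ C.R, ∀ w ∈ C.M₀, C.ρ (r * u * r⁻¹) w = C.ρ u w := by
  have h1 : C.R ≤ normEq C.ρ C.M₀ C.S := by
    apply C.gen_le C.R _ C.q C.hq C.hqp C.hR C.hAR
    intro b hb hb1 r hr hrb
    refine ⟨C.hRS hr, fun u hu w hw => ?_⟩
    have hR'R : C.R ⊓ Subgroup.centralizer ({b} : Set Γ) ≤ C.R := inf_le_left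
    have hAR' : C.A ≤ Subgroup.normalizer
        ((C.R ⊓ Subgroup.centralizer ({b} : Set Γ) : Subgroup Γ) : Set Γ) := fun a ha =>
      normalizer_inf_cent C.R a b (C.hAR ha) (C.hAc a ha b hb)
    have h2 := (C.restrictR _ hR'R hAR').stage2 b hb hb1
      (fun r' hr' => ((mem_cent_single r' b).mp (Subgroup.mem_inf.mp hr').2).symm)
    have h3 := h2 u hu r (Subgroup.mem_inf.mpr ⟨hr, (mem_cent_single r b).mpr hrb.symm⟩)
      (C.ρ u w) (C.hMS u hu w hw)
    have h4 : C.ρ (r * u * r⁻¹ * u⁻¹) (C.ρ u w) = C.ρ u w := h3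
    rw [← rho_mul] at h4
    have e : r * u * r⁻¹ * u⁻¹ * u = r * u * r⁻¹ := by group
    rw [e] at h4
    exact h4
  intro u hu r hr w hw
  exact (h1 hr).2 u hu w hw

end WardCtx

end

section

universe u

variable (K : Type*) [Field K] (V : Type u) [CommGroup V]

/-- The action of `MulAut V` on the functions on `V`. -/
def autFunRep : MulAut V →* Module.End K (V → K) where
  toFun g := LinearMap.funLeft K K (fun a => g⁻¹ a)
  map_one' := by
    ext f a
    simp [LinearMap.funLeft_apply]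
  map_mul' g g' := by
    ext f a
    simp [LinearMap.funLeft_apply]

theorem autFunRep_apply (g : MulAut V) (f : V → K) (a : V) :
    autFunRep K V g f a = f (g⁻¹ a) := rfl

/-- The additive functions on `V`. -/
def addHomAll : Submodule K (V → K) where
  carrier := {f | ∀ a b, f (a * b) = f a + f b}
  add_mem' := by
    intro f g hf hg a b
    simp only [Pi.add_apply]
    rw [hf a b, hg a b]
    ring
  zero_mem' := fun a b => by simp
  smul_mem' := by
    intro c f hf a b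
    simp only [Pi.smul_apply, smul_eq_mul]
    rw [hf a b]
    ring

theorem mem_addHomAll (f : V → K) : f ∈ addHomAll K V ↔ ∀ a b, f (a * b) = f a + f b := Iff.rfl

theorem autFunRep_mem (g : MulAut V) (f : V → K) (hf : f ∈ addHomAll K V) :
    autFunRep K V g f ∈ addHomAll K V := by
  intro a b
  rw [autFunRep_apply, autFunRep_apply, autFunRep_apply, map_mul, hf]

theorem addHomAll_one (f : V → K) (hf : f ∈ addHomAll K V) : f 1 = 0 := by
  have h1 := hf 1 1
  rw [mul_one] at h1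
  exact left_eq_add.mp h1

theorem addHomAll_prod {ι : Type*} (f : V → K) (hf : f ∈ addHomAll K V) (T : Finset ι)
    (x : ι → V) : f (∏ i ∈ T, x i) = ∑ i ∈ T, f (x i) := by
  classical
  induction T using Finset.induction_on with
  | empty => simpa using addHomAll_one K V f hf
  | insert j T' hj ih => rw [Finset.prod_insert hj, Finset.sum_insert hj, hf, ih]

/-- The additive functions separate the automorphisms of an elementary abelian group. -/
theorem autFunRep_faithful (l : ℕ) [Fact l.Prime] (hVl : ∀ v : V, v ^ l = 1) [CharP K l]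
    (g : MulAut V) (h : ∀ f ∈ addHomAll K V, autFunRep K V g f = f) : g = 1 := by
  have h1 : ∀ v, g⁻¹ v = v := by
    intro v
    by_contra hne
    have hw : g⁻¹ v * v⁻¹ ≠ 1 := fun h0 => hne (mul_inv_eq_one.mp h0)
    obtain ⟨f, hf1, hf2⟩ := sep_aux2 (A := Additive V) l
      (fun a => congrArg Additive.ofMul (hVl (Additive.toMul a))) K
      (Additive.ofMul (g⁻¹ v * v⁻¹)) (fun h0 => hw (congrArg Additive.toMul h0))
    have hf' : (fun x => f (Additive.ofMul x)) ∈ addHomAll K V :=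
      fun a b => hf1 (Additive.ofMul a) (Additive.ofMul b)
    have h2 := congrFun (h _ hf') v
    rw [autFunRep_apply] at h2
    have e : g⁻¹ v = (g⁻¹ v * v⁻¹) * v := by group
    rw [e] at h2
    have h3 : f (Additive.ofMul (g⁻¹ v * v⁻¹)) + f (Additive.ofMul v) = f (Additive.ofMul v) := by
      have h4 : f (Additive.ofMul ((g⁻¹ v * v⁻¹) * v)) =
          f (Additive.ofMul (g⁻¹ v * v⁻¹)) + f (Additive.ofMul v) := hf1 _ _
      rw [← h4]
      exact h2
    exact hf2 (add_eq_right.mp h3)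
  ext v
  have h2 := h1 (g v)
  rw [MulAut.inv_apply_self] at h2
  rw [MulAut.one_apply]
  exact h2.symm

/-- The core statement, for a commutative group `V`. -/
theorem ward_core_comm [Finite V] (l p t q : ℕ) (hl : l.Prime) (hp : p.Prime) (ht : t.Prime)
    (hq : q.Prime) (hlp : l ≠ p) (htp : t ≠ p) (hqp : q ≠ p) (hqt : q ≠ t) (htl : t ≠ l)
    (hVl : ∀ v : V, v ^ l = 1) (A S R : Subgroup (MulAut V))
    (hAc : ∀ a ∈ A, ∀ b ∈ A, a * b = b * a) (hAp : ∀ a ∈ A, a ^ p = 1)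
    (hAcard : Nat.card A = p ^ 2)
    (hS : IsPGroup t S) (hR : IsPGroup q R)
    (hAS : A ≤ Subgroup.normalizer (S : Set (MulAut V)))
    (hAR : A ≤ Subgroup.normalizer (R : Set (MulAut V)))
    (hRS : R ≤ Subgroup.normalizer (S : Set (MulAut V)))
    (hCS : ∀ u ∈ S, (∀ a ∈ A, a * u = u * a) → u = 1)
    (hCR : ∀ r ∈ R, (∀ a ∈ A, a * r = r * a) → r = 1)
    (hN1 : ∀ b ∈ A, b ≠ 1 → ∀ u ∈ S, ∀ r ∈ R, u * b = b * u → r * b = b * r → u * r = r * u)
    (hN2 : ∀ b ∈ A, b ≠ 1 → ∀ u ∈ S, u * b = b * u → ∀ v : V, b v = v → u v = v) :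
    ∀ u ∈ S, ∀ r ∈ R, u * r = r * u := by
  classical
  have hlF : Fact l.Prime := ⟨hl⟩
  obtain ⟨L, _, _, _, ⟨hLalg⟩⟩ : ∃ (L : Type) (_ : Field L) (_ : CharP L l), True ∧
      Nonempty (IsAlgClosed L) :=
    ⟨AlgebraicClosure (ZMod l), inferInstance, inferInstance, trivial, ⟨inferInstance⟩⟩
  have hpL : (p : L) ≠ 0 := by
    intro h0
    have h1 := (CharP.cast_eq_zero_iff L l p).mp h0
    exact hlp ((Nat.prime_dvd_prime_iff_eq hl hp).mp h1)
  have htL : (t : L) ≠ 0 := by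
    intro h0
    have h1 := (CharP.cast_eq_zero_iff L l t).mp h0
    exact htl ((Nat.prime_dvd_prime_iff_eq hl ht).mp h1).symm
  have hN2' : ∀ b ∈ A, b ≠ 1 → ∀ u ∈ S, u * b = b * u → ∀ w ∈ addHomAll L V,
      autFunRep L V b w = w → autFunRep L V u w = w := by
    intro b hb hb1 u hu hub w hw hbw
    funext v
    rw [autFunRep_apply]
    have hbk : ∀ k : ℕ, ∀ x : V, w ((b ^ k) x) = w x := by
      intro k
      induction k with
      | zero =>
        intro x
        simp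
      | succ k ih =>
        intro x
        rw [pow_succ, MulAut.mul_apply, ih]
        have h1 := congrFun hbw (b x)
        rw [autFunRep_apply, MulAut.inv_apply_self] at h1
        exact h1.symm
    have hNb : ∀ x, b (∏ k ∈ Finset.range p, (b ^ k) x) = ∏ k ∈ Finset.range p, (b ^ k) x := by
      intro x
      rw [map_prod]
      have h1 : ∀ k, b ((b ^ k) x) = (b ^ (k + 1)) x := by
        intro k
        rw [pow_succ', MulAut.mul_apply]
      simp_rw [h1]
      have h2 := Finset.prod_range_succ' (fun k => (b ^ k) x) p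
      have h3 := Finset.prod_range_succ (fun k => (b ^ k) x) p
      rw [h3] at h2
      simp only [hAp b hb, pow_zero] at h2
      exact (mul_right_cancel h2).symm
    have hwN : ∀ x, w (∏ k ∈ Finset.range p, (b ^ k) x) = (p : L) * w x := by
      intro x
      rw [addHomAll_prod L V w hw]
      simp_rw [hbk]
      rw [Finset.sum_const, Finset.card_range, nsmul_eq_mul]
    have huN : u⁻¹ (∏ k ∈ Finset.range p, (b ^ k) v) =
        ∏ k ∈ Finset.range p, (b ^ k) (u⁻¹ v) := by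
      rw [map_prod]
      apply Finset.prod_congr rfl
      intro k _
      have hc : u⁻¹ * b ^ k = b ^ k * u⁻¹ := ((show Commute u b from hub).inv_left.pow_right k).eq
      have h1 := congrArg (fun g : MulAut V => g v) hc
      simpa [MulAut.mul_apply] using h1
    have huNv : u (∏ k ∈ Finset.range p, (b ^ k) v) = ∏ k ∈ Finset.range p, (b ^ k) v :=
      hN2 b hb hb1 u hu hub _ (hNb v)
    have huNv' : u⁻¹ (∏ k ∈ Finset.range p, (b ^ k) v) = ∏ k ∈ Finset.range p, (b ^ k) v := by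
      nth_rewrite 1 [← huNv]
      rw [MulAut.inv_apply_self]
    have h5 : (p : L) * w (u⁻¹ v) = (p : L) * w v := by
      rw [← hwN, ← hwN, ← huN, huNv']
    exact mul_left_cancel₀ hpL h5
  have hmem : ∀ g : MulAut V, ∀ w ∈ addHomAll L V, autFunRep L V g w ∈ addHomAll L V :=
    fun g w hw => autFunRep_mem L V g w hw
  obtain ⟨C, hCρ, hCM, hCS', hCR'⟩ : ∃ C : WardCtx L (V → L) (MulAut V),
      C.ρ = autFunRep L V ∧ C.M₀ = addHomAll L V ∧ C.S = S ∧ C.R = R :=
    ⟨{ ρ := autFunRep L V, M₀ := addHomAll L V, A := A, S := S, R := R, p := p, t := t, q := q,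
       hp := hp, ht := ht, hq := hq, htp := htp, hqp := hqp, hqt := hqt, htK := htL,
       hAc := hAc, hAp := hAp, hAcard := hAcard, hS := hS, hR := hR, hAS := hAS, hAR := hAR,
       hRS := hRS, hCS := hCS, hCR := hCR,
       hMS := fun u _ w hw => hmem u w hw, hMR := fun r _ w hw => hmem r w hw,
       hMA := fun a _ w hw => hmem a w hw, hN1 := hN1, hN2 := hN2' }, rfl, rfl, rfl, rfl⟩
  have h1 := C.stage3
  rw [hCρ, hCM, hCS', hCR'] at h1
  intro u hu r hr
  have h2 : r * u * r⁻¹ * u⁻¹ = 1 := by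
    apply autFunRep_faithful L V l hVl
    intro f hf
    have h3 := h1 u hu r hr (autFunRep L V u⁻¹ f) (hmem u⁻¹ f hf)
    rw [rho_apply_inv, ← rho_mul] at h3
    exact h3
  have h4 : r * u = u * r := by
    calc r * u = (r * u * r⁻¹ * u⁻¹) * (u * r) := by group
      _ = u * r := by rw [h2, one_mul]
  exact h4.symm

/-- **The core statement in the proof of Ward's theorem.** -/
theorem ward_core : WardCoreStmt.{u} := by
  intro V instG instF l p t q hl hp ht hq hlp htp hqp hqt htl hVc hVl A S R hAc hAp hAcard _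
    hS hR hAS hAR hRS hCS hCR hN1 hN2
  exact @ward_core_comm V { instG with mul_comm := hVc } instF l p t q hl hp ht hq hlp htp hqp
    hqt htl hVl A S R hAc hAp hAcard hS hR hAS hAR hRS hCS hCR hN1 hN2

end

end Cfsg.Agent.Lib.helper66
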