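import Mathlib
import Cfsg.Agent.Lib.helper66.WardA
import Cfsg.Agent.Lib.helper66.WardB
import Cfsg.Agent.Lib.helper14.PConstrained2
import Cfsg.Agent.Lib.helper27.PLocal3
import Cfsg.Agent.Lib.helper30.FittingRank

set_option autoImplicit false

namespace Cfsg.Agent.Lib.helper66

section

variable {G : Type*} [Group G]

/-- A nilpotency criterion: if, for every prime `s`, some Sylow `s`-subgroup is normalized by
all elements of prime power order of a term of the lower central series, then the group is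
nilpotent. -/
theorem nilcrit [Finite G] (j : ℕ)
    (h : ∀ s : ℕ, s.Prime → ∃ P : Sylow s G, ∀ z ∈ (⊤ : Subgroup G).lowerCentralSeries j,
      (∃ r e : ℕ, r.Prime ∧ z ^ (r ^ e) = 1) →
        z ∈ Subgroup.normalizer ((P : Subgroup G) : Set G)) :
    Group.IsNilpotent G := by
  have tf := (Group.isNilpotent_of_finite_tfae (G := G)).out 3 0
  apply tf.mp
  intro s hs P'
  have hsP : Fact s.Prime := hs
  obtain ⟨P, hP⟩ := h s hs.out
  have hL : (⊤ : Subgroup G).lowerCentralSeries j ≤
      Subgroup.normalizer ((P : Subgroup G) : Set G) := by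
    intro g hg
    apply Cfsg.Agent.Lib.helper30.mem_of_prime_pow_parts
    intro z hz r e hr hzo
    apply hP z ((Subgroup.zpowers_le.mpr hg) hz) ⟨r, e, hr, ?_⟩
    rw [← hzo]
    exact pow_orderOf_eq_one z
  have key : ∀ i, i ≤ j → (⊤ : Subgroup G).lowerCentralSeries (j - i) ≤
      Subgroup.normalizer ((P : Subgroup G) : Set G) := by
    intro i
    induction i with
    | zero =>
      intro _
      simpa using hL
    | succ i ih =>
      intro hi
      have h1 := ih (by omega)
      have hcomm : ∀ g ∈ (⊤ : Subgroup G).lowerCentralSeries (j - (i + 1)), ∀ x : G,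
          g * x * g⁻¹ * x⁻¹ ∈ Subgroup.normalizer ((P : Subgroup G) : Set G) := by
        intro g hg x
        apply h1
        have e : j - i = (j - (i + 1)) + 1 := by omega
        rw [e, Subgroup.lowerCentralSeries_succ]
        exact Subgroup.commutator_mem_commutator hg (Subgroup.mem_top x)
      have h2 : (⊤ : Subgroup G).lowerCentralSeries (j - (i + 1)) ≤
          Subgroup.normalizer
            ((Subgroup.normalizer ((P : Subgroup G) : Set G) : Subgroup G) : Set G) := by
        intro g hg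
        apply mem_normalizer_of_conj
        · intro x hx
          have h3 := hcomm g hg x
          have e : g * x * g⁻¹ = (g * x * g⁻¹ * x⁻¹) * x := by group
          rw [e]
          exact Subgroup.mul_mem _ h3 hx
        · intro x hx
          have h3 := hcomm g⁻¹ (Subgroup.inv_mem _ hg) x
          have e : g⁻¹ * x * g = (g⁻¹ * x * g⁻¹⁻¹ * x⁻¹) * x := by group
          rw [e]
          exact Subgroup.mul_mem _ h3 hx
      exact h2.trans (le_of_eq (Sylow.normalizer_normalizer P))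
  have htop : Subgroup.normalizer ((P : Subgroup G) : Set G) = ⊤ := by
    have h1 := key j (le_refl j)
    rw [Nat.sub_self, Subgroup.lowerCentralSeries_zero] at h1
    exact top_le_iff.mp h1
  have hPn : (P : Subgroup G).Normal := Subgroup.normalizer_eq_top_iff.mp htop
  obtain ⟨g, hg⟩ := MulAction.exists_smul_eq G P P'
  rw [← hg, Sylow.smul_eq_of_normal]
  exact hPn

/-- In a nilpotent subgroup `H`, the `t`-elements form a subgroup. -/
theorem exists_sylow_of_nilpotent_sub [Finite G] (H : Subgroup G) (hH : Group.IsNilpotent H)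
    (t : ℕ) [Fact t.Prime] :
    ∃ Q : Subgroup G, Q ≤ H ∧ IsPGroup t Q ∧ ∀ z ∈ H, (∃ e : ℕ, z ^ (t ^ e) = 1) → z ∈ Q := by
  obtain ⟨Q'⟩ : Nonempty (Sylow t H) := inferInstance
  have tf := (Group.isNilpotent_of_finite_tfae (G := H)).out 0 3
  have hQn : (Q' : Subgroup H).Normal := tf.mp hH t inferInstance Q'
  refine ⟨(Q' : Subgroup H).map H.subtype, Subgroup.map_subtype_le _, Q'.2.map H.subtype, ?_⟩
  rintro z hz ⟨e, he⟩
  have hzt : IsPGroup t (Subgroup.zpowers (⟨z, hz⟩ : H)) := by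
    have h1 : orderOf (⟨z, hz⟩ : H) ∣ t ^ e := by
      apply orderOf_dvd_of_pow_eq_one
      exact Subtype.ext (by simpa using he)
    obtain ⟨k, _, hk⟩ := (Nat.dvd_prime_pow (Fact.out : t.Prime)).mp h1
    apply IsPGroup.of_card (n := k)
    rw [Nat.card_zpowers, hk]
  obtain ⟨Q'', hQ''⟩ := hzt.exists_le_sylow
  obtain ⟨g, hg⟩ := MulAction.exists_smul_eq H Q' Q''
  have h2 : Q'' = Q' := by rw [← hg, Sylow.smul_eq_of_normal]
  rw [h2] at hQ''
  exact ⟨⟨z, hz⟩, hQ'' (Subgroup.mem_zpowers _), rfl⟩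

/-- The subgroup of `t`-elements of `H` is normalized by the normalizer of `H`. -/
theorem normalizes_of_char (H Q : Subgroup G) (t : ℕ) (hQt : IsPGroup t Q)
    (hQ : ∀ z ∈ H, (∃ e : ℕ, z ^ (t ^ e) = 1) → z ∈ Q) (hQH : Q ≤ H) (g : G)
    (hg : g ∈ Subgroup.normalizer (H : Set G)) : g ∈ Subgroup.normalizer (Q : Set G) := by
  have key : ∀ g : G, g ∈ Subgroup.normalizer (H : Set G) → ∀ x ∈ Q, g * x * g⁻¹ ∈ Q := by
    intro g hg x hx
    apply hQ _ (conj_mem_of_normalizer H g hg x (hQH hx))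
    obtain ⟨e, he⟩ := hQt ⟨x, hx⟩
    refine ⟨e, ?_⟩
    have h1 : x ^ (t ^ e) = 1 := by simpa using congrArg Subtype.val he
    rw [conj_pow, h1, mul_one, mul_inv_cancel]
  apply mem_normalizer_of_conj
  · exact key g hg
  · intro x hx
    have h1 := key g⁻¹ (inv_mem hg) x hx
    rwa [inv_inv] at h1

/-- The image of an element normalizes the image of a normal subgroup. -/
theorem map_mem_normalizer {G' : Type*} [Group G'] (f : G →* G') (H : Subgroup G) [H.Normal]
    (g : G) : f g ∈ Subgroup.normalizer ((H.map f : Subgroup G') : Set G') := by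
  apply mem_normalizer_of_conj
  · rintro _ ⟨h, hh, rfl⟩
    refine ⟨g * h * g⁻¹, ‹H.Normal›.conj_mem h hh g, ?_⟩
    rw [map_mul, map_mul, map_inv]
  · rintro _ ⟨h, hh, rfl⟩
    refine ⟨g⁻¹ * h * g, ?_, ?_⟩
    · have h1 := ‹H.Normal›.conj_mem h hh g⁻¹
      rwa [inv_inv] at h1
    · rw [map_mul, map_mul, map_inv]

/-- An element commuting with two independent elements of an elementary abelian group of
order `p ^ 2` commutes with the whole group. -/
theorem comm_A_gen [Finite G] (A : Subgroup G) (p : ℕ) (hp : p.Prime)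
    (hAc : ∀ a ∈ A, ∀ b ∈ A, a * b = b * a) (hAp : ∀ a ∈ A, a ^ p = 1)
    (hAcard : Nat.card A = p ^ 2) (a b : G) (ha : a ∈ A) (hb : b ∈ A) (hb1 : b ≠ 1)
    (hab : a ∉ Subgroup.zpowers b) (y : G) (hya : a * y = y * a) (hyb : b * y = y * b) :
    ∀ c ∈ A, c * y = y * c := by
  intro c hc
  obtain ⟨i, j, rfl⟩ := elemAb_sq_decomp A p hp hAc hAp hAcard a b ha hb hb1 hab c hc
  have h1 : Commute (a ^ i) y := (show Commute a y from hya).zpow_left i
  have h2 : Commute (b ^ j) y := (show Commute b y from hyb).zpow_left j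
  exact (h1.mul_left h2).eq

/-- Coprime action: an element of `N` centralized by the `p`-group `A` modulo a normal
`p'`-subgroup `M ≤ N` lies in `M`, when `A` has no nontrivial fixed points on `N`. -/
theorem fpf_quot [Finite G] (N A M : Subgroup G) [M.Normal] (p : ℕ) [Fact p.Prime]
    (hMN : M ≤ N) (hA : IsPGroup p A) (hM : (Nat.card M).Coprime p)
    (hfpf : ∀ n ∈ N, (∀ a ∈ A, a * n = n * a) → n = 1) (g : G) (hg : g ∈ N)
    (hcomm : ∀ a ∈ A, a * g * a⁻¹ * g⁻¹ ∈ M) : g ∈ M := by
  have h1 : QuotientGroup.mk' M g ∈ Subgroup.centralizer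
      ((A.map (QuotientGroup.mk' M) : Subgroup (G ⧸ M)) : Set (G ⧸ M)) := by
    rw [Subgroup.mem_centralizer_iff]
    rintro _ ⟨a, ha, rfl⟩
    have h2 : QuotientGroup.mk' M (a * g * a⁻¹ * g⁻¹) = 1 := by
      rw [← MonoidHom.mem_ker, QuotientGroup.ker_mk']
      exact hcomm a ha
    rw [map_mul, map_mul, map_inv, map_inv, mul_inv_eq_one, mul_inv_eq_iff_eq_mul] at h2
    exact h2
  rw [← Cfsg.Agent.Lib.helper14.map_centralizer_of_coprime M hM A hA] at h1
  obtain ⟨c, hc, hcg⟩ := h1
  have h2 : c⁻¹ * g ∈ M := QuotientGroup.eq.mp hcg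
  have hcN : c ∈ N := by
    have h3 : c = g * (c⁻¹ * g)⁻¹ := by group
    rw [h3]
    exact N.mul_mem hg (N.inv_mem (hMN h2))
  have hc1 : c = 1 := hfpf c hcN (fun a ha => (Subgroup.mem_centralizer_iff.mp hc a ha))
  rw [hc1] at h2
  simpa using h2

/-- Coprime action: lifting an element centralizing `b` modulo a normal `p'`-subgroup `M`. -/
theorem lift_cent [Finite G] (M : Subgroup G) [M.Normal] (p : ℕ) [Fact p.Prime]
    (hM : (Nat.card M).Coprime p) (b : G) (hb : b ^ p = 1) (n : G)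
    (hn : n * b * n⁻¹ * b⁻¹ ∈ M) : ∃ c : G, c * b = b * c ∧ c⁻¹ * n ∈ M := by
  have h1 : QuotientGroup.mk' M n ∈ Subgroup.centralizer
      ({QuotientGroup.mk' M b} : Set (G ⧸ M)) := by
    rw [mem_cent_single]
    have h2 : QuotientGroup.mk' M (n * b * n⁻¹ * b⁻¹) = 1 := by
      rw [← MonoidHom.mem_ker, QuotientGroup.ker_mk']
      exact hn
    rw [map_mul, map_mul, map_inv, map_inv, mul_inv_eq_one, mul_inv_eq_iff_eq_mul] at h2
    exact h2.symm
  rw [← Cfsg.Agent.Lib.helper27.map_centralizer_eq_of_coprime p M hM b hb] at h1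
  obtain ⟨c, hc, hcn⟩ := h1
  exact ⟨c, ((mem_cent_single c b).mp hc).symm, QuotientGroup.eq.mp hcn⟩

/-- Extracting a `t`-element: if `u = f c` and `u ^ (t ^ e) = 1`, then `u = f c'` for a
`t`-element `c'` which is a power of `c`. -/
theorem exists_pow_tpart [Finite G] {G' : Type*} [Group G'] (f : G →* G') (t : ℕ) (ht : t.Prime)
    (c : G) (e : ℕ) (hu : f c ^ (t ^ e) = 1) :
    ∃ m e' : ℕ, f (c ^ m) = f c ∧ (c ^ m) ^ (t ^ e') = 1 := by
  obtain ⟨e₁, m₁, hm₁, ho⟩ := Nat.exists_eq_pow_mul_and_not_dvd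
    (orderOf_pos c).ne' t ht.ne_one
  have hcop : Nat.Coprime m₁ (t ^ e) :=
    Nat.Coprime.pow_right e ((Nat.coprime_comm).mp ((Nat.Prime.coprime_iff_not_dvd ht).mpr hm₁))
  by_cases he : t ^ e = 1
  · refine ⟨0, 0, ?_, by simp⟩
    rw [he, pow_one] at hu
    rw [pow_zero, map_one, hu]
  · have h1 : 1 < t ^ e := by
      have := Nat.pos_of_ne_zero (pow_ne_zero e ht.ne_zero)
      omega
    obtain ⟨x, hx⟩ := Nat.exists_mul_mod_eq_one_of_coprime hcop h1
    refine ⟨m₁ * x, e₁, ?_, ?_⟩
    · have h2 : m₁ * x = t ^ e * (m₁ * x / t ^ e) + 1 := by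
        have := Nat.div_add_mod (m₁ * x) (t ^ e)
        omega
      rw [map_pow, h2, pow_succ, pow_mul, hu, one_pow, one_mul]
    · rw [← pow_mul]
      have h3 : m₁ * x * t ^ e₁ = orderOf c * x := by
        rw [ho]
        ring
      rw [h3, pow_mul, pow_orderOf_eq_one, one_pow]

end

end Cfsg.Agent.Lib.helper66
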