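import Mathlib
import Cfsg.Agent.Lib.helper66.WardA
import Cfsg.Agent.Lib.helper66.WardB
import Cfsg.Agent.Lib.helper66.WardC
import Cfsg.Agent.Lib.helper66.WardF
import Cfsg.Agent.Lib.helper1.Coprime

set_option autoImplicit false

namespace Cfsg.Agent.Lib.helper66

section

variable {Γ : Type*} [Group Γ]

/-- A self-map of prime order `p` of a finite set of size prime to `p` has a fixed point. -/
theorem fixp {X : Type*} [Finite X] (p : ℕ) (hp : p.Prime) (φ : X → X)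
    (hφ : ∀ x, φ^[p] x = x) (hX : ¬ p ∣ Nat.card X) : ∃ x, φ x = x := by
  classical
  have hpF : Fact p.Prime := ⟨hp⟩
  have := Fintype.ofFinite X
  let F : Function.End X := φ
  have hpow : ∀ n : ℕ, ∀ x : X, (F ^ n) x = φ^[n] x := by
    intro n
    induction n with
    | zero =>
      intro x
      rfl
    | succ n ih =>
      intro x
      rw [pow_succ', Function.iterate_succ_apply']
      show F ((F ^ n) x) = _
      rw [ih]
  have hf : F ^ p ^ 1 = 1 := by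
    rw [pow_one]
    funext x
    rw [hpow]
    exact hφ x
  have h1 := Equiv.Perm.card_fixedPoints_modEq (f := F) hf
  by_contra hno
  push Not at hno
  have h2 : IsEmpty (Function.fixedPoints φ) := ⟨fun x => hno x.1 x.2⟩
  rw [Fintype.card_eq_zero_iff.mpr h2] at h1
  apply hX
  rw [Nat.card_eq_fintype_card]
  exact (Nat.modEq_zero_iff_dvd).mp h1

/-- An element `g` of order dividing `p` in the coset `L f₁`, where `L` is a `p'`-group
normalized by the element `f₁` of order dividing `p`, is conjugate to `f₁` under `L`. -/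
theorem conj_of_order_p [Finite Γ] (L : Subgroup Γ) (p : ℕ) (hp : p.Prime)
    (hL : ¬ p ∣ Nat.card L) (f₁ g : Γ) (hf₁ : f₁ ^ p = 1)
    (hf₁L : f₁ ∈ Subgroup.normalizer (L : Set Γ)) (hg : g ^ p = 1) (hgf : g * f₁⁻¹ ∈ L) :
    ∃ y ∈ L, g = y * f₁ * y⁻¹ := by
  have hmem : ∀ y : L, g * (y : Γ) * f₁⁻¹ ∈ L := by
    intro y
    have e : g * (y : Γ) * f₁⁻¹ = (g * f₁⁻¹) * (f₁ * y * f₁⁻¹) := by group
    rw [e]
    exact L.mul_mem hgf (conj_mem_of_normalizer L f₁ hf₁L y y.2)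
  let φ : L → L := fun y => ⟨g * (y : Γ) * f₁⁻¹, hmem y⟩
  have hiter : ∀ (k : ℕ) (y : L), ((φ^[k] y : L) : Γ) = g ^ k * y * (f₁ ^ k)⁻¹ := by
    intro k
    induction k with
    | zero =>
      intro y
      simp
    | succ k ih =>
      intro y
      rw [Function.iterate_succ_apply']
      show g * ((φ^[k] y : L) : Γ) * f₁⁻¹ = _
      rw [ih, pow_succ', pow_succ]
      group
  obtain ⟨y, hy⟩ := fixp p hp φ (fun y => by
    apply Subtype.ext
    rw [hiter, hg, hf₁]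
    simp) hL
  refine ⟨y, y.2, ?_⟩
  have h1 : g * (y : Γ) * f₁⁻¹ = y := congrArg Subtype.val hy
  calc g = (g * (y : Γ) * f₁⁻¹) * f₁ * (y : Γ)⁻¹ := by group
    _ = y * f₁ * (y : Γ)⁻¹ := by rw [h1]

/-- Coprime action of an element of order `p`: a coset of a `p'`-subgroup `M` fixed under
conjugation by `g` contains an element commuting with `g`. -/
theorem fix_in_coset [Finite Γ] (M : Subgroup Γ) (p : ℕ) (hp : p.Prime)
    (hM : ¬ p ∣ Nat.card M) (g x : Γ) (hg : g ^ p = 1)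
    (hgM : g ∈ Subgroup.normalizer (M : Set Γ)) (hx : g * x * g⁻¹ * x⁻¹ ∈ M) :
    ∃ m ∈ M, g * (m * x) = (m * x) * g := by
  have hmem : ∀ m : M, g * (m : Γ) * g⁻¹ * (g * x * g⁻¹ * x⁻¹) ∈ M := fun m =>
    M.mul_mem (conj_mem_of_normalizer M g hgM m m.2) hx
  let φ : M → M := fun m => ⟨g * (m : Γ) * g⁻¹ * (g * x * g⁻¹ * x⁻¹), hmem m⟩
  have hiter : ∀ (k : ℕ) (m : M),
      ((φ^[k] m : M) : Γ) = g ^ k * (m * x) * (g ^ k)⁻¹ * x⁻¹ := by
    intro k
    induction k with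
    | zero =>
      intro m
      simp
    | succ k ih =>
      intro m
      rw [Function.iterate_succ_apply']
      show g * ((φ^[k] m : M) : Γ) * g⁻¹ * (g * x * g⁻¹ * x⁻¹) = _
      rw [ih, pow_succ']
      group
  obtain ⟨m, hm⟩ := fixp p hp φ (fun m => by
    apply Subtype.ext
    rw [hiter, hg]
    simp) hM
  refine ⟨m, m.2, ?_⟩
  have h1 : g * (m : Γ) * g⁻¹ * (g * x * g⁻¹ * x⁻¹) = m := congrArg Subtype.val hm
  calc g * ((m : Γ) * x) = (g * (m : Γ) * g⁻¹ * (g * x * g⁻¹ * x⁻¹)) * x * g := by group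
    _ = (m : Γ) * x * g := by rw [h1]

/-- An involution acting without nontrivial fixed points on a finite subgroup inverts it. -/
theorem inv_of_fpf (X : Subgroup Γ) [Finite X] (σ : Γ) (hσ : σ * σ = 1)
    (hσX : σ ∈ Subgroup.normalizer (X : Set Γ))
    (hfpf : ∀ y ∈ X, σ * y = y * σ → y = 1) : ∀ x ∈ X, σ * x * σ⁻¹ = x⁻¹ := by
  intro x hx
  obtain ⟨y, hy, rfl⟩ := fpf_surj X σ hσX hfpf x hx
  have e1 : σ * (y⁻¹ * (σ * y * σ⁻¹)) * σ⁻¹ = σ * y⁻¹ * σ⁻¹ * (σ * σ) * y * (σ * σ)⁻¹ := by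
    group
  rw [e1, hσ]
  group

/-- A subgroup inverted by an element is abelian. -/
theorem comm_of_inv (X : Subgroup Γ) (σ : Γ) (hinv : ∀ x ∈ X, σ * x * σ⁻¹ = x⁻¹) :
    ∀ x ∈ X, ∀ y ∈ X, x * y = y * x := by
  intro x hx y hy
  have h1 := hinv (x * y) (X.mul_mem hx hy)
  have e : σ * (x * y) * σ⁻¹ = (σ * x * σ⁻¹) * (σ * y * σ⁻¹) := by group
  rw [e, hinv x hx, hinv y hy, mul_inv_rev] at h1
  have h2 : (x⁻¹ * y⁻¹)⁻¹ = (y⁻¹ * x⁻¹)⁻¹ := by rw [h1]
  simpa using h2.symm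

/-- An element of odd order is a power of its square. -/
theorem sqrt_odd (x : Γ) (m : ℕ) (hm : x ^ m = 1) (hodd : m.Coprime 2) :
    ∃ k : ℕ, x = (x * x) ^ k := by
  obtain ⟨j, hj⟩ := hodd.odd_of_right
  refine ⟨j + 1, ?_⟩
  rw [← pow_two, ← pow_mul]
  have h1 : 2 * (j + 1) = m + 1 := by omega
  rw [h1, pow_succ, hm, one_mul]

/-- If `f'` has order dividing `3` and commutes with `c` of order prime to `3`, then `f'` is a
power of `c * f'`. -/
theorem exists_pow_eq_of_comm (f' c : Γ) (hf' : f' ^ 3 = 1) (hc : c * f' = f' * c) (m : ℕ)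
    (hcm : c ^ m = 1) (hm3 : m.Coprime 3) : ∃ k : ℕ, (c * f') ^ k = f' := by
  have hcomm : Commute c f' := hc
  have h3 : m % 3 = 1 ∨ m % 3 = 2 := by
    have h0 : ¬ 3 ∣ m := by
      intro h
      have := Nat.Coprime.eq_one_of_dvd hm3.symm h
      omega
    omega
  rcases h3 with h | h
  · refine ⟨m, ?_⟩
    rw [hcomm.mul_pow, hcm, one_mul]
    have h1 : m = 3 * (m / 3) + 1 := by omega
    rw [h1, pow_succ, pow_mul, hf', one_pow, one_mul]
  · refine ⟨m * 2, ?_⟩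
    rw [hcomm.mul_pow, pow_mul c, hcm, one_pow, one_mul]
    have h1 : m * 2 = 3 * (m * 2 / 3) + 1 := by omega
    rw [h1, pow_succ, pow_mul, hf', one_pow, one_mul]

/-- A nontrivial subgroup of a `p`-group `T` normalized by `T` contains a nontrivial element
commuting with `T`. -/
theorem exists_central_in_normal [Finite Γ] (T H : Subgroup Γ) (p : ℕ) (hp : p.Prime)
    (hT : IsPGroup p T) (hHT : H ≤ T) (hH : H ≠ ⊥)
    (hTH : T ≤ Subgroup.normalizer (H : Set Γ)) :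
    ∃ z ∈ H, z ≠ 1 ∧ ∀ x ∈ T, x * z = z * x := by
  have hpF : Fact p.Prime := ⟨hp⟩
  let act : T →* MulAut H :=
    { toFun := fun x => conjAut H x (hTH x.2)
      map_one' := by
        ext y
        simp [conjAut_apply]
      map_mul' := by
        intro x x'
        ext y
        simp only [MulAut.mul_apply, conjAut_apply, Subgroup.coe_mul]
        group }
  let _ : MulAction T H := MulAction.compHom H act
  have hsmul : ∀ (x : T) (y : H), ((x • y : H) : Γ) = (x : Γ) * y * (x : Γ)⁻¹ := fun x y => rfl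
  have hHp : IsPGroup p H := hT.to_le hHT
  have hcard : p ∣ Nat.card H := by
    obtain ⟨k, hk⟩ := IsPGroup.iff_card.mp hHp
    rw [hk]
    have hk0 : k ≠ 0 := by
      rintro rfl
      rw [pow_zero] at hk
      exact hH (Subgroup.card_eq_one.mp hk)
    exact dvd_pow_self p hk0
  obtain ⟨z, hz, hz1⟩ := hT.exists_fixed_point_of_prime_dvd_card_of_fixed_point H hcard
    (a := (1 : H)) (by
      rw [MulAction.mem_fixedPoints]
      intro x
      apply Subtype.ext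
      rw [hsmul]
      simp)
  refine ⟨z, z.2, ?_, ?_⟩
  · intro h
    exact hz1 (Subtype.ext h).symm
  · intro x hx
    have h1 := congrArg Subtype.val (MulAction.mem_fixedPoints.mp hz ⟨x, hx⟩)
    rw [hsmul] at h1
    calc x * (z : Γ) = x * z * x⁻¹ * x := by group
      _ = z * x := by rw [h1]

/-- The elements of the group generated by `f` (of order dividing 3) and an involution `τ`
inverting `f`. -/
theorem mem_A_cases (f τ : Γ) (hf3 : f ^ 3 = 1) (hτ2 : τ * τ = 1) (hτf : τ * f * τ⁻¹ = f⁻¹)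
    (a : Γ) (ha : a ∈ Subgroup.closure ({f, τ} : Set Γ)) :
    (∃ i : ℕ, a = f ^ i) ∨ (∃ i : ℕ, a = τ * f ^ i) := by
  have hτi : τ⁻¹ = τ := inv_eq_of_mul_eq_one_left hτ2
  have hfi : f⁻¹ = f ^ 2 := by
    apply inv_eq_of_mul_eq_one_left
    rw [← pow_succ]
    exact hf3
  have h2 : τ⁻¹ * f * τ = f⁻¹ := by
    have h := hτf
    rw [hτi] at h ⊢
    exact h
  have hfτ : f * τ = τ * f⁻¹ := by
    calc f * τ = τ * (τ⁻¹ * f * τ) := by group
      _ = τ * f⁻¹ := by rw [h2]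
  have hfτ' : f⁻¹ * τ = τ * f := by
    calc f⁻¹ * τ = τ * (τ⁻¹ * f * τ)⁻¹ := by group
      _ = τ * f := by rw [h2, inv_inv]
  induction ha using Subgroup.closure_induction_left with
  | one => exact Or.inl ⟨0, by simp⟩
  | mul_left x hx y hy ih =>
    rcases hx with rfl | hx
    · rcases ih with ⟨i, rfl⟩ | ⟨i, rfl⟩
      · exact Or.inl ⟨i + 1, by rw [pow_succ']⟩
      · refine Or.inr ⟨i + 2, ?_⟩
        rw [← mul_assoc, hfτ, hfi, mul_assoc, ← pow_add, add_comm]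
    · rw [Set.mem_singleton_iff] at hx
      subst hx
      rcases ih with ⟨i, rfl⟩ | ⟨i, rfl⟩
      · exact Or.inr ⟨i, rfl⟩
      · refine Or.inl ⟨i, ?_⟩
        rw [← mul_assoc, hτ2, one_mul]
  | inv_mul_cancel x hx y hy ih =>
    rcases hx with rfl | hx
    · rcases ih with ⟨i, rfl⟩ | ⟨i, rfl⟩
      · refine Or.inl ⟨i + 2, ?_⟩
        rw [hfi, ← pow_add, add_comm]
      · refine Or.inr ⟨i + 1, ?_⟩
        rw [← mul_assoc, hfτ', mul_assoc, ← pow_succ']
    · rw [Set.mem_singleton_iff] at hx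
      subst hx
      rw [hτi]
      rcases ih with ⟨i, rfl⟩ | ⟨i, rfl⟩
      · exact Or.inr ⟨i, rfl⟩
      · refine Or.inl ⟨i, ?_⟩
        rw [← mul_assoc, hτ2, one_mul]

/-- Conjugating a power of `f` by `τ`. -/
theorem tau_conj_pow (f τ : Γ) (hτf : τ * f * τ⁻¹ = f⁻¹) (i : ℕ) :
    τ * f ^ i * τ⁻¹ = (f ^ i)⁻¹ := by
  rw [← conj_pow, hτf, inv_pow]

/-- The elements `τ * f ^ i` are involutions. -/
theorem twist_sq (f τ : Γ) (hτ2 : τ * τ = 1) (hτf : τ * f * τ⁻¹ = f⁻¹) (i : ℕ) :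
    (τ * f ^ i) * (τ * f ^ i) = 1 := by
  have h1 := tau_conj_pow f τ hτf i
  calc (τ * f ^ i) * (τ * f ^ i) = (τ * f ^ i * τ⁻¹) * (τ * τ) * f ^ i := by group
    _ = 1 := by rw [h1, hτ2]; group

/-- The elements `τ * f ^ i` invert `f`. -/
theorem twist_conj (f τ : Γ) (hτf : τ * f * τ⁻¹ = f⁻¹) (i : ℕ) :
    (τ * f ^ i) * f * (τ * f ^ i)⁻¹ = f⁻¹ := by
  calc (τ * f ^ i) * f * (τ * f ^ i)⁻¹ = τ * f * τ⁻¹ := by group
    _ = f⁻¹ := hτf

/-- Every element of the group generated by `f` and `τ` has order dividing `6`. -/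
theorem pow_six_of_mem_A (f τ : Γ) (hf3 : f ^ 3 = 1) (hτ2 : τ * τ = 1)
    (hτf : τ * f * τ⁻¹ = f⁻¹) (a : Γ) (ha : a ∈ Subgroup.closure ({f, τ} : Set Γ)) :
    a ^ 6 = 1 := by
  rcases mem_A_cases f τ hf3 hτ2 hτf a ha with ⟨i, rfl⟩ | ⟨i, rfl⟩
  · rw [← pow_mul, mul_comm, pow_mul, show (6 : ℕ) = 3 * 2 from rfl, pow_mul, hf3, one_pow,
      one_pow]
  · have h1 := twist_sq f τ hτ2 hτf i
    rw [show (6 : ℕ) = 2 * 3 from rfl, pow_mul, pow_two, h1, one_pow]

/-- The group generated by `f` and `τ` has order prime to that of a group of order prime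
to `6`. -/
theorem card_A_coprime [Finite Γ] (f τ : Γ) (hf3 : f ^ 3 = 1) (hτ2 : τ * τ = 1)
    (hτf : τ * f * τ⁻¹ = f⁻¹) (n : ℕ) (hn : n.Coprime 6) :
    (Nat.card (Subgroup.closure ({f, τ} : Set Γ))).Coprime n := by
  apply Nat.coprime_of_dvd
  intro k hk hkA hkn
  have hkF : Fact k.Prime := ⟨hk⟩
  obtain ⟨a, ha⟩ := exists_prime_orderOf_dvd_card' (G := Subgroup.closure ({f, τ} : Set Γ)) k hkA
  have h1 : (a : Γ) ^ 6 = 1 := pow_six_of_mem_A f τ hf3 hτ2 hτf a a.2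
  have h2 : orderOf (a : Γ) = k := by rw [Subgroup.orderOf_coe, ha]
  have h3 : k ∣ 6 := by
    rw [← h2]
    exact orderOf_dvd_of_pow_eq_one h1
  have h4 : k = 1 := Nat.Coprime.eq_one_of_dvd (Nat.Coprime.coprime_dvd_left hkn hn) h3
  exact hk.one_lt.ne' h4

/-- If the commutators of `x` with `f` and `τ` lie in a subgroup `S` normalized by `f` and
`τ`, so do the commutators with all elements of the group generated by `f` and `τ`. -/
theorem comm_mem_of_gen (f τ : Γ) (S : Subgroup Γ)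
    (hfS : f ∈ Subgroup.normalizer (S : Set Γ)) (hτS : τ ∈ Subgroup.normalizer (S : Set Γ))
    (x : Γ) (h1 : f * x * f⁻¹ * x⁻¹ ∈ S) (h2 : τ * x * τ⁻¹ * x⁻¹ ∈ S) :
    ∀ a ∈ Subgroup.closure ({f, τ} : Set Γ),
      a ∈ Subgroup.normalizer (S : Set Γ) ∧ a * x * a⁻¹ * x⁻¹ ∈ S := by
  let W : Subgroup Γ :=
    { carrier := {a | a ∈ Subgroup.normalizer (S : Set Γ) ∧ a * x * a⁻¹ * x⁻¹ ∈ S}
      one_mem' := ⟨Subgroup.one_mem _, by simp⟩
      mul_mem' := by
        rintro a b ⟨ha, ha'⟩ ⟨hb, hb'⟩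
        refine ⟨Subgroup.mul_mem _ ha hb, ?_⟩
        have e : a * b * x * (a * b)⁻¹ * x⁻¹ =
            (a * (b * x * b⁻¹ * x⁻¹) * a⁻¹) * (a * x * a⁻¹ * x⁻¹) := by group
        rw [e]
        exact S.mul_mem (conj_mem_of_normalizer S a ha _ hb') ha'
      inv_mem' := by
        rintro a ⟨ha, ha'⟩
        refine ⟨Subgroup.inv_mem _ ha, ?_⟩
        have e : a⁻¹ * x * a⁻¹⁻¹ * x⁻¹ = a⁻¹ * (a * x * a⁻¹ * x⁻¹)⁻¹ * a := by group
        rw [e]
        exact conj_mem_of_normalizer' S a ha _ (S.inv_mem ha') }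
  have hle : Subgroup.closure ({f, τ} : Set Γ) ≤ W := by
    rw [Subgroup.closure_le]
    intro a ha
    rcases ha with rfl | ha
    · exact ⟨hfS, h1⟩
    · rw [Set.mem_singleton_iff] at ha
      subst ha
      exact ⟨hτS, h2⟩
  intro a ha
  exact hle ha

/-- Coprime action of the group generated by `f` and `τ`: an element of `T` fixed modulo an
invariant solvable subgroup `S ≤ T` lies in `S`, when there are no nontrivial fixed points
on `T`. -/
theorem fpf_coset [Finite Γ] (f τ : Γ) (hf3 : f ^ 3 = 1) (hτ2 : τ * τ = 1)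
    (hτf : τ * f * τ⁻¹ = f⁻¹) (T S : Subgroup Γ) (hST : S ≤ T)
    (hfS : f ∈ Subgroup.normalizer (S : Set Γ)) (hτS : τ ∈ Subgroup.normalizer (S : Set Γ))
    (hS6 : (Nat.card S).Coprime 6) (hSsol : Group.IsSolvable S)
    (hfpf : ∀ n ∈ T, f * n = n * f → τ * n = n * τ → n = 1)
    (x : Γ) (hx : x ∈ T) (h1 : f * x * f⁻¹ * x⁻¹ ∈ S) (h2 : τ * x * τ⁻¹ * x⁻¹ ∈ S) :
    x ∈ S := by
  have hgen := comm_mem_of_gen f τ S hfS hτS x h1 h2
  obtain ⟨c, hc, hcx⟩ := Cfsg.Agent.Lib.helper1.coset_fixed (Subgroup.closure ({f, τ} : Set Γ)) S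
    (fun a ha => (hgen a ha).1) (card_A_coprime f τ hf3 hτ2 hτf _ hS6) (Or.inr hSsol) x
    (fun a ha => (hgen a ha).2)
  have hcT : c ∈ T := by
    have e : c = (c * x⁻¹) * x := by group
    rw [e]
    exact T.mul_mem (hST hcx) hx
  have hcf : f * c = c * f :=
    Subgroup.mem_centralizer_iff.mp hc f (Subgroup.subset_closure (Set.mem_insert _ _))
  have hcτ : τ * c = c * τ :=
    Subgroup.mem_centralizer_iff.mp hc τ
      (Subgroup.subset_closure (Set.mem_insert_of_mem _ rfl))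
  have hc1 := hfpf c hcT hcf hcτ
  rw [hc1, one_mul] at hcx
  simpa using S.inv_mem hcx

/-- Conjugation by `g` preserves the subgroup generated by a set, if it maps the generators
into it. -/
theorem conj_closure_mem (S : Set Γ) (g : Γ)
    (h : ∀ s ∈ S, g * s * g⁻¹ ∈ Subgroup.closure S) :
    ∀ y ∈ Subgroup.closure S, g * y * g⁻¹ ∈ Subgroup.closure S := by
  have hle : Subgroup.closure S ≤ (Subgroup.closure S).comap (MulAut.conj g).toMonoidHom := by
    rw [Subgroup.closure_le]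
    intro s hs
    show (MulAut.conj g) s ∈ Subgroup.closure S
    rw [MulAut.conj_apply]
    exact h s hs
  intro y hy
  have h1 : (MulAut.conj g) y ∈ Subgroup.closure S := hle hy
  rwa [MulAut.conj_apply] at h1

/-- The subgroup generated by the commutators of `L` with `f`. -/
def comF (f : Γ) (L : Subgroup Γ) : Subgroup Γ :=
  Subgroup.closure {z | ∃ y ∈ L, z = f * y * f⁻¹ * y⁻¹}

theorem comF_gen (f : Γ) (L : Subgroup Γ) (y : Γ) (hy : y ∈ L) :
    f * y * f⁻¹ * y⁻¹ ∈ comF f L :=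
  Subgroup.subset_closure ⟨y, hy, rfl⟩

theorem comF_le (f : Γ) (L : Subgroup Γ) (hf : f ∈ Subgroup.normalizer (L : Set Γ)) :
    comF f L ≤ L := by
  unfold comF
  rw [Subgroup.closure_le]
  rintro _ ⟨y, hy, rfl⟩
  exact L.mul_mem (conj_mem_of_normalizer L f hf y hy) (L.inv_mem hy)

theorem comF_norm_self (f : Γ) (L : Subgroup Γ) :
    L ≤ Subgroup.normalizer ((comF f L : Subgroup Γ) : Set Γ) := by
  have key : ∀ x ∈ L, ∀ y ∈ comF f L, x * y * x⁻¹ ∈ comF f L := by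
    intro x hx
    apply conj_closure_mem
    rintro _ ⟨y, hy, rfl⟩
    have e : x * (f * y * f⁻¹ * y⁻¹) * x⁻¹ =
        (f * x * f⁻¹ * x⁻¹)⁻¹ * (f * (x * y) * f⁻¹ * (x * y)⁻¹) := by group
    rw [e]
    exact Subgroup.mul_mem _ (Subgroup.inv_mem _ (comF_gen f L x hx))
      (comF_gen f L _ (L.mul_mem hx hy))
  intro x hx
  apply mem_normalizer_of_conj
  · exact key x hx
  · intro y hy
    have := key x⁻¹ (L.inv_mem hx) y hy
    rwa [inv_inv] at this

theorem comF_norm_f (f : Γ) (L : Subgroup Γ) (hf : f ∈ Subgroup.normalizer (L : Set Γ)) :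
    f ∈ Subgroup.normalizer ((comF f L : Subgroup Γ) : Set Γ) := by
  apply mem_normalizer_of_conj
  · apply conj_closure_mem
    rintro _ ⟨y, hy, rfl⟩
    have e : f * (f * y * f⁻¹ * y⁻¹) * f⁻¹ = f * (f * y * f⁻¹) * f⁻¹ * (f * y * f⁻¹)⁻¹ := by
      group
    rw [e]
    exact comF_gen f L _ (conj_mem_of_normalizer L f hf y hy)
  · have h := conj_closure_mem {z | ∃ y ∈ L, z = f * y * f⁻¹ * y⁻¹} f⁻¹ (by
      rintro _ ⟨y, hy, rfl⟩
      have e : f⁻¹ * (f * y * f⁻¹ * y⁻¹) * f⁻¹⁻¹ =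
          f * (f⁻¹ * y * f) * f⁻¹ * (f⁻¹ * y * f)⁻¹ := by group
      rw [e]
      exact comF_gen f L _ (conj_mem_of_normalizer' L f hf y hy))
    intro y hy
    have := h y hy
    rwa [inv_inv] at this

/-- An element inverting `f` and normalizing `L` normalizes `[L, f]`. -/
theorem comF_norm_inv (f σ : Γ) (L : Subgroup Γ) (hσ : σ ∈ Subgroup.normalizer (L : Set Γ))
    (hf : f ∈ Subgroup.normalizer (L : Set Γ)) (hσf : σ * f * σ⁻¹ = f⁻¹) :
    σ ∈ Subgroup.normalizer ((comF f L : Subgroup Γ) : Set Γ) := by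
  have key : ∀ σ : Γ, σ ∈ Subgroup.normalizer (L : Set Γ) → σ * f * σ⁻¹ = f⁻¹ →
      ∀ y ∈ comF f L, σ * y * σ⁻¹ ∈ comF f L := by
    intro σ hσ hσf
    apply conj_closure_mem
    rintro _ ⟨y, hy, rfl⟩
    have e : σ * (f * y * f⁻¹ * y⁻¹) * σ⁻¹ =
        (σ * f * σ⁻¹) * (σ * y * σ⁻¹) * (σ * f * σ⁻¹)⁻¹ * (σ * y * σ⁻¹)⁻¹ := by group
    rw [e, hσf]
    have hy' : σ * y * σ⁻¹ ∈ L := conj_mem_of_normalizer L σ hσ y hy
    have hy'' : f⁻¹ * (σ * y * σ⁻¹) * f ∈ L := conj_mem_of_normalizer' L f hf _ hy'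
    have e2 : f⁻¹ * (σ * y * σ⁻¹) * f⁻¹⁻¹ * (σ * y * σ⁻¹)⁻¹ =
        (f * (f⁻¹ * (σ * y * σ⁻¹) * f) * f⁻¹ * (f⁻¹ * (σ * y * σ⁻¹) * f)⁻¹)⁻¹ := by group
    rw [e2]
    exact Subgroup.inv_mem _ (comF_gen f L _ hy'')
  have hσf' : σ⁻¹ * f * σ⁻¹⁻¹ = f⁻¹ := by
    have h1 : f = σ⁻¹ * f⁻¹ * σ := by rw [← hσf]; group
    calc σ⁻¹ * f * σ⁻¹⁻¹ = (σ⁻¹ * f⁻¹ * σ)⁻¹ := by group
      _ = f⁻¹ := by rw [← h1]
  apply mem_normalizer_of_conj
  · exact key σ hσ hσf
  · intro y hy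
    have := key σ⁻¹ (inv_mem hσ) hσf' y hy
    rwa [inv_inv] at this

/-- Coprime action: `L = [L, f] C_L(f)` for `f` of order dividing `3` and `|L|` prime to
`3`. -/
theorem decomp_f [Finite Γ] (f : Γ) (L : Subgroup Γ) (hf3 : f ^ 3 = 1)
    (hf : f ∈ Subgroup.normalizer (L : Set Γ)) (hL : ¬ 3 ∣ Nat.card L) :
    ∀ x ∈ L, ∃ p ∈ comF f L, ∃ c ∈ L, f * c = c * f ∧ x = p * c := by
  intro x hx
  have hM : ¬ 3 ∣ Nat.card (comF f L) := fun h =>
    hL (h.trans (Subgroup.card_dvd_of_le (comF_le f L hf)))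
  obtain ⟨m, hm, hmx⟩ := fix_in_coset (comF f L) 3 Nat.prime_three hM f x hf3
    (comF_norm_f f L hf) (comF_gen f L x hx)
  refine ⟨m⁻¹, Subgroup.inv_mem _ hm, m * x, L.mul_mem (comF_le f L hf hm) hx, hmx, by group⟩

/-- A nontrivial `p`-group is not perfect. -/
theorem comm_ne_self [Finite Γ] (T : Subgroup Γ) (p : ℕ) (hp : p.Prime) (hT : IsPGroup p T)
    (hne : T ≠ ⊥) : ⁅T, T⁆ ≠ T := by
  have hpF : Fact p.Prime := ⟨hp⟩
  intro h
  have hnil : Group.IsNilpotent T := hT.isNilpotent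
  obtain ⟨m, hm⟩ := (Subgroup.isNilpotent_iff_lowerCentralSeries T).mp hnil
  have key : ∀ n : ℕ, T.lowerCentralSeries n = T := by
    intro n
    induction n with
    | zero => rfl
    | succ n ih => rw [Subgroup.lowerCentralSeries_succ, ih, h]
  rw [key m] at hm
  exact hne hm

/-- An element normalizing two subgroups normalizes their intersection. -/
theorem normalizer_inf' (H₁ H₂ : Subgroup Γ) (g : Γ)
    (h1 : g ∈ Subgroup.normalizer (H₁ : Set Γ)) (h2 : g ∈ Subgroup.normalizer (H₂ : Set Γ)) :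
    g ∈ Subgroup.normalizer ((H₁ ⊓ H₂ : Subgroup Γ) : Set Γ) := by
  apply mem_normalizer_of_conj
  · intro x hx
    exact Subgroup.mem_inf.mpr ⟨conj_mem_of_normalizer H₁ g h1 x (Subgroup.mem_inf.mp hx).1,
      conj_mem_of_normalizer H₂ g h2 x (Subgroup.mem_inf.mp hx).2⟩
  · intro x hx
    exact Subgroup.mem_inf.mpr ⟨conj_mem_of_normalizer' H₁ g h1 x (Subgroup.mem_inf.mp hx).1,
      conj_mem_of_normalizer' H₂ g h2 x (Subgroup.mem_inf.mp hx).2⟩

/-- The elements of the cyclic group generated by an element of order dividing `3`. -/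
theorem zpowers3 (f : Γ) (hf3 : f ^ 3 = 1) (b : Γ) (hb : b ∈ Subgroup.zpowers f) :
    b = 1 ∨ b = f ∨ b = f⁻¹ := by
  obtain ⟨k, rfl⟩ := Subgroup.mem_zpowers_iff.mp hb
  have h1 : f ^ k = f ^ (k % 3) := by
    conv_lhs => rw [← Int.mul_ediv_add_emod k 3]
    rw [zpow_add, zpow_mul, zpow_ofNat, hf3, one_zpow, one_mul]
  have h2 : k % 3 = 0 ∨ k % 3 = 1 ∨ k % 3 = 2 := by omega
  rcases h2 with h | h | h
  · left
    rw [h1, h, zpow_zero]
  · right; left
    rw [h1, h, zpow_one]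
  · right; right
    rw [h1, h]
    apply eq_inv_of_mul_eq_one_left
    rw [zpow_ofNat, ← pow_succ]
    exact hf3

/-- The product set `H K` as a subgroup, when `H` normalizes `K`. -/
def mulSub (H K : Subgroup Γ) (h : H ≤ Subgroup.normalizer (K : Set Γ)) : Subgroup Γ where
  carrier := {x | ∃ a ∈ H, ∃ b ∈ K, x = a * b}
  one_mem' := ⟨1, H.one_mem, 1, K.one_mem, by simp⟩
  mul_mem' := by
    rintro _ _ ⟨a, ha, b, hb, rfl⟩ ⟨a', ha', b', hb', rfl⟩
    refine ⟨a * a', H.mul_mem ha ha', (a'⁻¹ * b * a') * b',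
      K.mul_mem (conj_mem_of_normalizer' K a' (h ha') b hb) hb', by group⟩
  inv_mem' := by
    rintro _ ⟨a, ha, b, hb, rfl⟩
    refine ⟨a⁻¹, H.inv_mem ha, a * b⁻¹ * a⁻¹,
      conj_mem_of_normalizer K a (h ha) _ (K.inv_mem hb), by group⟩

theorem mem_mulSub (H K : Subgroup Γ) (h : H ≤ Subgroup.normalizer (K : Set Γ)) (x : Γ) :
    x ∈ mulSub H K h ↔ ∃ a ∈ H, ∃ b ∈ K, x = a * b := Iff.rfl

theorem left_le_mulSub (H K : Subgroup Γ) (h : H ≤ Subgroup.normalizer (K : Set Γ)) :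
    H ≤ mulSub H K h := fun a ha => ⟨a, ha, 1, K.one_mem, by simp⟩

theorem right_le_mulSub (H K : Subgroup Γ) (h : H ≤ Subgroup.normalizer (K : Set Γ)) :
    K ≤ mulSub H K h := fun b hb => ⟨1, H.one_mem, b, hb, by simp⟩

end

end Cfsg.Agent.Lib.helper66
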