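import Mathlib
import Cfsg.Agent.Lib.helper66.S3A

set_option autoImplicit false

namespace Cfsg.Agent.Lib.helper66

section

variable {K : Type*} [Field K] {V : Type*} [AddCommGroup V] [Module K V]
  {Γ : Type*} [Group Γ]

/-- `w` is a weight vector in `M` for the subgroup `Z`, with weight `μ`. -/
def WtV (ρ : Γ →* Module.End K V) (M : Submodule K V) (Z : Subgroup Γ) (μ : Γ → K) (w : V) :
    Prop :=
  w ∈ M ∧ w ≠ 0 ∧ ∀ z ∈ Z, ρ z w = μ z • w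

/-- The element `g` fixes the weight `μ` of `Z`. -/
def Fx (Z : Subgroup Γ) (g : Γ) (μ : Γ → K) : Prop := ∀ z ∈ Z, μ (g⁻¹ * z * g) = μ z

/-- The conjugated weight. -/
def cw (μ : Γ → K) (g : Γ) : Γ → K := fun z => μ (g⁻¹ * z * g)

theorem cw_apply (μ : Γ → K) (g z : Γ) : cw μ g z = μ (g⁻¹ * z * g) := rfl

theorem cw_cw (μ : Γ → K) (g h : Γ) : cw (cw μ g) h = cw μ (h * g) := by
  funext z
  rw [cw_apply, cw_apply, cw_apply]
  congr 1
  group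

theorem Fx_one (Z : Subgroup Γ) (μ : Γ → K) : Fx Z 1 μ := by
  intro z _
  simp

theorem Fx_mul (Z : Subgroup Γ) (μ : Γ → K) (g h : Γ)
    (hg : g ∈ Subgroup.normalizer (Z : Set Γ)) (h1 : Fx Z g μ) (h2 : Fx Z h μ) :
    Fx Z (g * h) μ := by
  intro z hz
  have e : (g * h)⁻¹ * z * (g * h) = h⁻¹ * (g⁻¹ * z * g) * h := by group
  rw [e, h2 _ (conj_mem_of_normalizer' Z g hg z hz), h1 z hz]

theorem Fx_inv (Z : Subgroup Γ) (μ : Γ → K) (g : Γ)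
    (hg : g ∈ Subgroup.normalizer (Z : Set Γ)) (h1 : Fx Z g μ) : Fx Z g⁻¹ μ := by
  intro z hz
  have h2 := h1 _ (conj_mem_of_normalizer Z g hg z hz)
  have e : g⁻¹ * (g * z * g⁻¹) * g = z := by group
  rw [e] at h2
  rw [inv_inv]
  exact h2.symm

theorem Fx_inv' (Z : Subgroup Γ) (μ : Γ → K) (g : Γ)
    (hg : g ∈ Subgroup.normalizer (Z : Set Γ)) (h1 : Fx Z g⁻¹ μ) : Fx Z g μ := by
  have := Fx_inv Z μ g⁻¹ (inv_mem hg) h1
  rwa [inv_inv] at this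

theorem Fx_pow (Z : Subgroup Γ) (μ : Γ → K) (g : Γ)
    (hg : g ∈ Subgroup.normalizer (Z : Set Γ)) (h1 : Fx Z g μ) (k : ℕ) : Fx Z (g ^ k) μ := by
  induction k with
  | zero =>
    rw [pow_zero]
    exact Fx_one Z μ
  | succ k ih =>
    rw [pow_succ]
    exact Fx_mul Z μ _ _ (Subgroup.pow_mem _ hg k) ih h1

/-- The value of a fixed weight on a conjugate. -/
theorem Fx_conj (Z : Subgroup Γ) (μ : Γ → K) (g : Γ)
    (hg : g ∈ Subgroup.normalizer (Z : Set Γ)) (h1 : Fx Z g μ) (z : Γ) (hz : z ∈ Z) :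
    μ (g * z * g⁻¹) = μ z := by
  have := Fx_inv Z μ g hg h1 z hz
  rwa [inv_inv] at this

/-- Fixing a conjugated weight. -/
theorem Fx_cw (Z : Subgroup Γ) (μ : Γ → K) (g x : Γ)
    (hx : x ∈ Subgroup.normalizer (Z : Set Γ)) :
    Fx Z g (cw μ x) ↔ Fx Z (x⁻¹ * g * x) μ := by
  constructor
  · intro h z hz
    have h1 := h _ (conj_mem_of_normalizer Z x hx z hz)
    rw [cw_apply, cw_apply] at h1
    have e1 : x⁻¹ * (g⁻¹ * (x * z * x⁻¹) * g) * x = (x⁻¹ * g * x)⁻¹ * z * (x⁻¹ * g * x) := by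
      group
    have e2 : x⁻¹ * (x * z * x⁻¹) * x = z := by group
    rw [e1, e2] at h1
    exact h1
  · intro h z hz
    have h1 := h _ (conj_mem_of_normalizer' Z x hx z hz)
    rw [cw_apply, cw_apply]
    have e1 : (x⁻¹ * g * x)⁻¹ * (x⁻¹ * z * x) * (x⁻¹ * g * x) = x⁻¹ * (g⁻¹ * z * g) * x := by
      group
    rw [e1] at h1
    exact h1

theorem wt_mul (ρ : Γ →* Module.End K V) (M : Submodule K V) (Z : Subgroup Γ) (μ : Γ → K)
    (w : V) (hw : WtV ρ M Z μ w) (z z' : Γ) (hz : z ∈ Z) (hz' : z' ∈ Z) :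
    μ (z * z') = μ z * μ z' := by
  have h1 := hw.2.2 (z * z') (Z.mul_mem hz hz')
  rw [rho_mul, hw.2.2 z' hz', map_smul, hw.2.2 z hz, smul_smul] at h1
  have h2 : (μ z' * μ z - μ (z * z')) • w = 0 := by rw [sub_smul, h1, sub_self]
  rcases smul_eq_zero.mp h2 with h | h
  · rw [← sub_eq_zero.mp h, mul_comm]
  · exact absurd h hw.2.1

theorem wt_one (ρ : Γ →* Module.End K V) (M : Submodule K V) (Z : Subgroup Γ) (μ : Γ → K)
    (w : V) (hw : WtV ρ M Z μ w) : μ 1 = 1 := by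
  have h1 := hw.2.2 1 Z.one_mem
  rw [map_one, Module.End.one_apply] at h1
  have h2 : (μ 1 - 1) • w = 0 := by rw [sub_smul, one_smul, ← h1, sub_self]
  rcases smul_eq_zero.mp h2 with h | h
  · exact sub_eq_zero.mp h
  · exact absurd h hw.2.1

theorem wt_pow (ρ : Γ →* Module.End K V) (M : Submodule K V) (Z : Subgroup Γ) (μ : Γ → K)
    (w : V) (hw : WtV ρ M Z μ w) (z : Γ) (hz : z ∈ Z) (k : ℕ) : μ (z ^ k) = μ z ^ k := by
  induction k with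
  | zero => rw [pow_zero, pow_zero, wt_one ρ M Z μ w hw]
  | succ k ih => rw [pow_succ, pow_succ, wt_mul ρ M Z μ w hw _ _ (Z.pow_mem hz k) hz, ih]

theorem wt_ne_zero (ρ : Γ →* Module.End K V) (M : Submodule K V) (Z : Subgroup Γ) (μ : Γ → K)
    (w : V) (hw : WtV ρ M Z μ w) (z : Γ) (hz : z ∈ Z) : μ z ≠ 0 := by
  intro h
  have h1 := wt_mul ρ M Z μ w hw z z⁻¹ hz (Z.inv_mem hz)
  rw [mul_inv_cancel, wt_one ρ M Z μ w hw, h, zero_mul] at h1
  exact one_ne_zero h1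

theorem wt_inv (ρ : Γ →* Module.End K V) (M : Submodule K V) (Z : Subgroup Γ) (μ : Γ → K)
    (w : V) (hw : WtV ρ M Z μ w) (z : Γ) (hz : z ∈ Z) : μ z⁻¹ = (μ z)⁻¹ := by
  have h1 := wt_mul ρ M Z μ w hw z z⁻¹ hz (Z.inv_mem hz)
  rw [mul_inv_cancel, wt_one ρ M Z μ w hw] at h1
  exact eq_inv_of_mul_eq_one_right h1.symm

/-- An element of a field which is both an `a`-th and a `b`-th root of unity, for coprime
`a`, `b`, is `1`. -/
theorem eq_one_of_pow_coprime (c : K) (a b : ℕ) (ha : c ^ a = 1) (hb : c ^ b = 1)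
    (hab : a.Coprime b) : c = 1 := by
  have h1 : orderOf c ∣ a := orderOf_dvd_of_pow_eq_one ha
  have h2 : orderOf c ∣ b := orderOf_dvd_of_pow_eq_one hb
  have h3 : orderOf c ∣ 1 := by
    have := Nat.dvd_gcd h1 h2
    rwa [hab.gcd_eq_one] at this
  exact orderOf_eq_one_iff.mp (Nat.dvd_one.mp h3)

/-- The value of a weight at an element of order prime to `a` is `1` if its `a`-th power is. -/
theorem wt_eq_one_of_pow (ρ : Γ →* Module.End K V) (M : Submodule K V) (Z : Subgroup Γ)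
    (μ : Γ → K) (w : V) (hw : WtV ρ M Z μ w) (z : Γ) (hz : z ∈ Z) (a b : ℕ)
    (ha : μ z ^ a = 1) (hb : z ^ b = 1) (hab : a.Coprime b) : μ z = 1 := by
  apply eq_one_of_pow_coprime (μ z) a b ha _ hab
  rw [← wt_pow ρ M Z μ w hw z hz, hb, wt_one ρ M Z μ w hw]

theorem wt_conj (ρ : Γ →* Module.End K V) (M : Submodule K V) (Z : Subgroup Γ) (μ : Γ → K)
    (w : V) (hw : WtV ρ M Z μ w) (g : Γ) (hg : g ∈ Subgroup.normalizer (Z : Set Γ))
    (hMg : ∀ w ∈ M, ρ g w ∈ M) : WtV ρ M Z (cw μ g) (ρ g w) := by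
  refine ⟨hMg w hw.1, ?_, ?_⟩
  · intro h
    have h1 := rho_inv_apply ρ g w
    rw [h, map_zero] at h1
    exact hw.2.1 h1.symm
  · intro z hz
    have e : z * g = g * (g⁻¹ * z * g) := by group
    rw [cw_apply, ← rho_mul, e, rho_mul, hw.2.2 _ (conj_mem_of_normalizer' Z g hg z hz),
      map_smul]

theorem wt_smul (ρ : Γ →* Module.End K V) (M : Submodule K V) (Z : Subgroup Γ) (μ : Γ → K)
    (w : V) (hw : WtV ρ M Z μ w) (c : K) (hc : c ≠ 0) : WtV ρ M Z μ (c • w) := by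
  refine ⟨M.smul_mem c hw.1, smul_ne_zero hc hw.2.1, ?_⟩
  intro z hz
  rw [map_smul, hw.2.2 z hz, smul_comm]

/-- A weight vector for `μ` is a weight vector for any function agreeing with `μ` on `Z`. -/
theorem wt_congr (ρ : Γ →* Module.End K V) (M : Submodule K V) (Z : Subgroup Γ) (μ μ' : Γ → K)
    (w : V) (hw : WtV ρ M Z μ w) (h : ∀ z ∈ Z, μ' z = μ z) : WtV ρ M Z μ' w := by
  refine ⟨hw.1, hw.2.1, ?_⟩
  intro z hz
  rw [h z hz]
  exact hw.2.2 z hz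

/-- Invariance of a subspace under the inverse. -/
theorem inv_mem_of_mem [Finite Γ] (ρ : Γ →* Module.End K V) (M : Submodule K V) (g : Γ)
    (h : ∀ w ∈ M, ρ g w ∈ M) : ∀ w ∈ M, ρ g⁻¹ w ∈ M := by
  have hpow : ∀ k : ℕ, ∀ w ∈ M, ρ (g ^ k) w ∈ M := by
    intro k
    induction k with
    | zero =>
      intro w hw
      simpa using hw
    | succ k ih =>
      intro w hw
      rw [pow_succ, rho_mul]
      exact ih _ (h w hw)
  have h1 : g⁻¹ = g ^ (orderOf g - 1) := by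
    apply inv_eq_of_mul_eq_one_left
    rw [← pow_succ]
    have : orderOf g - 1 + 1 = orderOf g := Nat.succ_pred_eq_of_pos (orderOf_pos g)
    rw [this, pow_orderOf_eq_one]
  rw [h1]
  exact hpow _

theorem pow_mem_of_mem (ρ : Γ →* Module.End K V) (M : Submodule K V) (g : Γ)
    (h : ∀ w ∈ M, ρ g w ∈ M) (k : ℕ) : ∀ w ∈ M, ρ (g ^ k) w ∈ M := by
  induction k with
  | zero =>
    intro w hw
    simpa using hw
  | succ k ih =>
    intro w hw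
    rw [pow_succ, rho_mul]
    exact ih _ (h w hw)

theorem pow_fix_of_fix (ρ : Γ →* Module.End K V) (g : Γ) (w : V) (h : ρ g w = w) (k : ℕ) :
    ρ (g ^ k) w = w := by
  induction k with
  | zero => simp
  | succ k ih => rw [pow_succ, rho_mul, h, ih]

theorem inv_fix_of_fix (ρ : Γ →* Module.End K V) (g : Γ) (w : V) (h : ρ g w = w) :
    ρ g⁻¹ w = w := by
  have h1 := rho_inv_apply ρ g w
  rwa [h] at h1

/-- The sum over an orbit of weight vectors with trivial stabilizer is nonzero. -/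
theorem orbit_sum_ne_zero (ρ : Γ →* Module.End K V) (M : Submodule K V) (Z B : Subgroup Γ)
    [Fintype B] (hB : B ≤ Subgroup.normalizer (Z : Set Γ)) (μ : Γ → K) (w : V)
    (hw : WtV ρ M Z μ w) (hfree : ∀ b ∈ B, b ≠ 1 → ¬ Fx Z b μ) :
    ∑ b : B, ρ (b : Γ) w ≠ 0 := by
  classical
  intro h0
  have h1 := wt_indep ρ Z (Finset.univ : Finset B) (fun b => cw μ (b : Γ))
    (fun b => ρ (b : Γ) w) ?_ ?_ h0 1 (Finset.mem_univ _)
  · apply hw.2.1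
    simpa using h1
  · intro b _ z hz
    exact (wt_conj ρ ⊤ Z μ w ⟨Submodule.mem_top, hw.2.1, hw.2.2⟩ b (hB b.2)
      (fun _ _ => Submodule.mem_top)).2.2 z hz
  · intro b _ b' _ hbb'
    by_contra hall
    push Not at hall
    apply hfree ((b : Γ)⁻¹ * b') (B.mul_mem (B.inv_mem b.2) b'.2)
    · intro h
      apply hbb'
      apply Subtype.ext
      exact inv_mul_eq_one.mp h
    · intro z hz
      have h2 := hall (b * z * (b : Γ)⁻¹) (conj_mem_of_normalizer Z b (hB b.2) z hz)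
      rw [cw_apply, cw_apply] at h2
      have e1 : (b : Γ)⁻¹ * (b * z * (b : Γ)⁻¹) * b = z := by group
      have e2 : (b' : Γ)⁻¹ * (b * z * (b : Γ)⁻¹) * b' =
          ((b : Γ)⁻¹ * b')⁻¹ * z * ((b : Γ)⁻¹ * b') := by group
      rw [e1, e2] at h2
      exact h2.symm

theorem orbit_sum_fixed (ρ : Γ →* Module.End K V) (B : Subgroup Γ) [Fintype B] (g : Γ)
    (hg : g ∈ B) (w : V) : ρ g (∑ b : B, ρ (b : Γ) w) = ∑ b : B, ρ (b : Γ) w := by
  rw [map_sum]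
  apply Fintype.sum_equiv (Equiv.mulLeft (⟨g, hg⟩ : B))
  intro b
  rw [← rho_mul]
  rfl

theorem orbit_sum_conj (ρ : Γ →* Module.End K V) (B : Subgroup Γ) [Fintype B] (g : Γ)
    (hg : g ∈ Subgroup.normalizer (B : Set Γ)) (w : V) (hgw : ρ g w = w) :
    ρ g (∑ b : B, ρ (b : Γ) w) = ∑ b : B, ρ (b : Γ) w := by
  rw [map_sum]
  apply Fintype.sum_equiv (conjAut B g hg).toEquiv
  intro b
  show ρ g (ρ (b : Γ) w) = ρ (((conjAut B g hg) b : B) : Γ) w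
  rw [conjAut_apply, rho_mul, rho_mul, inv_fix_of_fix ρ g w hgw]

theorem orbit_sum_mem (ρ : Γ →* Module.End K V) (M : Submodule K V) (B : Subgroup Γ)
    [Fintype B] (hM : ∀ b ∈ B, ∀ w ∈ M, ρ b w ∈ M) (w : V) (hw : w ∈ M) :
    ∑ b : B, ρ (b : Γ) w ∈ M :=
  Submodule.sum_mem _ (fun b _ => hM b b.2 w hw)

/-- If `f` (of order dividing `3`) does not fix the weight of `w`, then the sum of the
orbit of `w` under `⟨f⟩` is a nonzero `f`-fixed vector. -/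
theorem orbit3 [Finite Γ] (ρ : Γ →* Module.End K V) (M : Submodule K V) (Z : Subgroup Γ)
    (f : Γ) (hf3 : f ^ 3 = 1) (hfZ : f ∈ Subgroup.normalizer (Z : Set Γ))
    (hMf : ∀ w ∈ M, ρ f w ∈ M) (μ : Γ → K) (w : V)
    (hw : WtV ρ M Z μ w) (hnf : ¬ Fx Z f μ) :
    ∃ s ∈ M, s ≠ 0 ∧ ρ f s = s ∧
      ∀ g : Γ, g ∈ Subgroup.normalizer ((Subgroup.zpowers f : Subgroup Γ) : Set Γ) →
        ρ g w = w → ρ g s = s := by
  classical
  have := Fintype.ofFinite (Subgroup.zpowers f)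
  refine ⟨∑ b : Subgroup.zpowers f, ρ (b : Γ) w, ?_, ?_, ?_, ?_⟩
  · apply orbit_sum_mem ρ M _ _ w hw.1
    intro b hb
    obtain ⟨k, rfl⟩ := Subgroup.mem_zpowers_iff.mp hb
    rcases zpowers3 f hf3 _ hb with h | h | h
    · intro w hw
      rw [h]
      simpa using hw
    · rw [h]
      exact hMf
    · rw [h]
      exact inv_mem_of_mem ρ M f hMf
  · apply orbit_sum_ne_zero ρ M Z _ (Subgroup.zpowers_le.mpr hfZ) μ w hw
    intro b hb hb1 hfx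
    rcases zpowers3 f hf3 b hb with h | h | h
    · exact hb1 h
    · rw [h] at hfx
      exact hnf hfx
    · rw [h] at hfx
      exact hnf (Fx_inv' Z μ f hfZ hfx)
  · exact orbit_sum_fixed ρ _ f (Subgroup.mem_zpowers f) w
  · intro g hg hgw
    exact orbit_sum_conj ρ _ g hg w hgw

/-- A weight vector in a module without common fixed vectors of `f` and `τ` has a weight
fixed by `f` or by one of the involutions `τ * f ^ i`. -/
theorem exists_fix [Finite Γ] (ρ : Γ →* Module.End K V) (M : Submodule K V) (f τ : Γ)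
    (hf3 : f ^ 3 = 1) (hτ2 : τ * τ = 1) (hτf : τ * f * τ⁻¹ = f⁻¹)
    (hMf : ∀ w ∈ M, ρ f w ∈ M) (hMτ : ∀ w ∈ M, ρ τ w ∈ M)
    (hfix : ∀ w ∈ M, ρ f w = w → ρ τ w = w → w = 0) (Z : Subgroup Γ)
    (hfZ : f ∈ Subgroup.normalizer (Z : Set Γ)) (hτZ : τ ∈ Subgroup.normalizer (Z : Set Γ))
    (μ : Γ → K) (w : V) (hw : WtV ρ M Z μ w) :
    Fx Z f μ ∨ ∃ i : ℕ, Fx Z (τ * f ^ i) μ := by
  classical
  obtain ⟨A, hA⟩ : ∃ A : Subgroup Γ, A = Subgroup.closure ({f, τ} : Set Γ) := ⟨_, rfl⟩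
  have := Fintype.ofFinite A
  have hfA : f ∈ A := by
    rw [hA]
    exact Subgroup.subset_closure (Set.mem_insert _ _)
  have hτA : τ ∈ A := by
    rw [hA]
    exact Subgroup.subset_closure (Set.mem_insert_of_mem _ rfl)
  have hAZ : A ≤ Subgroup.normalizer (Z : Set Γ) := by
    rw [hA, Subgroup.closure_le]
    intro a ha
    rcases ha with rfl | ha
    · exact hfZ
    · rw [Set.mem_singleton_iff] at ha
      subst ha
      exact hτZ
  have hAM : ∀ b ∈ A, ∀ w ∈ M, ρ b w ∈ M := by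
    intro b hb
    rw [hA] at hb
    rcases mem_A_cases f τ hf3 hτ2 hτf b hb with ⟨i, rfl⟩ | ⟨i, rfl⟩
    · exact pow_mem_of_mem ρ M f hMf i
    · intro w hw
      rw [rho_mul]
      exact hMτ _ (pow_mem_of_mem ρ M f hMf i w hw)
  by_contra hcon
  push Not at hcon
  have hfree : ∀ b ∈ A, b ≠ 1 → ¬ Fx Z b μ := by
    intro b hb hb1 hfx
    rw [hA] at hb
    rcases mem_A_cases f τ hf3 hτ2 hτf b hb with ⟨i, rfl⟩ | ⟨i, rfl⟩
    · rcases zpowers3 f hf3 (f ^ i) (Subgroup.pow_mem _ (Subgroup.mem_zpowers f) i) with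
        h | h | h
      · exact hb1 h
      · rw [h] at hfx
        exact hcon.1 hfx
      · rw [h] at hfx
        exact hcon.1 (Fx_inv' Z μ f hfZ hfx)
    · exact hcon.2 i hfx
  have hs := orbit_sum_ne_zero ρ M Z A hAZ μ w hw hfree
  apply hs
  apply hfix _ (orbit_sum_mem ρ M A hAM w hw.1)
  · exact orbit_sum_fixed ρ A f hfA w
  · exact orbit_sum_fixed ρ A τ hτA w

/-- A joint eigenvector for a group acting by commuting operators on a nonzero invariant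
subspace. -/
theorem exists_joint_eigen' [IsAlgClosed K] [FiniteDimensional K V] (ρ : Γ →* Module.End K V)
    (M₀ : Submodule K V) (Z : Subgroup Γ) (hMZ : ∀ z ∈ Z, ∀ w ∈ M₀, ρ z w ∈ M₀)
    (hcomm : ∀ z ∈ Z, ∀ z' ∈ Z, ∀ w ∈ M₀, ρ (z * z') w = ρ (z' * z) w) (hne : M₀ ≠ ⊥) :
    ∃ (lam : Γ → K) (w₀ : V), w₀ ∈ M₀ ∧ w₀ ≠ 0 ∧ ∀ z ∈ Z, ρ z w₀ = lam z • w₀ := by
  classical
  let 𝒰 : Set (Submodule K V) := {U | U ≠ ⊥ ∧ U ≤ M₀ ∧ ∀ z ∈ Z, ∀ w ∈ U, ρ z w ∈ U}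
  have h𝒰ne : 𝒰.Nonempty := ⟨M₀, hne, le_refl _, hMZ⟩
  obtain ⟨U, hU𝒰, hUmin⟩ := (wellFounded_lt :
    WellFounded ((· < ·) : Submodule K V → Submodule K V → Prop)).has_min 𝒰 h𝒰ne
  obtain ⟨hUne, hUle, hUZ⟩ := hU𝒰
  have : Nontrivial U := Submodule.nontrivial_iff_ne_bot.mpr hUne
  obtain ⟨R', hR'⟩ : ∃ R' : Z →* Module.End K U, ∀ (u : Z) (w : U),
      ((R' u w : U) : V) = ρ u w := ⟨restrictHom ρ Z U hUZ, fun u w => rfl⟩
  have hirr : ∀ U' : Submodule K U, (∀ T ∈ Set.range R', ∀ w ∈ U', T w ∈ U') →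
      U' = ⊥ ∨ U' = ⊤ := by
    intro U' hU'R
    by_cases hU' : U' = ⊥
    · exact Or.inl hU'
    right
    have hU'S : U'.map U.subtype ∈ 𝒰 := by
      refine ⟨?_, ?_, ?_⟩
      · intro h0
        apply hU'
        rw [Submodule.eq_bot_iff]
        intro w hw
        have h1 : (w : V) ∈ U'.map U.subtype := ⟨w, hw, rfl⟩
        rw [h0] at h1
        exact Subtype.ext ((Submodule.mem_bot K).mp h1)
      · exact (Submodule.map_subtype_le U U').trans hUle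
      · rintro z hz _ ⟨w, hw, rfl⟩
        exact ⟨R' ⟨z, hz⟩ w, hU'R _ ⟨⟨z, hz⟩, rfl⟩ w hw, hR' ⟨z, hz⟩ w⟩
    have hle : U'.map U.subtype ≤ U := Submodule.map_subtype_le U U'
    have heq : U'.map U.subtype = U := by
      by_contra hne
      exact hUmin _ hU'S (lt_of_le_of_ne hle hne)
    rw [eq_top_iff]
    intro w _
    have h1 : (w : V) ∈ U'.map U.subtype := by rw [heq]; exact w.2
    obtain ⟨w', hw', hww'⟩ := h1
    have h2 : w' = w := Subtype.ext hww'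
    rwa [h2] at hw'
  have hscal : ∀ z : Z, ∃ c : K, R' z = c • (1 : Module.End K U) := by
    intro z
    apply schur_set (Set.range R') hirr (R' z)
    rintro _ ⟨z', rfl⟩
    apply LinearMap.ext
    intro w
    apply Subtype.ext
    rw [Module.End.mul_apply, Module.End.mul_apply, hR', hR', hR', hR',
      ← Module.End.mul_apply, ← map_mul, ← Module.End.mul_apply, ← map_mul]
    exact hcomm z z.2 z' z'.2 _ (hUle w.2)
  obtain ⟨w₀, hw₀U, hw₀0⟩ := Submodule.exists_mem_ne_zero_of_ne_bot hUne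
  refine ⟨fun g => if h : g ∈ Z then Classical.choose (hscal ⟨g, h⟩) else 0, w₀, hUle hw₀U,
    hw₀0, ?_⟩
  intro z hz
  simp only [dif_pos hz]
  have h1 := Classical.choose_spec (hscal ⟨z, hz⟩)
  have h2 := congrArg Subtype.val (LinearMap.congr_fun h1 ⟨w₀, hw₀U⟩)
  rw [hR'] at h2
  simpa using h2

/-- `τ` normalizes `⟨f⟩`. -/
theorem tau_norm_zpowers (f τ : Γ) (hτ2 : τ * τ = 1) (hτf : τ * f * τ⁻¹ = f⁻¹) :
    τ ∈ Subgroup.normalizer ((Subgroup.zpowers f : Subgroup Γ) : Set Γ) := by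
  have hτi : τ⁻¹ = τ := inv_eq_of_mul_eq_one_left hτ2
  have key : ∀ x ∈ Subgroup.zpowers f, τ * x * τ⁻¹ ∈ Subgroup.zpowers f := by
    intro x hx
    obtain ⟨k, rfl⟩ := Subgroup.mem_zpowers_iff.mp hx
    have e : τ * f ^ k * τ⁻¹ = (τ * f * τ⁻¹) ^ k := by
      rw [← MulAut.conj_apply, map_zpow, MulAut.conj_apply]
    rw [e, hτf]
    exact Subgroup.zpow_mem _ (Subgroup.inv_mem _ (Subgroup.mem_zpowers f)) k
  apply mem_normalizer_of_conj
  · exact key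
  · intro x hx
    have := key x hx
    rw [hτi] at this ⊢
    exact this

end

/-- The setting of the linear part: a group `N` of order prime to `6`, normalized by an
element `f` of order dividing `3` and an involution `τ` inverting `f`, which fix no
nontrivial element of `N` in common, and a faithful module for `N` without nonzero common
fixed vectors of `f` and `τ`. -/
structure S3Ctx (K : Type*) [Field K] (V : Type*) [AddCommGroup V] [Module K V]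
    (Γ : Type*) [Group Γ] where
  ρ : Γ →* Module.End K V
  M₀ : Submodule K V
  f : Γ
  τ : Γ
  N : Subgroup Γ
  hf3 : f ^ 3 = 1
  hτ2 : τ * τ = 1
  hτf : τ * f * τ⁻¹ = f⁻¹
  hfN : f ∈ Subgroup.normalizer (N : Set Γ)
  hτN : τ ∈ Subgroup.normalizer (N : Set Γ)
  hN6 : (Nat.card N).Coprime 6
  hsol : Group.IsSolvable N
  hfpf : ∀ n ∈ N, f * n = n * f → τ * n = n * τ → n = 1
  hMf : ∀ w ∈ M₀, ρ f w ∈ M₀
  hMτ : ∀ w ∈ M₀, ρ τ w ∈ M₀
  hMN : ∀ n ∈ N, ∀ w ∈ M₀, ρ n w ∈ M₀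
  hfix : ∀ w ∈ M₀, ρ f w = w → ρ τ w = w → w = 0
  hfaith : ∀ n ∈ N, (∀ w ∈ M₀, ρ n w = w) → n = 1
  h3K : (3 : K) ≠ 0

namespace S3Ctx

variable {K : Type*} [Field K] {V : Type*} [AddCommGroup V] [Module K V]
  {Γ : Type*} [Group Γ] (C : S3Ctx K V Γ)

theorem hτi : C.τ⁻¹ = C.τ := inv_eq_of_mul_eq_one_left C.hτ2

theorem hfff : C.f * C.f * C.f = 1 := by
  have h := C.hf3
  rwa [pow_succ, pow_two] at h

theorem hτf' : C.τ⁻¹ * C.f * C.τ = C.f⁻¹ := by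
  have h := C.hτf
  rw [C.hτi] at h ⊢
  exact h

theorem hfτ : C.f * C.τ = C.τ * C.f⁻¹ := by
  calc C.f * C.τ = C.τ * (C.τ⁻¹ * C.f * C.τ) := by group
    _ = C.τ * C.f⁻¹ := by rw [C.hτf']

/-- Every element of `N` has order prime to `6`. -/
theorem pow_card [Finite Γ] (n : Γ) (hn : n ∈ C.N) : n ^ Nat.card C.N = 1 := by
  have h1 : (⟨n, hn⟩ : C.N) ^ Nat.card C.N = 1 := pow_card_eq_one'
  have h2 : (((⟨n, hn⟩ : C.N) ^ Nat.card C.N : C.N) : Γ) = ((1 : C.N) : Γ) :=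
    congrArg Subtype.val h1
  rwa [Subgroup.coe_pow] at h2

theorem card_cop2 : (Nat.card C.N).Coprime 2 :=
  Nat.Coprime.coprime_dvd_right (by norm_num) C.hN6

theorem card_cop3 : (Nat.card C.N).Coprime 3 :=
  Nat.Coprime.coprime_dvd_right (by norm_num) C.hN6

theorem not_three_dvd [Finite Γ] (L : Subgroup Γ) (hL : L ≤ C.N) : ¬ 3 ∣ Nat.card L := by
  intro h
  have h1 : 3 ∣ Nat.card C.N := h.trans (Subgroup.card_dvd_of_le hL)
  have := Nat.Coprime.eq_one_of_dvd C.card_cop3.symm h1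
  omega

theorem sub_cop6 [Finite Γ] (L : Subgroup Γ) (hL : L ≤ C.N) : (Nat.card L).Coprime 6 :=
  Nat.Coprime.coprime_dvd_left (Subgroup.card_dvd_of_le hL) C.hN6

theorem sub_sol (L : Subgroup Γ) (hL : L ≤ C.N) : Group.IsSolvable L := by
  have := C.hsol
  exact Group.isSolvable_of_isSolvable_injective (Subgroup.inclusion_injective hL)

/-- The centralizer of `f` in `N`. -/
def centN : Subgroup Γ where
  carrier := {n | n ∈ C.N ∧ C.f * n = n * C.f}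
  one_mem' := ⟨C.N.one_mem, by simp⟩
  mul_mem' := by
    rintro a b ⟨ha, ha'⟩ ⟨hb, hb'⟩
    refine ⟨C.N.mul_mem ha hb, ?_⟩
    rw [← mul_assoc, ha', mul_assoc, hb', mul_assoc]
  inv_mem' := by
    rintro a ⟨ha, ha'⟩
    refine ⟨C.N.inv_mem ha, ?_⟩
    calc C.f * a⁻¹ = a⁻¹ * (a * C.f) * a⁻¹ := by group
      _ = a⁻¹ * (C.f * a) * a⁻¹ := by rw [ha']
      _ = a⁻¹ * C.f := by group

theorem mem_centN (n : Γ) : n ∈ C.centN ↔ n ∈ C.N ∧ C.f * n = n * C.f := Iff.rfl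

theorem tau_norm_centN : C.τ ∈ Subgroup.normalizer ((C.centN : Subgroup Γ) : Set Γ) := by
  have key : ∀ x ∈ C.centN, C.τ * x * C.τ⁻¹ ∈ C.centN := by
    rintro x ⟨hx, hx'⟩
    refine ⟨conj_mem_of_normalizer C.N C.τ C.hτN x hx, ?_⟩
    have h1 : C.f⁻¹ * x = x * C.f⁻¹ := by
      calc C.f⁻¹ * x = C.f⁻¹ * (x * C.f) * C.f⁻¹ := by group
        _ = C.f⁻¹ * (C.f * x) * C.f⁻¹ := by rw [hx']
        _ = x * C.f⁻¹ := by group
    calc C.f * (C.τ * x * C.τ⁻¹) = (C.f * C.τ) * x * C.τ⁻¹ := by group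
      _ = C.τ * (C.f⁻¹ * x) * C.τ⁻¹ := by rw [C.hfτ]; group
      _ = C.τ * x * C.τ⁻¹ * (C.τ * C.f * C.τ⁻¹)⁻¹ := by rw [h1]; group
      _ = C.τ * x * C.τ⁻¹ * C.f := by rw [C.hτf, inv_inv]
  apply mem_normalizer_of_conj
  · exact key
  · intro x hx
    have := key x hx
    rw [C.hτi] at this ⊢
    exact this

/-- `τ` inverts the centralizer of `f` in `N`. -/
theorem cent_inv_tau [Finite Γ] (n : Γ) (hn : n ∈ C.N) (hnf : C.f * n = n * C.f) :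
    C.τ * n * C.τ⁻¹ = n⁻¹ := by
  apply inv_of_fpf C.centN C.τ C.hτ2 C.tau_norm_centN _ n ⟨hn, hnf⟩
  rintro y ⟨hy, hy'⟩ hyτ
  exact C.hfpf y hy hy' hyτ

/-- The centralizer of `f` in `N` is abelian. -/
theorem cent_comm [Finite Γ] (a b : Γ) (ha : a ∈ C.N) (hb : b ∈ C.N)
    (haf : C.f * a = a * C.f) (hbf : C.f * b = b * C.f) : a * b = b * a :=
  comm_of_inv C.centN C.τ (fun x hx => C.cent_inv_tau x hx.1 hx.2) a ⟨ha, haf⟩ b ⟨hb, hbf⟩

/-- Every involution `τ * f ^ i` inverts the centralizer of `f` in `N`. -/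
theorem cent_inv [Finite Γ] (i : ℕ) (n : Γ) (hn : n ∈ C.N) (hnf : C.f * n = n * C.f) :
    (C.τ * C.f ^ i) * n * (C.τ * C.f ^ i)⁻¹ = n⁻¹ := by
  have h1 : C.f ^ i * n = n * C.f ^ i := ((show Commute C.f n from hnf).pow_left i).eq
  calc (C.τ * C.f ^ i) * n * (C.τ * C.f ^ i)⁻¹ = C.τ * (C.f ^ i * n) * (C.f ^ i)⁻¹ * C.τ⁻¹ := by
        group
    _ = C.τ * n * C.τ⁻¹ := by rw [h1]; group
    _ = n⁻¹ := C.cent_inv_tau n hn hnf

/-- Replacing `τ` by the involution `τ * f ^ i`. -/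
def twist (i : ℕ) : S3Ctx K V Γ :=
  { C with
    τ := C.τ * C.f ^ i
    hτ2 := twist_sq C.f C.τ C.hτ2 C.hτf i
    hτf := twist_conj C.f C.τ C.hτf i
    hτN := Subgroup.mul_mem _ C.hτN (Subgroup.pow_mem _ C.hfN i)
    hfpf := by
      intro n hn h1 h2
      apply C.hfpf n hn h1
      have h3 : C.f ^ i * n = n * C.f ^ i := ((show Commute C.f n from h1).pow_left i).eq
      calc C.τ * n = (C.τ * C.f ^ i * n) * (C.f ^ i)⁻¹ := by rw [mul_assoc C.τ, h3]; group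
        _ = (n * (C.τ * C.f ^ i)) * (C.f ^ i)⁻¹ := by rw [h2]
        _ = n * C.τ := by group
    hMτ := by
      intro w hw
      rw [rho_mul]
      exact C.hMτ _ (pow_mem_of_mem C.ρ C.M₀ C.f C.hMf i w hw)
    hfix := by
      intro w hw h1 h2
      apply C.hfix w hw h1
      rw [rho_mul, pow_fix_of_fix C.ρ C.f w h1 i] at h2
      exact h2 }

@[simp] theorem twist_ρ (i : ℕ) : (C.twist i).ρ = C.ρ := rfl
@[simp] theorem twist_M₀ (i : ℕ) : (C.twist i).M₀ = C.M₀ := rfl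
@[simp] theorem twist_f (i : ℕ) : (C.twist i).f = C.f := rfl
@[simp] theorem twist_N (i : ℕ) : (C.twist i).N = C.N := rfl
@[simp] theorem twist_τ (i : ℕ) : (C.twist i).τ = C.τ * C.f ^ i := rfl

/-- A weight of an abelian invariant subgroup of `N` fixed by `f` and `τ` is trivial. -/
theorem fixed_wt_trivial [Finite Γ] (Z : Subgroup Γ) (hZN : Z ≤ C.N)
    (hZc : ∀ a ∈ Z, ∀ b ∈ Z, a * b = b * a)
    (hfZ : C.f ∈ Subgroup.normalizer (Z : Set Γ)) (hτZ : C.τ ∈ Subgroup.normalizer (Z : Set Γ))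
    (μ : Γ → K) (w : V) (hw : WtV C.ρ C.M₀ Z μ w) (h1 : Fx Z C.f μ) (h2 : Fx Z C.τ μ) :
    ∀ z ∈ Z, μ z = 1 := by
  intro z hz
  obtain ⟨z₁, hz₁⟩ : ∃ z₁, z₁ = C.f * z * C.f⁻¹ := ⟨_, rfl⟩
  obtain ⟨z₂, hz₂⟩ : ∃ z₂, z₂ = C.f * z₁ * C.f⁻¹ := ⟨_, rfl⟩
  have hz₁Z : z₁ ∈ Z := by
    rw [hz₁]
    exact conj_mem_of_normalizer Z C.f hfZ z hz
  have hz₂Z : z₂ ∈ Z := by
    rw [hz₂]
    exact conj_mem_of_normalizer Z C.f hfZ z₁ hz₁Z
  have h3 : C.f * z₂ * C.f⁻¹ = z := by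
    rw [hz₂, hz₁]
    have e : C.f * (C.f * (C.f * z * C.f⁻¹) * C.f⁻¹) * C.f⁻¹ =
        (C.f * C.f * C.f) * z * (C.f * C.f * C.f)⁻¹ := by
      group
    rw [e, C.hfff]
    group
  obtain ⟨n₁, hn₁⟩ : ∃ n₁, n₁ = z * z₁ * z₂ := ⟨_, rfl⟩
  have hn₁Z : n₁ ∈ Z := by
    rw [hn₁]
    exact Z.mul_mem (Z.mul_mem hz hz₁Z) hz₂Z
  have hn₁f : C.f * n₁ * C.f⁻¹ = n₁ := by
    have e : C.f * n₁ * C.f⁻¹ = (C.f * z * C.f⁻¹) * (C.f * z₁ * C.f⁻¹) * (C.f * z₂ * C.f⁻¹) := by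
      rw [hn₁]
      group
    rw [e, h3, ← hz₁, ← hz₂, hn₁, hZc (z₁ * z₂) (Z.mul_mem hz₁Z hz₂Z) z hz, mul_assoc]
  have hn₁f' : C.f⁻¹ * n₁ * C.f = n₁ := by
    calc C.f⁻¹ * n₁ * C.f = C.f⁻¹ * (C.f * n₁ * C.f⁻¹) * C.f := by rw [hn₁f]
      _ = n₁ := by group
  obtain ⟨n₁', hn₁'⟩ : ∃ n₁', n₁' = C.τ * n₁ * C.τ⁻¹ := ⟨_, rfl⟩
  have hn₁'Z : n₁' ∈ Z := by
    rw [hn₁']
    exact conj_mem_of_normalizer Z C.τ hτZ n₁ hn₁Z
  have hn₁'f : C.f * n₁' * C.f⁻¹ = n₁' := by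
    rw [hn₁']
    calc C.f * (C.τ * n₁ * C.τ⁻¹) * C.f⁻¹
        = (C.f * C.τ) * n₁ * (C.f * C.τ)⁻¹ := by group
      _ = C.τ * (C.f⁻¹ * n₁ * C.f) * C.τ⁻¹ := by rw [C.hfτ]; group
      _ = C.τ * n₁ * C.τ⁻¹ := by rw [hn₁f']
  have hn₁'τ : C.τ * n₁' * C.τ⁻¹ = n₁ := by
    rw [hn₁']
    calc C.τ * (C.τ * n₁ * C.τ⁻¹) * C.τ⁻¹ = (C.τ * C.τ) * n₁ * (C.τ * C.τ)⁻¹ := by group
      _ = n₁ := by rw [C.hτ2]; group
  have hn₂ : n₁ * n₁' = 1 := by
    apply C.hfpf _ (hZN (Z.mul_mem hn₁Z hn₁'Z))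
    · calc C.f * (n₁ * n₁') = (C.f * n₁ * C.f⁻¹) * (C.f * n₁' * C.f⁻¹) * C.f := by group
        _ = n₁ * n₁' * C.f := by rw [hn₁f, hn₁'f]
    · calc C.τ * (n₁ * n₁') = (C.τ * n₁ * C.τ⁻¹) * (C.τ * n₁' * C.τ⁻¹) * C.τ := by group
        _ = n₁' * n₁ * C.τ := by rw [← hn₁', hn₁'τ]
        _ = n₁ * n₁' * C.τ := by rw [hZc n₁' hn₁'Z n₁ hn₁Z]
  have hμ1 : μ z₁ = μ z := by
    rw [hz₁]
    exact Fx_conj Z μ C.f hfZ h1 z hz
  have hμ2 : μ z₂ = μ z := by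
    rw [hz₂, Fx_conj Z μ C.f hfZ h1 z₁ hz₁Z, hμ1]
  have hμn₁ : μ n₁ = μ z ^ 3 := by
    rw [hn₁, wt_mul C.ρ C.M₀ Z μ w hw _ _ (Z.mul_mem hz hz₁Z) hz₂Z,
      wt_mul C.ρ C.M₀ Z μ w hw _ _ hz hz₁Z, hμ1, hμ2]
    ring
  have hμn₁' : μ n₁' = μ n₁ := by
    rw [hn₁']
    exact Fx_conj Z μ C.τ hτZ h2 n₁ hn₁Z
  have h6 : μ z ^ 6 = 1 := by
    have h4 := wt_mul C.ρ C.M₀ Z μ w hw n₁ n₁' hn₁Z hn₁'Z
    rw [hn₂, wt_one C.ρ C.M₀ Z μ w hw, hμn₁', hμn₁] at h4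
    rw [h4]
    ring
  exact wt_eq_one_of_pow C.ρ C.M₀ Z μ w hw z hz 6 (Nat.card C.N) h6 (C.pow_card z (hZN hz))
    C.hN6.symm

/-- A weight vector whose weight is fixed by `τ` but not by `f` is negated by `τ`. -/
theorem tau_neg [Finite Γ] (Z : Subgroup Γ)
    (hfZ : C.f ∈ Subgroup.normalizer (Z : Set Γ)) (hτZ : C.τ ∈ Subgroup.normalizer (Z : Set Γ))
    (μ : Γ → K) (v : V) (hv : WtV C.ρ C.M₀ Z μ v) (h1 : Fx Z C.τ μ) (h2 : ¬ Fx Z C.f μ) :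
    C.ρ C.τ v = -v := by
  by_contra hne
  have hw'0 : v + C.ρ C.τ v ≠ 0 := by
    intro h
    apply hne
    exact eq_neg_of_add_eq_zero_right h
  have hτv : WtV C.ρ C.M₀ Z μ (C.ρ C.τ v) :=
    wt_congr C.ρ C.M₀ Z _ μ _ (wt_conj C.ρ C.M₀ Z μ v hv C.τ hτZ C.hMτ)
      (fun z hz => (h1 z hz).symm)
  have hw' : WtV C.ρ C.M₀ Z μ (v + C.ρ C.τ v) := by
    refine ⟨C.M₀.add_mem hv.1 hτv.1, hw'0, ?_⟩
    intro z hz
    rw [map_add, hv.2.2 z hz, hτv.2.2 z hz, smul_add]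
  have hτw' : C.ρ C.τ (v + C.ρ C.τ v) = v + C.ρ C.τ v := by
    rw [map_add, ← rho_mul, C.hτ2, map_one, Module.End.one_apply, add_comm]
  obtain ⟨s, hsM, hs0, hsf, hsg⟩ := orbit3 C.ρ C.M₀ Z C.f C.hf3 hfZ C.hMf μ _ hw' h2
  exact hs0 (C.hfix s hsM hsf (hsg C.τ (tau_norm_zpowers C.f C.τ C.hτ2 C.hτf) hτw'))

/-- A weight vector whose weight is not fixed by `τ` is not fixed by `f`. -/
theorem nofix_of_not_tau (Z : Subgroup Γ)
    (hτZ : C.τ ∈ Subgroup.normalizer (Z : Set Γ))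
    (μ : Γ → K) (w : V) (hw : WtV C.ρ C.M₀ Z μ w) (h2 : ¬ Fx Z C.τ μ) : C.ρ C.f w ≠ w := by
  intro hfw
  have hs : w + C.ρ C.τ w = 0 := by
    apply C.hfix _ (C.M₀.add_mem hw.1 (C.hMτ w hw.1))
    · rw [map_add, hfw, ← rho_mul, C.hfτ, rho_mul, inv_fix_of_fix C.ρ C.f w hfw]
    · rw [map_add, ← rho_mul, C.hτ2, map_one, Module.End.one_apply, add_comm]
  have hτw : C.ρ C.τ w = -w := eq_neg_of_add_eq_zero_right hs
  apply h2
  intro z hz
  have h3 := (wt_conj C.ρ C.M₀ Z μ w hw C.τ hτZ C.hMτ).2.2 z hz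
  rw [hτw, map_neg, hw.2.2 z hz, cw_apply, smul_neg, neg_inj] at h3
  have h4 : (μ z - μ (C.τ⁻¹ * z * C.τ)) • w = 0 := by rw [sub_smul, h3, sub_self]
  rcases smul_eq_zero.mp h4 with h | h
  · exact (sub_eq_zero.mp h).symm
  · exact absurd h hw.2.1

end S3Ctx

end Cfsg.Agent.Lib.helper66
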