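import Mathlib
import Cfsg.Prelude.Def_Local
import Cfsg.Agent.Lib.helper27.Radical
import Cfsg.Agent.Lib.helper38.HallHigman

/-!
# The dual of Hall–Higman Lemma 1.2.3

In a finite `p`-soluble group `G` with `O_p(G) = 1`, `C_G(O_{p'}(G)) ≤ O_{p'}(G)`
(`centralizer_pPrimeCore_le_of_isPSolvable`). Also `pCore_quotient_pCore : O_p(G/O_p(G)) = 1`.
-/

set_option autoImplicit false
set_option linter.style.haveILetI false

namespace Cfsg.Agent.Lib.helper66

open Subgroup Cfsg.Agent.Lib.helper27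

/-- The inductive step of the dual Hall–Higman lemma. -/
theorem dualHallHigman_step {G : Type*} [Group G] [Finite G] {p : ℕ} [hp : Fact p.Prime]
    (hcore : Cfsg.pCore p G = ⊥) (C A B : Subgroup G) [C.Normal] [A.Normal] [B.Normal]
    (hAB : A ≤ B) (hC : C ≤ centralizer (Cfsg.pPrimeCore p G : Set G))
    (hA : C ⊓ A ≤ Cfsg.pPrimeCore p G)
    (hidx : (∃ m : ℕ, A.relIndex B = p ^ m) ∨ (A.relIndex B).Coprime p) :
    C ⊓ B ≤ Cfsg.pPrimeCore p G := by
  have hdvd : (C ⊓ A).relIndex (C ⊓ B) ∣ A.relIndex B :=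
    Cfsg.Agent.Lib.helper38.relIndex_inf_dvd_relIndex C A B hAB
  have hle : C ⊓ A ≤ C ⊓ B := inf_le_inf_left C hAB
  have hDcop : (Nat.card ↥(C ⊓ A)).Coprime p :=
    Nat.Coprime.coprime_dvd_left (Subgroup.card_dvd_of_le hA) (pPrimeCore_coprime p)
  have hcardL : Nat.card ↥(C ⊓ B) = Nat.card ↥(C ⊓ A) * (C ⊓ A).relIndex (C ⊓ B) := by
    have := Subgroup.relIndex_mul_relIndex (⊥ : Subgroup G) (C ⊓ A) (C ⊓ B) bot_le hle
    rw [Subgroup.relIndex_bot_left, Subgroup.relIndex_bot_left] at this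
    exact this.symm
  suffices h : (Nat.card ↥(C ⊓ B)).Coprime p from normal_coprime_le_pPrimeCore p (C ⊓ B) h
  rcases hidx with ⟨m, hm⟩ | hcop
  · rw [hm] at hdvd
    obtain ⟨j, -, hj⟩ := (Nat.dvd_prime_pow hp.out).mp hdvd
    have hD'c : (C ⊓ A).subgroupOf (C ⊓ B) ≤ Subgroup.center ↥(C ⊓ B) := by
      intro d hd
      rw [Subgroup.mem_center_iff]
      intro l
      have h1 : (l : G) ∈ centralizer (Cfsg.pPrimeCore p G : Set G) := hC l.2.1
      have h2 : (d : G) ∈ Cfsg.pPrimeCore p G := hA (Subgroup.mem_subgroupOf.mp hd)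
      have h3 := (Subgroup.mem_centralizer_iff.mp h1) (d : G) h2
      apply Subtype.ext
      simp only [Subgroup.coe_mul]
      exact h3.symm
    have hQp : IsPGroup p (↥(C ⊓ B) ⧸ (C ⊓ A).subgroupOf (C ⊓ B)) :=
      IsPGroup.of_card (n := j) (by
        rw [← Subgroup.index_eq_card]
        exact hj)
    haveI : Group.IsNilpotent (↥(C ⊓ B) ⧸ (C ⊓ A).subgroupOf (C ⊓ B)) := hQp.isNilpotent
    haveI : Group.IsNilpotent ↥(C ⊓ B) :=
      Subgroup.isNilpotent_of_ker_le_center (QuotientGroup.mk' ((C ⊓ A).subgroupOf (C ⊓ B)))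
        (by rw [QuotientGroup.ker_mk']; exact hD'c)
    obtain ⟨S⟩ : Nonempty (Sylow p ↥(C ⊓ B)) := inferInstance
    have hSn : (S : Subgroup ↥(C ⊓ B)).Normal :=
      Sylow.normal_of_normalizerCondition Group.normalizerCondition_of_isNilpotent S
    haveI hSc : (S : Subgroup ↥(C ⊓ B)).Characteristic := Sylow.characteristic_of_normal S hSn
    haveI hSG : ((S : Subgroup ↥(C ⊓ B)).map (C ⊓ B).subtype).Normal :=
      ConjAct.normal_of_characteristic_of_normal
    have hSp : IsPGroup p ↥((S : Subgroup ↥(C ⊓ B)).map (C ⊓ B).subtype) := S.isPGroup'.map _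
    have hSbot : (S : Subgroup ↥(C ⊓ B)).map (C ⊓ B).subtype = ⊥ := by
      have := normal_pGroup_le_pCore p _ hSp
      rw [hcore] at this
      exact le_bot_iff.mp this
    have hS1 : (S : Subgroup ↥(C ⊓ B)) = ⊥ := by
      rwa [Subgroup.map_eq_bot_iff_of_injective _ (Subgroup.subtype_injective _)] at hSbot
    have hnd : ¬ p ∣ Nat.card ↥(C ⊓ B) := fun hdiv => S.ne_bot_of_dvd_card hdiv hS1
    exact ((Nat.Prime.coprime_iff_not_dvd hp.out).mpr hnd).symm
  · rw [hcardL]
    exact Nat.Coprime.mul_left hDcop (Nat.Coprime.coprime_dvd_left hdvd hcop)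

/-- **Dual Hall–Higman lemma.** In a finite `p`-soluble group `G` with `O_p(G) = 1`,
`C_G(O_{p'}(G)) ≤ O_{p'}(G)`. -/
theorem centralizer_pPrimeCore_le_of_isPSolvable {G : Type*} [Group G] [Finite G] {p : ℕ}
    [Fact p.Prime] (hS : Cfsg.IsPSolvable p G) (hcore : Cfsg.pCore p G = ⊥) :
    centralizer (Cfsg.pPrimeCore p G : Set G) ≤ Cfsg.pPrimeCore p G := by
  obtain ⟨n, H, h0, hlast, hmono, hnorm, hstep⟩ := hS
  have key : ∀ i : Fin (n + 1),
      centralizer (Cfsg.pPrimeCore p G : Set G) ⊓ H i ≤ Cfsg.pPrimeCore p G := by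
    intro i
    induction i using Fin.induction with
    | zero => rw [h0]; simp
    | succ i ih =>
      have := hnorm i.castSucc
      have := hnorm i.succ
      exact dualHallHigman_step hcore _ _ _ (hmono (Fin.castSucc_le_succ i)) le_rfl ih (hstep i)
  have := key (Fin.last n)
  rwa [hlast, inf_top_eq] at this

/-- `O_p(G / O_p(G)) = 1`. -/
theorem pCore_quotient_pCore {G : Type*} [Group G] [Finite G] (p : ℕ) [hp : Fact p.Prime] :
    Cfsg.pCore p (G ⧸ Cfsg.pCore p G) = ⊥ := by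
  set N := Cfsg.pCore p G with hN
  set K : Subgroup G := (Cfsg.pCore p (G ⧸ N)).comap (QuotientGroup.mk' N) with hK
  have hNK : N ≤ K := by
    intro x hx
    rw [hK, Subgroup.mem_comap, QuotientGroup.mk'_apply, (QuotientGroup.eq_one_iff x).mpr hx]
    exact Subgroup.one_mem _
  have hKp : IsPGroup p ↥K := by
    obtain ⟨a, ha⟩ : ∃ a : ℕ, Nat.card ↥N = p ^ a := IsPGroup.iff_card.mp (pCore_isPGroup (G := G) p)
    obtain ⟨b, hb⟩ := IsPGroup.iff_card.mp (pCore_isPGroup (G := G ⧸ N) p)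
    have h1 : N.relIndex K = Nat.card ↥(K.map (QuotientGroup.mk' N)) := by
      have := Subgroup.relIndex_ker (QuotientGroup.mk' N) (K := K)
      rwa [QuotientGroup.ker_mk'] at this
    have h2 : K.map (QuotientGroup.mk' N) = Cfsg.pCore p (G ⧸ N) := by
      rw [hK, Subgroup.map_comap_eq_self_of_surjective (QuotientGroup.mk'_surjective N)]
    have h3 := Subgroup.relIndex_mul_relIndex (⊥ : Subgroup G) N K bot_le hNK
    rw [Subgroup.relIndex_bot_left, Subgroup.relIndex_bot_left, h1, h2, hb, ha] at h3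
    exact IsPGroup.of_card (n := a + b) (by rw [← h3, pow_add])
  have hKN : K ≤ N := normal_pGroup_le_pCore p K hKp
  rw [eq_bot_iff]
  intro y hy
  obtain ⟨x, rfl⟩ := QuotientGroup.mk'_surjective N y
  rw [Subgroup.mem_bot, QuotientGroup.mk'_apply, QuotientGroup.eq_one_iff]
  exact hKN hy

end Cfsg.Agent.Lib.helper66
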