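import Mathlib
import Cfsg.Agent.Lib.helper49.SPEDefs

/-! S2333 piece EISO (helper66), core: the ENORM bound is a hypothesis.  The isometries
`g = ((p, r), (s, t))` of an anisotropic binary form `bq a b c` in characteristic 2, `b ≠ 0`:
`g ↦ (p, s)` lands in `{bq = a}` and has fibres of size at most 2. -/

set_option autoImplicit false

namespace Cfsg.Agent.Lib.helper49.SPE

/-- two isometries with the same first column differ by `κ • (p, s)` with `κ = 0` or `κ = -b/a` -/
theorem h66_iso_fibre {F : Type*} [Field F] (h2 : (2 : F) = 0) (a b c : F) (hb : b ≠ 0)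
    (ha : a ≠ 0) (p r s t r' t' : F)
    (hg : ∀ S T : F, bq a b c (p * S + r * T) (s * S + t * T) = bq a b c S T)
    (hg' : ∀ S T : F, bq a b c (p * S + r' * T) (s * S + t' * T) = bq a b c S T) :
    (r' = r ∧ t' = t) ∨ (r' = r + (-b / a) * p ∧ t' = t + (-b / a) * s) := by
  have h10 := hg 1 0
  have h01 := hg 0 1
  have h11 := hg 1 1
  have h01' := hg' 0 1
  have h11' := hg' 1 1
  simp only [bq, mul_one, mul_zero, add_zero, zero_add] at h10 h01 h11 h01' h11'
  have hdet : p * t + r * s = 1 := by
    have h3 : b * (p * t + r * s) = b * 1 := by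
      linear_combination h11 - h10 - h01 - (a * p * r + c * s * t) * h2
    exact mul_left_cancel₀ hb h3
  have hdet' : p * t' + r' * s = 1 := by
    have h3 : b * (p * t' + r' * s) = b * 1 := by
      linear_combination h11' - h10 - h01' - (a * p * r' + c * s * t') * h2
    exact mul_left_cancel₀ hb h3
  -- `(r' - r, t' - t) = κ (p, s)`
  have hκ : ∃ κ : F, r' = r + κ * p ∧ t' = t + κ * s := by
    by_cases hp : p = 0
    · have hs : s ≠ 0 := by
        intro hs
        rw [hp, hs] at h10
        apply ha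
        linear_combination -h10
      have hr : r' = r := by
        have h3 : s * r' = s * r := by
          rw [hp] at hdet hdet'
          linear_combination hdet' - hdet
        exact mul_left_cancel₀ hs h3
      refine ⟨(t' - t) / s, ?_, ?_⟩
      · rw [hr, hp]
        ring
      · field_simp
        ring
    · refine ⟨(r' - r) / p, ?_, ?_⟩
      · field_simp
        ring
      · have h3 : p * t' = p * (t + (r' - r) / p * s) := by
          have h4 : p * (t + (r' - r) / p * s) = p * t + (r' - r) * s := by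
            field_simp
          rw [h4]
          linear_combination hdet' - hdet - (r' - r) * s * h2
        exact mul_left_cancel₀ hp h3
  obtain ⟨κ, hr', ht'⟩ := hκ
  rw [hr', ht'] at h01'
  have hκ2 : κ * (κ * a + b) = 0 := by
    linear_combination h01' - h01 - κ ^ 2 * h10 - κ * b * hdet - κ * (a * r * p + c * t * s) * h2
  rcases mul_eq_zero.mp hκ2 with h0 | h0
  · left
    rw [hr', ht', h0]
    constructor <;> ring
  · right
    have h3 : κ = -b / a := by
      field_simp
      linear_combination h0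
    rw [hr', ht', h3]
    exact ⟨rfl, rfl⟩

/-- EISO core: the ENORM bound is a hypothesis -/
theorem h66_card_iso_le_core {F : Type*} [Field F] [Fintype F] (h2 : (2 : F) = 0) (a b c : F)
    (hb : b ≠ 0) (haniso : ∀ s t : F, bq a b c s t = 0 → s = 0 ∧ t = 0)
    (hENORM : Nat.card {p : F × F // bq a b c p.1 p.2 = a} ≤ Fintype.card F + 1) :
    Nat.card {g : (F × F) × (F × F) // ∀ S T : F,
        bq a b c (g.1.1 * S + g.1.2 * T) (g.2.1 * S + g.2.2 * T) = bq a b c S T} ≤
      2 * (Fintype.card F + 1) := by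
  classical
  have ha : a ≠ 0 := by
    intro ha
    have h1 := haniso 1 0 (by simp [bq, ha])
    exact one_ne_zero h1.1
  have hfib : ∀ g : {g : (F × F) × (F × F) // ∀ S T : F,
      bq a b c (g.1.1 * S + g.1.2 * T) (g.2.1 * S + g.2.2 * T) = bq a b c S T},
      bq a b c g.1.1.1 g.1.2.1 = a := by
    intro g
    have h1 := g.2 1 0
    simp only [bq, mul_one, mul_zero, add_zero] at h1 ⊢
    rw [h1]
    ring
  let f : {g : (F × F) × (F × F) // ∀ S T : F,
      bq a b c (g.1.1 * S + g.1.2 * T) (g.2.1 * S + g.2.2 * T) = bq a b c S T} →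
      {p : F × F // bq a b c p.1 p.2 = a} := fun g => ⟨(g.1.1.1, g.1.2.1), hfib g⟩
  have hf : ∀ g g', f g = f g' → g.1.1.1 = g'.1.1.1 ∧ g.1.2.1 = g'.1.2.1 := by
    intro g g' h
    have h1 : (g.1.1.1, g.1.2.1) = (g'.1.1.1, g'.1.2.1) := congrArg Subtype.val h
    exact Prod.mk.inj h1
  have hkey : ∀ g g', f g = f g' →
      g' = g ∨ (g'.1.1.2 = g.1.1.2 + (-b / a) * g.1.1.1 ∧
        g'.1.2.2 = g.1.2.2 + (-b / a) * g.1.2.1) := by
    intro g g' h
    obtain ⟨hp, hs⟩ := hf g g' h
    have hg' : ∀ S T : F, bq a b c (g.1.1.1 * S + g'.1.1.2 * T) (g.1.2.1 * S + g'.1.2.2 * T)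
        = bq a b c S T := by
      intro S T
      rw [hp, hs]
      exact g'.2 S T
    rcases h66_iso_fibre h2 a b c hb ha g.1.1.1 g.1.1.2 g.1.2.1 g.1.2.2 g'.1.1.2 g'.1.2.2
      g.2 hg' with h1 | h1
    · left
      apply Subtype.ext
      apply Prod.ext
      · exact Prod.ext hp.symm h1.1
      · exact Prod.ext hs.symm h1.2
    · right
      exact h1
  rw [Nat.card_eq_fintype_card, ← Finset.card_univ]
  have h1 := Finset.card_le_mul_card_image (f := f) Finset.univ 2 (by
    intro y _
    by_contra hcon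
    rw [not_le, Finset.two_lt_card] at hcon
    obtain ⟨g₁, hg₁, g₂, hg₂, g₃, hg₃, h12, h13, h23⟩ := hcon
    rw [Finset.mem_filter] at hg₁ hg₂ hg₃
    have e2 : f g₁ = f g₂ := hg₁.2.trans hg₂.2.symm
    have e3 : f g₁ = f g₃ := hg₁.2.trans hg₃.2.symm
    rcases hkey g₁ g₂ e2 with k2 | k2
    · exact h12 k2.symm
    rcases hkey g₁ g₃ e3 with k3 | k3
    · exact h13 k3.symm
    apply h23
    obtain ⟨hp2, hs2⟩ := hf g₁ g₂ e2
    obtain ⟨hp3, hs3⟩ := hf g₁ g₃ e3
    apply Subtype.ext
    apply Prod.ext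
    · exact Prod.ext (hp2.symm.trans hp3) (k2.1.trans k3.1.symm)
    · exact Prod.ext (hs2.symm.trans hs3) (k2.2.trans k3.2.symm))
  have h2' : (Finset.univ.image f).card ≤ Fintype.card F + 1 := by
    refine le_trans (Finset.card_le_univ _) ?_
    rw [← Nat.card_eq_fintype_card]
    exact hENORM
  calc (Finset.univ : Finset _).card ≤ 2 * (Finset.univ.image f).card := h1
    _ ≤ 2 * (Fintype.card F + 1) := Nat.mul_le_mul_left 2 h2'

end Cfsg.Agent.Lib.helper49.SPE
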