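import Mathlib
import Cfsg.Agent.Lib.helper66.ExtraZC

set_option autoImplicit false

namespace Cfsg.Agent.Lib.helper66

/-- Eigenvalue multiplicities of an endomorphism of finite order `h` (invertible in `K`),
indexed by the powers of a primitive `h`-th root of unity: they sum to the dimension, and
the sum of their squares is at most the dimension of the commutant. -/
theorem eigen_count2 {K : Type*} [Field K] [IsAlgClosed K] {W : Type*} [AddCommGroup W]
    [Module K W] [FiniteDimensional K W]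
    (X : Module.End K W) (h : ℕ) (hh : 0 < h) (hXh : X ^ h = 1) (hhK : (h : K) ≠ 0)
    (ζ : K) (hζ : IsPrimitiveRoot ζ h) :
    ∑ j : Fin h, Module.finrank K (X.eigenspace (ζ ^ (j : ℕ))) = Module.finrank K W ∧
      ∑ j : Fin h, (Module.finrank K (X.eigenspace (ζ ^ (j : ℕ)))) ^ 2
        ≤ Module.finrank K (commSub X) := by
  classical
  have : NeZero (h : K) := ⟨hhK⟩
  have : NeZero h := ⟨hh.ne'⟩
  have hss : X.IsSemisimple := by
    apply Module.End.isSemisimple_of_squarefree_aeval_eq_zero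
      (p := Polynomial.X ^ h - Polynomial.C 1)
    · exact (Polynomial.separable_X_pow_sub_C (1 : K) hhK one_ne_zero).squarefree
    · simp [hXh]
  have htop := hss.iSup_eigenspace_eq_top
  have hev : ∀ μ : K, X.eigenspace μ ≠ ⊥ → ∃ j : Fin h, ζ ^ (j : ℕ) = μ := by
    intro μ hμ
    obtain ⟨w, hw, hw0⟩ := (Submodule.ne_bot_iff _).mp hμ
    have h1 : X w = μ • w := Module.End.mem_eigenspace_iff.mp hw
    have h2 : ∀ k : ℕ, (X ^ k) w = μ ^ k • w := by
      intro k
      induction k with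
      | zero => simp
      | succ k ih =>
        rw [pow_succ, Module.End.mul_apply, h1, map_smul, ih, smul_smul, pow_succ, mul_comm]
    have h3 : μ ^ h = 1 := by
      have h5 := h2 h
      rw [hXh, Module.End.one_apply] at h5
      by_contra hne
      apply hw0
      have h6 : (μ ^ h - 1) • w = 0 := by rw [sub_smul, one_smul, ← h5, sub_self]
      rcases smul_eq_zero.mp h6 with h4 | h4
      · exact absurd (sub_eq_zero.mp h4) hne
      · exact h4
    obtain ⟨i, hi, hiμ⟩ := hζ.eq_pow_of_pow_eq_one h3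
    exact ⟨⟨i, hi⟩, hiμ⟩
  let E : Fin h → Submodule K W := fun j => X.eigenspace (ζ ^ (j : ℕ))
  have hinj : Function.Injective (fun j : Fin h => ζ ^ (j : ℕ)) := by
    intro i j hij
    exact Fin.ext (hζ.pow_inj i.2 j.2 hij)
  have hind : iSupIndep E := (Module.End.eigenspaces_iSupIndep X).comp hinj
  have hsup : ⨆ j, E j = ⊤ := by
    rw [eq_top_iff, ← htop]
    apply iSup_le
    intro μ
    by_cases hμ : X.eigenspace μ = ⊥
    · rw [hμ]; exact bot_le
    · obtain ⟨j, hj⟩ := hev μ hμ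
      rw [← hj]; exact le_iSup E j
  have hint := DirectSum.isInternal_submodule_of_iSupIndep_of_iSup_eq_top hind hsup
  let a : Fin h → ℕ := fun j => Module.finrank K (E j)
  let bj : ∀ j, Module.Basis (Fin (a j)) K (E j) := fun j => Module.finBasis K (E j)
  let b := hint.collectedBasis bj
  have hbX : ∀ i : (Σ j, Fin (a j)), X (b i) = ζ ^ (i.1 : ℕ) • b i := by
    intro i
    have := hint.collectedBasis_mem bj i
    exact Module.End.mem_eigenspace_iff.mp this
  refine ⟨?_, ?_⟩
  · rw [Module.finrank_eq_card_basis b, Fintype.card_sigma]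
    simp only [Fintype.card_fin]
    rfl
  · let φ := LinearMap.toMatrixAlgEquiv b
    let d : (Σ j, Fin (a j)) → K := fun i => ζ ^ (i.1 : ℕ)
    have hD : φ X = Matrix.diagonal d := by
      ext i j
      rw [LinearMap.toMatrixAlgEquiv_apply, hbX, map_smul, Matrix.diagonal_apply]
      simp only [Module.Basis.repr_self, Finsupp.smul_apply, smul_eq_mul, Finsupp.single_apply]
      by_cases hij : i = j
      · subst hij; simp [d]
      · simp [hij, Ne.symm hij]
    let e : (Σ j, Fin (a j) × Fin (a j)) → (Σ j, Fin (a j)) × (Σ j, Fin (a j)) :=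
      fun t => (⟨t.1, t.2.1⟩, ⟨t.1, t.2.2⟩)
    have he : Function.Injective e := by
      rintro ⟨j, k, l⟩ ⟨j', k', l'⟩ hjj
      simp only [e, Prod.mk.injEq, Sigma.mk.injEq] at hjj
      obtain ⟨⟨rfl, hk⟩, ⟨_, hl⟩⟩ := hjj
      simp only [heq_eq_eq] at hk hl
      subst hk; subst hl; rfl
    have hcomm : ∀ t : (Σ j, Fin (a j) × Fin (a j)),
        φ.symm (Matrix.single (e t).1 (e t).2 (1 : K)) ∈ commSub X := by
      intro t
      rw [mem_commSub]
      apply φ.injective
      rw [map_mul, map_mul, AlgEquiv.apply_symm_apply, hD]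
      ext u v
      rw [Matrix.diagonal_mul, Matrix.mul_diagonal, Matrix.single_apply]
      by_cases huv : (e t).1 = u ∧ (e t).2 = v
      · rw [if_pos huv]
        obtain ⟨hu, hv⟩ := huv
        rw [← hu, ← hv]
        simp [d, e, mul_comm]
      · rw [if_neg huv]; simp
    let F : (Σ j, Fin (a j) × Fin (a j)) → commSub X := fun t => ⟨_, hcomm t⟩
    have hF : LinearIndependent K F := by
      apply LinearIndependent.of_comp (commSub X).subtype
      have h1 : (commSub X).subtype ∘ F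
          = φ.symm.toLinearMap ∘ ((Matrix.stdBasis K _ _) ∘ e) := by
        funext t
        simp only [Function.comp_apply, Submodule.subtype_apply, F, AlgEquiv.toLinearMap_apply]
        rw [Matrix.stdBasis_eq_single]
      rw [h1]
      apply LinearIndependent.map'
      · exact (Matrix.stdBasis K _ _).linearIndependent.comp e he
      · exact LinearMap.ker_eq_bot.mpr φ.symm.injective
    have h2 := hF.fintype_card_le_finrank
    rw [Fintype.card_sigma] at h2
    simpa [pow_two] using h2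

section

variable {K : Type*} [Field K] {W : Type*} [AddCommGroup W] [Module K W]
  {Q : Type*} [Group Q]

/-- The multiplicity inequality behind `extra_coreZ`. -/
theorem extra_coreZ_mult [IsAlgClosed K] [FiniteDimensional K W] [Nontrivial W] [Fintype Q]
    (R : Q →* Module.End K W) (Z : Subgroup Q) [Z.Normal]
    (X : Module.End K W) (σ : MulAut Q) (h : ℕ) (hh : 0 < h)
    (hd : ExtraDataZ R Z) (hσZ : ∀ u, u ∈ Z ↔ σ u ∈ Z)
    (hX : ∀ u, X * R u = R (σ u) * X) (hXh : X ^ h = 1) (hσh : σ ^ h = 1)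
    (hfpf : ∀ i, 0 < i → i < h → ∀ u, (σ ^ i) u * u⁻¹ ∈ Z →
      u ∈ Z)
    (hirr : ∀ U : Submodule K W, (∀ u, ∀ w ∈ U, R u w ∈ U) → (∀ w ∈ U, X w ∈ U) →
      U = ⊥ ∨ U = ⊤)
    (hQK : (Fintype.card Q : K) ≠ 0) (hhK : (h : K) ≠ 0)
    (ζ : K) (hζ : IsPrimitiveRoot ζ h) :
    h * ∑ j : Fin h, (Module.finrank K (X.eigenspace (ζ ^ (j : ℕ)))) ^ 2 + 1
      ≤ (Module.finrank K W) ^ 2 + h := by
  classical
  have hirrQ : ∀ U : Submodule K W, (∀ u, ∀ w ∈ U, R u w ∈ U) → U = ⊥ ∨ U = ⊤ := by
    intro U hU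
    exact hirr U hU (X_invariantZ hd X σ h hh hX hXh hσZ
      (fun h1 u hu => hfpf 1 one_pos h1 u (by simpa using hu)) hirr hQK U hU)
  have hsq := finrank_sq_eqZ hd hirrQ hQK
  have hidx : Z.index = Nat.card (Q ⧸ Z) :=
    Subgroup.index_eq_card _
  obtain ⟨hasum, hasq⟩ := eigen_count2 X h hh hXh hhK ζ hζ
  by_cases hnt : ∃ ω : Q ⧸ Z, ω ≠ 1
  swap
  · push Not at hnt
    have hc1 : Nat.card (Q ⧸ Z) = 1 := by
      rw [Nat.card_eq_one_iff_unique]
      exact ⟨⟨fun a b => (hnt a).trans (hnt b).symm⟩, ⟨1⟩⟩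
    have hn1 : Module.finrank K W = 1 := by
      rw [hc1] at hsq
      rcases pow_eq_one_iff.mp hsq with h6 | h6
      · exact h6
      · exact absurd h6 two_ne_zero
    rw [hn1] at hasum ⊢
    have hle1 : ∀ j : Fin h, Module.finrank K (X.eigenspace (ζ ^ (j : ℕ))) ≤ 1 := by
      intro j
      rw [← hasum]
      exact Finset.single_le_sum (f := fun j : Fin h =>
        Module.finrank K (X.eigenspace (ζ ^ (j : ℕ)))) (fun i _ => Nat.zero_le _)
        (Finset.mem_univ j)
    have hsq1 : ∑ j : Fin h, (Module.finrank K (X.eigenspace (ζ ^ (j : ℕ)))) ^ 2 = 1 := by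
      rw [← hasum]
      apply Finset.sum_congr rfl
      intro j _
      have := hle1 j
      interval_cases (Module.finrank K (X.eigenspace (ζ ^ (j : ℕ)))) <;> simp
    rw [hsq1]
    omega
  obtain ⟨B, hB⟩ := exists_basis_RZ hd hirrQ hQK
  set τ : Equiv.Perm (Q ⧸ Z) := (sigmaBarZ Z σ hσZ).toEquiv with hτ
  have hτh : τ ^ h = 1 := by
    ext ω
    induction ω using QuotientGroup.induction_on with
    | H u =>
      rw [hτ, sigmaBarZ_pow_mk, hσh]
      rfl
  have hτ1 : τ 1 = 1 := map_one (sigmaBarZ Z σ hσZ)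
  have hτfpf : ∀ i, 0 < i → i < h → ∀ ω, (τ ^ i) ω = ω → ω = 1 := by
    intro i hi0 hi ω hω
    induction ω using QuotientGroup.induction_on with
    | H u =>
      rw [hτ, sigmaBarZ_pow_mk] at hω
      have h1 := QuotientGroup.eq.mp hω.symm
      have h2 : (σ ^ i) u * u⁻¹ ∈ Z :=
        (inferInstance : Z.Normal).mem_comm h1
      exact (QuotientGroup.eq_one_iff u).mpr (hfpf i hi0 hi u h2)
  have horb := orbit_count τ h hh hτh 1 hτ1 hτfpf hnt
  have hle := finrank_le_orbits B τ (commSub X) (by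
    intro M hM ω
    obtain ⟨κ, hκ0, hκ⟩ := repr_tauZ hd X σ hσZ h hh hX hXh B hB M ((mem_commSub X M).mp hM) ω
    show B.repr M (sigmaBarZ Z σ hσZ ω) = 0 ↔ _
    rw [hκ]
    constructor
    · intro h0
      rcases mul_eq_zero.mp h0 with h0 | h0
      · exact h0
      · exact absurd h0 hκ0
    · intro h0
      rw [h0, zero_mul])
  have hcard : Nat.card (Q ⧸ Z) = (Module.finrank K W) ^ 2 := hsq.symm
  have h5 : h * ∑ j : Fin h, (Module.finrank K (X.eigenspace (ζ ^ (j : ℕ)))) ^ 2
      ≤ h * Nat.card (MulAction.orbitRel.Quotient (Subgroup.zpowers τ) (Q ⧸ Z)) :=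
    Nat.mul_le_mul_left h (hasq.trans hle)
  rw [← hcard]
  omega


/-- **Spectrum in the exceptional case**: if moreover `X` has no nonzero fixed vector and the
dimension is `h - 1`, then every `h`-th root of unity other than `1` is an eigenvalue of
`X`. -/
theorem extra_spec [IsAlgClosed K] [FiniteDimensional K W] [Nontrivial W] [Fintype Q]
    (R : Q →* Module.End K W) (Z : Subgroup Q) [Z.Normal]
    (X : Module.End K W) (σ : MulAut Q) (h : ℕ) (hh : 0 < h)
    (hd : ExtraDataZ R Z) (hσZ : ∀ u, u ∈ Z ↔ σ u ∈ Z)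
    (hX : ∀ u, X * R u = R (σ u) * X) (hXh : X ^ h = 1) (hσh : σ ^ h = 1)
    (hfpf : ∀ i, 0 < i → i < h → ∀ u, (σ ^ i) u * u⁻¹ ∈ Z →
      u ∈ Z)
    (hirr : ∀ U : Submodule K W, (∀ u, ∀ w ∈ U, R u w ∈ U) → (∀ w ∈ U, X w ∈ U) →
      U = ⊥ ∨ U = ⊤)
    (hQK : (Fintype.card Q : K) ≠ 0) (hhK : (h : K) ≠ 0)
    (hfix : ∀ w, X w = w → w = 0) (hdim : Module.finrank K W + 1 = h)
    (ε : K) (hε : ε ^ h = 1) (hε1 : ε ≠ 1) : ∃ v : W, v ≠ 0 ∧ X v = ε • v := by
  classical
  have : NeZero (h : K) := ⟨hhK⟩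
  have : NeZero h := ⟨hh.ne'⟩
  obtain ⟨ζ, hζ⟩ := HasEnoughRootsOfUnity.exists_primitiveRoot K h
  obtain ⟨hasum, -⟩ := eigen_count2 X h hh hXh hhK ζ hζ
  have hmult := extra_coreZ_mult R Z X σ h hh hd hσZ hX hXh hσh hfpf hirr hQK hhK ζ hζ
  obtain ⟨a, ha⟩ : ∃ a : Fin h → ℕ, ∀ j, a j = Module.finrank K (X.eigenspace (ζ ^ (j : ℕ))) :=
    ⟨_, fun _ => rfl⟩
  simp only [← ha] at hasum hmult
  have ha0 : a ⟨0, hh⟩ = 0 := by
    rw [ha]
    have : X.eigenspace (ζ ^ ((⟨0, hh⟩ : Fin h) : ℕ)) = ⊥ := by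
      rw [Submodule.eq_bot_iff]
      intro w hw
      have h1 : X w = ζ ^ ((⟨0, hh⟩ : Fin h) : ℕ) • w := Module.End.mem_eigenspace_iff.mp hw
      apply hfix
      simpa using h1
    rw [this]
    exact finrank_bot K W
  have hsum : ∑ j, a j + 1 = h := by rw [hasum]; exact hdim
  have hsq : ∑ j, (a j) ^ 2 ≤ ∑ j, a j := by
    have h1 : h * ∑ j, (a j) ^ 2 ≤ h * ∑ j, a j := by
      have h2 : Module.finrank K W = ∑ j, a j := hasum.symm
      rw [h2] at hmult
      have h3 : (∑ j, a j) ^ 2 + h = h * ∑ j, a j + 1 := by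
        have h4 : h = ∑ j, a j + 1 := hsum.symm
        set A := ∑ j, a j with hA
        rw [h4]
        ring
      omega
    exact Nat.le_of_mul_le_mul_left h1 hh
  have hle1 : ∀ j, a j ≤ 1 := by
    have h1 : ∀ j ∈ (Finset.univ : Finset (Fin h)), a j ≤ (a j) ^ 2 := by
      intro j _
      nlinarith [Nat.zero_le (a j)]
    have h2 : ∑ j, a j = ∑ j, (a j) ^ 2 :=
      le_antisymm (Finset.sum_le_sum h1) hsq
    have h3 := (Finset.sum_eq_sum_iff_of_le h1).mp h2
    intro j
    have h4 := h3 j (Finset.mem_univ j)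
    by_contra hcon
    push Not at hcon
    nlinarith
  have hone : ∀ j : Fin h, j ≠ ⟨0, hh⟩ → a j = 1 := by
    intro j₀ hj₀
    by_contra hcon
    have hj0 : a j₀ = 0 := by
      have := hle1 j₀
      omega
    have h1 : ∑ j, a j ≤ ∑ j : Fin h, (if j = ⟨0, hh⟩ ∨ j = j₀ then 0 else 1) := by
      apply Finset.sum_le_sum
      intro j _
      by_cases hj : j = ⟨0, hh⟩ ∨ j = j₀
      · rw [if_pos hj]
        rcases hj with rfl | rfl
        · rw [ha0]
        · rw [hj0]
      · rw [if_neg hj]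
        exact hle1 j
    have h2 : ∑ j : Fin h, (if j = ⟨0, hh⟩ ∨ j = j₀ then 0 else 1) + 2 = h := by
      have h3 : ∑ j : Fin h, ((if j = ⟨0, hh⟩ ∨ j = j₀ then 0 else 1)
          + (if j = ⟨0, hh⟩ ∨ j = j₀ then 1 else 0)) = h := by
        have h4 : ∀ j : Fin h, ((if j = ⟨0, hh⟩ ∨ j = j₀ then 0 else 1)
          + (if j = ⟨0, hh⟩ ∨ j = j₀ then 1 else 0)) = 1 := by
          intro j
          by_cases hj : j = ⟨0, hh⟩ ∨ j = j₀
          · rw [if_pos hj, if_pos hj]
          · rw [if_neg hj, if_neg hj]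
        rw [Finset.sum_congr rfl (fun j _ => h4 j)]
        simp
      rw [Finset.sum_add_distrib] at h3
      have h5 : ∑ j : Fin h, (if j = ⟨0, hh⟩ ∨ j = j₀ then 1 else 0) = 2 := by
        rw [← Finset.card_filter]
        have h6 : (Finset.univ.filter fun j : Fin h => j = ⟨0, hh⟩ ∨ j = j₀)
            = {⟨0, hh⟩, j₀} := by
          ext j
          rw [Finset.mem_filter, Finset.mem_insert, Finset.mem_singleton]
          simp
        rw [h6, Finset.card_pair (Ne.symm hj₀)]
      omega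
    omega
  obtain ⟨i, hi, hiε⟩ := hζ.eq_pow_of_pow_eq_one hε
  have hi0 : (⟨i, hi⟩ : Fin h) ≠ ⟨0, hh⟩ := by
    intro h0
    have h1 : i = 0 := by simpa using congrArg Fin.val h0
    apply hε1
    rw [← hiε, h1, pow_zero]
  have h1 := hone ⟨i, hi⟩ hi0
  rw [ha] at h1
  have h2 : X.eigenspace (ζ ^ i) ≠ ⊥ := by
    intro h0
    have h3 : Module.finrank K (X.eigenspace (ζ ^ i)) = 0 := by
      rw [h0]
      exact finrank_bot K W
    exact absurd (h1.symm.trans h3) one_ne_zero
  obtain ⟨v, hv, hv0⟩ := Submodule.exists_mem_ne_zero_of_ne_bot h2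
  refine ⟨v, hv0, ?_⟩
  rw [← hiε]
  exact Module.End.mem_eigenspace_iff.mp hv

end

section

variable {K : Type*} [Field K]

/-- An endomorphism of finite order (invertible in the field) without eigenvalues other
than `1` is the identity. -/
theorem eq_one_of_no_eigen [IsAlgClosed K] {E : Type*} [AddCommGroup E] [Module K E]
    [FiniteDimensional K E] (Φ : Module.End K E) (h : ℕ) (hΦ : Φ ^ h = 1)
    (hhK : (h : K) ≠ 0) (hne : ∀ μ : K, μ ≠ 1 → ∀ e : E, Φ e = μ • e → e = 0) : Φ = 1 := by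
  have hss : Φ.IsSemisimple := by
    apply Module.End.isSemisimple_of_squarefree_aeval_eq_zero
      (p := Polynomial.X ^ h - Polynomial.C 1)
    · exact (Polynomial.separable_X_pow_sub_C (1 : K) hhK one_ne_zero).squarefree
    · simp [hΦ]
  have htop := hss.iSup_eigenspace_eq_top
  have hle : ∀ μ : K, Φ.eigenspace μ ≤ Φ.eigenspace 1 := by
    intro μ
    by_cases hμ : μ = 1
    · rw [hμ]
    · intro e he
      have h1 := hne μ hμ e (Module.End.mem_eigenspace_iff.mp he)
      rw [h1]
      exact Submodule.zero_mem _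
  have h1 : Φ.eigenspace 1 = ⊤ := by
    rw [eq_top_iff, ← htop]
    exact iSup_le hle
  apply LinearMap.ext
  intro e
  have h2 : e ∈ Φ.eigenspace 1 := by rw [h1]; trivial
  simpa using Module.End.mem_eigenspace_iff.mp h2

/-- **Commutant lemma**: let `X` have finite order `h` and no nonzero fixed vector, and let
`A` be a set of operators normalized by `X`, such that on every nonzero `(A, X)`-invariant
subspace every `h`-th root of unity other than `1` is an eigenvalue of `X`.  Then `X` commutes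
with every operator commuting with `A`. -/
theorem commutant_comm [IsAlgClosed K] {W : Type*} [AddCommGroup W] [Module K W]
    [FiniteDimensional K W] (A : Set (Module.End K W)) (X X' : Module.End K W) (h : ℕ)
    (hXh : X ^ h = 1) (hXX' : X * X' = 1) (hX'X : X' * X = 1)
    (hhK : (h : K) ≠ 0) (hA' : ∀ a ∈ A, X' * a * X ∈ A)
    (hfix : ∀ w, X w = w → w = 0)
    (hspec : ∀ U : Submodule K W, U ≠ ⊥ → (∀ a ∈ A, ∀ w ∈ U, a w ∈ U) → (∀ w ∈ U, X w ∈ U) →
      ∀ ε : K, ε ^ h = 1 → ε ≠ 1 → ∃ v ∈ U, v ≠ 0 ∧ X v = ε • v)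
    (c : Module.End K W) (hc : ∀ a ∈ A, c * a = a * c) : X * c = c * X := by
  classical
  obtain ⟨𝒞, hmem⟩ : ∃ 𝒞 : Submodule K (Module.End K W),
      ∀ e : Module.End K W, e ∈ 𝒞 ↔ ∀ a ∈ A, e * a = a * e :=
    ⟨{ carrier := {c | ∀ a ∈ A, c * a = a * c}
       add_mem' := by
        intro c₁ c₂ h1 h2 a ha
        rw [add_mul, mul_add, h1 a ha, h2 a ha]
       zero_mem' := by
        intro a _
        simp
       smul_mem' := by
        intro k c₁ h1 a ha
        rw [smul_mul_assoc, mul_smul_comm, h1 a ha] }, fun e => Iff.rfl⟩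
  obtain ⟨conj, hconj⟩ : ∃ conj : Module.End K (Module.End K W),
      ∀ e : Module.End K W, conj e = X * (e * X') :=
    ⟨(LinearMap.mulLeft K X).comp (LinearMap.mulRight K X'), fun e => rfl⟩
  have hinv : ∀ e ∈ 𝒞, conj e ∈ 𝒞 := by
    intro e he
    rw [hmem] at he ⊢
    intro a ha
    rw [hconj]
    have h1 := he _ (hA' a ha)
    calc X * (e * X') * a = X * (e * (X' * a * X)) * X' := by
          simp only [mul_assoc]
          rw [hXX', mul_one]
      _ = X * ((X' * a * X) * e) * X' := by rw [h1]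
      _ = (X * X') * a * (X * (e * X')) := by simp only [mul_assoc]
      _ = a * (X * (e * X')) := by rw [hXX', one_mul]
  have hX'h : X' ^ h = 1 := by
    have hcomm : Commute X' X := by
      show X' * X = X * X'
      rw [hX'X, hXX']
    have h1 := hcomm.mul_pow h
    rw [hX'X, one_pow, hXh, mul_one] at h1
    exact h1.symm
  have hpow : ∀ (k : ℕ) (e : Module.End K W), (conj ^ k) e = X ^ k * (e * X' ^ k) := by
    intro k
    induction k with
    | zero => intro e; simp
    | succ k ih =>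
      intro e
      rw [pow_succ', Module.End.mul_apply, ih, hconj, pow_succ', pow_succ]
      simp only [mul_assoc]
  obtain ⟨Φ, hΦ⟩ : ∃ Φ : Module.End K 𝒞, ∀ e : 𝒞, ((Φ e : 𝒞) : Module.End K W) = conj e :=
    ⟨conj.restrict hinv, fun e => rfl⟩
  have hΦpow : ∀ (k : ℕ) (e : 𝒞), (((Φ ^ k) e : 𝒞) : Module.End K W) = (conj ^ k) e := by
    intro k
    induction k with
    | zero => intro e; simp
    | succ k ih =>
      intro e
      rw [pow_succ', Module.End.mul_apply, pow_succ', Module.End.mul_apply, ← ih, hΦ]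
  have hΦh : Φ ^ h = 1 := by
    apply LinearMap.ext
    intro e
    apply Subtype.ext
    rw [hΦpow, hpow, hXh, hX'h, one_mul, mul_one]
    rfl
  have hne : ∀ μ : K, μ ≠ 1 → ∀ e : 𝒞, Φ e = μ • e → e = 0 := by
    intro μ hμ1 e he
    by_contra he0
    have he0' : (e : Module.End K W) ≠ 0 := fun h0 => he0 (Subtype.ext h0)
    have he1 : X * ((e : Module.End K W) * X') = μ • (e : Module.End K W) := by
      have := congrArg Subtype.val he
      rw [hΦ, hconj] at this
      exact this
    have hμh : μ ^ h = 1 := by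
      have h1 : ∀ k : ℕ, (Φ ^ k) e = μ ^ k • e := by
        intro k
        induction k with
        | zero => simp
        | succ k ih =>
          rw [pow_succ', Module.End.mul_apply, ih, map_smul, he, smul_smul, pow_succ]
      have h2 := h1 h
      rw [hΦh, Module.End.one_apply] at h2
      have h2' : (e : Module.End K W) = μ ^ h • (e : Module.End K W) := congrArg Subtype.val h2
      by_contra hcon
      apply he0'
      have h3 : (μ ^ h - 1) • (e : Module.End K W) = 0 := by
        rw [sub_smul, one_smul, ← h2', sub_self]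
      rcases smul_eq_zero.mp h3 with h4 | h4
      · exact absurd (sub_eq_zero.mp h4) hcon
      · exact h4
    have hμ0 : μ ≠ 0 := by
      intro h0
      rw [h0, zero_pow (by
        intro hh0
        rw [hh0] at hhK
        exact hhK (by simp))] at hμh
      exact zero_ne_one hμh
    have he2 : X * (e : Module.End K W) = μ • ((e : Module.End K W) * X) := by
      calc X * (e : Module.End K W) = X * ((e : Module.End K W) * X') * X := by
            simp only [mul_assoc]
            rw [hX'X, mul_one]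
        _ = μ • ((e : Module.End K W) * X) := by rw [he1, smul_mul_assoc]
    have he3 : ∀ k : ℕ, X ^ k * (e : Module.End K W) = μ ^ k • ((e : Module.End K W) * X ^ k) := by
      intro k
      induction k with
      | zero => simp
      | succ k ih =>
        rw [pow_succ', mul_assoc, ih, mul_smul_comm, ← mul_assoc, he2, smul_mul_assoc, smul_smul,
          mul_assoc, ← pow_succ', ← pow_succ]
    have hrange : LinearMap.range (e : Module.End K W) ≠ ⊥ := by
      intro h0
      apply he0'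
      exact LinearMap.range_eq_bot.mp h0
    have heA : ∀ a ∈ A, (e : Module.End K W) * a = a * (e : Module.End K W) := (hmem _).mp e.2
    obtain ⟨v, hvU, hv0, hXv⟩ := hspec (LinearMap.range (e : Module.End K W)) hrange
      (by
        rintro a ha _ ⟨p, rfl⟩
        refine ⟨a p, ?_⟩
        rw [← Module.End.mul_apply, heA a ha]
        rfl)
      (by
        rintro _ ⟨p, rfl⟩
        refine ⟨μ • X p, ?_⟩
        rw [map_smul, ← Module.End.mul_apply, ← Module.End.mul_apply, he2]
        rfl)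
      μ hμh hμ1
    obtain ⟨p, rfl⟩ := hvU
    have hXk : ∀ k : ℕ, (X ^ k) ((e : Module.End K W) p) = μ ^ k • (e : Module.End K W) p := by
      intro k
      induction k with
      | zero => simp
      | succ k ih =>
        rw [pow_succ', Module.End.mul_apply, ih, map_smul, hXv, smul_smul, pow_succ]
    have hek : ∀ k : ℕ, (e : Module.End K W) ((X ^ k) p) = (e : Module.End K W) p := by
      intro k
      have h1 := LinearMap.congr_fun (he3 k) p
      rw [Module.End.mul_apply, hXk, LinearMap.smul_apply, Module.End.mul_apply] at h1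
      exact (smul_right_injective W (pow_ne_zero k hμ0) h1).symm
    have hp1 : X (∑ i ∈ Finset.range h, (X ^ i) p) = ∑ i ∈ Finset.range h, (X ^ i) p := by
      rw [map_sum]
      have h1 : ∀ i, X ((X ^ i) p) = (X ^ (i + 1)) p := by
        intro i
        rw [pow_succ', Module.End.mul_apply]
      simp only [h1]
      have e1 := Finset.sum_range_succ' (fun i => (X ^ i) p) h
      have e2 := Finset.sum_range_succ (fun i => (X ^ i) p) h
      rw [e1] at e2
      simp only [hXh, pow_zero] at e2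
      exact add_right_cancel e2
    have hp0 := hfix _ hp1
    have h2 : (e : Module.End K W) (∑ i ∈ Finset.range h, (X ^ i) p)
        = (h : K) • (e : Module.End K W) p := by
      rw [map_sum]
      simp only [hek]
      rw [Finset.sum_const, Finset.card_range, Nat.cast_smul_eq_nsmul]
    rw [hp0, map_zero] at h2
    rcases smul_eq_zero.mp h2.symm with h3 | h3
    · exact hhK h3
    · exact hv0 h3
  have hΦ1 := eq_one_of_no_eigen Φ h hΦh hhK hne
  have h1 := congrArg Subtype.val (LinearMap.congr_fun hΦ1 ⟨c, (hmem c).mpr hc⟩)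
  rw [hΦ, hconj] at h1
  have h2 : X * (c * X') = c := h1
  calc X * c = X * (c * X') * X := by
        simp only [mul_assoc]
        rw [hX'X, mul_one]
    _ = c * X := by rw [h2]

end

section

variable {Γ : Type*} [Group Γ]

/-- In a cyclic `2`-group generated by `x`, every nontrivial element has the involution as a
power. -/
theorem tau_mem_zpowers (x : Γ) (n : ℕ) (hx : x ^ (2 ^ (n + 1)) = 1) (b : Γ)
    (hb : b ∈ Subgroup.zpowers x) (hb1 : b ≠ 1) : x ^ (2 ^ n) ∈ Subgroup.zpowers b := by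
  have hfin : IsOfFinOrder x :=
    isOfFinOrder_iff_pow_eq_one.mpr ⟨2 ^ (n + 1), pow_pos (by norm_num) _, hx⟩
  obtain ⟨m₀, rfl⟩ : ∃ m : ℕ, x ^ m = b :=
    (Submonoid.mem_powers_iff _ _).mp (hfin.mem_powers_iff_mem_zpowers.mpr hb)
  have h1 : x ^ m₀ = x ^ (m₀ % 2 ^ (n + 1)) := pow_eq_pow_mod m₀ hx
  have hm0 : m₀ % 2 ^ (n + 1) ≠ 0 := by
    intro h0
    rw [h0, pow_zero] at h1
    exact hb1 h1
  have hmlt : m₀ % 2 ^ (n + 1) < 2 ^ (n + 1) := Nat.mod_lt _ (pow_pos (by norm_num) _)
  obtain ⟨a, r, hr, hm⟩ := Nat.exists_eq_two_pow_mul_odd hm0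
  have han : a ≤ n := by
    by_contra hcon
    push Not at hcon
    have h2 : 2 ^ (n + 1) ≤ 2 ^ a := Nat.pow_le_pow_right (by norm_num) hcon
    have h3 : 2 ^ a ≤ 2 ^ a * r := Nat.le_mul_of_pos_right _ hr.pos
    omega
  obtain ⟨q, hq⟩ := hr
  have hτ2 : (x ^ (2 ^ n)) ^ 2 = 1 := by rw [← pow_mul, ← pow_succ, hx]
  rw [Subgroup.mem_zpowers_iff]
  refine ⟨((2 ^ (n - a) : ℕ) : ℤ), ?_⟩
  rw [zpow_natCast, h1, hm, ← pow_mul]
  have h4 : 2 ^ a * r * 2 ^ (n - a) = 2 ^ n * (2 * q + 1) := by
    have h5 : 2 ^ a * 2 ^ (n - a) = 2 ^ n := by rw [← pow_add]; congr 1; omega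
    rw [← hq, ← h5]
    ring
  rw [h4, pow_mul, pow_succ, pow_mul, hτ2, one_pow, one_mul]

/-- The order of `x` is exactly `2 ^ (n + 1)` when the involution is nontrivial. -/
theorem pow_ne_one_of_tau (x : Γ) (n : ℕ) (hx : x ^ (2 ^ (n + 1)) = 1)
    (hτ : x ^ (2 ^ n) ≠ 1) (i : ℕ) (hi0 : 0 < i) (hi : i < 2 ^ (n + 1)) : x ^ i ≠ 1 := by
  intro h1
  have h2 : orderOf x ∣ i := orderOf_dvd_of_pow_eq_one h1
  have h3 : orderOf x ∣ 2 ^ (n + 1) := orderOf_dvd_of_pow_eq_one hx
  obtain ⟨k, hk, hk2⟩ := (Nat.dvd_prime_pow Nat.prime_two).mp h3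
  rcases Nat.lt_or_ge k (n + 1) with hlt | hge
  · apply hτ
    have h4 : orderOf x ∣ 2 ^ n := by
      rw [hk2]
      exact pow_dvd_pow 2 (by omega)
    exact orderOf_dvd_iff_pow_eq_one.mp h4
  · have h5 : k = n + 1 := le_antisymm hk hge
    rw [hk2, h5] at h2
    have := Nat.le_of_dvd hi0 h2
    omega

end

/-- If `s ^ b + 1` is a power of `2` with exponent at least `2`, for an odd number `s`, then
`b = 1`. -/
theorem mersenne_exp (s b m : ℕ) (hs : Odd s) (hs1 : 1 < s) (hm : 2 ≤ m)
    (h : s ^ b + 1 = 2 ^ m) : b = 1 := by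
  have h4 : (4 : ℕ) ∣ 2 ^ m := by
    have : (2 : ℕ) ^ 2 ∣ 2 ^ m := pow_dvd_pow 2 hm
    simpa using this
  have hbodd : Odd b := by
    by_contra hcon
    rw [Nat.not_odd_iff_even] at hcon
    obtain ⟨k, hk⟩ := hcon
    obtain ⟨j, hj⟩ := hs
    have h1 : s ^ b % 4 = 1 := by
      rw [hk, ← two_mul, pow_mul]
      have h2 : s ^ 2 % 4 = 1 := by
        rw [hj]
        have : (2 * j + 1) ^ 2 = 4 * (j * j + j) + 1 := by ring
        rw [this]
        omega
      rw [Nat.pow_mod, h2]
      simp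
    omega
  obtain ⟨k, hk⟩ := hbodd
  -- `s ^ (2k+1) + 1 = (s + 1) * q` with `q` odd
  have key : ∀ k : ℕ, ∃ q : ℕ, Odd q ∧ s ^ (2 * k + 1) + 1 = (s + 1) * q := by
    intro k
    induction k with
    | zero => exact ⟨1, odd_one, by ring⟩
    | succ k ih =>
      obtain ⟨q, hq, hqe⟩ := ih
      have hsq : s ≤ s ^ 2 * q := by
        have : 1 ≤ q := hq.pos
        nlinarith
      refine ⟨s ^ 2 * q - s + 1, ?_, ?_⟩
      · have h1 : Odd (s ^ 2 * q) := (hs.pow).mul hq
        have h2 : Even (s ^ 2 * q - s) := Nat.Odd.sub_odd h1 hs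
        exact h2.add_one
      · have hqeZ : (s : ℤ) ^ (2 * k + 1) + 1 = ((s : ℤ) + 1) * q := by exact_mod_cast hqe
        have hgoal : ((s ^ (2 * (k + 1) + 1) + 1 : ℕ) : ℤ)
            = (((s + 1) * (s ^ 2 * q - s + 1) : ℕ) : ℤ) := by
          push_cast [Nat.cast_sub hsq]
          linear_combination ((s : ℤ) ^ 2) * hqeZ
        exact_mod_cast hgoal
  obtain ⟨q, hq, hqe⟩ := key k
  rw [hk] at h
  rw [h] at hqe
  have hq1 : q = 1 := by
    have h1 : q ∣ 2 ^ m := ⟨s + 1, by rw [hqe]; ring⟩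
    obtain ⟨j, -, hj⟩ := (Nat.dvd_prime_pow Nat.prime_two).mp h1
    rcases Nat.eq_zero_or_pos j with rfl | hjpos
    · simpa using hj
    · exfalso
      rw [hj] at hq
      have : Even (2 ^ j) := (Nat.even_pow' hjpos.ne').mpr even_two
      exact (Nat.not_odd_iff_even.mpr this) hq
  rw [hq1, mul_one] at hqe
  have h5 : s ^ (2 * k + 1) = s := by omega
  have h6 : s ^ (2 * k + 1) = s ^ 1 := by rw [h5, pow_one]
  have h7 := Nat.pow_right_injective (show 2 ≤ s by omega) h6
  omega

end Cfsg.Agent.Lib.helper66
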