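import Mathlib
import Cfsg.Agent.Lib.helper66.S3B

set_option autoImplicit false

namespace Cfsg.Agent.Lib.helper66

section

variable {K : Type*} [Field K] {V : Type*} [AddCommGroup V] [Module K V]
  {Γ : Type*} [Group Γ]

/-- Eigenvectors of an operator for pairwise distinct eigenvalues are independent. -/
theorem eig_indep {ι : Type*} [DecidableEq ι] (a : Module.End K V) (T : Finset ι) :
    ∀ (c : ι → K) (x : ι → V), (∀ i ∈ T, a (x i) = c i • x i) →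
    (∀ i ∈ T, ∀ j ∈ T, i ≠ j → c i ≠ c j) → ∑ i ∈ T, x i = 0 → ∀ i ∈ T, x i = 0 := by
  induction T using Finset.induction_on with
  | empty =>
    intro c x _ _ _ i hi
    simp at hi
  | insert j T' hj ih =>
    intro c x hx hc hsum
    have hT' : ∀ i ∈ T', x i = 0 := by
      intro i₀ hi₀
      have hne0 : i₀ ≠ j := by
        rintro rfl
        exact hj hi₀
      have hne := hc i₀ (Finset.mem_insert_of_mem hi₀) j (Finset.mem_insert_self j T') hne0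
      have hx' : ∀ i ∈ T', a ((c i - c j) • x i) = c i • ((c i - c j) • x i) := by
        intro i hi
        rw [map_smul, hx i (Finset.mem_insert_of_mem hi), smul_comm]
      have hc' : ∀ i ∈ T', ∀ i' ∈ T', i ≠ i' → c i ≠ c i' := fun i hi i' hi' h =>
        hc i (Finset.mem_insert_of_mem hi) i' (Finset.mem_insert_of_mem hi') h
      have hsum' : ∑ i ∈ T', (c i - c j) • x i = 0 := by
        have h2 : a (∑ i ∈ insert j T', x i) = 0 := by rw [hsum, map_zero]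
        rw [map_sum, Finset.sum_insert hj] at h2
        rw [Finset.sum_insert hj] at hsum
        have h3 : ∑ i ∈ T', a (x i) = ∑ i ∈ T', c i • x i :=
          Finset.sum_congr rfl (fun i hi => hx i (Finset.mem_insert_of_mem hi))
        rw [h3, hx j (Finset.mem_insert_self j T')] at h2
        have h4 : x j = - ∑ i ∈ T', x i := eq_neg_of_add_eq_zero_left hsum
        rw [h4, smul_neg, neg_add_eq_zero] at h2
        simp only [sub_smul, Finset.sum_sub_distrib, ← Finset.smul_sum]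
        rw [sub_eq_zero]
        exact h2.symm
      have h1 := ih c (fun i => (c i - c j) • x i) hx' hc' hsum' i₀ hi₀
      rcases smul_eq_zero.mp h1 with h | h
      · exact absurd (sub_eq_zero.mp h) hne
      · exact h
    intro i hi
    rcases Finset.mem_insert.mp hi with rfl | hi'
    · rw [Finset.sum_insert hj, Finset.sum_eq_zero hT', add_zero] at hsum
      exact hsum
    · exact hT' i hi'

theorem eig_indep5 (a : Module.End K V) (c : Fin 5 → K) (x : Fin 5 → V)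
    (hx : ∀ i, a (x i) = c i • x i) (hc : ∀ i j, i ≠ j → c i ≠ c j)
    (hsum : x 0 + x 1 + x 2 + x 3 + x 4 = 0) : ∀ i, x i = 0 := by
  classical
  intro i
  exact eig_indep a Finset.univ c x (fun i _ => hx i) (fun i _ j _ h => hc i j h)
    (by rw [Fin.sum_univ_five]; exact hsum) i (Finset.mem_univ i)

/-- Small powers of a nontrivial root of unity of order prime to `6` are nontrivial. -/
theorem pow_ne_one_small (β : K) (m : ℕ) (hm6 : m.Coprime 6) (hβm : β ^ m = 1) (hβ1 : β ≠ 1)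
    (k : ℕ) (hk : 0 < k) (hk4 : k ≤ 4) : β ^ k ≠ 1 := by
  intro h
  apply hβ1
  have hm2 : m.Coprime 2 := Nat.Coprime.coprime_dvd_right (by norm_num) hm6
  have hm3 : m.Coprime 3 := Nat.Coprime.coprime_dvd_right (by norm_num) hm6
  have hcop : k.Coprime m := by
    interval_cases k
    · exact Nat.coprime_one_left m
    · exact hm2.symm
    · exact hm3.symm
    · exact (Nat.Coprime.pow_right 2 hm2 : m.Coprime (2 ^ 2)).symm
  exact eq_one_of_pow_coprime β k m h hβm hcop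

theorem zpow_ne_of (β : K) (hβ0 : β ≠ 0) (hβ : ∀ k : ℕ, 0 < k → k ≤ 4 → β ^ k ≠ 1) (a b : ℤ)
    (hab : a ≠ b) (h1 : -4 ≤ a - b) (h2 : a - b ≤ 4) : β ^ a ≠ β ^ b := by
  intro h
  rcases lt_or_gt_of_ne hab with hlt | hgt
  · have h3 : β ^ (b - a) = 1 := by
      rw [zpow_sub₀ hβ0, h, div_self (zpow_ne_zero _ hβ0)]
    obtain ⟨n, hn⟩ := Int.eq_ofNat_of_zero_le (show (0 : ℤ) ≤ b - a by omega)
    rw [hn, zpow_natCast] at h3
    exact hβ n (by omega) (by omega) h3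
  · have h3 : β ^ (a - b) = 1 := by
      rw [zpow_sub₀ hβ0, h, div_self (zpow_ne_zero _ hβ0)]
    obtain ⟨n, hn⟩ := Int.eq_ofNat_of_zero_le (show (0 : ℤ) ≤ a - b by omega)
    rw [hn, zpow_natCast] at h3
    exact hβ n (by omega) (by omega) h3

/-- Elements of a `p`-group have `p`-power order. -/
theorem pgroup_pow (T : Subgroup Γ) (t : ℕ) (hT : IsPGroup t T) (x : Γ) (hx : x ∈ T) :
    ∃ e : ℕ, x ^ (t ^ e) = 1 := by
  obtain ⟨e, he⟩ := hT ⟨x, hx⟩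
  refine ⟨e, ?_⟩
  have h2 : (((⟨x, hx⟩ : T) ^ (t ^ e) : T) : Γ) = ((1 : T) : Γ) := congrArg Subtype.val he
  rwa [Subgroup.coe_pow] at h2

/-- If `x ^ b = 1` and `a` is prime to `b`, then `x` is a power of `x ^ a`. -/
theorem exists_pow_mul_eq (x : Γ) (a b : ℕ) (hb : x ^ b = 1) (hab : a.Coprime b) :
    ∃ j : ℕ, x ^ (a * j) = x := by
  by_cases hb1 : 1 < b
  · obtain ⟨j, hj⟩ := Nat.exists_mul_mod_eq_one_of_coprime hab hb1
    refine ⟨j, ?_⟩
    have h1 : a * j = b * (a * j / b) + 1 := by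
      have := Nat.div_add_mod (a * j) b
      omega
    rw [h1, pow_succ, pow_mul, hb, one_pow, one_mul]
  · have hb' : b = 0 ∨ b = 1 := by omega
    rcases hb' with rfl | rfl
    · have ha : a = 1 := (Nat.coprime_zero_right a).mp hab
      exact ⟨1, by rw [ha]; simp⟩
    · rw [pow_one] at hb
      exact ⟨0, by rw [hb]; simp⟩

/-- The stabilizer of a subspace. -/
def stabM (ρ : Γ →* Module.End K V) (M : Submodule K V) : Subgroup Γ where
  carrier := {g | ∀ w, ρ g w ∈ M ↔ w ∈ M}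
  one_mem' := by
    intro w
    simp
  mul_mem' := by
    intro g h hg hh w
    rw [rho_mul]
    exact (hg _).trans (hh w)
  inv_mem' := by
    intro g hg w
    have h1 := hg (ρ g⁻¹ w)
    rw [rho_apply_inv] at h1
    exact h1.symm

theorem mem_stabM_of [Finite Γ] (ρ : Γ →* Module.End K V) (M : Submodule K V) (g : Γ)
    (h : ∀ w ∈ M, ρ g w ∈ M) : g ∈ stabM ρ M := by
  intro w
  constructor
  · intro hw
    have h1 := inv_mem_of_mem ρ M g h _ hw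
    rwa [rho_inv_apply] at h1
  · exact h w

theorem stabM_mem (ρ : Γ →* Module.End K V) (M : Submodule K V) (g : Γ)
    (hg : g ∈ stabM ρ M) (w : V) (hw : w ∈ M) : ρ g w ∈ M := (hg w).mpr hw

theorem zpowers_mem_of_mem [Finite Γ] (ρ : Γ →* Module.End K V) (M : Submodule K V) (g : Γ)
    (h : ∀ w ∈ M, ρ g w ∈ M) : ∀ x ∈ Subgroup.zpowers g, ∀ w ∈ M, ρ x w ∈ M := by
  intro x hx w hw
  exact stabM_mem ρ M x ((Subgroup.zpowers_le.mpr (mem_stabM_of ρ M g h)) hx) w hw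

theorem zpowers_comm (ρ : Γ →* Module.End K V) (M : Submodule K V) (g : Γ) :
    ∀ x ∈ Subgroup.zpowers g, ∀ y ∈ Subgroup.zpowers g, ∀ w ∈ M,
      ρ (x * y) w = ρ (y * x) w := by
  intro x hx y hy w _
  obtain ⟨i, rfl⟩ := Subgroup.mem_zpowers_iff.mp hx
  obtain ⟨j, rfl⟩ := Subgroup.mem_zpowers_iff.mp hy
  rw [← zpow_add, ← zpow_add, add_comm]

/-- The elements of `T` commuting, on `E`, with all elements of the set `S`. -/
def cmOnSub (ρ : Γ →* Module.End K V) (E : Submodule K V) (T : Subgroup Γ)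
    (hET : ∀ x ∈ T, ∀ w ∈ E, ρ x w ∈ E) (S : Set Γ) : Subgroup Γ where
  carrier := {x | x ∈ T ∧ ∀ s ∈ S, ∀ w ∈ E, ρ x (ρ s w) = ρ s (ρ x w)}
  one_mem' := ⟨T.one_mem, fun s _ w _ => by simp⟩
  mul_mem' := by
    rintro x y ⟨hx, hx'⟩ ⟨hy, hy'⟩
    refine ⟨T.mul_mem hx hy, fun s hs w hw => ?_⟩
    rw [rho_mul, hy' s hs w hw, hx' s hs _ (hET y hy w hw), rho_mul]
  inv_mem' := by
    rintro x ⟨hx, hx'⟩
    refine ⟨T.inv_mem hx, fun s hs w hw => ?_⟩
    have h1 := hx' s hs _ (hET _ (T.inv_mem hx) w hw)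
    rw [rho_apply_inv] at h1
    rw [← h1, rho_inv_apply]

theorem mem_cmOnSub (ρ : Γ →* Module.End K V) (E : Submodule K V) (T : Subgroup Γ)
    (hET : ∀ x ∈ T, ∀ w ∈ E, ρ x w ∈ E) (S : Set Γ) (x : Γ) :
    x ∈ cmOnSub ρ E T hET S ↔ x ∈ T ∧ ∀ s ∈ S, ∀ w ∈ E, ρ x (ρ s w) = ρ s (ρ x w) := Iff.rfl

theorem cmOnSub_norm [Finite Γ] (ρ : Γ →* Module.End K V) (E : Submodule K V) (T : Subgroup Γ)
    (hET : ∀ x ∈ T, ∀ w ∈ E, ρ x w ∈ E) (S : Set Γ) (f : Γ)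
    (hfT : f ∈ Subgroup.normalizer (T : Set Γ)) (hEf : ∀ w ∈ E, ρ f w ∈ E)
    (hS : ∀ s ∈ S, f⁻¹ * s * f ∈ S) (hS' : ∀ s ∈ S, f * s * f⁻¹ ∈ S) :
    f ∈ Subgroup.normalizer ((cmOnSub ρ E T hET S : Subgroup Γ) : Set Γ) := by
  have key : ∀ g : Γ, g ∈ Subgroup.normalizer (T : Set Γ) → (∀ w ∈ E, ρ g⁻¹ w ∈ E) →
      (∀ s ∈ S, g⁻¹ * s * g ∈ S) → ∀ x ∈ cmOnSub ρ E T hET S,
        g * x * g⁻¹ ∈ cmOnSub ρ E T hET S := by
    intro g hgT hEgi hSg x hx
    refine ⟨conj_mem_of_normalizer T g hgT x hx.1, ?_⟩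
    intro s hs w hw
    obtain ⟨s', hs'⟩ : ∃ s', s' = g⁻¹ * s * g := ⟨_, rfl⟩
    have hs'S : s' ∈ S := by
      rw [hs']
      exact hSg s hs
    have h1 := hx.2 s' hs'S (ρ g⁻¹ w) (hEgi w hw)
    have e1 : g * x * g⁻¹ * s = g * (x * (s' * g⁻¹)) := by
      rw [hs']
      group
    have e2 : s * (g * x * g⁻¹) = g * (s' * (x * g⁻¹)) := by
      rw [hs']
      group
    calc ρ (g * x * g⁻¹) (ρ s w) = ρ (g * (x * (s' * g⁻¹))) w := by rw [← rho_mul, e1]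
      _ = ρ g (ρ x (ρ s' (ρ g⁻¹ w))) := by rw [rho_mul, rho_mul, rho_mul]
      _ = ρ g (ρ s' (ρ x (ρ g⁻¹ w))) := by rw [h1]
      _ = ρ (g * (s' * (x * g⁻¹))) w := by rw [rho_mul, rho_mul, rho_mul]
      _ = ρ s (ρ (g * x * g⁻¹) w) := by rw [← rho_mul, e2]
  apply mem_normalizer_of_conj
  · exact key f hfT (inv_mem_of_mem ρ E f hEf) hS
  · intro x hx
    have h := key f⁻¹ (inv_mem hfT) (by rw [inv_inv]; exact hEf)
      (by rw [inv_inv]; exact hS') x hx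
    rwa [inv_inv] at h

/-- If a commutator acts trivially on `E`, the two elements commute on `E`. -/
theorem comm_of_commutator (ρ : Γ →* Module.End K V) (E : Submodule K V) (a b : Γ)
    (haE : ∀ w ∈ E, ρ a w ∈ E) (hbE : ∀ w ∈ E, ρ b w ∈ E)
    (h : ∀ w ∈ E, ρ (a * b * a⁻¹ * b⁻¹) w = w) : ∀ w ∈ E, ρ a (ρ b w) = ρ b (ρ a w) := by
  intro w hw
  have h1 := h _ (hbE _ (haE w hw))
  have e : a * b * a⁻¹ * b⁻¹ * b * a = a * b := by group
  rw [← rho_mul, ← rho_mul, e, rho_mul] at h1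
  exact h1

/-- The key computation for an element `f` of order `3` and an element `u` whose commutator
`z` with its `f`-conjugate is central and `f`-invariant on `E`, and nontrivial on `E`: then
`f` has a nonzero fixed vector on `E`. -/
theorem hh3 [IsAlgClosed K] [FiniteDimensional K V] [Finite Γ] (ρ : Γ →* Module.End K V)
    (E : Submodule K V) (f u : Γ) (hf3 : f ^ 3 = 1) (h3K : (3 : K) ≠ 0)
    (hEf : ∀ w ∈ E, ρ f w ∈ E) (hEu : ∀ w ∈ E, ρ u w ∈ E)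
    (hnofix : ∀ w ∈ E, ρ f w = w → w = 0)
    (z : Γ) (hz : z = (f * u * f⁻¹) * u * (f * u * f⁻¹)⁻¹ * u⁻¹)
    (hzu : ∀ w ∈ E, ρ z (ρ u w) = ρ u (ρ z w))
    (hzu' : ∀ w ∈ E, ρ z (ρ (f * u * f⁻¹) w) = ρ (f * u * f⁻¹) (ρ z w))
    (hzf : ∀ w ∈ E, ρ (f * z * f⁻¹) w = ρ z w)
    (m : ℕ) (hm6 : m.Coprime 6) (hmK : (m : K) ≠ 0) (hzm : z ^ m = 1)
    (hzne : ∃ w ∈ E, ρ z w ≠ w) : False := by
  have hfff : f * f * f = 1 := by
    have h := hf3
    rwa [pow_succ, pow_two] at h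
  have hfi : f⁻¹ = f * f := by
    apply inv_eq_of_mul_eq_one_left
    exact hfff
  obtain ⟨u', hu'⟩ : ∃ u', u' = f * u * f⁻¹ := ⟨_, rfl⟩
  obtain ⟨u'', hu''⟩ : ∃ u'', u'' = f⁻¹ * u * f := ⟨_, rfl⟩
  rw [← hu'] at hz hzu'
  have hfu : f * u = u' * f := by
    rw [hu']
    group
  have hfu' : f * u' = u'' * f := by
    rw [hu', hu'']
    have h1 : f * (f * u * f⁻¹) = (f * f) * u * f⁻¹ := by group
    have h2 : (f⁻¹ * u * f) * f = f⁻¹ * u * (f * f) := by group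
    rw [h1, h2, ← hfi]
  have hfu'' : f * u'' = u * f := by
    rw [hu'']
    group
  have hG1 : u' * u = z * (u * u') := by
    rw [hz]
    group
  have hG2 : u * u'' = (f⁻¹ * z * f) * (u'' * u) := by
    rw [hz, hu', hu'']
    group
  have hEfi : ∀ w ∈ E, ρ f⁻¹ w ∈ E := inv_mem_of_mem ρ E f hEf
  have hEu' : ∀ w ∈ E, ρ u' w ∈ E := by
    intro w hw
    rw [hu', rho_mul, rho_mul]
    exact hEf _ (hEu _ (hEfi w hw))
  have hEu'' : ∀ w ∈ E, ρ u'' w ∈ E := by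
    intro w hw
    rw [hu'', rho_mul, rho_mul]
    exact hEfi _ (hEu _ (hEf w hw))
  have hEui : ∀ w ∈ E, ρ u⁻¹ w ∈ E := inv_mem_of_mem ρ E u hEu
  have hEu'i : ∀ w ∈ E, ρ u'⁻¹ w ∈ E := inv_mem_of_mem ρ E u' hEu'
  have hEz : ∀ w ∈ E, ρ z w ∈ E := by
    intro w hw
    rw [hz, rho_mul, rho_mul, rho_mul]
    exact hEu' _ (hEu _ (hEu'i _ (hEui w hw)))
  have hzφ : ∀ w ∈ E, ρ f (ρ z w) = ρ z (ρ f w) := by
    intro w hw
    have h1 := hzf _ (hEf w hw)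
    rw [← rho_mul] at h1
    have e : f * z * f⁻¹ * f = f * z := by group
    rw [e, rho_mul] at h1
    exact h1
  have hzφi : ∀ w ∈ E, ρ f⁻¹ (ρ z w) = ρ z (ρ f⁻¹ w) := by
    intro w hw
    have h1 := hzφ _ (hEfi w hw)
    rw [rho_apply_inv] at h1
    rw [← h1, rho_inv_apply]
  have hzu'' : ∀ w ∈ E, ρ z (ρ u'' w) = ρ u'' (ρ z w) := by
    intro w hw
    have e1 : ∀ x : V, ρ u'' x = ρ f⁻¹ (ρ u (ρ f x)) := by
      intro x
      rw [hu'', rho_mul, rho_mul]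
    rw [e1, e1, ← hzφi _ (hEu _ (hEf w hw)), hzu _ (hEf w hw), ← hzφ w hw]
  have hz2 : ∀ w ∈ E, ρ (f⁻¹ * z * f) w = ρ z w := by
    intro w hw
    rw [rho_mul, rho_mul, ← hzφ w hw, rho_inv_apply]
  -- the eigenvalue `β` of `z`
  obtain ⟨lam, w₀, hw₀E, hw₀0, hw₀z, hlam⟩ := exists_joint_eigen ρ E (Subgroup.zpowers z)
    (zpowers_mem_of_mem ρ E z hEz) (zpowers_comm ρ E z) z (Subgroup.mem_zpowers z) m hmK hzm hzne
  obtain ⟨β, hβ⟩ : ∃ β, β = lam z := ⟨_, rfl⟩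
  rw [← hβ] at hlam
  have hw₀β : ρ z w₀ = β • w₀ := by
    rw [hβ]
    exact hw₀z z (Subgroup.mem_zpowers z)
  have hβm : β ^ m = 1 := by
    have h1 := pow_apply_eigen (ρ z) β w₀ hw₀β m
    rw [← map_pow, hzm, map_one, Module.End.one_apply] at h1
    by_contra hne
    have h2 : (β ^ m - 1) • w₀ = 0 := by rw [sub_smul, one_smul, ← h1, sub_self]
    rcases smul_eq_zero.mp h2 with h | h
    · exact hne (sub_eq_zero.mp h)
    · exact hw₀0 h
  have hm0 : m ≠ 0 := by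
    rintro rfl
    simp at hmK
  have hβ0 : β ≠ 0 := by
    rintro rfl
    rw [zero_pow hm0] at hβm
    exact zero_ne_one hβm
  have hβk : ∀ k : ℕ, 0 < k → k ≤ 4 → β ^ k ≠ 1 := pow_ne_one_small β m hm6 hβm hlam
  obtain ⟨Eβ, hEβ⟩ : ∃ Eβ : Submodule K V, Eβ = E ⊓ (ρ z).eigenspace β := ⟨_, rfl⟩
  have hEβmem : ∀ w, w ∈ Eβ ↔ w ∈ E ∧ ρ z w = β • w := by
    intro w
    rw [hEβ, Submodule.mem_inf, Module.End.mem_eigenspace_iff]
  have hEβne : Eβ ≠ ⊥ := by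
    intro h
    have h1 : w₀ ∈ Eβ := (hEβmem w₀).mpr ⟨hw₀E, hw₀β⟩
    rw [h] at h1
    exact hw₀0 ((Submodule.mem_bot K).mp h1)
  have hEβu : ∀ w ∈ Eβ, ρ u w ∈ Eβ := by
    intro w hw
    rw [hEβmem] at hw ⊢
    refine ⟨hEu w hw.1, ?_⟩
    rw [hzu w hw.1, hw.2, map_smul]
  obtain ⟨α', v, hvEβ, hv0, hvu⟩ := exists_joint_eigen' ρ Eβ (Subgroup.zpowers u)
    (zpowers_mem_of_mem ρ Eβ u hEβu) (zpowers_comm ρ Eβ u) hEβne
  obtain ⟨α, hα⟩ : ∃ α, α = α' u := ⟨_, rfl⟩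
  have hva : ρ u v = α • v := by
    rw [hα]
    exact hvu u (Subgroup.mem_zpowers u)
  have hvE : v ∈ E := ((hEβmem v).mp hvEβ).1
  have hvz : ρ z v = β • v := ((hEβmem v).mp hvEβ).2
  have hα0 : α ≠ 0 := by
    rintro rfl
    rw [zero_smul] at hva
    have h1 := rho_inv_apply ρ u v
    rw [hva, map_zero] at h1
    exact hv0 h1.symm
  have step1 : ∀ (x : V) (c : K), x ∈ E → ρ z x = β • x → ρ u x = c • x →
      (ρ u' x ∈ E ∧ ρ z (ρ u' x) = β • ρ u' x ∧ ρ u (ρ u' x) = (c * β⁻¹) • ρ u' x) := by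
    intro x c hxE hxz hxu
    have h1 : ρ z (ρ u' x) = β • ρ u' x := by rw [hzu' x hxE, hxz, map_smul]
    refine ⟨hEu' x hxE, h1, ?_⟩
    have h2 : ρ u' (ρ u x) = ρ z (ρ u (ρ u' x)) := by
      rw [← rho_mul, hG1, rho_mul, rho_mul]
    rw [hxu, map_smul, hzu _ (hEu' x hxE), h1, map_smul] at h2
    rw [mul_comm c β⁻¹, mul_smul, h2, smul_smul, inv_mul_cancel₀ hβ0, one_smul]
  have step2 : ∀ (x : V) (c : K), x ∈ E → ρ z x = β • x → ρ u x = c • x →
      (ρ u'' x ∈ E ∧ ρ z (ρ u'' x) = β • ρ u'' x ∧ ρ u (ρ u'' x) = (c * β) • ρ u'' x) := by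
    intro x c hxE hxz hxu
    have h1 : ρ z (ρ u'' x) = β • ρ u'' x := by rw [hzu'' x hxE, hxz, map_smul]
    refine ⟨hEu'' x hxE, h1, ?_⟩
    rw [← rho_mul, hG2, rho_mul, rho_mul ρ u'' u, hxu, map_smul, map_smul,
      hz2 _ (hEu'' x hxE), h1, smul_smul]
  -- a primitive cube root of unity
  obtain ⟨ω, hω⟩ : ∃ ω : K, ω ^ 2 + ω + 1 = 0 := by
    have hdeg : (Polynomial.X ^ 2 + Polynomial.X + 1 : Polynomial K).degree ≠ 0 := by
      have h1 : (Polynomial.X ^ 2 + Polynomial.X + 1 : Polynomial K) =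
          Polynomial.C 1 * Polynomial.X ^ 2 + Polynomial.C 1 * Polynomial.X +
            Polynomial.C 1 := by simp
      rw [h1, Polynomial.degree_quadratic one_ne_zero]
      norm_num
    obtain ⟨ω, hω⟩ := IsAlgClosed.exists_root _ hdeg
    exact ⟨ω, by simpa [Polynomial.IsRoot] using hω⟩
  have hω3 : ω ^ 3 = 1 := by linear_combination (ω - 1) * hω
  have hω0 : ω ≠ 0 := by
    rintro rfl
    simp at hω
  obtain ⟨R, hR⟩ : ∃ R : Module.End K V, ∀ w, R w = ρ u w + ω ^ 2 • ρ u' w + ω • ρ u'' w :=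
    ⟨ρ u + ω ^ 2 • ρ u' + ω • ρ u'', fun w => by simp⟩
  have hRE : ∀ w ∈ E, R w ∈ E := by
    intro w hw
    rw [hR]
    exact E.add_mem (E.add_mem (hEu w hw) (E.smul_mem _ (hEu' w hw)))
      (E.smul_mem _ (hEu'' w hw))
  have hφR : ∀ w, ρ f (R w) = ω • R (ρ f w) := by
    intro w
    have e1 : ρ f (ρ u w) = ρ u' (ρ f w) := by rw [← rho_mul, hfu, rho_mul]
    have e2 : ρ f (ρ u' w) = ρ u'' (ρ f w) := by rw [← rho_mul, hfu', rho_mul]
    have e3 : ρ f (ρ u'' w) = ρ u (ρ f w) := by rw [← rho_mul, hfu'', rho_mul]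
    rw [hR, hR, map_add, map_add, map_smul, map_smul, e1, e2, e3, smul_add, smul_add,
      smul_smul, smul_smul]
    have h1 : ω * ω ^ 2 = 1 := by
      rw [← hω3]
      ring
    have h2 : ω * ω = ω ^ 2 := by ring
    rw [h1, h2, one_smul]
    abel
  have hφRR : ∀ w, ρ f (R (R w)) = (ω * ω) • R (R (ρ f w)) := by
    intro w
    rw [hφR, hφR, map_smul, smul_smul]
  have hnf : ∀ x ∈ E, x + ρ f x + ρ f (ρ f x) = 0 := by
    intro x hx
    apply hnofix _ (E.add_mem (E.add_mem hx (hEf x hx)) (hEf _ (hEf x hx)))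
    rw [map_add, map_add]
    have h1 : ρ f (ρ f (ρ f x)) = x := by
      rw [← rho_mul, ← rho_mul, hfff, map_one, Module.End.one_apply]
    rw [h1]
    abel
  have hRR : ∀ w ∈ E, R (R w) = 0 := by
    intro w hw
    obtain ⟨A, hA⟩ : ∃ A, A = R (R w) := ⟨_, rfl⟩
    obtain ⟨B, hB⟩ : ∃ B, B = R (R (ρ f w)) := ⟨_, rfl⟩
    obtain ⟨C', hC'⟩ : ∃ C', C' = R (R (ρ f (ρ f w))) := ⟨_, rfl⟩
    have h_i : A + B + C' = 0 := by
      have h1 := congrArg (fun x => R (R x)) (hnf w hw)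
      simp only [map_add, map_zero] at h1
      rw [hA, hB, hC']
      exact h1
    have h_ii : A + ω • B + (ω * ω) • C' = 0 := by
      have h1 := hnf (R w) (hRE w hw)
      rw [hφR, map_smul, hφR, smul_smul] at h1
      have h2 := congrArg (fun x => R x) h1
      simp only [map_add, map_smul, map_zero] at h2
      rw [hA, hB, hC']
      exact h2
    have h_iii : A + (ω * ω) • B + (ω * ω * (ω * ω)) • C' = 0 := by
      have h1 := hnf (R (R w)) (hRE _ (hRE w hw))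
      rw [hφRR, map_smul, hφRR, smul_smul] at h1
      rw [hA, hB, hC']
      exact h1
    have c1 : (1 + ω + ω * ω : K) = 0 := by linear_combination hω
    have c2 : (1 + ω * ω + ω * ω * (ω * ω) : K) = 0 := by
      linear_combination (ω ^ 2 - ω + 1) * hω
    have hA3 : (3 : K) • A = 0 := by
      have e : (3 : K) • A = (A + B + C') + (A + ω • B + (ω * ω) • C') +
          (A + (ω * ω) • B + (ω * ω * (ω * ω)) • C') - (1 + ω + ω * ω) • B -
          (1 + ω * ω + ω * ω * (ω * ω)) • C' := by module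
      rw [e, h_i, h_ii, h_iii, c1, c2]
      simp
    rw [← hA]
    exact (smul_eq_zero.mp hA3).resolve_left h3K
  -- expansion of `R (R v)` into eigenvectors of `u`
  obtain ⟨v', hv'⟩ : ∃ v', v' = ρ u' v := ⟨_, rfl⟩
  obtain ⟨v'', hv''⟩ : ∃ v'', v'' = ρ u'' v := ⟨_, rfl⟩
  obtain ⟨hv'E, hv'z, hv'a⟩ := step1 v α hvE hvz hva
  obtain ⟨hv''E, hv''z, hv''a⟩ := step2 v α hvE hvz hva
  rw [← hv'] at hv'E hv'z hv'a
  rw [← hv''] at hv''E hv''z hv''a
  obtain ⟨p, hp⟩ : ∃ p, p = ρ u' v' := ⟨_, rfl⟩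
  obtain ⟨q, hq⟩ : ∃ q, q = ρ u'' v' := ⟨_, rfl⟩
  obtain ⟨s, hs⟩ : ∃ s, s = ρ u' v'' := ⟨_, rfl⟩
  obtain ⟨t, ht⟩ : ∃ t, t = ρ u'' v'' := ⟨_, rfl⟩
  have hpa := (step1 v' _ hv'E hv'z hv'a).2.2
  have hqa := (step2 v' _ hv'E hv'z hv'a).2.2
  have hsa := (step1 v'' _ hv''E hv''z hv''a).2.2
  have hta := (step2 v'' _ hv''E hv''z hv''a).2.2
  rw [← hp] at hpa
  rw [← hq, inv_mul_cancel_right₀ hβ0] at hqa
  rw [← hs, mul_inv_cancel_right₀ hβ0] at hsa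
  rw [← ht] at hta
  have hRv : R v = α • v + ω ^ 2 • v' + ω • v'' := by rw [hR, hva, ← hv', ← hv'']
  have hRv' : R v' = (α * β⁻¹) • v' + ω ^ 2 • p + ω • q := by rw [hR, hv'a, ← hp, ← hq]
  have hRv'' : R v'' = (α * β) • v'' + ω ^ 2 • s + ω • t := by rw [hR, hv''a, ← hs, ← ht]
  have hsum : (α ^ 2 • v + q + s) + ((α * ω ^ 2 + ω ^ 2 * (α * β⁻¹)) • v') +
      ((α * ω + ω * (α * β)) • v'') + (ω ^ 4 • p) + (ω ^ 2 • t) = 0 := by
    have h1 := hRR v hvE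
    rw [hRv, map_add, map_add, map_smul, map_smul, map_smul, hRv, hRv', hRv''] at h1
    rw [← h1]
    have h2 : ω ^ 2 * ω = 1 := by
      rw [← hω3]
      ring
    have h3 : ω * ω ^ 2 = 1 := by
      rw [← hω3]
      ring
    have e : α • (α • v + ω ^ 2 • v' + ω • v'') + ω ^ 2 • ((α * β⁻¹) • v' + ω ^ 2 • p + ω • q) +
        ω • ((α * β) • v'' + ω ^ 2 • s + ω • t) =
        (α ^ 2 • v + (ω ^ 2 * ω) • q + (ω * ω ^ 2) • s) +
        ((α * ω ^ 2 + ω ^ 2 * (α * β⁻¹)) • v') + ((α * ω + ω * (α * β)) • v'') + (ω ^ 4 • p) +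
        (ω ^ 2 • t) := by module
    rw [e, h2, h3, one_smul, one_smul]
  have hx0 : ρ u (α ^ 2 • v + q + s) = (α * β ^ (0 : ℤ)) • (α ^ 2 • v + q + s) := by
    rw [map_add, map_add, map_smul, hva, hqa, hsa, zpow_zero, mul_one]
    module
  have hx1 : ρ u ((α * ω ^ 2 + ω ^ 2 * (α * β⁻¹)) • v') =
      (α * β ^ (-1 : ℤ)) • ((α * ω ^ 2 + ω ^ 2 * (α * β⁻¹)) • v') := by
    rw [map_smul, hv'a, smul_comm, zpow_neg_one]
  have hx2 : ρ u ((α * ω + ω * (α * β)) • v'') =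
      (α * β ^ (1 : ℤ)) • ((α * ω + ω * (α * β)) • v'') := by
    rw [map_smul, hv''a, smul_comm, zpow_one]
  have hx3 : ρ u (ω ^ 4 • p) = (α * β ^ (-2 : ℤ)) • (ω ^ 4 • p) := by
    rw [map_smul, hpa, smul_comm, zpow_neg, zpow_two, mul_inv, mul_assoc]
  have hx4 : ρ u (ω ^ 2 • t) = (α * β ^ (2 : ℤ)) • (ω ^ 2 • t) := by
    rw [map_smul, hta, smul_comm, zpow_two, mul_assoc]
  have hall := eig_indep5 (ρ u) (fun i => α * β ^ ((![0, -1, 1, -2, 2] : Fin 5 → ℤ) i))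
    ![α ^ 2 • v + q + s, (α * ω ^ 2 + ω ^ 2 * (α * β⁻¹)) • v', (α * ω + ω * (α * β)) • v'',
      ω ^ 4 • p, ω ^ 2 • t] (by
      intro i
      fin_cases i
      · exact hx0
      · exact hx1
      · exact hx2
      · exact hx3
      · exact hx4) (by
      intro i j hij h
      have h1 := mul_left_cancel₀ hα0 h
      have h2 : ∀ i j : Fin 5, i ≠ j → (![0, -1, 1, -2, 2] : Fin 5 → ℤ) i ≠ ![0, -1, 1, -2, 2] j ∧
          -4 ≤ (![0, -1, 1, -2, 2] : Fin 5 → ℤ) i - ![0, -1, 1, -2, 2] j ∧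
          (![0, -1, 1, -2, 2] : Fin 5 → ℤ) i - ![0, -1, 1, -2, 2] j ≤ 4 := by decide
      exact zpow_ne_of β hβ0 hβk _ _ (h2 i j hij).1 (h2 i j hij).2.1 (h2 i j hij).2.2 h1) hsum 3
  have hp0 : p = 0 := (smul_eq_zero.mp hall).resolve_left (pow_ne_zero 4 hω0)
  have hinj : ∀ x : V, ρ u' x = 0 → x = 0 := by
    intro x hx
    have h := rho_inv_apply ρ u' x
    rw [hx, map_zero] at h
    exact h.symm
  exact hv0 (hinj v (by rw [← hv']; exact hinj v' (by rw [← hp]; exact hp0)))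

end

end Cfsg.Agent.Lib.helper66
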