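import Mathlib
import Cfsg.Agent.Lib.helper66.S3C

set_option autoImplicit false

namespace Cfsg.Agent.Lib.helper66

section

variable {K : Type*} [Field K] {V : Type*} [AddCommGroup V] [Module K V]
  {Γ : Type*} [Group Γ]

/-- A `t`-group `T` acting by commuting operators on `E`, normalized by an element `f` of
order dividing `3` without nonzero fixed vectors on `E`: then `[T, f]` acts trivially
on `E`. -/
theorem p2_ab [IsAlgClosed K] [FiniteDimensional K V] [Finite Γ] (ρ : Γ →* Module.End K V)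
    (E : Submodule K V) (T : Subgroup Γ) (f : Γ) (hf3 : f ^ 3 = 1)
    (hfT : f ∈ Subgroup.normalizer (T : Set Γ)) (t : ℕ) (hT : IsPGroup t T) (htK : (t : K) ≠ 0)
    (hEf : ∀ w ∈ E, ρ f w ∈ E) (hET : ∀ x ∈ T, ∀ w ∈ E, ρ x w ∈ E)
    (hnofix : ∀ w ∈ E, ρ f w = w → w = 0)
    (hcomm : ∀ x ∈ T, ∀ y ∈ T, ∀ w ∈ E, ρ (x * y) w = ρ (y * x) w) :
    ∀ x ∈ T, ∀ w ∈ E, ρ (f * x * f⁻¹) w = ρ x w := by
  intro x hx
  have hx' : f * x * f⁻¹ ∈ T := conj_mem_of_normalizer T f hfT x hx
  have hc : f * x * f⁻¹ * x⁻¹ ∈ T := T.mul_mem hx' (T.inv_mem hx)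
  have key : ∀ w ∈ E, ρ (f * x * f⁻¹ * x⁻¹) w = w := by
    by_contra hcon
    push Not at hcon
    obtain ⟨w, hw, hne⟩ := hcon
    obtain ⟨e, he⟩ := pgroup_pow T t hT _ hc
    obtain ⟨lam, w₀, hw₀E, hw₀0, hw₀T, hlam⟩ := exists_joint_eigen ρ E T hET hcomm _ hc (t ^ e)
      (by rw [Nat.cast_pow]; exact pow_ne_zero e htK) he ⟨w, hw, hne⟩
    have hwt : WtV ρ E T lam w₀ := ⟨hw₀E, hw₀0, hw₀T⟩
    by_cases hfx : Fx T f lam
    · apply hlam
      rw [wt_mul ρ E T lam w₀ hwt _ _ hx' (T.inv_mem hx), wt_inv ρ E T lam w₀ hwt x hx,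
        Fx_conj T lam f hfT hfx x hx]
      exact mul_inv_cancel₀ (wt_ne_zero ρ E T lam w₀ hwt x hx)
    · obtain ⟨s, hsE, hs0, hsf, -⟩ := orbit3 ρ E T f hf3 hfT hEf lam w₀ hwt hfx
      exact hs0 (hnofix s hsE hsf)
  intro w hw
  have e : f * x * f⁻¹ = (f * x * f⁻¹ * x⁻¹) * x := by group
  rw [e, rho_mul, key _ (hET x hx w hw)]

/-- A `t`-group `T` (`t ≠ 2, 3`) normalized by an element `f` of order dividing `3` without
nonzero fixed vectors on the invariant subspace `E`: then `[T, f]` acts trivially on `E`. -/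
theorem p2_three [IsAlgClosed K] [FiniteDimensional K V] [Finite Γ] (ρ : Γ →* Module.End K V)
    (E : Submodule K V) (f : Γ) (hf3 : f ^ 3 = 1) (h3K : (3 : K) ≠ 0)
    (hEf : ∀ w ∈ E, ρ f w ∈ E) (hnofix : ∀ w ∈ E, ρ f w = w → w = 0)
    (t : ℕ) (ht : t.Prime) (ht6 : t.Coprime 6) (htK : (t : K) ≠ 0) :
    ∀ n : ℕ, ∀ T : Subgroup Γ, Nat.card T = n → IsPGroup t T →
      f ∈ Subgroup.normalizer (T : Set Γ) → (∀ x ∈ T, ∀ w ∈ E, ρ x w ∈ E) →
      ∀ x ∈ T, ∀ w ∈ E, ρ (f * x * f⁻¹) w = ρ x w := by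
  have htF : Fact t.Prime := ⟨ht⟩
  have hfff : f * f * f = 1 := by
    have h := hf3
    rwa [pow_succ, pow_two] at h
  have hEfi : ∀ w ∈ E, ρ f⁻¹ w ∈ E := inv_mem_of_mem ρ E f hEf
  have ht3 : (3 : ℕ).Coprime t := (Nat.Coprime.coprime_dvd_right (by norm_num) ht6).symm
  intro n
  induction n using Nat.strong_induction_on with
  | _ n ih =>
    intro T hn hT hfT hET
    by_contra hcon
    obtain ⟨C, hC⟩ : ∃ C : Subgroup Γ, C = conjEq ρ E T hET f := ⟨_, rfl⟩
    have hCmem : ∀ x, x ∈ C ↔ x ∈ T ∧ ∀ w ∈ E, ρ (f * x * f⁻¹) w = ρ x w := by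
      intro x
      rw [hC]
      exact Iff.rfl
    have hCT : C ≤ T := fun x hx => ((hCmem x).mp hx).1
    have hCne : C ≠ T := by
      intro h
      apply hcon
      intro x hx
      have h1 : x ∈ C := by rw [h]; exact hx
      exact ((hCmem x).mp h1).2
    have hIH : ∀ T₀ : Subgroup Γ, T₀ ≤ T → T₀ ≠ T →
        f ∈ Subgroup.normalizer (T₀ : Set Γ) → T₀ ≤ C := by
      intro T₀ hle hne hf₀ x hx
      have hlt : Nat.card T₀ < n := by
        rw [← hn]
        by_contra hge
        push Not at hge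
        exact hne (Subgroup.eq_of_le_of_card_ge hle hge)
      exact (hCmem x).mpr ⟨hle hx, ih _ hlt T₀ rfl (hT.to_le hle) hf₀
        (fun y hy => hET y (hle hy)) x hx⟩
    have hfC : f ∈ Subgroup.normalizer (C : Set Γ) := by
      apply mem_normalizer_of_conj
      · intro x hx
        obtain ⟨hxT, hxE⟩ := (hCmem x).mp hx
        refine (hCmem _).mpr ⟨conj_mem_of_normalizer T f hfT x hxT, ?_⟩
        intro w hw
        rw [rho_mul, rho_mul, hxE _ (hEfi w hw), ← rho_mul, ← rho_mul]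
      · intro x hx
        obtain ⟨hxT, hxE⟩ := (hCmem x).mp hx
        refine (hCmem _).mpr ⟨conj_mem_of_normalizer' T f hfT x hxT, ?_⟩
        intro w hw
        have e : f * (f⁻¹ * x * f) * f⁻¹ = x := by group
        have e2 : f⁻¹ * (f * x * f⁻¹) * f = x := by group
        rw [e, rho_mul, rho_mul, ← hxE _ (hEf w hw), ← rho_mul, ← rho_mul, e2]
    have hnil : Group.IsNilpotent T := hT.isNilpotent
    -- `C` is normal in `T`
    have hTC : T ≤ Subgroup.normalizer (C : Set Γ) := by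
      have hNT : T ⊓ Subgroup.normalizer (C : Set Γ) = T := by
        by_contra hne
        have h1 := hIH (T ⊓ Subgroup.normalizer (C : Set Γ)) inf_le_left hne
          (normalizer_inf' T _ f hfT (Subgroup.le_normalizer hfC))
        have hlt : C.subgroupOf T < ⊤ := by
          rw [lt_top_iff_ne_top]
          intro h
          apply hCne
          apply le_antisymm hCT
          intro x hx
          have h2 : (⟨x, hx⟩ : T) ∈ C.subgroupOf T := by rw [h]; trivial
          exact Subgroup.mem_subgroupOf.mp h2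
        have h2 := Group.normalizerCondition_of_isNilpotent (G := T) (C.subgroupOf T) hlt
        obtain ⟨x, hxn, hxC⟩ := SetLike.exists_of_lt h2
        apply hxC
        rw [Subgroup.mem_subgroupOf]
        apply h1
        refine Subgroup.mem_inf.mpr ⟨x.2, ?_⟩
        apply mem_normalizer_of_conj
        · intro c hc
          have h3 := (Subgroup.mem_normalizer_iff.mp hxn ⟨c, hCT hc⟩).mp
            (Subgroup.mem_subgroupOf.mpr hc)
          exact Subgroup.mem_subgroupOf.mp h3
        · intro c hc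
          have h3 := (Subgroup.mem_normalizer_iff.mp (inv_mem hxn) ⟨c, hCT hc⟩).mp
            (Subgroup.mem_subgroupOf.mpr hc)
          have h4 := Subgroup.mem_subgroupOf.mp h3
          simpa using h4
      rw [← hNT]
      exact inf_le_right
    -- `T = [T, f]`
    have hcomF : comF f T = T := by
      by_contra hne
      have h1 := hIH (comF f T) (comF_le f T hfT) hne (comF_norm_f f T hfT)
      apply hcon
      intro x hx
      obtain ⟨d, hd⟩ : ∃ d, d = f * x * f⁻¹ * x⁻¹ := ⟨_, rfl⟩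
      have hdC : d ∈ C := by
        rw [hd]
        exact h1 (comF_gen f T x hx)
      have hd1C : f * d * f⁻¹ ∈ C := conj_mem_of_normalizer C f hfC d hdC
      obtain ⟨hdT, hdE⟩ := (hCmem d).mp hdC
      obtain ⟨hd1T, hd1E⟩ := (hCmem _).mp hd1C
      have hprod : (f * (f * d * f⁻¹) * f⁻¹) * (f * d * f⁻¹) * d = 1 := by
        have e : (f * (f * d * f⁻¹) * f⁻¹) * (f * d * f⁻¹) * d =
            (f * f * f) * x * (f * f * f)⁻¹ * x⁻¹ := by
          rw [hd]
          group
        rw [e, hfff]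
        group
      have hd3 : ∀ w ∈ E, ρ d (ρ d (ρ d w)) = w := by
        intro w hw
        have hdw : ρ d w ∈ E := hET d hdT w hw
        have h2 : ρ ((f * (f * d * f⁻¹) * f⁻¹) * (f * d * f⁻¹) * d) w = w := by
          rw [hprod, map_one, Module.End.one_apply]
        rw [rho_mul, rho_mul, hdE _ hdw, hd1E _ (hET d hdT _ hdw),
          hdE _ (hET d hdT _ hdw)] at h2
        exact h2
      have hdfix : ∀ w ∈ E, ρ d w = w := by
        intro w hw
        obtain ⟨e, he⟩ := pgroup_pow T t hT d hdT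
        obtain ⟨j, hj⟩ := exists_pow_mul_eq d 3 (t ^ e) he (Nat.Coprime.pow_right e ht3)
        have h3 : ρ (d ^ 3) w = w := by
          rw [pow_succ, pow_two, rho_mul, rho_mul]
          exact hd3 w hw
        have h4 := pow_fix_of_fix ρ (d ^ 3) w h3 j
        rw [← pow_mul, hj] at h4
        exact h4
      intro w hw
      have e : f * x * f⁻¹ = d * x := by
        rw [hd]
        group
      rw [e, rho_mul, hdfix _ (hET x hx w hw)]
    -- `C` is central modulo the kernel on `E`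
    have hCcen : ∀ c ∈ C, ∀ x ∈ T, ∀ w ∈ E, ρ c (ρ x w) = ρ x (ρ c w) := by
      intro c hc
      obtain ⟨hcT, hcE⟩ := (hCmem c).mp hc
      have hP : comF f T ≤ cmOnSub ρ E T hET {c} := by
        unfold comF
        rw [Subgroup.closure_le]
        rintro _ ⟨y, hy, rfl⟩
        obtain ⟨y', hy'⟩ : ∃ y', y' = f * y * f⁻¹ := ⟨_, rfl⟩
        have hy'T : y' ∈ T := by
          rw [hy']
          exact conj_mem_of_normalizer T f hfT y hy
        rw [← hy']
        refine ⟨T.mul_mem hy'T (T.inv_mem hy), ?_⟩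
        intro s hs w hw
        rw [Set.mem_singleton_iff] at hs
        rw [hs]
        have hyc : y⁻¹ * c * y ∈ C := conj_mem_of_normalizer' C y (hTC hy) c hc
        have hw1 : ρ y⁻¹ w ∈ E := hET _ (T.inv_mem hy) w hw
        have h1 := ((hCmem _).mp hyc).2 (ρ y⁻¹ w) hw1
        have e1 : f * (y⁻¹ * c * y) * f⁻¹ = y'⁻¹ * (f * c * f⁻¹) * y' := by
          rw [hy']
          group
        rw [e1, rho_mul, rho_mul, hcE _ (hET y' hy'T _ hw1), rho_mul ρ (y⁻¹ * c) y,
          rho_mul ρ y⁻¹ c, rho_apply_inv] at h1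
        have h3 := congrArg (ρ y') h1
        rw [rho_apply_inv] at h3
        rw [rho_mul, rho_mul, h3]
      intro x hx w hw
      have hxP : x ∈ cmOnSub ρ E T hET {c} := hP (by rw [hcomF]; exact hx)
      exact (hxP.2 c rfl w hw).symm
    have hTne : T ≠ ⊥ := by
      intro h
      apply hCne
      apply le_antisymm hCT
      rw [h]
      exact bot_le
    have hDT : ⁅T, T⁆ ≤ C := by
      apply hIH ⁅T, T⁆ _ (comm_ne_self T t ht hT hTne) (normalizer_commutator T T f hfT hfT)
      rw [Subgroup.commutator_le]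
      intro a ha b hb
      exact T.mul_mem (T.mul_mem (T.mul_mem ha hb) (T.inv_mem ha)) (T.inv_mem hb)
    by_cases hall : ∀ u ∈ T, ∀ w ∈ E, ρ ((f * u * f⁻¹) * u * (f * u * f⁻¹)⁻¹ * u⁻¹) w = w
    · obtain ⟨u₀, hu₀T, hu₀C⟩ : ∃ u₀ ∈ T, u₀ ∉ C := by
        by_contra h
        push Not at h
        exact hCne (le_antisymm hCT h)
      obtain ⟨u₁, hu₁⟩ : ∃ u₁, u₁ = f * u₀ * f⁻¹ := ⟨_, rfl⟩
      obtain ⟨u₂, hu₂⟩ : ∃ u₂, u₂ = f * u₁ * f⁻¹ := ⟨_, rfl⟩
      have hu₁T : u₁ ∈ T := by
        rw [hu₁]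
        exact conj_mem_of_normalizer T f hfT u₀ hu₀T
      have hu₂T : u₂ ∈ T := by
        rw [hu₂]
        exact conj_mem_of_normalizer T f hfT u₁ hu₁T
      have hu₀' : f * u₂ * f⁻¹ = u₀ := by
        rw [hu₂, hu₁]
        have e : f * (f * (f * u₀ * f⁻¹) * f⁻¹) * f⁻¹ = (f * f * f) * u₀ * (f * f * f)⁻¹ := by
          group
        rw [e, hfff]
        group
      have k0 : f⁻¹ * u₀ * f = u₂ := by
        rw [← hu₀']
        group
      have k1 : f⁻¹ * u₁ * f = u₀ := by
        rw [hu₁]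
        group
      have k2 : f⁻¹ * u₂ * f = u₁ := by
        rw [hu₂]
        group
      have h10 : ∀ w ∈ E, ρ u₁ (ρ u₀ w) = ρ u₀ (ρ u₁ w) := by
        apply comm_of_commutator ρ E u₁ u₀ (hET u₁ hu₁T) (hET u₀ hu₀T)
        have h := hall u₀ hu₀T
        rw [← hu₁] at h
        exact h
      have h21 : ∀ w ∈ E, ρ u₂ (ρ u₁ w) = ρ u₁ (ρ u₂ w) := by
        apply comm_of_commutator ρ E u₂ u₁ (hET u₂ hu₂T) (hET u₁ hu₁T)
        have h := hall u₁ hu₁T
        rw [← hu₂] at h
        exact h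
      have h02 : ∀ w ∈ E, ρ u₀ (ρ u₂ w) = ρ u₂ (ρ u₀ w) := by
        apply comm_of_commutator ρ E u₀ u₂ (hET u₀ hu₀T) (hET u₂ hu₂T)
        have h := hall u₂ hu₂T
        rw [hu₀'] at h
        exact h
      have hSf : ∀ s ∈ ({u₀, u₁, u₂} : Set Γ), f * s * f⁻¹ ∈ ({u₀, u₁, u₂} : Set Γ) := by
        intro s hs
        simp only [Set.mem_insert_iff, Set.mem_singleton_iff] at hs ⊢
        rcases hs with hs | hs | hs
        · rw [hs]
          exact Or.inr (Or.inl hu₁.symm)
        · rw [hs]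
          exact Or.inr (Or.inr hu₂.symm)
        · rw [hs]
          exact Or.inl hu₀'
      have hSf' : ∀ s ∈ ({u₀, u₁, u₂} : Set Γ), f⁻¹ * s * f ∈ ({u₀, u₁, u₂} : Set Γ) := by
        intro s hs
        simp only [Set.mem_insert_iff, Set.mem_singleton_iff] at hs ⊢
        rcases hs with hs | hs | hs
        · rw [hs]
          exact Or.inr (Or.inr k0)
        · rw [hs]
          exact Or.inl k1
        · rw [hs]
          exact Or.inr (Or.inl k2)
      have hT₀ : cmOnSub ρ E T hET {u₀, u₁, u₂} = T := by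
        by_contra hne
        have h1 := hIH (cmOnSub ρ E T hET {u₀, u₁, u₂}) (fun x hx => hx.1) hne
          (cmOnSub_norm ρ E T hET _ f hfT hEf hSf' hSf)
        apply hu₀C
        apply h1
        refine ⟨hu₀T, ?_⟩
        intro s hs w hw
        simp only [Set.mem_insert_iff, Set.mem_singleton_iff] at hs
        rcases hs with hs | hs | hs
        · rw [hs]
        · rw [hs]
          exact (h10 w hw).symm
        · rw [hs]
          exact h02 w hw
      have hT₁ : cmOnSub ρ E T hET (T : Set Γ) = T := by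
        by_contra hne
        have h1 := hIH (cmOnSub ρ E T hET (T : Set Γ)) (fun x hx => hx.1) hne
          (cmOnSub_norm ρ E T hET _ f hfT hEf
            (fun s hs => conj_mem_of_normalizer' T f hfT s hs)
            (fun s hs => conj_mem_of_normalizer T f hfT s hs))
        apply hu₀C
        apply h1
        refine ⟨hu₀T, ?_⟩
        intro s hs w hw
        have hs' : s ∈ cmOnSub ρ E T hET {u₀, u₁, u₂} := by
          rw [hT₀]
          exact hs
        exact (hs'.2 u₀ (by simp) w hw).symm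
      apply hcon
      apply p2_ab ρ E T f hf3 hfT t hT htK hEf hET hnofix
      intro x hx y hy w hw
      have hx' : x ∈ cmOnSub ρ E T hET (T : Set Γ) := by
        rw [hT₁]
        exact hx
      rw [rho_mul, rho_mul]
      exact hx'.2 y hy w hw
    · push Not at hall
      obtain ⟨u, huT, w, hwE, hne⟩ := hall
      have hu'T : f * u * f⁻¹ ∈ T := conj_mem_of_normalizer T f hfT u huT
      have hzC : (f * u * f⁻¹) * u * (f * u * f⁻¹)⁻¹ * u⁻¹ ∈ C :=
        hDT (Subgroup.commutator_mem_commutator hu'T huT)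
      obtain ⟨e, he⟩ := pgroup_pow T t hT _ (hCT hzC)
      exact hh3 ρ E f u hf3 h3K hEf (hET u huT) hnofix _ rfl
        (fun w hw => hCcen _ hzC u huT w hw) (fun w hw => hCcen _ hzC _ hu'T w hw)
        (((hCmem _).mp hzC).2) (t ^ e) (Nat.Coprime.pow_left e ht6)
        (by rw [Nat.cast_pow]; exact pow_ne_zero e htK) he ⟨w, hwE, hne⟩

end

end Cfsg.Agent.Lib.helper66
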