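import Mathlib
import Cfsg.Agent.Lib.helper66.S3D

set_option autoImplicit false

namespace Cfsg.Agent.Lib.helper66

section

variable {K : Type*} [Field K] {V : Type*} [AddCommGroup V] [Module K V]
  {Γ : Type*} [Group Γ]

/-- The conjugate subgroup `g H g⁻¹`. -/
def cjSub (g : Γ) (H : Subgroup Γ) : Subgroup Γ where
  carrier := {x | g⁻¹ * x * g ∈ H}
  one_mem' := by
    show g⁻¹ * 1 * g ∈ H
    simp [H.one_mem]
  mul_mem' := by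
    intro a b ha hb
    show g⁻¹ * (a * b) * g ∈ H
    have e : g⁻¹ * (a * b) * g = (g⁻¹ * a * g) * (g⁻¹ * b * g) := by group
    rw [e]
    exact H.mul_mem ha hb
  inv_mem' := by
    intro a ha
    show g⁻¹ * a⁻¹ * g ∈ H
    have e : g⁻¹ * a⁻¹ * g = (g⁻¹ * a * g)⁻¹ := by group
    rw [e]
    exact H.inv_mem ha

theorem mem_cjSub (g : Γ) (H : Subgroup Γ) (x : Γ) : x ∈ cjSub g H ↔ g⁻¹ * x * g ∈ H :=
  Iff.rfl

theorem cjSub_le (g : Γ) (H T : Subgroup Γ) (hgT : g ∈ Subgroup.normalizer (T : Set Γ))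
    (hHT : H ≤ T) : cjSub g H ≤ T := by
  intro x hx
  have h1 := conj_mem_of_normalizer T g hgT _ (hHT hx)
  have e : g * (g⁻¹ * x * g) * g⁻¹ = x := by group
  rwa [e] at h1

theorem cjSub_norm (g : Γ) (H T : Subgroup Γ) (hgT : g ∈ Subgroup.normalizer (T : Set Γ))
    (hTH : T ≤ Subgroup.normalizer (H : Set Γ)) :
    T ≤ Subgroup.normalizer ((cjSub g H : Subgroup Γ) : Set Γ) := by
  intro y hy
  have hy' : g⁻¹ * y * g ∈ T := conj_mem_of_normalizer' T g hgT y hy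
  apply mem_normalizer_of_conj
  · intro x hx
    show g⁻¹ * (y * x * y⁻¹) * g ∈ H
    have e : g⁻¹ * (y * x * y⁻¹) * g = (g⁻¹ * y * g) * (g⁻¹ * x * g) * (g⁻¹ * y * g)⁻¹ := by
      group
    rw [e]
    exact conj_mem_of_normalizer H _ (hTH hy') _ hx
  · intro x hx
    show g⁻¹ * (y⁻¹ * x * y) * g ∈ H
    have e : g⁻¹ * (y⁻¹ * x * y) * g = (g⁻¹ * y * g)⁻¹ * (g⁻¹ * x * g) * (g⁻¹ * y * g) := by
      group
    rw [e]
    exact conj_mem_of_normalizer' H _ (hTH hy') _ hx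

theorem comm_mem_left (H T : Subgroup Γ) (hTH : T ≤ Subgroup.normalizer (H : Set Γ)) (a b : Γ)
    (ha : a ∈ H) (hb : b ∈ T) : a * b * a⁻¹ * b⁻¹ ∈ H := by
  have e : a * b * a⁻¹ * b⁻¹ = a * (b * a⁻¹ * b⁻¹) := by group
  rw [e]
  exact H.mul_mem ha (conj_mem_of_normalizer H b (hTH hb) _ (H.inv_mem ha))

theorem comm_mem_right (H T : Subgroup Γ) (hTH : T ≤ Subgroup.normalizer (H : Set Γ)) (a b : Γ)
    (ha : a ∈ T) (hb : b ∈ H) : a * b * a⁻¹ * b⁻¹ ∈ H :=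
  H.mul_mem (conj_mem_of_normalizer H a (hTH ha) b hb) (H.inv_mem hb)

/-- First step of the triality lemma: `T = K₀ K₁`. -/
theorem tri_L1 [Finite Γ] (f τ : Γ) (hf3 : f ^ 3 = 1) (hτ2 : τ * τ = 1)
    (hτf : τ * f * τ⁻¹ = f⁻¹) (T K₀ : Subgroup Γ)
    (hfT : f ∈ Subgroup.normalizer (T : Set Γ))
    (hT6 : (Nat.card T).Coprime 6) (hTsol : Group.IsSolvable T)
    (hfpf : ∀ n ∈ T, f * n = n * f → τ * n = n * τ → n = 1)
    (hK₀T : K₀ ≤ T) (hTK₀ : T ≤ Subgroup.normalizer (K₀ : Set Γ))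
    (hτK : ∀ x ∈ T, τ * x * τ⁻¹ * x⁻¹ ∈ K₀) :
    ∀ x ∈ T, ∃ a ∈ K₀, ∃ b ∈ cjSub f K₀, x = a * b := by
  have hTs := hTsol
  have hτi : τ⁻¹ = τ := inv_eq_of_mul_eq_one_left hτ2
  have hfff : f * f * f = 1 := by
    have h := hf3
    rwa [pow_succ, pow_two] at h
  obtain ⟨K₁, hK₁⟩ : ∃ K₁ : Subgroup Γ, K₁ = cjSub f K₀ := ⟨_, rfl⟩
  have hK₁T : K₁ ≤ T := by
    rw [hK₁]
    exact cjSub_le f K₀ T hfT hK₀T
  have hTK₁ : T ≤ Subgroup.normalizer (K₁ : Set Γ) := by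
    rw [hK₁]
    exact cjSub_norm f K₀ T hfT hTK₀
  obtain ⟨S, hS⟩ : ∃ S : Subgroup Γ, S = mulSub K₀ K₁ (hK₀T.trans hTK₁) := ⟨_, rfl⟩
  have hK₀S : K₀ ≤ S := by
    rw [hS]
    exact left_le_mulSub _ _ _
  have hK₁S : K₁ ≤ S := by
    rw [hS]
    exact right_le_mulSub _ _ _
  have hST : S ≤ T := by
    rw [hS]
    rintro _ ⟨a, ha, b, hb, rfl⟩
    exact T.mul_mem (hK₀T ha) (hK₁T hb)
  obtain ⟨σ, hσ⟩ : ∃ σ, σ = f * τ * f⁻¹ := ⟨_, rfl⟩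
  have hσK : ∀ x ∈ T, σ * x * σ⁻¹ * x⁻¹ ∈ K₁ := by
    intro x hx
    rw [hK₁, mem_cjSub, hσ]
    have e : f⁻¹ * (f * τ * f⁻¹ * x * (f * τ * f⁻¹)⁻¹ * x⁻¹) * f =
        τ * (f⁻¹ * x * f) * τ⁻¹ * (f⁻¹ * x * f)⁻¹ := by group
    rw [e]
    exact hτK _ (conj_mem_of_normalizer' T f hfT x hx)
  have hσi : σ⁻¹ = σ := by
    apply inv_eq_of_mul_eq_one_left
    rw [hσ]
    have e : (f * τ * f⁻¹) * (f * τ * f⁻¹) = f * (τ * τ) * f⁻¹ := by group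
    rw [e, hτ2]
    group
  have hfσ : f = τ * σ := by
    rw [hσ]
    have e : τ * (f * τ * f⁻¹) = (τ * f * τ⁻¹) * (τ * τ) * f⁻¹ := by group
    rw [e, hτf, hτ2]
    have e2 : f⁻¹ * 1 * f⁻¹ = (f * f * f)⁻¹ * f := by group
    rw [e2, hfff]
    group
  have norm_of : ∀ (g : Γ) (H : Subgroup Γ), H ≤ S → (∀ x ∈ T, g * x * g⁻¹ * x⁻¹ ∈ H) →
      (∀ x ∈ T, g⁻¹ * x * g * x⁻¹ ∈ H) → g ∈ Subgroup.normalizer (S : Set Γ) := by
    intro g H hHS h1 h2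
    apply mem_normalizer_of_conj
    · intro s hs
      have e : g * s * g⁻¹ = (g * s * g⁻¹ * s⁻¹) * s := by group
      rw [e]
      exact S.mul_mem (hHS (h1 s (hST hs))) hs
    · intro s hs
      have e : g⁻¹ * s * g = (g⁻¹ * s * g * s⁻¹) * s := by group
      rw [e]
      exact S.mul_mem (hHS (h2 s (hST hs))) hs
  have hτS : τ ∈ Subgroup.normalizer (S : Set Γ) := by
    apply norm_of τ K₀ hK₀S hτK
    intro x hx
    have h := hτK x hx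
    rw [hτi] at h ⊢
    exact h
  have hσS : σ ∈ Subgroup.normalizer (S : Set Γ) := by
    apply norm_of σ K₁ hK₁S hσK
    intro x hx
    have h := hσK x hx
    rw [hσi] at h ⊢
    exact h
  have hfS : f ∈ Subgroup.normalizer (S : Set Γ) := by
    have h := Subgroup.mul_mem _ hτS hσS
    rw [← hfσ] at h
    exact h
  intro x hx
  have h1 : f * x * f⁻¹ * x⁻¹ ∈ S := by
    have e : f * x * f⁻¹ * x⁻¹ = τ * (σ * x * σ⁻¹ * x⁻¹) * τ⁻¹ * (τ * x * τ⁻¹ * x⁻¹) := by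
      have e1 : (τ * σ) * x * (τ * σ)⁻¹ * x⁻¹ =
          τ * (σ * x * σ⁻¹ * x⁻¹) * τ⁻¹ * (τ * x * τ⁻¹ * x⁻¹) := by group
      rw [← hfσ] at e1
      exact e1
    rw [e]
    exact S.mul_mem (conj_mem_of_normalizer S τ hτS _ (hK₁S (hσK x hx))) (hK₀S (hτK x hx))
  have h2 : τ * x * τ⁻¹ * x⁻¹ ∈ S := hK₀S (hτK x hx)
  have hxS : x ∈ S := fpf_coset f τ hf3 hτ2 hτf T S hST hfS hτS
    (Nat.Coprime.coprime_dvd_left (Subgroup.card_dvd_of_le hST) hT6)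
    (Group.isSolvable_of_isSolvable_injective (Subgroup.inclusion_injective hST)) hfpf x hx h1 h2
  rw [hS] at hxS
  obtain ⟨a, ha, b, hb, hab⟩ := hxS
  exact ⟨a, ha, b, hK₁ ▸ hb, hab⟩

/-- **Triality lemma.**  Let `T` be a solvable group of order prime to `6` on which the group
generated by `f` (of order dividing `3`) and the involution `τ` inverting `f` acts without
nontrivial fixed points.  If `τ` acts trivially on `T / K₀` for a normal subgroup `K₀`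
of `T`, then `T / K₀` is abelian. -/
theorem tri [Finite Γ] (f τ : Γ) (hf3 : f ^ 3 = 1) (hτ2 : τ * τ = 1)
    (hτf : τ * f * τ⁻¹ = f⁻¹) (T K₀ : Subgroup Γ)
    (hfT : f ∈ Subgroup.normalizer (T : Set Γ))
    (hT6 : (Nat.card T).Coprime 6) (hTsol : Group.IsSolvable T)
    (hfpf : ∀ n ∈ T, f * n = n * f → τ * n = n * τ → n = 1)
    (hK₀T : K₀ ≤ T) (hTK₀ : T ≤ Subgroup.normalizer (K₀ : Set Γ))
    (hτK : ∀ x ∈ T, τ * x * τ⁻¹ * x⁻¹ ∈ K₀) :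
    ∀ x ∈ T, ∀ y ∈ T, x * y * x⁻¹ * y⁻¹ ∈ K₀ := by
  have hTs := hTsol
  have hτi : τ⁻¹ = τ := inv_eq_of_mul_eq_one_left hτ2
  have hfff : f * f * f = 1 := by
    have h := hf3
    rwa [pow_succ, pow_two] at h
  have hfi : f⁻¹ = f * f := inv_eq_of_mul_eq_one_left hfff
  have h2 : τ⁻¹ * f * τ = f⁻¹ := by
    have h := hτf
    rw [hτi] at h ⊢
    exact h
  have hfτ : f * τ = τ * f⁻¹ := by
    calc f * τ = τ * (τ⁻¹ * f * τ) := by group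
      _ = τ * f⁻¹ := by rw [h2]
  have hfτ' : f⁻¹ * τ = τ * f := by
    calc f⁻¹ * τ = τ * (τ⁻¹ * f * τ)⁻¹ := by group
      _ = τ * f := by rw [h2, inv_inv]
  have hf3' : f⁻¹ ^ 3 = 1 := by rw [inv_pow, hf3, inv_one]
  have hτf' : τ * f⁻¹ * τ⁻¹ = f⁻¹⁻¹ := by
    have e : τ * f⁻¹ * τ⁻¹ = (τ * f * τ⁻¹)⁻¹ := by group
    rw [e, hτf]
  have hfpf' : ∀ n ∈ T, f⁻¹ * n = n * f⁻¹ → τ * n = n * τ → n = 1 := by
    intro n hn h1 h2
    apply hfpf n hn _ h2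
    calc f * n = f * (n * f⁻¹) * f := by group
      _ = f * (f⁻¹ * n) * f := by rw [h1]
      _ = n * f := by group
  have L1 := tri_L1 f τ hf3 hτ2 hτf T K₀ hfT hT6 hTsol hfpf hK₀T hTK₀ hτK
  have L1' := tri_L1 f⁻¹ τ hf3' hτ2 hτf' T K₀ (inv_mem hfT) hT6 hTsol hfpf' hK₀T hTK₀ hτK
  obtain ⟨K₁, hK₁⟩ : ∃ K₁ : Subgroup Γ, K₁ = cjSub f K₀ := ⟨_, rfl⟩
  obtain ⟨K₂, hK₂⟩ : ∃ K₂ : Subgroup Γ, K₂ = cjSub f⁻¹ K₀ := ⟨_, rfl⟩
  rw [← hK₁] at L1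
  rw [← hK₂] at L1'
  have hm₁ : ∀ x, x ∈ K₁ ↔ f⁻¹ * x * f ∈ K₀ := by
    intro x
    rw [hK₁]
    exact Iff.rfl
  have hm₂ : ∀ x, x ∈ K₂ ↔ f * x * f⁻¹ ∈ K₀ := by
    intro x
    rw [hK₂, mem_cjSub, inv_inv]
  have hK₁T : K₁ ≤ T := by
    rw [hK₁]
    exact cjSub_le f K₀ T hfT hK₀T
  have hK₂T : K₂ ≤ T := by
    rw [hK₂]
    exact cjSub_le f⁻¹ K₀ T (inv_mem hfT) hK₀T
  have hTK₁ : T ≤ Subgroup.normalizer (K₁ : Set Γ) := by
    rw [hK₁]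
    exact cjSub_norm f K₀ T hfT hTK₀
  have hTK₂ : T ≤ Subgroup.normalizer (K₂ : Set Γ) := by
    rw [hK₂]
    exact cjSub_norm f⁻¹ K₀ T (inv_mem hfT) hTK₀
  have L2 : ∀ x, x ∈ K₁ → x ∈ K₂ → x ∈ K₀ := by
    intro x hx1 hx2
    have hxT : x ∈ T := hK₁T hx1
    obtain ⟨K, hK⟩ : ∃ K : Subgroup Γ, K = K₀ ⊓ K₁ ⊓ K₂ := ⟨_, rfl⟩
    have hKmem : ∀ g, g ∈ K ↔ g ∈ K₀ ∧ g ∈ K₁ ∧ g ∈ K₂ := by
      intro g
      rw [hK, Subgroup.mem_inf, Subgroup.mem_inf, and_assoc]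
    have hKT : K ≤ T := fun g hg => hK₀T ((hKmem g).mp hg).1
    have hTK : T ≤ Subgroup.normalizer (K : Set Γ) := by
      intro g hg
      rw [hK]
      exact normalizer_inf' _ _ g (normalizer_inf' _ _ g (hTK₀ hg) (hTK₁ hg)) (hTK₂ hg)
    have hfK : f ∈ Subgroup.normalizer (K : Set Γ) := by
      apply mem_normalizer_of_conj
      · intro g hg
        obtain ⟨h0, h1, h2⟩ := (hKmem g).mp hg
        rw [hm₁] at h1
        rw [hm₂] at h2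
        refine (hKmem _).mpr ⟨h2, ?_, ?_⟩
        · rw [hm₁]
          have e : f⁻¹ * (f * g * f⁻¹) * f = g := by group
          rw [e]
          exact h0
        · rw [hm₂]
          have e : f * (f * g * f⁻¹) * f⁻¹ = (f * f) * g * (f * f)⁻¹ := by group
          rw [e, ← hfi, inv_inv]
          exact h1
      · intro g hg
        obtain ⟨h0, h1, h2⟩ := (hKmem g).mp hg
        rw [hm₁] at h1
        rw [hm₂] at h2
        refine (hKmem _).mpr ⟨h1, ?_, ?_⟩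
        · rw [hm₁]
          have e : f⁻¹ * (f⁻¹ * g * f) * f = (f * f)⁻¹ * g * (f * f) := by group
          rw [e, ← hfi, inv_inv]
          exact h2
        · rw [hm₂]
          have e : f * (f⁻¹ * g * f) * f⁻¹ = g := by group
          rw [e]
          exact h0
    have hτK₀ : ∀ k ∈ K₀, τ * k * τ⁻¹ ∈ K₀ := by
      intro k hk
      have e : τ * k * τ⁻¹ = (τ * k * τ⁻¹ * k⁻¹) * k := by group
      rw [e]
      exact K₀.mul_mem (hτK k (hK₀T hk)) hk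
    have hτK₁₂ : ∀ g ∈ K₁, τ * g * τ⁻¹ ∈ K₂ := by
      intro g hg
      rw [hm₁] at hg
      rw [hm₂]
      have e : f * (τ * g * τ⁻¹) * f⁻¹ = τ * (f⁻¹ * g * f) * τ⁻¹ := by
        calc f * (τ * g * τ⁻¹) * f⁻¹ = (f * τ) * g * (f * τ)⁻¹ := by group
          _ = (τ * f⁻¹) * g * (τ * f⁻¹)⁻¹ := by rw [hfτ]
          _ = τ * (f⁻¹ * g * f) * τ⁻¹ := by group
      rw [e]
      exact hτK₀ _ hg
    have hτK₂₁ : ∀ g ∈ K₂, τ * g * τ⁻¹ ∈ K₁ := by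
      intro g hg
      rw [hm₂] at hg
      rw [hm₁]
      have e : f⁻¹ * (τ * g * τ⁻¹) * f = τ * (f * g * f⁻¹) * τ⁻¹ := by
        calc f⁻¹ * (τ * g * τ⁻¹) * f = (f⁻¹ * τ) * g * (f⁻¹ * τ)⁻¹ := by group
          _ = (τ * f) * g * (τ * f)⁻¹ := by rw [hfτ']
          _ = τ * (f * g * f⁻¹) * τ⁻¹ := by group
      rw [e]
      exact hτK₀ _ hg
    have hτKn : τ ∈ Subgroup.normalizer (K : Set Γ) := by
      have key : ∀ g ∈ K, τ * g * τ⁻¹ ∈ K := by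
        intro g hg
        obtain ⟨h0, h1, h2⟩ := (hKmem g).mp hg
        exact (hKmem _).mpr ⟨hτK₀ g h0, hτK₂₁ g h2, hτK₁₂ g h1⟩
      apply mem_normalizer_of_conj
      · exact key
      · intro g hg
        have h := key g hg
        rw [hτi] at h ⊢
        exact h
    obtain ⟨x', hx'⟩ : ∃ x', x' = f * x * f⁻¹ := ⟨_, rfl⟩
    obtain ⟨x'', hx''⟩ : ∃ x'', x'' = f⁻¹ * x * f := ⟨_, rfl⟩
    have hx'T : x' ∈ T := by
      rw [hx']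
      exact conj_mem_of_normalizer T f hfT x hxT
    have hx''T : x'' ∈ T := by
      rw [hx'']
      exact conj_mem_of_normalizer' T f hfT x hxT
    have hx'0 : x' ∈ K₀ := by
      rw [hx']
      exact (hm₂ x).mp hx2
    have hx'2 : x' ∈ K₂ := by
      rw [hm₂, hx']
      have e : f * (f * x * f⁻¹) * f⁻¹ = (f * f) * x * (f * f)⁻¹ := by group
      rw [e, ← hfi, inv_inv]
      exact (hm₁ x).mp hx1
    have hx''0 : x'' ∈ K₀ := by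
      rw [hx'']
      exact (hm₁ x).mp hx1
    have hx''1 : x'' ∈ K₁ := by
      rw [hm₁, hx'']
      have e : f⁻¹ * (f⁻¹ * x * f) * f = (f * f)⁻¹ * x * (f * f) := by group
      rw [e, ← hfi, inv_inv]
      exact (hm₂ x).mp hx2
    have c1 : x'' * x * x''⁻¹ * x⁻¹ ∈ K := (hKmem _).mpr
      ⟨comm_mem_left K₀ T hTK₀ _ _ hx''0 hxT, comm_mem_left K₁ T hTK₁ _ _ hx''1 hxT,
        comm_mem_right K₂ T hTK₂ _ _ hx''T hx2⟩
    have c2 : x' * x * x'⁻¹ * x⁻¹ ∈ K := (hKmem _).mpr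
      ⟨comm_mem_left K₀ T hTK₀ _ _ hx'0 hxT, comm_mem_right K₁ T hTK₁ _ _ hx'T hx1,
        comm_mem_left K₂ T hTK₂ _ _ hx'2 hxT⟩
    have c3 : x'' * x' * x''⁻¹ * x'⁻¹ ∈ K := (hKmem _).mpr
      ⟨comm_mem_left K₀ T hTK₀ _ _ hx''0 hx'T, comm_mem_left K₁ T hTK₁ _ _ hx''1 hx'T,
        comm_mem_right K₂ T hTK₂ _ _ hx''T hx'2⟩
    obtain ⟨y, hy⟩ : ∃ y, y = x * x' * x'' := ⟨_, rfl⟩
    have hyT : y ∈ T := by
      rw [hy]
      exact T.mul_mem (T.mul_mem hxT hx'T) hx''T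
    have hfy : f * y * f⁻¹ * y⁻¹ ∈ K := by
      have e : f * y * f⁻¹ * y⁻¹ =
          x' * (x'' * x * x''⁻¹ * x⁻¹) * x'⁻¹ * (x' * x * x'⁻¹ * x⁻¹) := by
        have e1 : f * y * f⁻¹ = (f * x * f⁻¹) * (f * x' * f⁻¹) * (f * x'' * f⁻¹) := by
          rw [hy]
          group
        have e2 : f * x' * f⁻¹ = x'' := by
          rw [hx', hx'']
          have e3 : f * (f * x * f⁻¹) * f⁻¹ = (f * f) * x * (f * f)⁻¹ := by group
          rw [e3, ← hfi, inv_inv]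
        have e4 : f * x'' * f⁻¹ = x := by
          rw [hx'']
          group
        rw [e1, e2, e4, ← hx', hy]
        group
      rw [e]
      exact K.mul_mem (conj_mem_of_normalizer K x' (hTK hx'T) _ c1) c2
    have hτy : τ * y * τ⁻¹ * y⁻¹ ∈ K := by
      obtain ⟨d, hd⟩ : ∃ d, d = τ * x * τ⁻¹ * x⁻¹ := ⟨_, rfl⟩
      have hdK : d ∈ K := by
        rw [hd]
        exact (hKmem _).mpr ⟨hτK x hxT, K₁.mul_mem (hτK₂₁ x hx2) (K₁.inv_mem hx1),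
          K₂.mul_mem (hτK₁₂ x hx1) (K₂.inv_mem hx2)⟩
      have hτx : τ * x * τ⁻¹ = d * x := by
        rw [hd]
        group
      obtain ⟨d₁, hd₁⟩ : ∃ d₁, d₁ = f * d * f⁻¹ := ⟨_, rfl⟩
      obtain ⟨d₂, hd₂⟩ : ∃ d₂, d₂ = f⁻¹ * d * f := ⟨_, rfl⟩
      have hd₁K : d₁ ∈ K := by
        rw [hd₁]
        exact conj_mem_of_normalizer K f hfK d hdK
      have hd₂K : d₂ ∈ K := by
        rw [hd₂]
        exact conj_mem_of_normalizer' K f hfK d hdK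
      have hτx' : τ * x' * τ⁻¹ = d₂ * x'' := by
        rw [hx', hx'', hd₂]
        calc τ * (f * x * f⁻¹) * τ⁻¹
            = (τ * f * τ⁻¹) * (τ * x * τ⁻¹) * (τ * f * τ⁻¹)⁻¹ := by group
          _ = f⁻¹ * (d * x) * f := by rw [hτf, hτx, inv_inv]
          _ = (f⁻¹ * d * f) * (f⁻¹ * x * f) := by group
      have hτx'' : τ * x'' * τ⁻¹ = d₁ * x' := by
        rw [hx', hx'', hd₁]
        calc τ * (f⁻¹ * x * f) * τ⁻¹
            = (τ * f * τ⁻¹)⁻¹ * (τ * x * τ⁻¹) * (τ * f * τ⁻¹) := by group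
          _ = f * (d * x) * f⁻¹ := by rw [hτf, hτx, inv_inv]
          _ = (f * d * f⁻¹) * (f * x * f⁻¹) := by group
      have e0 : τ * y * τ⁻¹ * y⁻¹ = d * (x * d₂ * x⁻¹) * ((x * x'') * d₁ * (x * x'')⁻¹) *
          (x * (x'' * x' * x''⁻¹ * x'⁻¹) * x⁻¹) := by
        have e1 : τ * y * τ⁻¹ = (τ * x * τ⁻¹) * (τ * x' * τ⁻¹) * (τ * x'' * τ⁻¹) := by
          rw [hy]
          group
        rw [e1, hτx, hτx', hτx'', hy]
        group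
      rw [e0]
      exact K.mul_mem (K.mul_mem (K.mul_mem hdK (conj_mem_of_normalizer K x (hTK hxT) _ hd₂K))
        (conj_mem_of_normalizer K _ (hTK (T.mul_mem hxT hx''T)) _ hd₁K))
        (conj_mem_of_normalizer K x (hTK hxT) _ c3)
    have hyK : y ∈ K := fpf_coset f τ hf3 hτ2 hτf T K hKT hfK hτKn
      (Nat.Coprime.coprime_dvd_left (Subgroup.card_dvd_of_le hKT) hT6)
      (Group.isSolvable_of_isSolvable_injective (Subgroup.inclusion_injective hKT)) hfpf y hyT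
      hfy hτy
    have e : x = y * x''⁻¹ * x'⁻¹ := by
      rw [hy]
      group
    rw [e]
    exact K₀.mul_mem (K₀.mul_mem ((hKmem y).mp hyK).1 (K₀.inv_mem hx''0)) (K₀.inv_mem hx'0)
  intro x hx y hy
  obtain ⟨a, ha, b, hb, rfl⟩ := L1 x hx
  obtain ⟨a', ha', c, hc, rfl⟩ := L1' y hy
  have hbT := hK₁T hb
  have hcT := hK₂T hc
  have e : a * b * (a' * c) * (a * b)⁻¹ * (a' * c)⁻¹ =
      a * (b * a' * b⁻¹) * (b * c * b⁻¹ * c⁻¹) * (c * a⁻¹ * c⁻¹) * a'⁻¹ := by group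
  rw [e]
  refine K₀.mul_mem (K₀.mul_mem (K₀.mul_mem (K₀.mul_mem ha ?_) ?_) ?_) (K₀.inv_mem ha')
  · exact conj_mem_of_normalizer K₀ b (hTK₀ hbT) a' ha'
  · exact L2 _ (comm_mem_left K₁ T hTK₁ b c hb hcT) (comm_mem_right K₂ T hTK₂ b c hbT hc)
  · exact conj_mem_of_normalizer K₀ c (hTK₀ hcT) _ (K₀.inv_mem ha)

/-- The pointwise stabilizer in `T` of a set of vectors. -/
def fixSet (ρ : Γ →* Module.End K V) (X : Set V) (T : Subgroup Γ) : Subgroup Γ where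
  carrier := {g | g ∈ T ∧ ∀ v ∈ X, ρ g v = v}
  one_mem' := ⟨T.one_mem, fun v _ => by simp⟩
  mul_mem' := by
    rintro g h ⟨hg, hg'⟩ ⟨hh, hh'⟩
    refine ⟨T.mul_mem hg hh, fun v hv => ?_⟩
    rw [rho_mul, hh' v hv, hg' v hv]
  inv_mem' := by
    rintro g ⟨hg, hg'⟩
    refine ⟨T.inv_mem hg, fun v hv => ?_⟩
    have h1 := rho_inv_apply ρ g v
    rwa [hg' v hv] at h1

theorem fixSet_norm (ρ : Γ →* Module.End K V) (X : Set V) (T : Subgroup Γ)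
    (hXT : ∀ x ∈ T, ∀ v ∈ X, ρ x v ∈ X) :
    T ≤ Subgroup.normalizer ((fixSet ρ X T : Subgroup Γ) : Set Γ) := by
  intro x hx
  apply mem_normalizer_of_conj
  · rintro g ⟨hg, hg'⟩
    refine ⟨T.mul_mem (T.mul_mem hx hg) (T.inv_mem hx), fun v hv => ?_⟩
    rw [rho_mul, rho_mul, hg' _ (hXT _ (T.inv_mem hx) v hv), rho_apply_inv]
  · rintro g ⟨hg, hg'⟩
    refine ⟨T.mul_mem (T.mul_mem (T.inv_mem hx) hg) hx, fun v hv => ?_⟩
    rw [rho_mul, rho_mul, hg' _ (hXT _ hx v hv), rho_inv_apply]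

/-- The weight space. -/
def wtSpace (ρ : Γ →* Module.End K V) (M : Submodule K V) (Z : Subgroup Γ) (μ : Γ → K) :
    Submodule K V where
  carrier := {w | w ∈ M ∧ ∀ z ∈ Z, ρ z w = μ z • w}
  add_mem' := by
    rintro a b ⟨ha, ha'⟩ ⟨hb, hb'⟩
    refine ⟨M.add_mem ha hb, fun z hz => ?_⟩
    rw [map_add, ha' z hz, hb' z hz, smul_add]
  zero_mem' := ⟨M.zero_mem, fun z _ => by simp⟩
  smul_mem' := by
    rintro c a ⟨ha, ha'⟩
    refine ⟨M.smul_mem c ha, fun z hz => ?_⟩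
    rw [map_smul, ha' z hz, smul_comm]

theorem mem_wtSpace (ρ : Γ →* Module.End K V) (M : Submodule K V) (Z : Subgroup Γ) (μ : Γ → K)
    (w : V) : w ∈ wtSpace ρ M Z μ ↔ w ∈ M ∧ ∀ z ∈ Z, ρ z w = μ z • w := Iff.rfl

/-- The center of a subgroup. -/
def centerOf (T : Subgroup Γ) : Subgroup Γ where
  carrier := {z | z ∈ T ∧ ∀ x ∈ T, x * z = z * x}
  one_mem' := ⟨T.one_mem, fun x _ => by simp⟩
  mul_mem' := by
    rintro a b ⟨ha, ha'⟩ ⟨hb, hb'⟩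
    refine ⟨T.mul_mem ha hb, fun x hx => ?_⟩
    rw [← mul_assoc, ha' x hx, mul_assoc, hb' x hx, mul_assoc]
  inv_mem' := by
    rintro a ⟨ha, ha'⟩
    refine ⟨T.inv_mem ha, fun x hx => ?_⟩
    calc x * a⁻¹ = a⁻¹ * (a * x) * a⁻¹ := by group
      _ = a⁻¹ * (x * a) * a⁻¹ := by rw [ha' x hx]
      _ = a⁻¹ * x := by group

theorem centerOf_norm (T : Subgroup Γ) (g : Γ) (hg : g ∈ Subgroup.normalizer (T : Set Γ)) :
    g ∈ Subgroup.normalizer ((centerOf T : Subgroup Γ) : Set Γ) := by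
  have key : ∀ g : Γ, g ∈ Subgroup.normalizer (T : Set Γ) →
      ∀ z ∈ centerOf T, g * z * g⁻¹ ∈ centerOf T := by
    rintro g hg z ⟨hz, hz'⟩
    refine ⟨conj_mem_of_normalizer T g hg z hz, fun x hx => ?_⟩
    have h1 := hz' _ (conj_mem_of_normalizer' T g hg x hx)
    calc x * (g * z * g⁻¹) = g * ((g⁻¹ * x * g) * z) * g⁻¹ := by group
      _ = g * (z * (g⁻¹ * x * g)) * g⁻¹ := by rw [h1]
      _ = g * z * g⁻¹ * x := by group
  apply mem_normalizer_of_conj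
  · exact key g hg
  · intro z hz
    have h := key g⁻¹ (inv_mem hg) z hz
    rwa [inv_inv] at h

end

namespace S3Ctx

variable {K : Type*} [Field K] {V : Type*} [AddCommGroup V] [Module K V]
  {Γ : Type*} [Group Γ] (C : S3Ctx K V Γ)

/-- If `τ` negates a `T`-stable set `X` of vectors, then `[T, T]` fixes `X` pointwise. -/
theorem tri_apply [Finite Γ] (T : Subgroup Γ) (hTN : T ≤ C.N)
    (hfT : C.f ∈ Subgroup.normalizer (T : Set Γ)) (hτT : C.τ ∈ Subgroup.normalizer (T : Set Γ))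
    (X : Set V) (hXT : ∀ x ∈ T, ∀ v ∈ X, C.ρ x v ∈ X) (hτX : ∀ v ∈ X, C.ρ C.τ v = -v) :
    ∀ z ∈ ⁅T, T⁆, ∀ v ∈ X, C.ρ z v = v := by
  have hτK : ∀ x ∈ T, C.τ * x * C.τ⁻¹ * x⁻¹ ∈ fixSet C.ρ X T := by
    intro x hx
    refine ⟨T.mul_mem (conj_mem_of_normalizer T C.τ hτT x hx) (T.inv_mem hx), fun v hv => ?_⟩
    have h1 : C.ρ x⁻¹ v ∈ X := hXT _ (T.inv_mem hx) v hv
    rw [rho_mul, rho_mul, rho_mul, C.hτi, hτX _ h1, map_neg, rho_apply_inv, map_neg, hτX v hv,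
      neg_neg]
  have h := tri C.f C.τ C.hf3 C.hτ2 C.hτf T (fixSet C.ρ X T) hfT (C.sub_cop6 T hTN)
    (C.sub_sol T hTN) (fun n hn => C.hfpf n (hTN hn)) (fun g hg => hg.1)
    (fixSet_norm C.ρ X T hXT) hτK
  have hle : ⁅T, T⁆ ≤ fixSet C.ρ X T := by
    rw [Subgroup.commutator_le]
    intro a ha b hb
    exact h a ha b hb
  intro z hz v hv
  exact (hle hz).2 v hv

theorem exists_fix' [Finite Γ] (Z : Subgroup Γ)
    (hfZ : C.f ∈ Subgroup.normalizer (Z : Set Γ)) (hτZ : C.τ ∈ Subgroup.normalizer (Z : Set Γ))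
    (μ : Γ → K) (w : V) (hw : WtV C.ρ C.M₀ Z μ w) :
    Fx Z C.f μ ∨ ∃ i : ℕ, Fx Z (C.τ * C.f ^ i) μ :=
  exists_fix C.ρ C.M₀ C.f C.τ C.hf3 C.hτ2 C.hτf C.hMf C.hMτ C.hfix Z hfZ hτZ μ w hw

/-- The prime of a nontrivial `t`-subgroup of `N` is prime to `6`. -/
theorem prime_cop [Finite Γ] (T : Subgroup Γ) (hTN : T ≤ C.N) (t : ℕ) (ht : t.Prime)
    (hT : IsPGroup t T) (hTne : T ≠ ⊥) : t.Coprime 6 := by
  have htF : Fact t.Prime := ⟨ht⟩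
  obtain ⟨k, hk⟩ := IsPGroup.iff_card.mp hT
  have hk0 : k ≠ 0 := by
    rintro rfl
    rw [pow_zero] at hk
    exact hTne (Subgroup.card_eq_one.mp hk)
  have h1 : t ∣ Nat.card T := by
    rw [hk]
    exact dvd_pow_self t hk0
  exact Nat.Coprime.coprime_dvd_left (h1.trans (Subgroup.card_dvd_of_le hTN)) C.hN6

/-- The norm of `y` under `⟨f⟩`. -/
def nF (y : Γ) : Γ := y * (C.f * y * C.f⁻¹) * (C.f * (C.f * y * C.f⁻¹) * C.f⁻¹)

theorem nF_mem (Q : Subgroup Γ) (hfQ : C.f ∈ Subgroup.normalizer (Q : Set Γ)) (y : Γ)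
    (hy : y ∈ Q) : C.nF y ∈ Q :=
  Q.mul_mem (Q.mul_mem hy (conj_mem_of_normalizer Q C.f hfQ y hy))
    (conj_mem_of_normalizer Q C.f hfQ _ (conj_mem_of_normalizer Q C.f hfQ y hy))

theorem nF_comm (Q : Subgroup Γ) (hQc : ∀ a ∈ Q, ∀ b ∈ Q, a * b = b * a)
    (hfQ : C.f ∈ Subgroup.normalizer (Q : Set Γ)) (y : Γ) (hy : y ∈ Q) :
    C.f * C.nF y = C.nF y * C.f := by
  obtain ⟨y₁, hy₁⟩ : ∃ y₁, y₁ = C.f * y * C.f⁻¹ := ⟨_, rfl⟩
  obtain ⟨y₂, hy₂⟩ : ∃ y₂, y₂ = C.f * y₁ * C.f⁻¹ := ⟨_, rfl⟩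
  have hy₁Q : y₁ ∈ Q := by
    rw [hy₁]
    exact conj_mem_of_normalizer Q C.f hfQ y hy
  have hy₂Q : y₂ ∈ Q := by
    rw [hy₂]
    exact conj_mem_of_normalizer Q C.f hfQ y₁ hy₁Q
  have h3 : C.f * y₂ * C.f⁻¹ = y := by
    rw [hy₂, hy₁]
    have e : C.f * (C.f * (C.f * y * C.f⁻¹) * C.f⁻¹) * C.f⁻¹ =
        (C.f * C.f * C.f) * y * (C.f * C.f * C.f)⁻¹ := by
      group
    rw [e, C.hfff]
    group
  have hn : C.nF y = y * y₁ * y₂ := by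
    rw [hy₂, hy₁]
    rfl
  rw [hn]
  calc C.f * (y * y₁ * y₂)
      = (C.f * y * C.f⁻¹) * (C.f * y₁ * C.f⁻¹) * (C.f * y₂ * C.f⁻¹) * C.f := by group
    _ = y₁ * y₂ * y * C.f := by rw [← hy₁, ← hy₂, h3]
    _ = y * y₁ * y₂ * C.f := by
        rw [hQc (y₁ * y₂) (Q.mul_mem hy₁Q hy₂Q) y hy, ← mul_assoc y y₁ y₂]

theorem nF_wt (Q : Subgroup Γ) (hfQ : C.f ∈ Subgroup.normalizer (Q : Set Γ)) (μ : Γ → K)
    (w : V) (hw : WtV C.ρ C.M₀ Q μ w) (hfx : Fx Q C.f μ) (y : Γ) (hy : y ∈ Q) :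
    μ (C.nF y) = μ y ^ 3 := by
  have hy₁Q := conj_mem_of_normalizer Q C.f hfQ y hy
  have hy₂Q := conj_mem_of_normalizer Q C.f hfQ _ hy₁Q
  unfold nF
  rw [wt_mul C.ρ C.M₀ Q μ w hw _ _ (Q.mul_mem hy hy₁Q) hy₂Q,
    wt_mul C.ρ C.M₀ Q μ w hw _ _ hy hy₁Q, Fx_conj Q μ C.f hfQ hfx _ hy₁Q,
    Fx_conj Q μ C.f hfQ hfx y hy]
  ring

theorem nF_conj (x y : Γ) (hxf : C.f * x = x * C.f) :
    C.nF (x * y * x⁻¹) = x * C.nF y * x⁻¹ := by
  have h1 : ∀ g : Γ, C.f * (x * g * x⁻¹) * C.f⁻¹ = x * (C.f * g * C.f⁻¹) * x⁻¹ := by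
    intro g
    calc C.f * (x * g * x⁻¹) * C.f⁻¹ = (C.f * x) * g * (C.f * x)⁻¹ := by group
      _ = (x * C.f) * g * (x * C.f)⁻¹ := by rw [hxf]
      _ = x * (C.f * g * C.f⁻¹) * x⁻¹ := by group
  unfold nF
  rw [h1, h1]
  group

end S3Ctx

end Cfsg.Agent.Lib.helper66
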