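import Mathlib
import Cfsg.Agent.Lib.helper66.S3E

set_option autoImplicit false

namespace Cfsg.Agent.Lib.helper66

namespace S3Ctx

variable {K : Type*} [Field K] {V : Type*} [AddCommGroup V] [Module K V]
  {Γ : Type*} [Group Γ] (C : S3Ctx K V Γ)

/-- The centralizer of `f` in a `t`-subgroup `T` of `N` centralizes every abelian normal
invariant subgroup `T₁` of `T`. -/
theorem linX_key [IsAlgClosed K] [FiniteDimensional K V] [Finite Γ] (t : ℕ) (ht : t.Prime)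
    (htK : (t : K) ≠ 0) (T : Subgroup Γ) (hTN : T ≤ C.N) (hT : IsPGroup t T)
    (T₁ : Subgroup Γ) (hT₁T : T₁ ≤ T) (hTT₁ : T ≤ Subgroup.normalizer (T₁ : Set Γ))
    (hfT₁ : C.f ∈ Subgroup.normalizer (T₁ : Set Γ))
    (hτT₁ : C.τ ∈ Subgroup.normalizer (T₁ : Set Γ))
    (hT₁ab : ∀ x ∈ T₁, ∀ y ∈ T₁, x * y = y * x) :
    ∀ x₀ ∈ T, C.f * x₀ = x₀ * C.f → ∀ y₀ ∈ T₁, x₀ * y₀ = y₀ * x₀ := by
  intro x₀ hx₀ hx₀f y₀ hy₀
  by_contra hne0
  have htF : Fact t.Prime := ⟨ht⟩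
  have hT₁N : T₁ ≤ C.N := hT₁T.trans hTN
  have hx₀N : x₀ ∈ C.N := hTN hx₀
  have hx₀n : x₀ ∈ Subgroup.normalizer (T₁ : Set Γ) := hTT₁ hx₀
  obtain ⟨z₀, hz₀⟩ : ∃ z₀, z₀ = x₀ * y₀ * x₀⁻¹ * y₀⁻¹ := ⟨_, rfl⟩
  have hy₀' : x₀ * y₀ * x₀⁻¹ ∈ T₁ := conj_mem_of_normalizer T₁ x₀ hx₀n y₀ hy₀
  have hz₀T₁ : z₀ ∈ T₁ := by
    rw [hz₀]
    exact T₁.mul_mem hy₀' (T₁.inv_mem hy₀)
  have hz₀1 : z₀ ≠ 1 := by
    intro h
    apply hne0
    rw [hz₀] at h
    calc x₀ * y₀ = (x₀ * y₀ * x₀⁻¹ * y₀⁻¹) * (y₀ * x₀) := by group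
      _ = y₀ * x₀ := by rw [h, one_mul]
  have hTne : T ≠ ⊥ := by
    intro h
    apply hz₀1
    have h1 := hT₁T hz₀T₁
    rw [h, Subgroup.mem_bot] at h1
    exact h1
  have ht6 : t.Coprime 6 := C.prime_cop T hTN t ht hT hTne
  have ht3 : (3 : ℕ).Coprime t := (Nat.Coprime.coprime_dvd_right (by norm_num) ht6).symm
  have hnt : ∃ w ∈ C.M₀, C.ρ z₀ w ≠ w := by
    by_contra h
    push Not at h
    exact hz₀1 (C.hfaith z₀ (hT₁N hz₀T₁) h)
  obtain ⟨e, he⟩ := pgroup_pow T t hT z₀ (hT₁T hz₀T₁)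
  obtain ⟨μ, w, hwM, hw0, hwT₁, hμz₀⟩ := exists_joint_eigen C.ρ C.M₀ T₁
    (fun z hz w hw => C.hMN z (hT₁N hz) w hw)
    (fun z hz z' hz' w _ => by rw [hT₁ab z hz z' hz']) z₀ hz₀T₁ (t ^ e)
    (by rw [Nat.cast_pow]; exact pow_ne_zero e htK) he hnt
  have hwt : WtV C.ρ C.M₀ T₁ μ w := ⟨hwM, hw0, hwT₁⟩
  have hμz : μ z₀ = μ (x₀ * y₀ * x₀⁻¹) * (μ y₀)⁻¹ := by
    rw [hz₀, wt_mul C.ρ C.M₀ T₁ μ w hwt _ _ hy₀' (T₁.inv_mem hy₀),
      wt_inv C.ρ C.M₀ T₁ μ w hwt y₀ hy₀]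
  have hμy₀ : μ y₀ ≠ 0 := wt_ne_zero C.ρ C.M₀ T₁ μ w hwt y₀ hy₀
  by_cases hfx : Fx T₁ C.f μ
  · have h1 : C.nF (x₀ * y₀ * x₀⁻¹) = C.nF y₀ := by
      rw [C.nF_conj x₀ y₀ hx₀f]
      have h2 : x₀ * C.nF y₀ = C.nF y₀ * x₀ := C.cent_comm x₀ (C.nF y₀) hx₀N
        (hT₁N (C.nF_mem T₁ hfT₁ y₀ hy₀)) hx₀f (C.nF_comm T₁ hT₁ab hfT₁ y₀ hy₀)
      rw [h2]
      group
    have h2 := congrArg μ h1
    rw [C.nF_wt T₁ hfT₁ μ w hwt hfx _ hy₀', C.nF_wt T₁ hfT₁ μ w hwt hfx y₀ hy₀] at h2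
    have h3 : μ z₀ ^ 3 = 1 := by
      rw [hμz, mul_pow, h2, inv_pow, mul_inv_cancel₀ (pow_ne_zero 3 hμy₀)]
    exact hμz₀ (wt_eq_one_of_pow C.ρ C.M₀ T₁ μ w hwt z₀ hz₀T₁ 3 (t ^ e) h3 he
      (Nat.Coprime.pow_right e ht3))
  · rcases C.exists_fix' T₁ hfT₁ hτT₁ μ w hwt with h | ⟨i, hi⟩
    · exact hfx h
    have hwt' : WtV C.ρ C.M₀ T₁ (cw μ x₀) (C.ρ x₀ w) :=
      wt_conj C.ρ C.M₀ T₁ μ w hwt x₀ hx₀n (C.hMN x₀ hx₀N)
    have hfx' : ¬ Fx T₁ C.f (cw μ x₀) := by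
      rw [Fx_cw T₁ μ C.f x₀ hx₀n]
      have e1 : x₀⁻¹ * C.f * x₀ = C.f := by
        rw [mul_assoc, hx₀f]
        group
      rw [e1]
      exact hfx
    rcases C.exists_fix' T₁ hfT₁ hτT₁ (cw μ x₀) _ hwt' with h | ⟨j, hj⟩
    · exact hfx' h
    rw [Fx_cw T₁ μ _ x₀ hx₀n] at hj
    obtain ⟨σ, hσ⟩ : ∃ σ, σ = C.τ * C.f ^ i := ⟨_, rfl⟩
    obtain ⟨σ', hσ'⟩ : ∃ σ', σ' = C.τ * C.f ^ j := ⟨_, rfl⟩
    rw [← hσ] at hi
    rw [← hσ'] at hj
    have hσn : σ ∈ Subgroup.normalizer (T₁ : Set Γ) := by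
      rw [hσ]
      exact Subgroup.mul_mem _ hτT₁ (Subgroup.pow_mem _ hfT₁ i)
    have hσx : σ * x₀ * σ⁻¹ = x₀⁻¹ := by
      rw [hσ]
      exact C.cent_inv i x₀ hx₀N hx₀f
    have hσ'x : σ' * x₀ * σ'⁻¹ = x₀⁻¹ := by
      rw [hσ']
      exact C.cent_inv j x₀ hx₀N hx₀f
    have hg : Fx T₁ (σ * (x₀⁻¹ * σ' * x₀)) μ := Fx_mul T₁ μ _ _ hσn hi hj
    obtain ⟨f', hf'⟩ : ∃ f', f' = σ * σ' := ⟨_, rfl⟩
    have hσ'x2 : σ' * x₀ = x₀⁻¹ * σ' := by
      calc σ' * x₀ = (σ' * x₀ * σ'⁻¹) * σ' := by group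
        _ = x₀⁻¹ * σ' := by rw [hσ'x]
    have hσx2 : σ * x₀⁻¹ = x₀ * σ := by
      calc σ * x₀⁻¹ = (σ * x₀ * σ⁻¹)⁻¹ * σ := by group
        _ = x₀ * σ := by rw [hσx, inv_inv]
    have hgeq : σ * (x₀⁻¹ * σ' * x₀) = (x₀ * x₀) * f' := by
      calc σ * (x₀⁻¹ * σ' * x₀) = σ * x₀⁻¹ * (σ' * x₀) := by group
        _ = σ * x₀⁻¹ * (x₀⁻¹ * σ') := by rw [hσ'x2]
        _ = (σ * x₀⁻¹) * x₀⁻¹ * σ' := by group
        _ = x₀ * σ * x₀⁻¹ * σ' := by rw [hσx2]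
        _ = x₀ * (σ * x₀⁻¹) * σ' := by group
        _ = x₀ * (x₀ * σ) * σ' := by rw [hσx2]
        _ = (x₀ * x₀) * f' := by
          rw [hf']
          group
    have hf'eq : f' = (C.f ^ i)⁻¹ * C.f ^ j := by
      rw [hf', hσ, hσ']
      calc (C.τ * C.f ^ i) * (C.τ * C.f ^ j)
          = (C.τ * C.f ^ i * C.τ⁻¹) * (C.τ * C.τ) * C.f ^ j := by group
        _ = (C.f ^ i)⁻¹ * C.f ^ j := by rw [tau_conj_pow C.f C.τ C.hτf i, C.hτ2, mul_one]
    have hf'z : f' ∈ Subgroup.zpowers C.f := by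
      rw [hf'eq]
      exact Subgroup.mul_mem _
        (Subgroup.inv_mem _ (Subgroup.pow_mem _ (Subgroup.mem_zpowers _) i))
        (Subgroup.pow_mem _ (Subgroup.mem_zpowers _) j)
    rw [hgeq] at hg
    have hcm : (x₀ * x₀) ^ Nat.card C.N = 1 := C.pow_card _ (C.N.mul_mem hx₀N hx₀N)
    have hcomm : Commute C.f x₀ := hx₀f
    rcases zpowers3 C.f C.hf3 f' hf'z with h | h | h
    · rw [h, mul_one] at hg
      obtain ⟨k, hk⟩ := sqrt_odd x₀ (Nat.card C.N) (C.pow_card x₀ hx₀N) C.card_cop2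
      have hx₀fx : Fx T₁ x₀ μ := by
        rw [hk]
        exact Fx_pow T₁ μ _ (Subgroup.mul_mem _ hx₀n hx₀n) hg k
      apply hμz₀
      rw [hμz, Fx_conj T₁ μ x₀ hx₀n hx₀fx y₀ hy₀]
      exact mul_inv_cancel₀ hμy₀
    · rw [h] at hg
      obtain ⟨k, hk⟩ := exists_pow_eq_of_comm C.f (x₀ * x₀) C.hf3
        (hcomm.mul_right hcomm).eq.symm (Nat.card C.N) hcm C.card_cop3
      apply hfx
      rw [← hk]
      exact Fx_pow T₁ μ _ (Subgroup.mul_mem _ (Subgroup.mul_mem _ hx₀n hx₀n) hfT₁) hg k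
    · rw [h] at hg
      obtain ⟨k, hk⟩ := exists_pow_eq_of_comm C.f⁻¹ (x₀ * x₀) (by rw [inv_pow, C.hf3, inv_one])
        (hcomm.inv_left.mul_right hcomm.inv_left).eq.symm (Nat.card C.N) hcm C.card_cop3
      apply hfx
      apply Fx_inv' T₁ μ C.f hfT₁
      rw [← hk]
      exact Fx_pow T₁ μ _
        (Subgroup.mul_mem _ (Subgroup.mul_mem _ hx₀n hx₀n) (inv_mem hfT₁)) hg k

/-- **Linear lemma X.**  Every `f`, `τ`-invariant `t`-subgroup of `N` (`t` different from the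
characteristic) is abelian. -/
theorem linX [IsAlgClosed K] [FiniteDimensional K V] [Finite Γ] (t : ℕ) (ht : t.Prime)
    (htK : (t : K) ≠ 0) :
    ∀ n : ℕ, ∀ T : Subgroup Γ, Nat.card T = n → T ≤ C.N → IsPGroup t T →
      C.f ∈ Subgroup.normalizer (T : Set Γ) → C.τ ∈ Subgroup.normalizer (T : Set Γ) →
      ∀ x ∈ T, ∀ y ∈ T, x * y = y * x := by
  have htF : Fact t.Prime := ⟨ht⟩
  intro n
  induction n using Nat.strong_induction_on with
  | _ n ih =>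
    intro T hn hTN hT hfT hτT
    by_contra hnab
    have hTne : T ≠ ⊥ := by
      intro h
      apply hnab
      intro x hx y hy
      rw [h, Subgroup.mem_bot] at hx hy
      rw [hx, hy]
    have ht6 : t.Coprime 6 := C.prime_cop T hTN t ht hT hTne
    have hcomF : comF C.f T = T := by
      by_contra hne
      obtain ⟨T₁, hT₁⟩ : ∃ T₁ : Subgroup Γ, T₁ = comF C.f T := ⟨_, rfl⟩
      have hT₁T : T₁ ≤ T := by
        rw [hT₁]
        exact comF_le C.f T hfT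
      have hfT₁ : C.f ∈ Subgroup.normalizer (T₁ : Set Γ) := by
        rw [hT₁]
        exact comF_norm_f C.f T hfT
      have hτT₁ : C.τ ∈ Subgroup.normalizer (T₁ : Set Γ) := by
        rw [hT₁]
        exact comF_norm_inv C.f C.τ T hτT hfT C.hτf
      have hTT₁ : T ≤ Subgroup.normalizer (T₁ : Set Γ) := by
        rw [hT₁]
        exact comF_norm_self C.f T
      have hlt : Nat.card T₁ < n := by
        rw [← hn]
        by_contra hge
        push Not at hge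
        apply hne
        rw [← hT₁]
        exact Subgroup.eq_of_le_of_card_ge hT₁T hge
      have hT₁ab := ih _ hlt T₁ rfl (hT₁T.trans hTN) (hT.to_le hT₁T) hfT₁ hτT₁
      have key := C.linX_key t ht htK T hTN hT T₁ hT₁T hTT₁ hfT₁ hτT₁ hT₁ab
      apply hnab
      intro x hx y hy
      have hd := decomp_f C.f T C.hf3 hfT (C.not_three_dvd T hTN)
      rw [← hT₁] at hd
      obtain ⟨p, hp, c, hc, hcf, rfl⟩ := hd x hx
      obtain ⟨p', hp', c', hc', hc'f, rfl⟩ := hd y hy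
      have h1 : p * p' = p' * p := hT₁ab p hp p' hp'
      have h2 : c * c' = c' * c := C.cent_comm c c' (hTN hc) (hTN hc') hcf hc'f
      have h3 : c * p' = p' * c := key c hc hcf p' hp'
      have h4 : c' * p = p * c' := key c' hc' hc'f p hp
      calc p * c * (p' * c') = p * (c * p') * c' := by group
        _ = p * (p' * c) * c' := by rw [h3]
        _ = (p * p') * (c * c') := by group
        _ = (p' * p) * (c' * c) := by rw [h1, h2]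
        _ = p' * (p * c') * c := by group
        _ = p' * (c' * p) * c := by rw [h4]
        _ = p' * c' * (p * c) := by group
    obtain ⟨Z, hZ⟩ : ∃ Z : Subgroup Γ, Z = centerOf T := ⟨_, rfl⟩
    have hZmem : ∀ z, z ∈ Z ↔ z ∈ T ∧ ∀ x ∈ T, x * z = z * x := by
      intro z
      rw [hZ]
      exact Iff.rfl
    have hZT : Z ≤ T := fun z hz => ((hZmem z).mp hz).1
    have hZN : Z ≤ C.N := hZT.trans hTN
    have hfZ : C.f ∈ Subgroup.normalizer (Z : Set Γ) := by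
      rw [hZ]
      exact centerOf_norm T C.f hfT
    have hτZ : C.τ ∈ Subgroup.normalizer (Z : Set Γ) := by
      rw [hZ]
      exact centerOf_norm T C.τ hτT
    have hZc : ∀ a ∈ Z, ∀ b ∈ Z, a * b = b * a := fun a ha b hb =>
      ((hZmem b).mp hb).2 a ((hZmem a).mp ha).1
    have hDle : ⁅T, T⁆ ≤ T := by
      rw [Subgroup.commutator_le]
      intro a ha b hb
      exact T.mul_mem (T.mul_mem (T.mul_mem ha hb) (T.inv_mem ha)) (T.inv_mem hb)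
    have hDne : ⁅T, T⁆ ≠ ⊥ := by
      intro h
      rw [Subgroup.commutator_eq_bot_iff_le_centralizer] at h
      apply hnab
      intro x hx y hy
      exact (Subgroup.mem_centralizer_iff.mp (h hx) y hy).symm
    have hTD : T ≤ Subgroup.normalizer ((⁅T, T⁆ : Subgroup Γ) : Set Γ) := fun x hx =>
      normalizer_commutator T T x (Subgroup.le_normalizer hx) (Subgroup.le_normalizer hx)
    obtain ⟨z₀, hz₀D, hz₀1, hz₀c⟩ := exists_central_in_normal T ⁅T, T⁆ t ht hT hDle hDne hTD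
    have hz₀T : z₀ ∈ T := hDle hz₀D
    have hz₀Z : z₀ ∈ Z := (hZmem z₀).mpr ⟨hz₀T, hz₀c⟩
    have hnt : ∃ w ∈ C.M₀, C.ρ z₀ w ≠ w := by
      by_contra h
      push Not at h
      exact hz₀1 (C.hfaith z₀ (hTN hz₀T) h)
    obtain ⟨e, he⟩ := pgroup_pow T t hT z₀ hz₀T
    obtain ⟨lam, w₀, hw₀M, hw₀0, hw₀Z, hlam⟩ := exists_joint_eigen C.ρ C.M₀ Z
      (fun z hz w hw => C.hMN z (hZN hz) w hw)
      (fun z hz z' hz' w _ => by rw [hZc z hz z' hz']) z₀ hz₀Z (t ^ e)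
      (by rw [Nat.cast_pow]; exact pow_ne_zero e htK) he hnt
    have hwt : WtV C.ρ C.M₀ Z lam w₀ := ⟨hw₀M, hw₀0, hw₀Z⟩
    have hfin : C.ρ z₀ w₀ = w₀ → False := by
      intro h
      have hz₀w : C.ρ z₀ w₀ = lam z₀ • w₀ := hw₀Z z₀ hz₀Z
      rw [h] at hz₀w
      have h2 : (lam z₀ - 1) • w₀ = 0 := by rw [sub_smul, one_smul, ← hz₀w, sub_self]
      rcases smul_eq_zero.mp h2 with h3 | h3
      · exact hlam (sub_eq_zero.mp h3)
      · exact hw₀0 h3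
    have hXT : ∀ x ∈ T, ∀ v, WtV C.ρ C.M₀ Z lam v → WtV C.ρ C.M₀ Z lam (C.ρ x v) := by
      intro x hx v hv
      have hxn : x ∈ Subgroup.normalizer (Z : Set Γ) := by
        rw [hZ]
        exact centerOf_norm T x (Subgroup.le_normalizer hx)
      apply wt_congr C.ρ C.M₀ Z (cw lam x) lam _
        (wt_conj C.ρ C.M₀ Z lam v hv x hxn (C.hMN x (hTN hx)))
      intro z hz
      have h1 := ((hZmem z).mp hz).2 x hx
      rw [cw_apply, mul_assoc, ← h1, inv_mul_cancel_left]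
    by_cases hfx : Fx Z C.f lam
    · by_cases hτx : Fx Z C.τ lam
      · exact hlam (C.fixed_wt_trivial Z hZN hZc hfZ hτZ lam w₀ hwt hfx hτx z₀ hz₀Z)
      · obtain ⟨E, hE⟩ : ∃ E : Submodule K V, E = wtSpace C.ρ C.M₀ Z lam := ⟨_, rfl⟩
        have hEmem : ∀ v, v ∈ E ↔ v ∈ C.M₀ ∧ ∀ z ∈ Z, C.ρ z v = lam z • v := by
          intro v
          rw [hE]
          exact Iff.rfl
        have hEwt : ∀ v ∈ E, v ≠ 0 → WtV C.ρ C.M₀ Z lam v := fun v hv hv0 =>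
          ⟨((hEmem v).mp hv).1, hv0, ((hEmem v).mp hv).2⟩
        have hET : ∀ x ∈ T, ∀ v ∈ E, C.ρ x v ∈ E := by
          intro x hx v hv
          by_cases hv0 : v = 0
          · rw [hv0, map_zero]
            exact E.zero_mem
          · have h1 := hXT x hx v (hEwt v hv hv0)
            exact (hEmem _).mpr ⟨h1.1, h1.2.2⟩
        have hEf : ∀ v ∈ E, C.ρ C.f v ∈ E := by
          intro v hv
          by_cases hv0 : v = 0
          · rw [hv0, map_zero]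
            exact E.zero_mem
          · have h1 := wt_conj C.ρ C.M₀ Z lam v (hEwt v hv hv0) C.f hfZ C.hMf
            refine (hEmem _).mpr ⟨h1.1, fun z hz => ?_⟩
            rw [h1.2.2 z hz, cw_apply, hfx z hz]
        have hnofix : ∀ v ∈ E, C.ρ C.f v = v → v = 0 := by
          intro v hv hfv
          by_contra hv0
          exact C.nofix_of_not_tau Z hτZ lam v (hEwt v hv hv0) hτx hfv
        have hp2 := p2_three C.ρ E C.f C.hf3 C.h3K hEf hnofix t ht ht6 htK (Nat.card T) T rfl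
          hT hfT hET
        have hker : comF C.f T ≤ kerMod C.ρ E T := by
          unfold comF
          rw [Subgroup.closure_le]
          rintro _ ⟨y, hy, rfl⟩
          show _ ∈ kerMod C.ρ E T
          rw [mem_kerMod]
          refine ⟨T.mul_mem (conj_mem_of_normalizer T C.f hfT y hy) (T.inv_mem hy),
            fun v hv => ?_⟩
          rw [rho_mul, hp2 y hy _ (hET _ (T.inv_mem hy) v hv), rho_apply_inv]
        rw [hcomF] at hker
        have hw₀E : w₀ ∈ E := (hEmem w₀).mpr ⟨hw₀M, hw₀Z⟩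
        exact hfin (((mem_kerMod C.ρ E T z₀).mp (hker hz₀T)).2 w₀ hw₀E)
    · rcases C.exists_fix' Z hfZ hτZ lam w₀ hwt with h | ⟨i, hi⟩
      · exact hfx h
      have hτ'T : (C.twist i).τ ∈ Subgroup.normalizer (T : Set Γ) :=
        Subgroup.mul_mem _ hτT (Subgroup.pow_mem _ hfT i)
      have hτ'Z : (C.twist i).τ ∈ Subgroup.normalizer (Z : Set Γ) :=
        Subgroup.mul_mem _ hτZ (Subgroup.pow_mem _ hfZ i)
      have hneg : ∀ v, WtV C.ρ C.M₀ Z lam v → C.ρ (C.τ * C.f ^ i) v = -v := fun v hv =>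
        (C.twist i).tau_neg Z hfZ hτ'Z lam v hv hi hfx
      have h := (C.twist i).tri_apply T hTN hfT hτ'T {v | WtV C.ρ C.M₀ Z lam v}
        (fun x hx v hv => hXT x hx v hv) (fun v hv => hneg v hv) z₀ hz₀D w₀ hwt
      exact hfin h

end S3Ctx

end Cfsg.Agent.Lib.helper66
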