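import Mathlib
import Cfsg.Agent.Lib.helper66.S3F

set_option autoImplicit false

namespace Cfsg.Agent.Lib.helper66

section

variable {K : Type*} [Field K] {V : Type*} [AddCommGroup V] [Module K V]
  {Γ : Type*} [Group Γ]

/-- The stabilizer of a weight of `Z` in the normalizer of `Z`. -/
def stabW (Z : Subgroup Γ) (μ : Γ → K) : Subgroup Γ where
  carrier := {g | g ∈ Subgroup.normalizer (Z : Set Γ) ∧ Fx Z g μ}
  one_mem' := ⟨Subgroup.one_mem _, Fx_one Z μ⟩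
  mul_mem' := by
    rintro a b ⟨ha, ha'⟩ ⟨hb, hb'⟩
    exact ⟨Subgroup.mul_mem _ ha hb, Fx_mul Z μ a b ha ha' hb'⟩
  inv_mem' := by
    rintro a ⟨ha, ha'⟩
    exact ⟨Subgroup.inv_mem _ ha, Fx_inv Z μ a ha ha'⟩

theorem mem_stabW (Z : Subgroup Γ) (μ : Γ → K) (g : Γ) :
    g ∈ stabW Z μ ↔ g ∈ Subgroup.normalizer (Z : Set Γ) ∧ Fx Z g μ := Iff.rfl

/-- Powers of an element of the coset `L a`. -/
theorem pow_coset (L : Subgroup Γ) (a : Γ) (ha : a ∈ Subgroup.normalizer (L : Set Γ)) (l : Γ)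
    (hl : l ∈ L) (k : ℕ) : (l * a) ^ k * (a ^ k)⁻¹ ∈ L := by
  induction k with
  | zero => simp [L.one_mem]
  | succ k ih =>
    have e : (l * a) ^ (k + 1) * (a ^ (k + 1))⁻¹ =
        ((l * a) ^ k * (a ^ k)⁻¹) * (a ^ k * l * (a ^ k)⁻¹) := by
      rw [pow_succ, pow_succ]
      group
    rw [e]
    exact L.mul_mem ih (conj_mem_of_normalizer L _ (Subgroup.pow_mem _ ha k) l hl)

/-- An element normalizing `H` and `K` normalizes `H K`. -/
theorem mulSub_norm (H K₁ : Subgroup Γ) (h : H ≤ Subgroup.normalizer (K₁ : Set Γ)) (g : Γ)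
    (hgH : g ∈ Subgroup.normalizer (H : Set Γ)) (hgK : g ∈ Subgroup.normalizer (K₁ : Set Γ)) :
    g ∈ Subgroup.normalizer ((mulSub H K₁ h : Subgroup Γ) : Set Γ) := by
  apply mem_normalizer_of_conj
  · rintro _ ⟨a, ha, b, hb, rfl⟩
    refine ⟨g * a * g⁻¹, conj_mem_of_normalizer H g hgH a ha, g * b * g⁻¹,
      conj_mem_of_normalizer K₁ g hgK b hb, by group⟩
  · rintro _ ⟨a, ha, b, hb, rfl⟩
    refine ⟨g⁻¹ * a * g, conj_mem_of_normalizer' H g hgH a ha, g⁻¹ * b * g,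
      conj_mem_of_normalizer' K₁ g hgK b hb, by group⟩

theorem cw_one (μ : Γ → K) : cw μ 1 = μ := by
  funext z
  rw [cw_apply]
  simp

end

namespace S3Ctx

variable {K : Type*} [Field K] {V : Type*} [AddCommGroup V] [Module K V]
  {Γ : Type*} [Group Γ] (C : S3Ctx K V Γ)

/-- **Linear core lemma.**  An invariant subgroup `L` of `N` normalizing an invariant abelian
`t`-subgroup `Q` of `N` (`t` different from the characteristic) centralizes it. -/
theorem linCore [IsAlgClosed K] [FiniteDimensional K V] [Finite Γ] (t : ℕ) (ht : t.Prime)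
    (htK : (t : K) ≠ 0) (Q L : Subgroup Γ) (hQN : Q ≤ C.N) (hLN : L ≤ C.N)
    (hQ : IsPGroup t Q) (hQc : ∀ a ∈ Q, ∀ b ∈ Q, a * b = b * a)
    (hfQ : C.f ∈ Subgroup.normalizer (Q : Set Γ)) (hτQ : C.τ ∈ Subgroup.normalizer (Q : Set Γ))
    (hfL : C.f ∈ Subgroup.normalizer (L : Set Γ)) (hτL : C.τ ∈ Subgroup.normalizer (L : Set Γ))
    (hLQ : L ≤ Subgroup.normalizer (Q : Set Γ)) :
    ∀ x ∈ L, ∀ y ∈ Q, x * y = y * x := by
  intro x₀ hx₀ y₀ hy₀
  by_contra hne0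
  have htF : Fact t.Prime := ⟨ht⟩
  obtain ⟨z₀, hz₀⟩ : ∃ z₀, z₀ = x₀ * y₀ * x₀⁻¹ * y₀⁻¹ := ⟨_, rfl⟩
  have hy₀' : x₀ * y₀ * x₀⁻¹ ∈ Q := conj_mem_of_normalizer Q x₀ (hLQ hx₀) y₀ hy₀
  have hz₀Q : z₀ ∈ Q := by
    rw [hz₀]
    exact Q.mul_mem hy₀' (Q.inv_mem hy₀)
  have hz₀1 : z₀ ≠ 1 := by
    intro h
    apply hne0
    rw [hz₀] at h
    calc x₀ * y₀ = (x₀ * y₀ * x₀⁻¹ * y₀⁻¹) * y₀ * x₀ := by group
      _ = y₀ * x₀ := by rw [h, one_mul]
  have hnt : ∃ w ∈ C.M₀, C.ρ z₀ w ≠ w := by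
    by_contra h
    push Not at h
    exact hz₀1 (C.hfaith z₀ (hQN hz₀Q) h)
  obtain ⟨e, he⟩ := pgroup_pow Q t hQ z₀ hz₀Q
  obtain ⟨lam, w₀, hw₀M, hw₀0, hw₀Z, hlam⟩ := exists_joint_eigen C.ρ C.M₀ Q
    (fun z hz w hw => C.hMN z (hQN hz) w hw)
    (fun z hz z' hz' w _ => by rw [hQc z hz z' hz']) z₀ hz₀Q (t ^ e)
    (by rw [Nat.cast_pow]; exact pow_ne_zero e htK) he hnt
  have hwt : WtV C.ρ C.M₀ Q lam w₀ := ⟨hw₀M, hw₀0, hw₀Z⟩
  have horb : ∀ x ∈ L, WtV C.ρ C.M₀ Q (cw lam x) (C.ρ x w₀) := fun x hx =>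
    wt_conj C.ρ C.M₀ Q lam w₀ hwt x (hLQ hx) (C.hMN x (hLN hx))
  -- the final contradiction: an orbit weight fixed by all of `L`
  have hfinal : ∀ x₁ ∈ L, (∀ l ∈ L, Fx Q l (cw lam x₁)) → False := by
    intro x₁ hx₁ hall
    have h1 := hall (x₁ * x₀⁻¹ * x₁⁻¹)
      (L.mul_mem (L.mul_mem hx₁ (L.inv_mem hx₀)) (L.inv_mem hx₁))
    rw [Fx_cw Q lam _ x₁ (hLQ hx₁)] at h1
    have e1 : x₁⁻¹ * (x₁ * x₀⁻¹ * x₁⁻¹) * x₁ = x₀⁻¹ := by group
    rw [e1] at h1
    have h2 := h1 y₀ hy₀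
    rw [inv_inv] at h2
    apply hlam
    rw [hz₀, wt_mul C.ρ C.M₀ Q lam w₀ hwt _ _ hy₀' (Q.inv_mem hy₀), h2,
      wt_inv C.ρ C.M₀ Q lam w₀ hwt y₀ hy₀]
    exact mul_inv_cancel₀ (wt_ne_zero C.ρ C.M₀ Q lam w₀ hwt y₀ hy₀)
  -- no orbit weight is fixed by `f` and an involution
  have hI : ∀ x ∈ L, ∀ i : ℕ, Fx Q C.f (cw lam x) → Fx Q (C.τ * C.f ^ i) (cw lam x) →
      False := by
    intro x hx i h1 h2
    have hσQ : (C.twist i).τ ∈ Subgroup.normalizer (Q : Set Γ) :=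
      Subgroup.mul_mem _ hτQ (Subgroup.pow_mem _ hfQ i)
    have h3 := (C.twist i).fixed_wt_trivial Q hQN hQc hfQ hσQ (cw lam x) (C.ρ x w₀)
      (horb x hx) h1 h2
    apply hlam
    have h4 := h3 (x * z₀ * x⁻¹) (conj_mem_of_normalizer Q x (hLQ hx) z₀ hz₀Q)
    rw [cw_apply] at h4
    have e1 : x⁻¹ * (x * z₀ * x⁻¹) * x = z₀ := by group
    rwa [e1] at h4
  by_cases hα : ∃ x₁ ∈ L, Fx Q C.f (cw lam x₁)
  · obtain ⟨x₁, hx₁, hfx₁⟩ := hα
    obtain ⟨μ, hμ⟩ : ∃ μ, μ = cw lam x₁ := ⟨_, rfl⟩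
    have hμorb : ∀ y : Γ, cw μ y = cw lam (y * x₁) := by
      intro y
      rw [hμ, cw_cw]
    have hwμ : WtV C.ρ C.M₀ Q μ (C.ρ x₁ w₀) := by
      rw [hμ]
      exact horb x₁ hx₁
    rw [← hμ] at hfx₁
    by_cases hα1 : ∀ y ∈ L, Fx Q C.f (cw μ y)
    · -- all orbit weights are fixed by `f`
      apply hfinal x₁ hx₁
      rw [← hμ]
      have hgen : comF C.f L ≤ stabW Q μ := by
        unfold comF
        rw [Subgroup.closure_le]
        rintro _ ⟨y, hy, rfl⟩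
        have h1 := hα1 y⁻¹ (L.inv_mem hy)
        rw [Fx_cw Q μ _ y⁻¹ (Subgroup.inv_mem _ (hLQ hy)), inv_inv] at h1
        have hn1 : y * C.f * y⁻¹ ∈ Subgroup.normalizer (Q : Set Γ) :=
          Subgroup.mul_mem _ (Subgroup.mul_mem _ (hLQ hy) hfQ) (Subgroup.inv_mem _ (hLQ hy))
        have e : C.f * y * C.f⁻¹ * y⁻¹ = C.f * (y * C.f * y⁻¹)⁻¹ := by group
        show _ ∈ stabW Q μ
        rw [e]
        exact ⟨Subgroup.mul_mem _ hfQ (Subgroup.inv_mem _ hn1),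
          Fx_mul Q μ _ _ hfQ hfx₁ (Fx_inv Q μ _ hn1 h1)⟩
      have hcent : ∀ c ∈ L, C.f * c = c * C.f → Fx Q c μ := by
        intro c hc hcf y hy
        have hci : C.f * c⁻¹ = c⁻¹ * C.f := by
          calc C.f * c⁻¹ = c⁻¹ * (c * C.f) * c⁻¹ := by group
            _ = c⁻¹ * (C.f * c) * c⁻¹ := by rw [hcf]
            _ = c⁻¹ * C.f := by group
        have hy' : c⁻¹ * y * c ∈ Q := conj_mem_of_normalizer' Q c (hLQ hc) y hy
        have h1 : C.nF (c⁻¹ * y * c) = C.nF y := by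
          have h2 := C.nF_conj c⁻¹ y hci
          rw [inv_inv] at h2
          rw [h2]
          have h3 : c * C.nF y = C.nF y * c :=
            C.cent_comm c (C.nF y) (hLN hc) (hQN (C.nF_mem Q hfQ y hy)) hcf
              (C.nF_comm Q hQc hfQ y hy)
          calc c⁻¹ * C.nF y * c = c⁻¹ * (C.nF y * c) := by group
            _ = c⁻¹ * (c * C.nF y) := by rw [h3]
            _ = C.nF y := by group
        have h4 := C.nF_wt Q hfQ μ _ hwμ hfx₁ (c⁻¹ * y * c) hy'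
        have h5 := C.nF_wt Q hfQ μ _ hwμ hfx₁ y hy
        rw [h1, h5] at h4
        have hz : c⁻¹ * y * c * y⁻¹ ∈ Q := Q.mul_mem hy' (Q.inv_mem hy)
        have h6 : μ (c⁻¹ * y * c * y⁻¹) = μ (c⁻¹ * y * c) * (μ y)⁻¹ := by
          rw [wt_mul C.ρ C.M₀ Q μ _ hwμ _ _ hy' (Q.inv_mem hy), wt_inv C.ρ C.M₀ Q μ _ hwμ y hy]
        have hy0 := wt_ne_zero C.ρ C.M₀ Q μ _ hwμ y hy
        have h7 : μ (c⁻¹ * y * c * y⁻¹) ^ 3 = 1 := by
          rw [h6, mul_pow, ← h4, inv_pow]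
          exact mul_inv_cancel₀ (pow_ne_zero 3 hy0)
        have h8 := wt_eq_one_of_pow C.ρ C.M₀ Q μ _ hwμ _ hz 3 (Nat.card C.N) h7
          (C.pow_card _ (hQN hz)) C.card_cop3.symm
        rw [h6] at h8
        exact (mul_inv_eq_one₀ hy0).mp h8
      intro l hl
      obtain ⟨p, hp, c, hc, hcf, rfl⟩ := decomp_f C.f L C.hf3 hfL (C.not_three_dvd L hLN) l hl
      exact Fx_mul Q μ p c (hgen hp).1 (hgen hp).2 (hcent c hc hcf)
    · -- some orbit weight is not fixed by `f`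
      push Not at hα1
      obtain ⟨x, hx, hnfx⟩ := hα1
      have hw2 : WtV C.ρ C.M₀ Q (cw μ x) (C.ρ (x * x₁) w₀) := by
        rw [hμorb x]
        exact horb _ (L.mul_mem hx hx₁)
      rcases C.exists_fix' Q hfQ hτQ (cw μ x) _ hw2 with h | ⟨i, hi⟩
      · exact hnfx h
      obtain ⟨σ, hσ⟩ : ∃ σ, σ = C.τ * C.f ^ i := ⟨_, rfl⟩
      rw [← hσ] at hi
      have hσQ : σ ∈ Subgroup.normalizer (Q : Set Γ) := by
        rw [hσ]
        exact Subgroup.mul_mem _ hτQ (Subgroup.pow_mem _ hfQ i)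
      have hσL : σ ∈ Subgroup.normalizer (L : Set Γ) := by
        rw [hσ]
        exact Subgroup.mul_mem _ hτL (Subgroup.pow_mem _ hfL i)
      have hσσ : σ * σ = 1 := by
        rw [hσ]
        exact twist_sq C.f C.τ C.hτ2 C.hτf i
      have hσi : σ⁻¹ = σ := inv_eq_of_mul_eq_one_left hσσ
      have hσf : σ * C.f * σ⁻¹ = C.f⁻¹ := by
        rw [hσ]
        exact twist_conj C.f C.τ C.hτf i
      obtain ⟨σ₁, hσ₁⟩ : ∃ σ₁, σ₁ = x⁻¹ * σ * x := ⟨_, rfl⟩
      have hσ₁fx : Fx Q σ₁ μ := by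
        rw [hσ₁]
        exact (Fx_cw Q μ σ x (hLQ hx)).mp hi
      have hσ₁Q : σ₁ ∈ Subgroup.normalizer (Q : Set Γ) := by
        rw [hσ₁]
        exact Subgroup.mul_mem _ (Subgroup.mul_mem _ (Subgroup.inv_mem _ (hLQ hx)) hσQ) (hLQ hx)
      obtain ⟨l, hl⟩ : ∃ l, l = x⁻¹ * (σ * x * σ⁻¹) := ⟨_, rfl⟩
      have hlL : l ∈ L := by
        rw [hl]
        exact L.mul_mem (L.inv_mem hx) (conj_mem_of_normalizer L σ hσL x hx)
      have hσ₁l : σ₁ = l * σ := by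
        rw [hσ₁, hl]
        group
      obtain ⟨D, hD⟩ : ∃ D : Subgroup Γ, D = stabW Q μ ⊓ L := ⟨_, rfl⟩
      have hDL : D ≤ L := by
        rw [hD]
        exact inf_le_right
      have hfSt : C.f ∈ stabW Q μ := ⟨hfQ, hfx₁⟩
      have hσ₁St : σ₁ ∈ stabW Q μ := ⟨hσ₁Q, hσ₁fx⟩
      obtain ⟨g, hg⟩ : ∃ g, g = σ₁ * C.f * σ₁⁻¹ := ⟨_, rfl⟩
      have hgSt : g ∈ stabW Q μ := by
        rw [hg]
        exact Subgroup.mul_mem _ (Subgroup.mul_mem _ hσ₁St hfSt) (Subgroup.inv_mem _ hσ₁St)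
      have hgl : g = l * C.f⁻¹ * l⁻¹ := by
        rw [hg, hσ₁l]
        calc l * σ * C.f * (l * σ)⁻¹ = l * (σ * C.f * σ⁻¹) * l⁻¹ := by group
          _ = l * C.f⁻¹ * l⁻¹ := by rw [hσf]
      have hgfD : g * (C.f⁻¹)⁻¹ ∈ D := by
        rw [hD, inv_inv]
        refine Subgroup.mem_inf.mpr ⟨Subgroup.mul_mem _ hgSt hfSt, ?_⟩
        rw [hgl]
        have e : l * C.f⁻¹ * l⁻¹ * C.f = l * (C.f⁻¹ * l⁻¹ * C.f) := by group
        rw [e]
        exact L.mul_mem hlL (conj_mem_of_normalizer' L C.f hfL _ (L.inv_mem hlL))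
      have hg3 : g ^ 3 = 1 := by
        rw [hg, conj_pow, C.hf3, mul_one, mul_inv_cancel]
      have hfi3 : (C.f⁻¹) ^ 3 = 1 := by rw [inv_pow, C.hf3, inv_one]
      have hfiD : C.f⁻¹ ∈ Subgroup.normalizer (D : Set Γ) := by
        rw [hD]
        apply Subgroup.inv_mem
        exact normalizer_inf' _ _ C.f (Subgroup.le_normalizer hfSt) hfL
      have hD3 : ¬ 3 ∣ Nat.card D := C.not_three_dvd D (hDL.trans hLN)
      obtain ⟨d, hdD, hgd⟩ := conj_of_order_p D 3 Nat.prime_three hD3 C.f⁻¹ g hfi3 hfiD hg3 hgfD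
      have hdSt : d ∈ stabW Q μ := by
        rw [hD] at hdD
        exact (Subgroup.mem_inf.mp hdD).1
      have hdL : d ∈ L := hDL hdD
      obtain ⟨c, hc⟩ : ∃ c, c = d⁻¹ * l := ⟨_, rfl⟩
      have hcL : c ∈ L := by
        rw [hc]
        exact L.mul_mem (L.inv_mem hdL) hlL
      have hcσSt : c * σ ∈ stabW Q μ := by
        have e : c * σ = d⁻¹ * σ₁ := by
          rw [hc, hσ₁l]
          group
        rw [e]
        exact Subgroup.mul_mem _ (Subgroup.inv_mem _ hdSt) hσ₁St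
      have hcf : C.f * c = c * C.f := by
        have h1 : l * C.f⁻¹ * l⁻¹ = d * C.f⁻¹ * d⁻¹ := by rw [← hgl, hgd]
        have h2 : c * C.f⁻¹ = C.f⁻¹ * c := by
          rw [hc]
          calc d⁻¹ * l * C.f⁻¹ = d⁻¹ * (l * C.f⁻¹ * l⁻¹) * l := by group
            _ = d⁻¹ * (d * C.f⁻¹ * d⁻¹) * l := by rw [h1]
            _ = C.f⁻¹ * (d⁻¹ * l) := by group
        calc C.f * c = C.f * (c * C.f⁻¹) * C.f := by group
          _ = C.f * (C.f⁻¹ * c) * C.f := by rw [h2]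
          _ = c * C.f := by group
      have hcinv : σ * c * σ⁻¹ = c⁻¹ := by
        rw [hσ]
        exact C.cent_inv i c (hLN hcL) hcf
      obtain ⟨k, hk⟩ := sqrt_odd c (Nat.card C.N) (C.pow_card c (hLN hcL)) C.card_cop2
      obtain ⟨e, he⟩ : ∃ e, e = c ^ k := ⟨_, rfl⟩
      have heL : e ∈ L := by
        rw [he]
        exact L.pow_mem hcL k
      have hee : e * e = c := by
        rw [he, ← pow_add]
        conv_rhs => rw [hk]
        rw [← pow_two, ← pow_mul, two_mul]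
      have hef : C.f * e = e * C.f := by
        rw [he]
        exact ((show Commute C.f c from hcf).pow_right k).eq
      have heinv : σ * e * σ⁻¹ = e⁻¹ := by
        rw [he, ← conj_pow, hcinv, inv_pow]
      have heσ : e * σ * e⁻¹ = c * σ := by
        calc e * σ * e⁻¹ = e * (σ * e * σ⁻¹)⁻¹ * σ := by group
          _ = e * e * σ := by rw [heinv, inv_inv]
          _ = c * σ := by rw [hee]
      apply hI (e⁻¹ * x₁) (L.mul_mem (L.inv_mem heL) hx₁) i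
      · rw [← cw_cw, ← hμ, Fx_cw Q μ _ e⁻¹ (Subgroup.inv_mem _ (hLQ heL)), inv_inv]
        have e1 : e * C.f * e⁻¹ = C.f := by
          rw [← hef]
          group
        rw [e1]
        exact hfx₁
      · rw [← cw_cw, ← hμ, ← hσ, Fx_cw Q μ _ e⁻¹ (Subgroup.inv_mem _ (hLQ heL)), inv_inv, heσ]
        exact hcσSt.2
  · -- no orbit weight is fixed by `f`
    push Not at hα
    have hnf : ¬ Fx Q C.f lam := by
      have := hα 1 L.one_mem
      rwa [cw_one] at this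
    rcases C.exists_fix' Q hfQ hτQ lam w₀ hwt with h | ⟨i₀, hi₀⟩
    · exact hnf h
    obtain ⟨σ, hσ⟩ : ∃ σ, σ = C.τ * C.f ^ i₀ := ⟨_, rfl⟩
    rw [← hσ] at hi₀
    have hσQ : σ ∈ Subgroup.normalizer (Q : Set Γ) := by
      rw [hσ]
      exact Subgroup.mul_mem _ hτQ (Subgroup.pow_mem _ hfQ i₀)
    have hσL : σ ∈ Subgroup.normalizer (L : Set Γ) := by
      rw [hσ]
      exact Subgroup.mul_mem _ hτL (Subgroup.pow_mem _ hfL i₀)
    have hσσ : σ * σ = 1 := by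
      rw [hσ]
      exact twist_sq C.f C.τ C.hτ2 C.hτf i₀
    have hσi : σ⁻¹ = σ := inv_eq_of_mul_eq_one_left hσσ
    have hsame : ∀ x ∈ L, Fx Q σ (cw lam x) := by
      intro x hx
      rcases C.exists_fix' Q hfQ hτQ (cw lam x) _ (horb x hx) with h | ⟨j, hj⟩
      · exact absurd h (hα x hx)
      obtain ⟨σ', hσ'⟩ : ∃ σ', σ' = C.τ * C.f ^ j := ⟨_, rfl⟩
      rw [← hσ'] at hj
      have hσ'Q : σ' ∈ Subgroup.normalizer (Q : Set Γ) := by
        rw [hσ']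
        exact Subgroup.mul_mem _ hτQ (Subgroup.pow_mem _ hfQ j)
      have hσ'L : σ' ∈ Subgroup.normalizer (L : Set Γ) := by
        rw [hσ']
        exact Subgroup.mul_mem _ hτL (Subgroup.pow_mem _ hfL j)
      obtain ⟨f', hf'⟩ : ∃ f', f' = σ * σ' := ⟨_, rfl⟩
      have hf'z : f' ∈ Subgroup.zpowers C.f := by
        have e : f' = (C.f ^ i₀)⁻¹ * C.f ^ j := by
          rw [hf', hσ, hσ']
          calc C.τ * C.f ^ i₀ * (C.τ * C.f ^ j)
              = (C.τ * C.f ^ i₀ * C.τ⁻¹) * (C.τ * C.τ) * C.f ^ j := by group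
            _ = (C.f ^ i₀)⁻¹ * C.f ^ j := by
                rw [tau_conj_pow C.f C.τ C.hτf i₀, C.hτ2, mul_one]
        rw [e]
        exact Subgroup.mul_mem _
          (Subgroup.inv_mem _ (Subgroup.pow_mem _ (Subgroup.mem_zpowers _) _))
          (Subgroup.pow_mem _ (Subgroup.mem_zpowers _) _)
      rcases zpowers3 C.f C.hf3 f' hf'z with h1 | h1
      · have h2 : σ' = σ := by
          rw [hf'] at h1
          rw [← hσi]
          exact eq_inv_of_mul_eq_one_right h1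
        rw [← h2]
        exact hj
      · exfalso
        have hf'3 : f' ^ 3 = 1 := by
          rcases h1 with h1 | h1
          · rw [h1]
            exact C.hf3
          · rw [h1, inv_pow, C.hf3, inv_one]
        have hf'Q : f' ∈ Subgroup.normalizer (Q : Set Γ) := by
          rw [hf']
          exact Subgroup.mul_mem _ hσQ hσ'Q
        have hf'L : f' ∈ Subgroup.normalizer (L : Set Γ) := by
          rw [hf']
          exact Subgroup.mul_mem _ hσL hσ'L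
        obtain ⟨g, hg⟩ : ∃ g, g = σ * (x⁻¹ * σ' * x) := ⟨_, rfl⟩
        have hgfx : Fx Q g lam := by
          rw [hg]
          exact Fx_mul Q lam _ _ hσQ hi₀ ((Fx_cw Q lam σ' x (hLQ hx)).mp hj)
        have hgQ : g ∈ Subgroup.normalizer (Q : Set Γ) := by
          rw [hg]
          exact Subgroup.mul_mem _ hσQ
            (Subgroup.mul_mem _ (Subgroup.mul_mem _ (Subgroup.inv_mem _ (hLQ hx)) hσ'Q) (hLQ hx))
        obtain ⟨l, hl⟩ : ∃ l, l = (σ * x⁻¹ * σ⁻¹) * (f' * x * f'⁻¹) := ⟨_, rfl⟩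
        have hlL : l ∈ L := by
          rw [hl]
          exact L.mul_mem (conj_mem_of_normalizer L σ hσL _ (L.inv_mem hx))
            (conj_mem_of_normalizer L f' hf'L x hx)
        have hgl : g = l * f' := by
          rw [hg, hl, hf']
          group
        obtain ⟨m, hm⟩ : ∃ m, m = Nat.card C.N := ⟨_, rfl⟩
        have hm3 : m.Coprime 3 := by
          rw [hm]
          exact C.card_cop3
        have hmod : (m * m) % 3 = 1 := by
          have h0 : ¬ 3 ∣ m := by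
            intro h
            have := Nat.Coprime.eq_one_of_dvd hm3.symm h
            omega
          have h3 : m % 3 = 1 ∨ m % 3 = 2 := by omega
          rcases h3 with h | h
          · rw [Nat.mul_mod, h]
          · rw [Nat.mul_mod, h]
        have hf'k : f' ^ (m * m) = f' := by
          have h2 : m * m = 3 * (m * m / 3) + 1 := by omega
          rw [h2, pow_succ, pow_mul, hf'3, one_pow, one_mul]
        have hg3L : g ^ 3 ∈ L := by
          have h2 := pow_coset L f' hf'L l hlL 3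
          rw [hf'3, inv_one, mul_one, ← hgl] at h2
          exact h2
        obtain ⟨h, hh⟩ : ∃ h, h = g ^ (m * m) := ⟨_, rfl⟩
        have hh3 : h ^ 3 = 1 := by
          rw [hh, ← pow_mul, mul_comm, pow_mul, pow_mul, hm, C.pow_card _ (hLN hg3L), one_pow]
        have hhL : h * f'⁻¹ ∈ L := by
          have h2 := pow_coset L f' hf'L l hlL (m * m)
          rw [hf'k, ← hgl, ← hh] at h2
          exact h2
        have hhfx : Fx Q h lam := by
          rw [hh]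
          exact Fx_pow Q lam g hgQ hgfx _
        obtain ⟨y, hy, hhy⟩ := conj_of_order_p L 3 Nat.prime_three (C.not_three_dvd L hLN) f' h
          hf'3 hf'L hh3 hhL
        rw [hhy] at hhfx
        have h5 : Fx Q f' (cw lam y⁻¹) := by
          rw [Fx_cw Q lam f' y⁻¹ (Subgroup.inv_mem _ (hLQ hy)), inv_inv]
          exact hhfx
        apply hα y⁻¹ (L.inv_mem hy)
        rcases h1 with h1 | h1
        · rw [← h1]
          exact h5
        · rw [h1] at h5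
          exact Fx_inv' Q _ C.f hfQ h5
    have hσQ' : (C.twist i₀).τ ∈ Subgroup.normalizer (Q : Set Γ) := by
      rw [hσ] at hσQ
      exact hσQ
    have hσL' : (C.twist i₀).τ ∈ Subgroup.normalizer (L : Set Γ) := by
      rw [hσ] at hσL
      exact hσL
    obtain ⟨T, hT⟩ : ∃ T : Subgroup Γ, T = mulSub L Q hLQ := ⟨_, rfl⟩
    have hTN : T ≤ C.N := by
      rw [hT]
      rintro _ ⟨a, ha, b, hb, rfl⟩
      exact C.N.mul_mem (hLN ha) (hQN hb)
    have hfT : C.f ∈ Subgroup.normalizer (T : Set Γ) := by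
      rw [hT]
      exact mulSub_norm L Q hLQ C.f hfL hfQ
    have hσT : (C.twist i₀).τ ∈ Subgroup.normalizer (T : Set Γ) := by
      rw [hT]
      exact mulSub_norm L Q hLQ _ hσL' hσQ'
    have hXT : ∀ a ∈ T, ∀ v ∈ {v | ∃ x ∈ L, WtV C.ρ C.M₀ Q (cw lam x) v},
        C.ρ a v ∈ {v | ∃ x ∈ L, WtV C.ρ C.M₀ Q (cw lam x) v} := by
      rw [hT]
      rintro _ ⟨a, ha, b, hb, rfl⟩ v ⟨x, hx, hv⟩
      refine ⟨a * x, L.mul_mem ha hx, ?_⟩
      rw [rho_mul, hv.2.2 b hb, ← cw_cw]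
      exact wt_conj C.ρ C.M₀ Q _ _
        (wt_smul C.ρ C.M₀ Q _ v hv _ (wt_ne_zero C.ρ C.M₀ Q _ v hv b hb)) a (hLQ ha)
        (C.hMN a (hLN ha))
    have hneg : ∀ v ∈ {v | ∃ x ∈ L, WtV C.ρ C.M₀ Q (cw lam x) v},
        C.ρ (C.τ * C.f ^ i₀) v = -v := by
      rintro v ⟨x, hx, hv⟩
      have h1 := hsame x hx
      rw [hσ] at h1
      exact (C.twist i₀).tau_neg Q hfQ hσQ' (cw lam x) v hv h1 (hα x hx)
    have hz₀T : z₀ ∈ ⁅T, T⁆ := by
      rw [hz₀, ← commutatorElement_def]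
      apply Subgroup.commutator_mem_commutator
      · rw [hT]
        exact left_le_mulSub L Q hLQ hx₀
      · rw [hT]
        exact right_le_mulSub L Q hLQ hy₀
    have h := (C.twist i₀).tri_apply T hTN hfT hσT _ hXT hneg z₀ hz₀T w₀
      ⟨1, L.one_mem, by rw [cw_one]; exact hwt⟩
    have hz₀w : C.ρ z₀ w₀ = lam z₀ • w₀ := hw₀Z z₀ hz₀Q
    have h' : C.ρ z₀ w₀ = w₀ := h
    rw [h'] at hz₀w
    have h2 : (lam z₀ - 1) • w₀ = 0 := by rw [sub_smul, one_smul, ← hz₀w, sub_self]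
    rcases smul_eq_zero.mp h2 with h3 | h3
    · exact hlam (sub_eq_zero.mp h3)
    · exact hw₀0 h3

end S3Ctx

end Cfsg.Agent.Lib.helper66
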