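import Mathlib
import Cfsg.Agent.Lib.helper66.GrA
import Cfsg.Agent.Lib.helper66.ExtraRepF
import Cfsg.Agent.Lib.helper66.S3G

set_option autoImplicit false

namespace Cfsg.Agent.Lib.helper66

section

variable {K : Type*} [Field K] {V : Type*} [AddCommGroup V] [Module K V]
  {Γ : Type*} [Group Γ]

/-- A minimal nonzero submodule with a given property inside a nonzero submodule having it. -/
theorem exists_min_submodule [FiniteDimensional K V] (p : Submodule K V → Prop)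
    (U : Submodule K V) (hU0 : U ≠ ⊥) (hU : p U) :
    ∃ W : Submodule K V, W ≤ U ∧ W ≠ ⊥ ∧ p W ∧
      ∀ W' : Submodule K V, W' ≤ W → W' ≠ ⊥ → p W' → W' = W := by
  let S : Set (Submodule K V) := {W | W ≤ U ∧ W ≠ ⊥ ∧ p W}
  have hSne : S.Nonempty := ⟨U, le_refl _, hU0, hU⟩
  obtain ⟨W, hWS, hWmin⟩ := (wellFounded_lt :
    WellFounded ((· < ·) : Submodule K V → Submodule K V → Prop)).has_min S hSne
  obtain ⟨hWU, hW0, hpW⟩ := hWS
  refine ⟨W, hWU, hW0, hpW, ?_⟩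
  intro W' hW'W hW'0 hpW'
  by_contra hne
  exact hWmin W' ⟨hW'W.trans hWU, hW'0, hpW'⟩ (lt_of_le_of_ne hW'W hne)

/-- **Groups of extraspecial type relative to a subgroup `Z`, on a minimal invariant
subspace** (internal form of `extra_coreZ`, with the multiplicity inequality and the spectrum
in the exceptional case). -/
theorem extraZ_sub [IsAlgClosed K] [FiniteDimensional K V] (ρ : Γ →* Module.End K V)
    (Q Z : Subgroup Γ) [Finite Q] (x : Γ) (h : ℕ) (hh : 0 < h) (W : Submodule K V)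
    (hW0 : W ≠ ⊥) (hZQ : Z ≤ Q)
    (hscal : ∀ z ∈ Z, ∃ c : K, ∀ w ∈ W, ρ z w = c • w)
    (hcomm : ∀ u ∈ Q, ∀ v ∈ Q, u * v * u⁻¹ * v⁻¹ ∈ Z)
    (hnondeg : ∀ u ∈ Q, u ∉ Z → ∃ v ∈ Q, ∃ w ∈ W, ρ (v * u) w ≠ ρ (u * v) w)
    (hxQ : x ∈ Subgroup.normalizer (Q : Set Γ)) (hxZ : x ∈ Subgroup.normalizer (Z : Set Γ))
    (hxh : x ^ h = 1)
    (hfpf : ∀ i, 0 < i → i < h → ∀ u ∈ Q, x ^ i * u * x⁻¹ ^ i * u⁻¹ ∈ Z → u ∈ Z)
    (hQK : (Nat.card Q : K) ≠ 0) (hhK : (h : K) ≠ 0)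
    (hWQ : ∀ u ∈ Q, ∀ w ∈ W, ρ u w ∈ W) (hWx : ∀ w ∈ W, ρ x w ∈ W)
    (hWmin : ∀ U : Submodule K V, U ≤ W → U ≠ ⊥ → (∀ u ∈ Q, ∀ w ∈ U, ρ u w ∈ U) →
      (∀ w ∈ U, ρ x w ∈ U) → U = W) :
    (Module.finrank K W) ^ 2 = Z.relIndex Q ∧
    (∃ c, Module.finrank K W = h * c + 1 ∨ Module.finrank K W + 1 = h * c) ∧
    ((∀ w ∈ W, ρ x w = w → w = 0) → Module.finrank K W = 1 ∨ Module.finrank K W + 1 = h) ∧
    (∀ F : Submodule K V, (∀ w, w ∈ F ↔ w ∈ W ∧ ρ x w = w) →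
      h * (Module.finrank K F) ^ 2 + 1 ≤ (Module.finrank K W) ^ 2 + h) ∧
    ((∀ w ∈ W, ρ x w = w → w = 0) → Module.finrank K W + 1 = h →
      ∀ ε : K, ε ^ h = 1 → ε ≠ 1 → ∃ v ∈ W, v ≠ 0 ∧ ρ x v = ε • v) := by
  classical
  have : Nontrivial W := Submodule.nontrivial_iff_ne_bot.mpr hW0
  let _ : Fintype Q := Fintype.ofFinite Q
  obtain ⟨R', hR'⟩ : ∃ R' : Q →* Module.End K W, ∀ (u : Q) (w : W),
      ((R' u w : W) : V) = ρ u w := ⟨restrictHom ρ Q W hWQ, fun u w => rfl⟩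
  obtain ⟨X', hX'⟩ : ∃ X' : Module.End K W, ∀ w : W, ((X' w : W) : V) = ρ x w :=
    ⟨(ρ x).restrict hWx, fun w => rfl⟩
  obtain ⟨σ, hσ⟩ : ∃ σ : MulAut Q, ∀ (i : ℕ) (u : Q),
      (((σ ^ i) u : Q) : Γ) = x ^ i * u * x⁻¹ ^ i :=
    ⟨conjAut Q x hxQ, conjAut_pow Q x hxQ⟩
  have hσ1 : ∀ u : Q, ((σ u : Q) : Γ) = x * u * x⁻¹ := by
    intro u
    have h1 := hσ 1 u
    simpa using h1
  obtain ⟨Z', hZ'⟩ : ∃ Z' : Subgroup Q, ∀ u : Q, u ∈ Z' ↔ (u : Γ) ∈ Z :=
    ⟨Z.subgroupOf Q, fun u => Subgroup.mem_subgroupOf⟩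
  have hZ'idx : Z'.index = Z.relIndex Q := by
    have h1 : Z' = Z.subgroupOf Q := by
      ext u
      rw [hZ', Subgroup.mem_subgroupOf]
    rw [h1]
    rfl
  have hZ'n : Z'.Normal := by
    constructor
    intro z hz u
    rw [hZ'] at hz ⊢
    have h1 := hcomm u u.2 z (hZQ hz)
    have h2 : ((u * z * u⁻¹ : Q) : Γ) = ((u : Γ) * z * (u : Γ)⁻¹ * (z : Γ)⁻¹) * z := by
      simp
    rw [h2]
    exact Z.mul_mem h1 hz
  have hd : ExtraDataZ R' Z' := by
    refine ⟨?_, ?_, ?_⟩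
    · intro g hg
      obtain ⟨c, hc⟩ := hscal g ((hZ' g).mp hg)
      refine ⟨c, ?_⟩
      apply LinearMap.ext
      intro w
      apply Subtype.ext
      rw [hR', hc w w.2]
      simp
    · intro u v
      rw [hZ']
      have h1 := hcomm u u.2 v v.2
      simpa using h1
    · intro u hu
      rw [hZ'] at hu
      obtain ⟨v, hv, w, hw, hne⟩ := hnondeg u u.2 hu
      refine ⟨⟨v, hv⟩, ?_⟩
      intro heq
      apply hne
      have h1 := congrArg Subtype.val (LinearMap.congr_fun heq ⟨w, hw⟩)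
      rw [Module.End.mul_apply, Module.End.mul_apply, hR', hR', hR', hR'] at h1
      rw [map_mul, map_mul, Module.End.mul_apply, Module.End.mul_apply]
      exact h1
  have hσZ : ∀ u : Q, u ∈ Z' ↔ σ u ∈ Z' := by
    intro u
    rw [hZ', hZ', hσ1]
    exact Subgroup.mem_normalizer_iff.mp hxZ u
  have hXR : ∀ u, X' * R' u = R' (σ u) * X' := by
    intro u
    apply LinearMap.ext
    intro w
    apply Subtype.ext
    rw [Module.End.mul_apply, Module.End.mul_apply, hX', hR', hR', hX', hσ1]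
    have e2 : ρ x * ρ (u : Γ) = ρ (x * u * x⁻¹) * ρ x := by
      rw [← map_mul, ← map_mul]
      congr 1
      group
    exact LinearMap.congr_fun e2 (w : V)
  have hX'pow : ∀ (k : ℕ) (w : W), (((X' ^ k) w : W) : V) = (ρ x ^ k) w := by
    intro k
    induction k with
    | zero => intro w; simp
    | succ k ih =>
      intro w
      rw [pow_succ, Module.End.mul_apply, ih, hX', pow_succ, Module.End.mul_apply]
  have hX'h : X' ^ h = 1 := by
    apply LinearMap.ext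
    intro w
    apply Subtype.ext
    rw [hX'pow, ← map_pow, hxh, map_one]
    rfl
  have hσh : σ ^ h = 1 := by
    apply MulEquiv.ext
    intro u
    apply Subtype.ext
    rw [hσ, inv_pow, hxh]
    simp
  have hfpf' : ∀ i, 0 < i → i < h → ∀ u : Q, (σ ^ i) u * u⁻¹ ∈ Z' → u ∈ Z' := by
    intro i hi0 hi u hu
    rw [hZ'] at hu ⊢
    apply hfpf i hi0 hi u u.2
    have h1 : (((σ ^ i) u * u⁻¹ : Q) : Γ) = x ^ i * u * x⁻¹ ^ i * (u : Γ)⁻¹ := by
      rw [Subgroup.coe_mul, hσ, Subgroup.coe_inv]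
    rwa [h1] at hu
  have hirr : ∀ U : Submodule K W, (∀ u, ∀ w ∈ U, R' u w ∈ U) → (∀ w ∈ U, X' w ∈ U) →
      U = ⊥ ∨ U = ⊤ := by
    intro U hUR hUX
    by_cases hU : U = ⊥
    · exact Or.inl hU
    right
    have hle : U.map W.subtype ≤ W := Submodule.map_subtype_le W U
    have heq : U.map W.subtype = W := by
      apply hWmin _ hle
      · intro h0
        apply hU
        rw [Submodule.eq_bot_iff]
        intro w hw
        have h1 : (w : V) ∈ U.map W.subtype := ⟨w, hw, rfl⟩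
        rw [h0] at h1
        exact Subtype.ext ((Submodule.mem_bot K).mp h1)
      · rintro u hu _ ⟨w, hw, rfl⟩
        exact ⟨R' ⟨u, hu⟩ w, hUR ⟨u, hu⟩ w hw, hR' ⟨u, hu⟩ w⟩
      · rintro _ ⟨w, hw, rfl⟩
        exact ⟨X' w, hUX w hw, hX' w⟩
    rw [eq_top_iff]
    intro w _
    have h1 : (w : V) ∈ U.map W.subtype := by rw [heq]; exact w.2
    obtain ⟨w', hw', hww'⟩ := h1
    have h2 : w' = w := Subtype.ext hww'
    rwa [h2] at hw'
  have hQK' : (Fintype.card Q : K) ≠ 0 := by rwa [← Nat.card_eq_fintype_card]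
  have hfix' : (∀ w ∈ W, ρ x w = w → w = 0) → ∀ w : W, X' w = w → w = 0 := by
    intro hfix w hw
    apply Subtype.ext
    apply hfix _ w.2
    rw [← hX', hw]
  obtain ⟨c1, c2, c3⟩ := extra_coreZ R' Z' X' σ h hh hd hσZ hXR hX'h hσh hfpf' hirr hQK' hhK
  refine ⟨by rw [c1, hZ'idx], c2, fun hfix => c3 (hfix' hfix), ?_, ?_⟩
  · intro F hF
    have : NeZero (h : K) := ⟨hhK⟩
    have : NeZero h := ⟨hh.ne'⟩
    obtain ⟨ζ, hζ⟩ := HasEnoughRootsOfUnity.exists_primitiveRoot K h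
    have hmult := extra_coreZ_mult R' Z' X' σ h hh hd hσZ hXR hX'h hσh hfpf' hirr hQK' hhK ζ hζ
    have h1 : F = (X'.eigenspace 1).map W.subtype := by
      ext w
      rw [hF]
      constructor
      · rintro ⟨hw, hxw⟩
        refine ⟨⟨w, hw⟩, ?_, rfl⟩
        rw [SetLike.mem_coe, Module.End.mem_eigenspace_iff, one_smul]
        apply Subtype.ext
        rw [hX']
        exact hxw
      · rintro ⟨w', hw', rfl⟩
        rw [SetLike.mem_coe, Module.End.mem_eigenspace_iff, one_smul] at hw'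
        refine ⟨w'.2, ?_⟩
        have h2 := congrArg Subtype.val hw'
        rw [hX'] at h2
        exact h2
    have h2 : Module.finrank K F = Module.finrank K (X'.eigenspace 1) := by
      rw [h1]
      exact (LinearEquiv.finrank_eq
        (Submodule.equivMapOfInjective W.subtype W.injective_subtype (X'.eigenspace 1))).symm
    have h3 : (Module.finrank K (X'.eigenspace 1)) ^ 2
        ≤ ∑ j : Fin h, (Module.finrank K (X'.eigenspace (ζ ^ (j : ℕ)))) ^ 2 := by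
      have h4 := Finset.single_le_sum (f := fun j : Fin h =>
        (Module.finrank K (X'.eigenspace (ζ ^ (j : ℕ)))) ^ 2) (fun i _ => Nat.zero_le _)
        (Finset.mem_univ (⟨0, hh⟩ : Fin h))
      have e : X'.eigenspace (ζ ^ 0) = X'.eigenspace 1 := by rw [pow_zero]
      have h4' : (Module.finrank K (X'.eigenspace (ζ ^ 0))) ^ 2
          ≤ ∑ j : Fin h, (Module.finrank K (X'.eigenspace (ζ ^ (j : ℕ)))) ^ 2 := h4
      rw [e] at h4'
      exact h4'
    rw [h2]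
    have h5 := Nat.mul_le_mul_left h h3
    omega
  · intro hfix hdim ε hε hε1
    obtain ⟨v, hv0, hv⟩ := extra_spec R' Z' X' σ h hh hd hσZ hXR hX'h hσh hfpf' hirr hQK' hhK
      (hfix' hfix) hdim ε hε hε1
    refine ⟨v, v.2, fun h0 => hv0 (Subtype.ext h0), ?_⟩
    have h1 := congrArg Subtype.val hv
    rw [hX'] at h1
    exact h1

end

end Cfsg.Agent.Lib.helper66
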