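import Mathlib

/-!
# The Frobenius partition identity for operators

Let `ρ : Γ →* AddMonoid.End A` be an action of a finite group on an abelian group, and write
`tr ρ H = ∑_{h ∈ H} ρ h`. If `R` normalises `N` and every non-identity element of `R` acts on `N`
without non-trivial fixed points (so `N R` is a Frobenius group with kernel `N`), then

  `∑_{x ∈ N} ρ x⁻¹ * tr ρ R * ρ x = |N| + tr ρ R * tr ρ N - tr ρ N`   (`frob_sum`).

Consequences:
* `eq_one_of_tr_eq_zero` : if moreover `tr ρ R = 0` (e.g. `R` has no fixed points on `A`) and `A`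
  has exponent prime to `|N|`, then `N` acts trivially.
* `tr_zpowers` : `tr ρ (zpowers g) = ∑_{i < orderOf g} (ρ g) ^ i`.
* `addRep` : the additive form of an action `Γ →* MulAut W` on a commutative group.
-/

set_option autoImplicit false
set_option linter.style.haveILetI false
set_option linter.unusedSectionVars false

namespace Cfsg.Agent.Lib.helper66

section frob

variable {Γ : Type*} [Group Γ] [Finite Γ] {A : Type*} [AddCommGroup A]

/-- The sum of the operators `ρ n` over a subgroup. -/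
noncomputable def tr (ρ : Γ →* AddMonoid.End A) (N : Subgroup Γ) : AddMonoid.End A :=
  ∑ᶠ n : ↥N, ρ (n : Γ)

theorem tr_eq_sum (ρ : Γ →* AddMonoid.End A) (N : Subgroup Γ) [Fintype ↥N] :
    tr ρ N = ∑ n : ↥N, ρ (n : Γ) := finsum_eq_sum_of_fintype _

theorem mul_tr (ρ : Γ →* AddMonoid.End A) (N : Subgroup Γ) (g : Γ) (hg : g ∈ N) :
    ρ g * tr ρ N = tr ρ N := by
  letI : Fintype ↥N := Fintype.ofFinite ↥N
  rw [tr_eq_sum, Finset.mul_sum]
  exact Fintype.sum_equiv (Equiv.mulLeft (⟨g, hg⟩ : ↥N)) _ _ (fun n => by simp [map_mul])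

theorem tr_mul_tr (ρ : Γ →* AddMonoid.End A) (N : Subgroup Γ) :
    tr ρ N * tr ρ N = (Nat.card N) • tr ρ N := by
  letI : Fintype ↥N := Fintype.ofFinite ↥N
  have h : tr ρ N * tr ρ N = ∑ n : ↥N, ρ (n : Γ) * tr ρ N := by
    nth_rewrite 1 [tr_eq_sum]
    rw [Finset.sum_mul]
  rw [h, Finset.sum_congr rfl (fun (n : ↥N) _ => mul_tr ρ N (n : Γ) n.2), Finset.sum_const,
    Finset.card_univ, Nat.card_eq_fintype_card]

/-- `tr ρ (zpowers g)` as a sum of powers. -/
theorem tr_zpowers (ρ : Γ →* AddMonoid.End A) (g : Γ) :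
    tr ρ (Subgroup.zpowers g) = ∑ i ∈ Finset.range (orderOf g), ρ g ^ i := by
  letI : Fintype ↥(Subgroup.zpowers g) := Fintype.ofFinite _
  rw [tr_eq_sum, ← Fin.sum_univ_eq_sum_range (fun i => ρ g ^ i) (orderOf g)]
  refine (Fintype.sum_equiv (finEquivZPowers (isOfFinOrder_of_finite g)) _ _ (fun i => ?_)).symm
  rw [finEquivZPowers_apply, map_pow]

/-- The Frobenius partition identity. -/
theorem frob_sum (ρ : Γ →* AddMonoid.End A) (N R : Subgroup Γ)
    (hNR : ∀ r ∈ R, ∀ n ∈ N, r * n * r⁻¹ ∈ N)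
    (hfpf : ∀ r ∈ R, r ≠ 1 → ∀ n ∈ N, r * n * r⁻¹ = n → n = 1) :
    ∑ᶠ x : ↥N, ρ (x : Γ)⁻¹ * tr ρ R * ρ (x : Γ)
      = (Nat.card N) • (1 : AddMonoid.End A) + tr ρ R * tr ρ N - tr ρ N := by
  classical
  letI : Fintype ↥N := Fintype.ofFinite ↥N
  letI : Fintype ↥R := Fintype.ofFinite ↥R
  rw [finsum_eq_sum_of_fintype]
  have h1 : ∀ x : ↥N, ρ (x : Γ)⁻¹ * tr ρ R * ρ (x : Γ)
      = ∑ r : ↥R, ρ ((x : Γ)⁻¹ * (r : Γ) * (x : Γ)) := by
    intro x
    rw [tr_eq_sum, Finset.mul_sum, Finset.sum_mul]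
    exact Finset.sum_congr rfl (fun r _ => by rw [map_mul, map_mul])
  rw [Finset.sum_congr rfl (fun x _ => h1 x), Finset.sum_comm]
  have h3 : ∀ r : ↥R, ∑ x : ↥N, ρ ((x : Γ)⁻¹ * (r : Γ) * (x : Γ))
      = ρ (r : Γ) * tr ρ N
        + (if r = 1 then (Nat.card N) • (1 : AddMonoid.End A) - tr ρ N else 0) := by
    intro r
    by_cases hr : r = 1
    · subst hr
      rw [if_pos rfl]
      simp only [Subgroup.coe_one, mul_one, inv_mul_cancel, map_one, Finset.sum_const,
        Finset.card_univ, one_mul]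
      rw [Nat.card_eq_fintype_card]
      abel
    · rw [if_neg hr, add_zero]
      have hr1 : (r : Γ) ≠ 1 := fun h => hr (Subtype.ext h)
      let ψ : ↥N → ↥N := fun x =>
        ⟨(r : Γ)⁻¹ * (x : Γ)⁻¹ * (r : Γ) * (x : Γ),
          N.mul_mem (by simpa using hNR (r : Γ)⁻¹ (R.inv_mem r.2) _ (N.inv_mem x.2)) x.2⟩
      have hψinj : Function.Injective ψ := by
        intro x y hxy
        have h := congrArg Subtype.val hxy
        simp only [ψ] at h
        have h2 : (r : Γ) * ((x : Γ) * (y : Γ)⁻¹) * (r : Γ)⁻¹ = (x : Γ) * (y : Γ)⁻¹ := by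
          have h' : (x : Γ)⁻¹ * (r : Γ) * (x : Γ) = (y : Γ)⁻¹ * (r : Γ) * (y : Γ) := by
            have := congrArg (fun t => (r : Γ) * t) h
            simpa [mul_assoc] using this
          have h'' : (r : Γ) * (x : Γ) * (y : Γ)⁻¹ = (x : Γ) * (y : Γ)⁻¹ * (r : Γ) := by
            have := congrArg (fun t => (x : Γ) * t * (y : Γ)⁻¹) h'
            simpa [mul_assoc] using this
          rw [← mul_assoc, h'']
          simp [mul_assoc]
        have h3 := hfpf r r.2 hr1 _ (N.mul_mem x.2 (N.inv_mem y.2)) h2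
        exact Subtype.ext (mul_inv_eq_one.mp h3)
      have hψbij : Function.Bijective ψ := Finite.injective_iff_bijective.mp hψinj
      have h4 : ∀ x : ↥N, ρ ((x : Γ)⁻¹ * (r : Γ) * (x : Γ)) = ρ (r : Γ) * ρ ((ψ x : ↥N) : Γ) := by
        intro x
        rw [← map_mul]
        congr 1
        simp [ψ, mul_assoc]
      rw [Finset.sum_congr rfl (fun x _ => h4 x), ← Finset.mul_sum, tr_eq_sum]
      congr 1
      exact Fintype.sum_equiv (Equiv.ofBijective ψ hψbij) _ _ (fun x => rfl)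
  rw [Finset.sum_congr rfl (fun r _ => h3 r), Finset.sum_add_distrib, ← Finset.sum_mul,
    ← tr_eq_sum, Finset.sum_ite_eq' Finset.univ (1 : ↥R), if_pos (Finset.mem_univ _)]
  abel

theorem eq_zsmul_nsmul {ℓ n : ℕ} (hcop : Nat.Coprime n ℓ) (hA : ∀ a : A, ℓ • a = 0) (a : A) :
    a = (Nat.gcdA n ℓ) • (n • a) := by
  have h1 : (1 : ℤ) = (n : ℤ) * Nat.gcdA n ℓ + (ℓ : ℤ) * Nat.gcdB n ℓ := by
    have := Nat.gcd_eq_gcd_ab n ℓ
    rw [hcop.gcd_eq_one] at this
    exact_mod_cast this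
  calc a = (1 : ℤ) • a := (one_zsmul a).symm
    _ = (Nat.gcdA n ℓ) • (n • a) := by
      rw [h1, add_zsmul, mul_comm, mul_zsmul, mul_comm (ℓ : ℤ), mul_zsmul, natCast_zsmul,
        natCast_zsmul, hA a, zsmul_zero, add_zero]

/-- In a Frobenius action `N R` on an abelian group of exponent prime to `|N|`: if the trace of
the complement vanishes then the kernel `N` acts trivially. -/
theorem eq_one_of_tr_eq_zero (ρ : Γ →* AddMonoid.End A) (N R : Subgroup Γ)
    (hNR : ∀ r ∈ R, ∀ n ∈ N, r * n * r⁻¹ ∈ N)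
    (hfpf : ∀ r ∈ R, r ≠ 1 → ∀ n ∈ N, r * n * r⁻¹ = n → n = 1)
    {ℓ : ℕ} (hA : ∀ a : A, ℓ • a = 0) (hcop : (Nat.card N).Coprime ℓ)
    (hR : tr ρ R = 0) : ∀ k ∈ N, ρ k = 1 := by
  intro k hk
  have h1 := frob_sum ρ N R hNR hfpf
  simp only [hR, mul_zero, zero_mul, finsum_zero, add_zero] at h1
  have h2 : tr ρ N = (Nat.card N) • (1 : AddMonoid.End A) := (sub_eq_zero.mp h1.symm).symm
  have h3 := mul_tr ρ N k hk
  rw [h2] at h3
  ext a
  have h4 := congrArg (fun φ : AddMonoid.End A => φ a) h3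
  have h5 : (Nat.card N) • (ρ k a) = (Nat.card N) • a := by
    have e1 : (ρ k * (Nat.card N) • (1 : AddMonoid.End A)) a = (Nat.card N) • (ρ k a) := by
      change ρ k ((Nat.card N) • a) = _
      rw [map_nsmul]
    have e2 : ((Nat.card N) • (1 : AddMonoid.End A)) a = (Nat.card N) • a := rfl
    rw [← e1, ← e2]
    exact h4
  rw [eq_zsmul_nsmul hcop hA (ρ k a), h5, ← eq_zsmul_nsmul hcop hA a]
  rfl

end frob

/-- The additive form of an action by automorphisms on a commutative group. -/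
def addRep {Γ W : Type*} [Group Γ] [CommGroup W] (σ : Γ →* MulAut W) :
    Γ →* AddMonoid.End (Additive W) where
  toFun g := MonoidHom.toAdditive (σ g).toMonoidHom
  map_one' := by
    rw [map_one]
    rfl
  map_mul' := fun g h => by
    rw [map_mul]
    rfl

theorem addRep_apply {Γ W : Type*} [Group Γ] [CommGroup W] (σ : Γ →* MulAut W) (g : Γ)
    (w : W) : addRep σ g (Additive.ofMul w) = Additive.ofMul (σ g w) := rfl

end Cfsg.Agent.Lib.helper66
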