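import Mathlib
import Cfsg.Agent.Lib.helper66.FrobIdentity

/-!
# The conjugation representation on a commutative normal subgroup

For a normal subgroup `V` of `G` with `[IsMulCommutative ↥V]`, `conjRep V` is the action of
`G ⧸ V` on `Additive ↥V` by conjugation, as a monoid homomorphism into `AddMonoid.End`.

* `conjRep_mk` : `conjRep V (mk g) (ofMul v) = ofMul (g v g⁻¹)`.
* `conjRep_sum_pow` : `(∑_{i<m} conjRep V (mk x) ^ i) (ofMul v) = ofMul ((v x)^m (x^m)⁻¹)`.
* `conjRep_faithful` : if `C_G(V) ≤ V` then `conjRep V` is injective.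
* `one_add_pow_of_mul_self_eq_zero` : `(1 + d)^n = 1 + n • d` when `d * d = 0`.

Use `open scoped IsMulCommutative` downstream so that `AddCommGroup (Additive ↥V)` is found.
-/

set_option autoImplicit false
set_option linter.style.haveILetI false
set_option linter.unusedSectionVars false

namespace Cfsg.Agent.Lib.helper66

open scoped IsMulCommutative

theorem one_add_pow_of_mul_self_eq_zero {R : Type*} [Ring R] (d : R) (hd : d * d = 0) (n : ℕ) :
    (1 + d) ^ n = 1 + n • d := by
  induction n with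
  | zero => simp
  | succ n ih =>
    have e : (n • d) * d = 0 := by rw [smul_mul_assoc, hd, smul_zero]
    rw [pow_succ, ih, add_mul, mul_add, mul_add, mul_one, one_mul, mul_one, e, add_zero,
      succ_nsmul]
    abel

section conjRep

variable {G : Type*} [Group G] (V : Subgroup G) [hVn : V.Normal]

theorem mul_pow_mul_inv_mem_normal (x : G) (h : G) (hh : h ∈ V) (m : ℕ) :
    (h * x) ^ m * (x ^ m)⁻¹ ∈ V := by
  induction m with
  | zero => simp
  | succ m ih =>
    have e : (h * x) ^ (m + 1) * (x ^ (m + 1))⁻¹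
        = ((h * x) ^ m * (x ^ m)⁻¹) * (x ^ m * h * (x ^ m)⁻¹) := by
      rw [pow_succ, pow_succ]
      group
    rw [e]
    exact V.mul_mem ih (hVn.conj_mem h hh (x ^ m))

variable [hVc : IsMulCommutative ↥V]

theorem conjNormal_eq_one_of_mem_of_comm (g : G) (hg : g ∈ V) :
    (MulAut.conjNormal g : MulAut ↥V) = 1 := by
  ext v
  rw [MulAut.conjNormal_apply, MulAut.one_apply]
  have h1 : (⟨g, hg⟩ : ↥V) * v = v * ⟨g, hg⟩ := mul_comm' _ _
  have h2 : g * (v : G) = (v : G) * g := congrArg Subtype.val h1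
  rw [h2, mul_inv_cancel_right]

/-- The conjugation action of `G ⧸ V` on a commutative normal subgroup `V`, written additively. -/
noncomputable def conjRep : G ⧸ V →* AddMonoid.End (Additive ↥V) :=
  addRep (QuotientGroup.lift V (MulAut.conjNormal : G →* MulAut ↥V)
    (fun g hg => MonoidHom.mem_ker.mpr (conjNormal_eq_one_of_mem_of_comm V g hg)))

theorem conjRep_mk (g : G) (v : ↥V) :
    conjRep V (QuotientGroup.mk g) (Additive.ofMul v)
      = Additive.ofMul (MulAut.conjNormal g v) := by
  unfold conjRep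
  rw [addRep_apply, QuotientGroup.lift_mk]

theorem conjRep_sum_pow (x : G) (v : ↥V) (m : ℕ) :
    (∑ i ∈ Finset.range m, conjRep V (QuotientGroup.mk x) ^ i) (Additive.ofMul v)
      = Additive.ofMul
          (⟨((v : G) * x) ^ m * (x ^ m)⁻¹, mul_pow_mul_inv_mem_normal V x v v.2 m⟩ : ↥V) := by
  induction m with
  | zero =>
    have e : (⟨((v : G) * x) ^ 0 * (x ^ 0)⁻¹, mul_pow_mul_inv_mem_normal V x v v.2 0⟩ : ↥V) = 1 :=
      Subtype.ext (by simp)
    rw [e, Finset.range_zero, Finset.sum_empty]
    rfl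
  | succ m ih =>
    rw [Finset.sum_range_succ]
    change (∑ i ∈ Finset.range m, conjRep V (QuotientGroup.mk x) ^ i) (Additive.ofMul v)
      + (conjRep V (QuotientGroup.mk x) ^ m) (Additive.ofMul v) = _
    rw [ih, ← map_pow, ← QuotientGroup.mk_pow, conjRep_mk, ← ofMul_mul]
    congr 1
    apply Subtype.ext
    simp only [Subgroup.coe_mul, MulAut.conjNormal_apply, pow_succ]
    group

/-- If `V` is self-centralising then the conjugation representation of `G ⧸ V` is faithful. -/
theorem conjRep_faithful (hC : Subgroup.centralizer (V : Set G) ≤ V) (γ : G ⧸ V)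
    (h : conjRep V γ = 1) : γ = 1 := by
  obtain ⟨g, rfl⟩ := QuotientGroup.mk_surjective γ
  rw [QuotientGroup.eq_one_iff]
  apply hC
  rw [Subgroup.mem_centralizer_iff]
  intro v hv
  have h1 := congrArg (fun φ : AddMonoid.End (Additive ↥V) =>
    ((Additive.toMul (φ (Additive.ofMul (⟨v, hv⟩ : ↥V))) : ↥V) : G)) h
  simp only [conjRep_mk] at h1
  have h2 : g * v * g⁻¹ = v := h1
  have h3 := congrArg (fun t => t * g) h2
  simpa using h3.symm

/-- Exponent of the module. -/
theorem nsmul_additive_eq_zero {n : ℕ} (hV : ∀ v ∈ V, v ^ n = 1) (w : Additive ↥V) :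
    n • w = 0 := by
  obtain ⟨v, rfl⟩ : ∃ v : ↥V, Additive.ofMul v = w := ⟨Additive.toMul w, rfl⟩
  rw [← ofMul_pow]
  have e : v ^ n = 1 := Subtype.ext (by simpa using hV v v.2)
  rw [e]
  rfl

end conjRep

end Cfsg.Agent.Lib.helper66
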