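import Mathlib
import Cfsg.Agent.Lib.helper49.SPEDefs
import Cfsg.Agent.Lib.helper66.SPEEISOcore

/-! S2333 piece EISO (helper66): `card_iso_le`, from the core and an own copy of ENORM. -/

set_option autoImplicit false

namespace Cfsg.Agent.Lib.helper49.SPE

/-- ENORM (own copy, prefixed): an anisotropic binary form takes the value `a` at most `q + 1` times -/
theorem h66_card_norm_le {F : Type*} [Field F] [Fintype F] (h2 : (2 : F) = 0) (a b c : F)
    (haniso : ∀ s t : F, bq a b c s t = 0 → s = 0 ∧ t = 0) :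
    Nat.card {p : F × F // bq a b c p.1 p.2 = a} ≤ Fintype.card F + 1 := by
  classical
  have ha : a ≠ 0 := by
    intro ha
    have h1 := haniso 1 0 (by simp [bq, ha])
    exact one_ne_zero h1.1
  rw [Nat.card_eq_fintype_card]
  -- the injection `(κ, (p, s)) ↦ (κ p, κ s)`
  let Φ : Fˣ × {p : F × F // bq a b c p.1 p.2 = a} → {v : F × F // v ≠ 0} :=
    fun x => ⟨((x.1 : F) * x.2.1.1, (x.1 : F) * x.2.1.2), by
      intro h0
      have h1 : (x.1 : F) * x.2.1.1 = 0 := congrArg Prod.fst h0
      have h3 : (x.1 : F) * x.2.1.2 = 0 := congrArg Prod.snd h0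
      have h4 : x.2.1.1 = 0 := (mul_eq_zero.mp h1).resolve_left x.1.ne_zero
      have h5 : x.2.1.2 = 0 := (mul_eq_zero.mp h3).resolve_left x.1.ne_zero
      have h6 := x.2.2
      rw [h4, h5] at h6
      apply ha
      rw [← h6]
      simp [bq]⟩
  have hΦ : Function.Injective Φ := by
    rintro ⟨κ, ⟨⟨p, s⟩, hps⟩⟩ ⟨κ', ⟨⟨p', s'⟩, hps'⟩⟩ h
    have h1 : ((κ : F) * p, (κ : F) * s) = ((κ' : F) * p', (κ' : F) * s') :=
      congrArg Subtype.val h
    obtain ⟨e1, e2⟩ := Prod.mk.inj h1
    simp only [bq] at hps hps'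
    have h3 : ((κ : F) - κ') ^ 2 * a = 0 := by
      have h4 : (κ : F) ^ 2 * a = (κ' : F) ^ 2 * a := by
        have l : (κ : F) ^ 2 * a = a * ((κ : F) * p) ^ 2 + b * ((κ : F) * p) * ((κ : F) * s)
            + c * ((κ : F) * s) ^ 2 := by
          linear_combination (-(κ : F) ^ 2) * hps
        have r : (κ' : F) ^ 2 * a = a * ((κ' : F) * p') ^ 2 + b * ((κ' : F) * p') * ((κ' : F) * s')
            + c * ((κ' : F) * s') ^ 2 := by
          linear_combination (-(κ' : F) ^ 2) * hps'
        rw [l, r, e1, e2]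
      linear_combination h4 - (κ : F) * κ' * a * h2 + (κ' : F) ^ 2 * a * h2
    have h5 : (κ : F) = κ' := by
      have h6 := (mul_eq_zero.mp h3).resolve_right ha
      exact sub_eq_zero.mp ((pow_eq_zero_iff (two_ne_zero)).mp h6)
    have hκ : κ = κ' := Units.ext h5
    subst hκ
    have hp : p = p' := mul_left_cancel₀ κ.ne_zero e1
    have hs : s = s' := mul_left_cancel₀ κ.ne_zero e2
    subst hp
    subst hs
    rfl
  have hcard := Fintype.card_le_of_injective Φ hΦ
  rw [Fintype.card_prod, Fintype.card_units] at hcard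
  have hsub : Fintype.card {v : F × F // v ≠ 0} + 1 ≤ Fintype.card F * Fintype.card F := by
    rw [← Fintype.card_prod, ← Fintype.card_option]
    apply Fintype.card_le_of_injective (fun o : Option {v : F × F // v ≠ 0} =>
      match o with
      | none => (0 : F × F)
      | some v => v.1)
    intro o o' h
    cases o with
    | none =>
      cases o' with
      | none => rfl
      | some v' => exact absurd h.symm v'.2
    | some v =>
      cases o' with
      | none => exact absurd h v.2
      | some v' => exact congrArg some (Subtype.ext h)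
  have hq : 2 ≤ Fintype.card F := Fintype.one_lt_card
  obtain ⟨k, hk⟩ : ∃ k, Fintype.card F = k + 2 := ⟨Fintype.card F - 2, by omega⟩
  rw [hk] at hcard hsub ⊢
  have h7 : (k + 1) * Fintype.card {p : F × F // bq a b c p.1 p.2 = a} ≤ (k + 1) * (k + 3) := by
    have h8 : (k + 2 - 1) = k + 1 := by omega
    rw [h8] at hcard
    nlinarith
  exact Nat.le_of_mul_le_mul_left h7 (Nat.succ_pos k)

/-- EISO (L) -/
theorem card_iso_le {F : Type*} [Field F] [Fintype F] (h2 : (2 : F) = 0) (a b c : F) (hb : b ≠ 0)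
    (haniso : ∀ s t : F, bq a b c s t = 0 → s = 0 ∧ t = 0) :
    Nat.card {g : (F × F) × (F × F) // ∀ S T : F,
        bq a b c (g.1.1 * S + g.1.2 * T) (g.2.1 * S + g.2.2 * T) = bq a b c S T} ≤
      2 * (Fintype.card F + 1) :=
  h66_card_iso_le_core h2 a b c hb haniso (h66_card_norm_le h2 a b c haniso)

end Cfsg.Agent.Lib.helper49.SPE
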