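import Mathlib
import Cfsg.Agent.Lib.helper2.BGDefs
import Cfsg.Agent.Lib.helper20.D1EFinal
import Cfsg.Agent.Lib.helper4.CharDecomp
import Cfsg.Agent.Lib.helper81.Kernel
import Cfsg.Agent.Lib.helper82.BGP
import Cfsg.Agent.Lib.helper48.BGJ
import Cfsg.Agent.Lib.helper97.BFB6a
import Cfsg.Agent.Lib.helper79.GaloisChar

/-!
# S4504 piece K (`Dlam_formula`), parallel copy by helper66 under a prefixed name

Among the irreducible characters with the central character of `ψ`, only `ψ` and its Galois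
conjugate `ψ' = ψ ∘ (· ^ mp)` take different values at `x` and `x ^ mp`.
-/

set_option autoImplicit false

open Cfsg Cfsg.Agent.Lib.helper20.D1E Cfsg.Agent.Lib.helper2.BF
open scoped ComplexConjugate

namespace Cfsg.Agent.Lib.helper2.BG

variable {G : Type*} [Group G] [Fintype G]

omit [Fintype G] in
/-- Powers of an element with `x ^ p = 1` only depend on the exponent mod `p`. -/
theorem helper66_pow_eq (p : ℕ) [Fact p.Prime] (x : G) (hxp : x ^ p = 1) (a b : ℕ)
    (h : (a : ZMod p) = (b : ZMod p)) : x ^ a = x ^ b := by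
  rw [pow_eq_pow_mod a hxp, pow_eq_pow_mod b hxp]
  congr 1
  exact (ZMod.natCast_eq_natCast_iff' a b p).mp h

/-- A sum over the units which is constant on `H` and on its complement (`H` of index 2). -/
theorem helper66_units_sum (p : ℕ) [Fact p.Prime] (H : Subgroup (ZMod p)ˣ)
    (he : 2 * Nat.card H + 1 = p) (f : (ZMod p)ˣ → ℂ) (A B : ℂ)
    (hA : ∀ u : (ZMod p)ˣ, u ∈ H → f u = A) (hB : ∀ u : (ZMod p)ˣ, u ∉ H → f u = B) :
    ∑ u : (ZMod p)ˣ, f u = (Nat.card H : ℂ) * (A + B) := by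
  classical
  have h1 : (Finset.univ.filter (fun u : (ZMod p)ˣ => u ∈ H)).card = Nat.card H := by
    rw [Nat.card_eq_fintype_card, Fintype.card_subtype]
  have h2 : (Finset.univ.filter (fun u : (ZMod p)ˣ => ¬ u ∈ H)).card = Nat.card H := by
    have h3 := Finset.card_filter_add_card_filter_not
      (s := (Finset.univ : Finset (ZMod p)ˣ)) (fun u : (ZMod p)ˣ => u ∈ H)
    rw [h1, Finset.card_univ, ZMod.card_units] at h3
    omega
  rw [← Finset.sum_filter_add_sum_filter_not Finset.univ (fun u : (ZMod p)ˣ => u ∈ H)]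
  rw [Finset.sum_congr rfl (fun u hu => hA u (Finset.mem_filter.mp hu).2),
    Finset.sum_congr rfl (fun u hu => hB u (Finset.mem_filter.mp hu).2),
    Finset.sum_const, Finset.sum_const, h1, h2]
  simp only [nsmul_eq_mul]
  ring

omit [Fintype G] in
/-- Values of a class function on the powers of `x`. -/
theorem helper66_cf_pow (p : ℕ) [Fact p.Prime] (x : G) (hxp : x ^ p = 1)
    (H : Subgroup (ZMod p)ˣ)
    (hH : ∀ r : (ZMod p)ˣ, r ∈ H ↔ ∃ n : G, n * x * n⁻¹ = x ^ ((r : ZMod p).val))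
    (he : 2 * Nat.card H + 1 = p) (c : (ZMod p)ˣ) (hc : c ∉ H) (mp : ℕ)
    (hmc : (mp : ZMod p) = (c : ZMod p)) (F : G → ℂ) (hF : IsClassFunction G F) :
    (∀ u : (ZMod p)ˣ, u ∈ H → F (x ^ ((u : ZMod p).val)) = F x) ∧
    (∀ u : (ZMod p)ˣ, u ∉ H → F (x ^ ((u : ZMod p).val)) = F (x ^ mp)) := by
  have hidx := helper82_index_two p H he
  refine ⟨fun u hu => ?_, fun u hu => ?_⟩
  · obtain ⟨n, hn⟩ := (hH u).mp hu
    rw [← hn]
    exact hF x n
  · have hmem : c⁻¹ * u ∈ H := by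
      rw [Subgroup.mul_mem_iff_of_index_two hidx, inv_mem_iff]
      exact ⟨fun h => absurd h hc, fun h => absurd h hu⟩
    obtain ⟨n, hn⟩ := (hH (c⁻¹ * u)).mp hmem
    have h1 : n * x ^ mp * n⁻¹ = x ^ ((u : ZMod p).val) := by
      rw [← conj_pow, hn, ← pow_mul]
      apply helper66_pow_eq p x hxp
      rw [Nat.cast_mul, ZMod.natCast_zmod_val, ZMod.natCast_zmod_val, hmc, Units.val_mul]
      have hcc : ((c⁻¹ : (ZMod p)ˣ) : ZMod p) * (c : ZMod p) = 1 := by
        rw [← Units.val_mul, inv_mul_cancel, Units.val_one]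
      linear_combination ((u : (ZMod p)ˣ) : ZMod p) * hcc
    rw [← h1]
    exact hF (x ^ mp) n

/-- The key vanishing: an irreducible character with the central character of `ψ`, different
from `ψ` and from its Galois conjugate, takes the same value at `x` and `x ^ mp`. -/
theorem helper66_exc (p : ℕ) [Fact p.Prime] (P : Sylow p G) (hP : Nat.card P = p)
    (x : G) (hx : x ∈ (P : Subgroup G)) (hx1 : x ≠ 1) (H : Subgroup (ZMod p)ˣ)
    (hH : ∀ r : (ZMod p)ˣ, r ∈ H ↔ ∃ n : G, n * x * n⁻¹ = x ^ ((r : ZMod p).val))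
    (ψ : IrrCharacter G) (a₀ : (ZMod p)ˣ) (hmu : OrbitMu p x H (ψ : G → ℂ) a₀ 1)
    (he : 2 * Nat.card H + 1 = p)
    (hK : ∀ k ∈ Subgroup.centralizer ((P : Subgroup G) : Set G), ¬ p ∣ orderOf k →
      k ∈ Subgroup.center G)
    (hZ : ∀ z ∈ Subgroup.center G, ¬ p ∣ orderOf z)
    (c : (ZMod p)ˣ) (hc : c ∉ H) (mp : ℕ)
    (hmc : (mp : ZMod p) = (c : ZMod p)) (hmreg : ∀ g : G, ¬ p ∣ orderOf g → g ^ mp = g)
    (ψ' : IrrCharacter G) (hψ' : ∀ g : G, (ψ' : G → ℂ) g = (ψ : G → ℂ) (g ^ mp))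
    (χ : IrrCharacter G) (hs : SameCentral (χ : G → ℂ) (ψ : G → ℂ))
    (h1 : χ ≠ ψ) (h2 : χ ≠ ψ') :
    (χ : G → ℂ) x = (χ : G → ℂ) (x ^ mp) := by
  classical
  have hxp : x ^ p = 1 := by
    have h := Subgroup.orderOf_dvd_natCard (P : Subgroup G) hx
    rw [hP] at h
    exact orderOf_dvd_iff_pow_eq_one.mp h
  have hψc : IsCharacter G (ψ : G → ℂ) := by
    obtain ⟨d, ρ, -, h⟩ := ψ.2
    exact ⟨d, ρ, h⟩
  have hidx := helper82_index_two p H he
  obtain ⟨hpf1, hpf2, -, hpf4, -, -, -⟩ :=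
    period_facts p x hxp H (ψ : G → ℂ) hψc a₀ hmu he c hc mp hmc
  set γ : ℂ := (ψ : G → ℂ) x with hγ
  set γ' : ℂ := (ψ : G → ℂ) (x ^ mp) with hγ'
  have hχ1 : (χ : G → ℂ) 1 ≠ 0 := Cfsg.Agent.Lib.helper81.irr_one_ne_zero χ
  have hψ1 : (ψ : G → ℂ) 1 ≠ 0 := Cfsg.Agent.Lib.helper81.irr_one_ne_zero ψ
  -- the class function
  set F : G → ℂ := fun g => (χ : G → ℂ) g * conj ((ψ : G → ℂ) g - (ψ : G → ℂ) (g ^ mp))
    with hFdef
  have hχcf := Cfsg.Agent.Lib.helper81.irr_classFun χ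
  have hψcf := Cfsg.Agent.Lib.helper81.irr_classFun ψ
  have hF : IsClassFunction G F := by
    intro g t
    simp only [hFdef]
    rw [conj_pow, hχcf g t, hψcf g t, hψcf (g ^ mp) t]
  have hreg : ∀ g, ¬ p ∣ orderOf g → F g = 0 := by
    intro g hg
    simp only [hFdef]
    rw [hmreg g hg, sub_self, map_zero, mul_zero]
  have hFz : ∀ g z : G, z ∈ Subgroup.center G → F (g * z) = F g := by
    intro g z hz
    simp only [hFdef]
    have hzc : ∀ t : G, t * z = z * t := fun t => Subgroup.mem_center_iff.mp hz t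
    have hpw : (g * z) ^ mp = g ^ mp * z := by
      rw [(show Commute g z from hzc g).mul_pow, hmreg z (hZ z hz)]
    rw [hpw, helper48_cm χ g z hz, helper48_cm ψ g z hz, helper48_cm ψ (g ^ mp) z hz]
    have hμ : (χ : G → ℂ) z / (χ : G → ℂ) 1 = (ψ : G → ℂ) z / (ψ : G → ℂ) 1 := by
      rw [div_eq_div_iff hχ1 hψ1]
      exact hs z hz
    rw [hμ, ← mul_sub, map_mul]
    have hn := helper48_cm_norm ψ z hz
    linear_combination ((χ : G → ℂ) g *
      conj ((ψ : G → ℂ) g - (ψ : G → ℂ) (g ^ mp))) * hn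
  -- the sum of `F` over the group vanishes
  have hcard : (Nat.card G : ℂ) ≠ 0 := by
    have : 0 < Nat.card G := Nat.card_pos
    exact_mod_cast this.ne'
  have hsum0 : ∑ g : G, F g = 0 := by
    have e1 := Cfsg.Agent.Lib.helper81.irr_classInner_ne h1
    have e2 := Cfsg.Agent.Lib.helper81.irr_classInner_ne h2
    unfold classInner at e1 e2
    have e1' : ∑ g : G, (χ : G → ℂ) g * conj ((ψ : G → ℂ) g) = 0 := by
      rcases mul_eq_zero.mp e1 with h | h
      · exact absurd (inv_eq_zero.mp h) hcard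
      · exact h
    have e2' : ∑ g : G, (χ : G → ℂ) g * conj ((ψ' : G → ℂ) g) = 0 := by
      rcases mul_eq_zero.mp e2 with h | h
      · exact absurd (inv_eq_zero.mp h) hcard
      · exact h
    have : ∑ g : G, F g = ∑ g : G, (χ : G → ℂ) g * conj ((ψ : G → ℂ) g)
        - ∑ g : G, (χ : G → ℂ) g * conj ((ψ' : G → ℂ) g) := by
      rw [← Finset.sum_sub_distrib]
      refine Finset.sum_congr rfl (fun g _ => ?_)
      simp only [hFdef]
      rw [hψ' g, map_sub]
      ring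
    rw [this, e1', e2', sub_zero]
  -- TI counting
  have hTI := norm_TI p P hP x hx hx1 F hF hreg
  rw [hsum0, mul_zero] at hTI
  have hset : {k : G | k ∈ Subgroup.centralizer ((P : Subgroup G) : Set G) ∧ ¬ p ∣ orderOf k}
      = ((Subgroup.center G : Subgroup G) : Set G) := by
    ext k
    constructor
    · rintro ⟨hk1, hk2⟩
      exact hK k hk1 hk2
    · intro hk
      refine ⟨?_, hZ k hk⟩
      exact Subgroup.center_le_centralizer _ hk
  have hinner : ∀ u : (ZMod p)ˣ, ∑ k : G, Set.indicator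
        {k : G | k ∈ Subgroup.centralizer ((P : Subgroup G) : Set G) ∧ ¬ p ∣ orderOf k}
        (fun k => F (x ^ (u : ZMod p).val * k)) k
      = (Nat.card (Subgroup.center G) : ℂ) * F (x ^ (u : ZMod p).val) := by
    intro u
    rw [hset, helper48_sum_ind_congr (Subgroup.center G)
      (fun k => F (x ^ (u : ZMod p).val * k)) (fun _ => F (x ^ (u : ZMod p).val))
      (fun z hz => hFz _ z hz), helper48_sum_ind_const]
  rw [Finset.sum_congr rfl (fun u _ => hinner u), ← Finset.mul_sum] at hTI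
  have hZc : (Nat.card (Subgroup.center G) : ℂ) ≠ 0 := by
    have : 0 < Nat.card (Subgroup.center G) := Nat.card_pos
    exact_mod_cast this.ne'
  have hsumu : ∑ u : (ZMod p)ˣ, F (x ^ (u : ZMod p).val) = 0 := by
    rcases mul_eq_zero.mp hTI.symm with h | h
    · exact absurd h hcard
    · rcases mul_eq_zero.mp h with h | h
      · exact absurd h hZc
      · exact h
  -- evaluation of the sum
  obtain ⟨hχH, hχN⟩ := helper66_cf_pow p x hxp H hH he c hc mp hmc (χ : G → ℂ) hχcf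
  have hpowc : ∀ u : (ZMod p)ˣ, (x ^ (u : ZMod p).val) ^ mp = x ^ ((u * c : (ZMod p)ˣ) : ZMod p).val := by
    intro u
    rw [← pow_mul]
    apply helper66_pow_eq p x hxp
    rw [Nat.cast_mul, ZMod.natCast_zmod_val, ZMod.natCast_zmod_val, hmc, Units.val_mul]
  have hA : ∀ u : (ZMod p)ˣ, u ∈ H → F (x ^ (u : ZMod p).val)
      = (χ : G → ℂ) x * conj (γ - γ') := by
    intro u hu
    simp only [hFdef]
    have huc : u * c ∉ H := by
      rw [Subgroup.mul_mem_iff_of_index_two hidx]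
      exact fun h => hc (h.mp hu)
    rw [hpowc u, hχH u hu, hpf1 u hu, hpf2 (u * c) huc]
  have hB : ∀ u : (ZMod p)ˣ, u ∉ H → F (x ^ (u : ZMod p).val)
      = (χ : G → ℂ) (x ^ mp) * conj (γ' - γ) := by
    intro u hu
    simp only [hFdef]
    have huc : u * c ∈ H := by
      rw [Subgroup.mul_mem_iff_of_index_two hidx]
      exact ⟨fun h => absurd h hu, fun h => absurd h hc⟩
    rw [hpowc u, hχN u hu, hpf2 u hu, hpf1 (u * c) huc]
  rw [helper66_units_sum p H he _ _ _ hA hB] at hsumu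
  have hHc : (Nat.card H : ℂ) ≠ 0 := by
    have : 0 < Nat.card H := Nat.card_pos
    exact_mod_cast this.ne'
  have hconj : conj (γ - γ') ≠ 0 := by
    intro h0
    rw [h0, mul_zero] at hpf4
    have hp0 : (p : ℂ) ≠ 0 := by
      have : p ≠ 0 := (Fact.out : p.Prime).ne_zero
      exact_mod_cast this
    exact hp0 hpf4.symm
  have h3 : ((χ : G → ℂ) x - (χ : G → ℂ) (x ^ mp)) * conj (γ - γ') = 0 := by
    rcases mul_eq_zero.mp hsumu with h | h
    · exact absurd h hHc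
    · have e : conj (γ' - γ) = - conj (γ - γ') := by rw [← map_neg, neg_sub]
      rw [e] at h
      linear_combination h
  rcases mul_eq_zero.mp h3 with h | h
  · exact sub_eq_zero.mp h
  · exact absurd h hconj

/-- K (parallel copy, verbatim statement of `Dlam_formula`). -/
theorem helper66_Dlam_formula (p : ℕ) [Fact p.Prime] (P : Sylow p G) (hP : Nat.card P = p)
    (x : G) (hx : x ∈ (P : Subgroup G)) (hx1 : x ≠ 1) (H : Subgroup (ZMod p)ˣ)
    (hH : ∀ r : (ZMod p)ˣ, r ∈ H ↔ ∃ n : G, n * x * n⁻¹ = x ^ ((r : ZMod p).val))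
    (ψ : IrrCharacter G) (a₀ : (ZMod p)ˣ) (hmu : OrbitMu p x H (ψ : G → ℂ) a₀ 1)
    (he : 2 * Nat.card H + 1 = p)
    (hK : ∀ k ∈ Subgroup.centralizer ((P : Subgroup G) : Set G), ¬ p ∣ orderOf k →
      k ∈ Subgroup.center G)
    (hZ : ∀ z ∈ Subgroup.center G, ¬ p ∣ orderOf z)
    (c : (ZMod p)ˣ) (hc : c ∉ H) (mp : ℕ) (hmp : mp.Coprime (Nat.card G))
    (hmc : (mp : ZMod p) = (c : ZMod p)) (hmreg : ∀ g : G, ¬ p ∣ orderOf g → g ^ mp = g)
    (h : G) (hh : ¬ p ∣ orderOf h) :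
    ∑ χ : IrrCharacter G, Set.indicator
        {χ : IrrCharacter G | SameCentral (χ : G → ℂ) (ψ : G → ℂ)}
        (fun χ => (χ : G → ℂ) x * ((χ : G → ℂ) x - (χ : G → ℂ) (x ^ mp)) *
          conj ((χ : G → ℂ) h) / (χ : G → ℂ) 1) χ
      = ((ψ : G → ℂ) x - (ψ : G → ℂ) (x ^ mp)) ^ 2 * conj ((ψ : G → ℂ) h) / (ψ : G → ℂ) 1 := by
  classical
  have hxp : x ^ p = 1 := by
    have h := Subgroup.orderOf_dvd_natCard (P : Subgroup G) hx
    rw [hP] at h
    exact orderOf_dvd_iff_pow_eq_one.mp h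
  have hψc : IsCharacter G (ψ : G → ℂ) := by
    obtain ⟨d, ρ, -, h⟩ := ψ.2
    exact ⟨d, ρ, h⟩
  obtain ⟨-, -, -, hpf4, -, hpf6, -⟩ :=
    period_facts p x hxp H (ψ : G → ℂ) hψc a₀ hmu he c hc mp hmc
  -- the Galois conjugate
  set ψ' : IrrCharacter G := ⟨fun g => (ψ : G → ℂ) (g ^ mp),
    Cfsg.Agent.Lib.helper79.isIrrCharacter_pow_coprime mp hmp ψ.2⟩ with hψ'def
  have hψ' : ∀ g : G, (ψ' : G → ℂ) g = (ψ : G → ℂ) (g ^ mp) := fun g => rfl
  have hne : ψ' ≠ ψ := by
    intro heq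
    have h1 : (ψ' : G → ℂ) x = (ψ : G → ℂ) x := by rw [heq]
    rw [hψ' x] at h1
    rw [h1, sub_self, zero_mul] at hpf4
    have hp0 : (p : ℂ) ≠ 0 := by
      have : p ≠ 0 := (Fact.out : p.Prime).ne_zero
      exact_mod_cast this
    exact hp0 hpf4.symm
  have hsψ : SameCentral ((ψ : IrrCharacter G) : G → ℂ) (ψ : G → ℂ) := fun z _ => rfl
  have hsψ' : SameCentral ((ψ' : IrrCharacter G) : G → ℂ) (ψ : G → ℂ) := by
    intro z hz
    rw [hψ' z, hψ' 1, hmreg z (hZ z hz), one_pow]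
  have hmemψ : ψ ∈ {χ : IrrCharacter G | SameCentral (χ : G → ℂ) (ψ : G → ℂ)} := hsψ
  have hmemψ' : ψ' ∈ {χ : IrrCharacter G | SameCentral (χ : G → ℂ) (ψ : G → ℂ)} := hsψ'
  set f : IrrCharacter G → ℂ := fun χ => (χ : G → ℂ) x * ((χ : G → ℂ) x - (χ : G → ℂ) (x ^ mp)) *
          conj ((χ : G → ℂ) h) / (χ : G → ℂ) 1 with hf
  have hpt : ∀ χ : IrrCharacter G, Set.indicator
        {χ : IrrCharacter G | SameCentral (χ : G → ℂ) (ψ : G → ℂ)} f χ
      = (if χ = ψ then f ψ else 0) + (if χ = ψ' then f ψ' else 0) := by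
    intro χ
    by_cases h1 : χ = ψ
    · rw [h1, Set.indicator_of_mem hmemψ, if_pos rfl, if_neg (fun h => hne h.symm), add_zero]
    · by_cases h2 : χ = ψ'
      · rw [h2, Set.indicator_of_mem hmemψ', if_neg hne, if_pos rfl, zero_add]
      · rw [if_neg h1, if_neg h2, add_zero]
        by_cases hs : SameCentral (χ : G → ℂ) (ψ : G → ℂ)
        · have hmem : χ ∈ {χ : IrrCharacter G | SameCentral (χ : G → ℂ) (ψ : G → ℂ)} := hs
          rw [Set.indicator_of_mem hmem]
          have := helper66_exc p P hP x hx hx1 H hH ψ a₀ hmu he hK hZ c hc mp hmc hmreg ψ' hψ'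
            χ hs h1 h2
          simp only [hf]
          rw [this, sub_self, mul_zero, zero_mul, zero_div]
        · have hnmem : χ ∉ {χ : IrrCharacter G | SameCentral (χ : G → ℂ) (ψ : G → ℂ)} := hs
          rw [Set.indicator_of_notMem hnmem]
  rw [Finset.sum_congr rfl (fun χ _ => hpt χ), Finset.sum_add_distrib,
    Finset.sum_ite_eq' Finset.univ ψ, Finset.sum_ite_eq' Finset.univ ψ',
    if_pos (Finset.mem_univ _), if_pos (Finset.mem_univ _)]
  simp only [hf]
  rw [hψ' x, hψ' (x ^ mp), hψ' h, hψ' 1, ← pow_mul, hpf6, hmreg h hh, one_pow]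
  ring

end Cfsg.Agent.Lib.helper2.BG
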