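import Mathlib
import Cfsg.Agent.Lib.helper2.BGDefs
import Cfsg.Agent.Lib.helper46.D1GS
import Cfsg.Agent.Lib.helper4.CharTheory

/-!
# S4504, sub-piece R14 (`R_conj_gamma`), parallel copy by helper66 under a prefixed name
-/

set_option autoImplicit false

open Cfsg

namespace Cfsg.Agent.Lib.helper2.BG

universe u

/-- A conjugate of `x` lying in `P` (of order `p`) is a unit power of `x`. -/
theorem helper66_conj_unit {G : Type u} [Group G] [Finite G] (p : ℕ) [Fact p.Prime]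
    (P : Sylow p G) (hP : Nat.card P = p) (x : G) (hx : x ∈ (P : Subgroup G)) (hx1 : x ≠ 1)
    (n : G) (hn : n * x * n⁻¹ ∈ (P : Subgroup G)) :
    ∃ c : (ZMod p)ˣ, n * x * n⁻¹ = x ^ ((c : ZMod p).val) := by
  classical
  haveI : Fintype G := Fintype.ofFinite G
  obtain ⟨hPx, hord⟩ := Cfsg.Agent.Lib.helper46.d1gs_eq_zpowers p (P : Subgroup G) hP x hx hx1
  rw [hPx] at hn
  obtain ⟨k, hk⟩ := Subgroup.mem_zpowers_iff.mp hn
  have hxp : x ^ p = 1 := by rw [← hord]; exact pow_orderOf_eq_one x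
  have hk0 : ((k : ℤ) : ZMod p) ≠ 0 := by
    intro h0
    have hdvd : (p : ℤ) ∣ k := (ZMod.intCast_zmod_eq_zero_iff_dvd k p).mp h0
    obtain ⟨m, rfl⟩ := hdvd
    have h1 : x ^ ((p : ℤ) * m) = 1 := by
      rw [zpow_mul, zpow_natCast, hxp, one_zpow]
    rw [h1] at hk
    apply hx1
    have h2 : x = n⁻¹ * (n * x * n⁻¹) * n := by group
    rw [h2, ← hk]
    group
  refine ⟨Units.mk0 ((k : ℤ) : ZMod p) hk0, ?_⟩
  rw [← hk, Units.val_mk0, ← zpow_natCast, zpow_eq_zpow_iff_modEq, hord,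
    ← ZMod.intCast_eq_intCast_iff, Int.cast_natCast, ZMod.natCast_zmod_val]

/-- R14 (parallel copy, verbatim statement of `R_conj_gamma`). -/
theorem helper66_R_conj_gamma {G : Type u} [Group G] [Finite G] (p : ℕ) [Fact p.Prime]
    (P : Sylow p G)
    (hP : Nat.card P = p) (x : G) (hx : x ∈ (P : Subgroup G)) (hx1 : x ≠ 1) (χ : G → ℂ)
    (hχ : Cfsg.IsCharacter G χ) (HΓ : Subgroup (ZMod p)ˣ)
    (hHΓ : ∀ r : (ZMod p)ˣ, r ∈ HΓ ↔ ∃ γ ∈ Subgroup.normalClosure ({x} : Set G),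
      γ * x * γ⁻¹ = x ^ ((r : ZMod p).val))
    (hne : ∀ c : (ZMod p)ˣ, c ∉ HΓ → χ (x ^ ((c : ZMod p).val)) ≠ χ x) :
    (∀ n : G, n * x * n⁻¹ ∈ (P : Subgroup G) →
      ∃ γ ∈ Subgroup.normalClosure ({x} : Set G), γ * x * γ⁻¹ = n * x * n⁻¹) ∧
    ∀ HG : Subgroup (ZMod p)ˣ,
      (∀ r : (ZMod p)ˣ, r ∈ HG ↔ ∃ n : G, n * x * n⁻¹ = x ^ ((r : ZMod p).val)) → HG = HΓ := by
  have hcf := Cfsg.Agent.Lib.helper4.isClassFunction_of_isCharacter hχ
  have key : ∀ (c : (ZMod p)ˣ) (n : G), n * x * n⁻¹ = x ^ ((c : ZMod p).val) → c ∈ HΓ := by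
    intro c n hn
    by_contra hc
    apply hne c hc
    rw [← hn]
    exact hcf x n
  refine ⟨fun n hn => ?_, fun HG hHG => ?_⟩
  · obtain ⟨c, hc⟩ := helper66_conj_unit p P hP x hx hx1 n hn
    obtain ⟨γ, hγ, hγx⟩ := (hHΓ c).mp (key c n hc)
    exact ⟨γ, hγ, hγx.trans hc.symm⟩
  · ext r
    constructor
    · intro hr
      obtain ⟨n, hn⟩ := (hHG r).mp hr
      exact key r n hn
    · intro hr
      obtain ⟨γ, -, hγx⟩ := (hHΓ r).mp hr
      exact (hHG r).mpr ⟨γ, hγx⟩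

end Cfsg.Agent.Lib.helper2.BG
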