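import Mathlib
import Cfsg.Prelude.Def_Characters
import Cfsg.Prelude.Def_Blocks
import Cfsg.Prelude.Def_Solvable
import Cfsg.Prelude.Def_CaseTheorems
import Cfsg.Agent.Lib.helper84.BrDefs
import Cfsg.Agent.Lib.helper14.BR0Defs
import Cfsg.Agent.Lib.helper72.BR_CH2

/-!
S4700 piece DX (helper66): the degrees of the characters in `X` divide `e (1 + n p) = |G : C_G(P)|`.
-/

set_option autoImplicit false

namespace Cfsg.Agent.Lib.helper66.BR

open Cfsg Cfsg.Agent.Lib.helper81 Cfsg.Agent.Lib.helper84.Br Cfsg.Agent.Lib.helper14.BR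
open scoped ComplexConjugate

universe u

section pieces

variable {G : Type u} [Group G] [Fintype G] {p : ℕ} [Fact p.Prime] {P : Sylow p G} {e n : ℕ}

/-- A non-identity element of a Sylow subgroup of order `p`. -/
theorem h66_dx_exists_ne_one (hP : Nat.card P = p) :
    ∃ x : G, x ∈ (P : Subgroup G) ∧ x ≠ 1 := by
  have hp := (Fact.out : p.Prime)
  have h1 : 1 < Nat.card (P : Subgroup G) := by rw [hP]; exact hp.one_lt
  have : Nontrivial (P : Subgroup G) := Finite.one_lt_card_iff_nontrivial.mp h1
  obtain ⟨y, hy⟩ := exists_ne (1 : (P : Subgroup G))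
  exact ⟨y, y.2, fun h => hy (Subtype.ext h)⟩

/-- The centraliser of a non-identity element of `P` is the centraliser of `P`. -/
theorem h66_dx_centralizer (hP : Nat.card P = p) {x : G} (hx : x ∈ (P : Subgroup G))
    (hx1 : x ≠ 1) :
    Subgroup.centralizer ({x} : Set G) = Subgroup.centralizer ((P : Subgroup G) : Set G) := by
  have hp := (Fact.out : p.Prime)
  have hz : Subgroup.zpowers x = (P : Subgroup G) := by
    apply Subgroup.eq_of_le_of_card_ge ((Subgroup.zpowers_le).mpr hx)
    rw [Nat.card_zpowers, hP]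
    have h := Subgroup.orderOf_dvd_natCard (P : Subgroup G) hx
    rw [hP] at h
    rcases (Nat.dvd_prime hp).mp h with h1 | h1
    · exact absurd (orderOf_eq_one_iff.mp h1) hx1
    · exact h1.ge
  ext g
  rw [Subgroup.mem_centralizer_iff, Subgroup.mem_centralizer_iff]
  constructor
  · intro h y hy
    have hy' : y ∈ Subgroup.zpowers x := by rw [hz]; exact hy
    obtain ⟨k, rfl⟩ := Subgroup.mem_zpowers_iff.mp hy'
    have hc : Commute x g := h x (Set.mem_singleton x)
    exact (hc.zpow_left k).eq
  · intro h y hy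
    rw [Set.mem_singleton_iff] at hy
    subst hy
    exact h y hx

/-- `|G : C_G(P)| = e (1 + n p)`. -/
theorem h66_dx_index
    (he : (Subgroup.centralizer ((P : Subgroup G) : Set G)).relIndex
        (Subgroup.normalizer ((P : Subgroup G) : Set G)) = e)
    (hn : Nat.card (Sylow p G) = 1 + n * p) :
    (Subgroup.centralizer ((P : Subgroup G) : Set G)).index = e * (1 + n * p) := by
  have hle : Subgroup.centralizer ((P : Subgroup G) : Set G) ≤
      Subgroup.normalizer ((P : Subgroup G) : Set G) := Subgroup.centralizer_le_normalizer _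
  rw [← Subgroup.relIndex_mul_index hle, he, ← hn, Sylow.card_eq_index_normalizer P]
  rfl

/-- DX : the degrees in `X` divide `e (1 + n p) = |G : C_G(P)|`. -/
theorem dvd_X (D : Data0 G p P e) (hP : Nat.card P = p)
    (he : (Subgroup.centralizer ((P : Subgroup G) : Set G)).relIndex
        (Subgroup.normalizer ((P : Subgroup G) : Set G)) = e)
    (hn : Nat.card (Sylow p G) = 1 + n * p) (χ : IrrCharacter G) (hχ : χ ∈ D.X) :
    charDegree (χ : G → ℂ) ∣ e * (1 + n * p) := by
  have hp := (Fact.out : p.Prime)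
  obtain ⟨x, hx, hx1⟩ := h66_dx_exists_ne_one (P := P) hP
  have hval := D.val_X χ hχ x hx hx1 1 (Subgroup.one_mem _)
    (by
      rw [orderOf_one]
      exact fun hd => hp.one_lt.ne' (Nat.dvd_one.mp hd))
  rw [mul_one] at hval
  have hd := Cfsg.Agent.Lib.helper21.BR.deg_dvd_index χ x
    (by
      rcases D.δ_sq χ hχ with h | h
      · left; rw [hval, h]; norm_num
      · right; rw [hval, h]; norm_num)
  rw [h66_dx_centralizer hP hx hx1, h66_dx_index he hn] at hd
  exact hd

end pieces

end Cfsg.Agent.Lib.helper66.BR
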