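import Mathlib
import Cfsg.Prelude.Def_Characters
import Cfsg.Prelude.Def_Blocks
import Cfsg.Prelude.Def_Solvable
import Cfsg.Prelude.Def_CaseTheorems
import Cfsg.Agent.Lib.helper84.BrDefs
import Cfsg.Agent.Lib.helper14.BR0Defs
import Cfsg.Agent.Lib.helper69.PresMAT2v

/-!
S4700 piece ISO (helper66): `PSL(2, F) ≃* SL(2, F)` for a finite field of characteristic two.
-/

set_option autoImplicit false

namespace Cfsg.Agent.Lib.helper66.BR

open Cfsg Cfsg.Agent.Lib.helper81 Cfsg.Agent.Lib.helper84.Br Cfsg.Agent.Lib.helper14.BR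
open scoped ComplexConjugate

universe u

theorem h66_charP_two_of_card (F : Type) [Field F] [Fintype F] (m : ℕ)
    (hF : Fintype.card F = 2 ^ m) : CharP F 2 := by
  obtain ⟨p', hp'⟩ := CharP.exists F
  haveI := hp'
  obtain ⟨k, hpr, hk⟩ := FiniteField.card F p'
  have hkpos : 0 < (k : ℕ) := k.pos
  have h2 : p' ∣ 2 ^ m := by
    rw [← hF, hk]
    exact dvd_pow_self p' (Nat.pos_iff_ne_zero.mp hkpos)
  have h3 : p' ∣ 2 := hpr.dvd_of_dvd_pow h2
  have h4 : p' = 2 := (Nat.prime_dvd_prime_iff_eq hpr Nat.prime_two).mp h3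
  subst h4
  exact hp'

/-- ISO. -/
theorem psl_sl_char2 (F : Type) [Field F] [Fintype F] (m : ℕ) (hF : Fintype.card F = 2 ^ m) :
    Nonempty (Matrix.ProjectiveSpecialLinearGroup (Fin 2) F ≃*
      Matrix.SpecialLinearGroup (Fin 2) F) := by
  haveI : CharP F 2 := h66_charP_two_of_card F m hF
  obtain ⟨e⟩ := Cfsg.Agent.Lib.helper44.Pres.psl_equiv_of_char_two (F := F)
  exact ⟨e.symm⟩

end Cfsg.Agent.Lib.helper66.BR
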