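import Mathlib
import Cfsg.Agent.Lib.helper66.FrobIdentity
import Cfsg.Agent.S3783
import Cfsg.Agent.Lib.helper66.ConjRep

/-!
# Quadratic-type elements and invariant `q`-subgroups

Abstract lemmas used for: a cyclic subgroup normalised by a Sylow `p`-subgroup of a `p`-soluble
group lies in `O_{p',p}` (`p` odd or `S₄`-free).

* `centralizes_invariant_qGroup` : `ρ` a faithful action of `Γ` on an abelian group of exponent
  `p`; `α^p = 1`, `ρ α - 1` has image in `ℤ c`, `∑_{i<p} (ρ α)^i = 0` and `c` is fixed by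
  `C_Γ(α)`. Then `α` centralises each `α`-invariant `q`-subgroup, `q ≠ p`.
* `centralizes_normal_pPrime` : a `p`-element centralising each of its invariant `q`-subgroups
  (`q ≠ p`) inside a normal `p'`-subgroup `K` centralises `K`.
-/

set_option autoImplicit false
set_option linter.style.haveILetI false
set_option linter.unusedSectionVars false

namespace Cfsg.Agent.Lib.helper66

theorem conj_pow_mem_of_conj_mem {Γ : Type*} [Group Γ] (Q : Subgroup Γ) (α : Γ)
    (h : ∀ k ∈ Q, α * k * α⁻¹ ∈ Q) (i : ℕ) : ∀ k ∈ Q, α ^ i * k * (α ^ i)⁻¹ ∈ Q := by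
  induction i with
  | zero =>
    intro k hk
    simpa using hk
  | succ i ih =>
    intro k hk
    have h1 := h _ (ih k hk)
    have e : α ^ (i + 1) * k * (α ^ (i + 1))⁻¹ = α * (α ^ i * k * (α ^ i)⁻¹) * α⁻¹ := by
      rw [pow_succ']
      group
    rw [e]
    exact h1

theorem eq_one_of_pow_prime_of_pow_prime_pow {Γ : Type*} [Group Γ] {p q : ℕ} (hp : p.Prime)
    (hq : q.Prime) (hqp : q ≠ p) {x : Γ} (h1 : x ^ p = 1) {e : ℕ} (h2 : x ^ q ^ e = 1) :
    x = 1 := by
  have d1 : orderOf x ∣ p := orderOf_dvd_of_pow_eq_one h1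
  have d2 : orderOf x ∣ q ^ e := orderOf_dvd_of_pow_eq_one h2
  have hc : Nat.Coprime p (q ^ e) :=
    Nat.Coprime.pow_right _ ((Nat.coprime_primes hp hq).mpr (Ne.symm hqp))
  exact orderOf_eq_one_iff.mp (Nat.eq_one_of_dvd_coprimes hc d1 d2)

theorem mem_pow_of_isPGroup {Γ : Type*} [Group Γ] {q : ℕ} {Q : Subgroup Γ} (hQ : IsPGroup q ↥Q)
    {x : Γ} (hx : x ∈ Q) : ∃ e : ℕ, x ^ q ^ e = 1 := by
  obtain ⟨e, he⟩ := hQ ⟨x, hx⟩
  exact ⟨e, by simpa using congrArg Subtype.val he⟩

/-- The key lemma. -/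
theorem centralizes_invariant_qGroup {Γ : Type*} [Group Γ] [Finite Γ] {W : Type*}
    [AddCommGroup W] (ρ : Γ →* AddMonoid.End W) (hfaith : ∀ γ, ρ γ = 1 → γ = 1)
    {p : ℕ} [hp : Fact p.Prime] (hW : ∀ w : W, p • w = 0)
    (α : Γ) (hαp : α ^ p = 1) (c : W)
    (hδ : ∀ w, ∃ m : ℤ, ρ α w - w = m • c)
    (htr : ∑ i ∈ Finset.range p, ρ α ^ i = 0)
    (hfix : ∀ γ, Commute γ α → ρ γ c = c)
    {q : ℕ} [hq : Fact q.Prime] (hqp : q ≠ p) :
    ∀ (n : ℕ) (Q : Subgroup Γ), Nat.card Q ≤ n → IsPGroup q ↥Q →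
      (∀ k ∈ Q, α * k * α⁻¹ ∈ Q) → ∀ k ∈ Q, α * k * α⁻¹ = k := by
  intro n
  induction n with
  | zero =>
    intro Q hcard
    exact absurd hcard (by have := Nat.card_pos (α := ↥Q); omega)
  | succ n ih =>
    intro Q hcard hQq hQα
    by_cases hα1 : α = 1
    · intro k _
      rw [hα1]
      group
    have hαord : orderOf α = p := orderOf_eq_prime hαp hα1
    by_cases hbot : Q = ⊥
    · intro k hk
      rw [hbot, Subgroup.mem_bot] at hk
      rw [hk]
      group
    haveI : Nontrivial ↥Q := (Subgroup.nontrivial_iff_ne_bot Q).mpr hbot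
    haveI : Nontrivial ↥(Subgroup.center ↥Q) := hQq.center_nontrivial
    obtain ⟨ζ₀, hζ₀⟩ := exists_ne (1 : ↥(Subgroup.center ↥Q))
    -- the centre as a subgroup of `Γ`
    set Z : Subgroup Γ := Q ⊓ Subgroup.centralizer (Q : Set Γ) with hZ
    have hQpow := conj_pow_mem_of_conj_mem Q α hQα
    have hαinv : α⁻¹ = α ^ (p - 1) := by
      rw [inv_eq_iff_mul_eq_one, ← pow_succ']
      have : p - 1 + 1 = p := Nat.sub_add_cancel hp.out.one_le
      rw [this, hαp]
    have hQαinv : ∀ k ∈ Q, α⁻¹ * k * α ∈ Q := by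
      intro k hk
      have := hQpow (p - 1) k hk
      rwa [← hαinv, inv_inv] at this
    have hZα : ∀ k ∈ Z, α * k * α⁻¹ ∈ Z := by
      intro k hk
      have hk' := Subgroup.mem_inf.mp hk
      refine Subgroup.mem_inf.mpr ⟨hQα k hk'.1, ?_⟩
      rw [Subgroup.mem_centralizer_iff]
      intro k' hk'
      have hk := Subgroup.mem_inf.mp hk
      have h1 := Subgroup.mem_centralizer_iff.mp hk.2 _ (hQαinv k' hk')
      calc k' * (α * k * α⁻¹) = α * ((α⁻¹ * k' * α) * k) * α⁻¹ := by group
        _ = α * (k * (α⁻¹ * k' * α)) * α⁻¹ := by rw [h1]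
        _ = α * k * α⁻¹ * k' := by group
    have hZq : IsPGroup q ↥Z := hQq.to_le inf_le_left
    have hζZ : ((ζ₀ : ↥Q) : Γ) ∈ Z := by
      refine Subgroup.mem_inf.mpr ⟨(ζ₀ : ↥Q).2, ?_⟩
      rw [Subgroup.mem_centralizer_iff]
      intro k hk
      have h1 := Subgroup.mem_center_iff.mp ζ₀.2 ⟨k, hk⟩
      exact congrArg Subtype.val h1
    have hζ1 : ((ζ₀ : ↥Q) : Γ) ≠ 1 := by
      intro h
      apply hζ₀
      apply Subtype.ext
      apply Subtype.ext
      exact h
    by_cases hcase : ∃ ζ ∈ Z, ζ ≠ 1 ∧ α * ζ * α⁻¹ = ζ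
    · -- Case I
      obtain ⟨ζ, hζZ', hζne, hζα⟩ := hcase
      have hζc : Commute ζ α := by
        have h1 := congrArg (fun t => t * α) hζα
        show ζ * α = α * ζ
        simpa using h1.symm
      have hζfix : ρ ζ c = c := hfix ζ hζc
      have hρcomm : ∀ w, ρ α (ρ ζ w) = ρ ζ (ρ α w) := by
        intro w
        have h1 : ρ α * ρ ζ = ρ ζ * ρ α := by
          rw [← map_mul, ← map_mul, hζc.eq]
        exact congrArg (fun φ : AddMonoid.End W => φ w) h1
      let St : Subgroup Γ :=
        { carrier := {γ | ∀ w, ρ γ (ρ ζ w - w) = ρ ζ w - w}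
          one_mem' := by
            intro w
            rw [map_one]
            rfl
          mul_mem' := by
            intro γ γ' h1 h2 w
            rw [map_mul]
            change ρ γ (ρ γ' (ρ ζ w - w)) = _
            rw [h2 w, h1 w]
          inv_mem' := by
            intro γ h1 w
            have h2 : ρ γ⁻¹ (ρ γ (ρ ζ w - w)) = ρ ζ w - w := by
              change (ρ γ⁻¹ * ρ γ) (ρ ζ w - w) = _
              rw [← map_mul, inv_mul_cancel, map_one]
              rfl
            rw [h1 w] at h2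
            exact h2 }
      have hStmem : ∀ γ, γ ∈ St ↔ ∀ w, ρ γ (ρ ζ w - w) = ρ ζ w - w := fun γ => Iff.rfl
      have hαSt : α ∈ St := by
        rw [hStmem]
        intro w
        obtain ⟨m, hm⟩ := hδ w
        have e1 : ρ α w = w + m • c := by
          rw [← hm]
          abel
        rw [map_sub, hρcomm, e1, map_add, map_zsmul, hζfix]
        abel
      have hζSt : ζ ∉ St := by
        intro hmem
        rw [hStmem] at hmem
        have hε : (ρ ζ - 1) * (ρ ζ - 1) = 0 := by
          ext w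
          change ρ ζ (ρ ζ w - w) - (ρ ζ w - w) = 0
          rw [hmem w, sub_self]
        have h1 := one_add_pow_of_mul_self_eq_zero (ρ ζ - 1) hε p
        have h2 : (p : ℕ) • (ρ ζ - 1) = 0 := by
          ext w
          change p • ((ρ ζ - 1) w) = 0
          exact hW _
        rw [h2, add_zero, add_sub_cancel, ← map_pow] at h1
        have h3 : ζ ^ p = 1 := hfaith _ h1
        obtain ⟨e, he⟩ := mem_pow_of_isPGroup hQq hζZ'.1
        exact hζne (eq_one_of_pow_prime_of_pow_prime_pow hp.out hq.out hqp h3 he)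
      set C' : Subgroup Γ := Q ⊓ St with hC'
      have hC'lt : Nat.card ↥C' ≤ n := by
        by_contra hlt
        push Not at hlt
        have h1 : Nat.card ↥Q ≤ Nat.card ↥C' := by omega
        have h2 : C' = Q := Subgroup.eq_of_le_of_card_ge inf_le_left h1
        have h3 : ζ ∈ C' := by
          rw [h2]
          exact hζZ'.1
        exact hζSt h3.2
      have hC'α : ∀ k ∈ C', α * k * α⁻¹ ∈ C' := fun k hk =>
        ⟨hQα k hk.1, St.mul_mem (St.mul_mem hαSt hk.2) (St.inv_mem hαSt)⟩
      have hIH := ih C' hC'lt (hQq.to_le inf_le_left) hC'α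
      intro k hk
      set d := k⁻¹ * (α * k * α⁻¹) with hd
      have hdQ : d ∈ Q := Q.mul_mem (Q.inv_mem hk) (hQα k hk)
      have hkζ : ∀ w, ρ k (ρ ζ w) = ρ ζ (ρ k w) := by
        intro w
        have h0 : k * ζ = ζ * k := Subgroup.mem_centralizer_iff.mp hζZ'.2 k hk
        have h1 : ρ k * ρ ζ = ρ ζ * ρ k := by
          rw [← map_mul, ← map_mul, h0]
        exact congrArg (fun φ : AddMonoid.End W => φ w) h1
      have hdSt : d ∈ St := by
        rw [hStmem]
        intro w
        have hαi := (hStmem _).mp (St.inv_mem hαSt) w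
        rw [hd, map_mul, map_mul, map_mul]
        change ρ k⁻¹ (ρ α (ρ k (ρ α⁻¹ (ρ ζ w - w)))) = _
        rw [hαi, map_sub, hkζ, (hStmem _).mp hαSt (ρ k w), ← hkζ, ← map_sub]
        change (ρ k⁻¹ * ρ k) (ρ ζ w - w) = _
        rw [← map_mul, inv_mul_cancel, map_one]
        rfl
      have hdα : α * d * α⁻¹ = d := hIH d ⟨hdQ, hdSt⟩
      have hk1 : α * k * α⁻¹ = k * d := by
        rw [hd]
        group
      have hcd : Commute α d := by
        have h1 := congrArg (fun t => t * α) hdα
        show α * d = d * α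
        simpa using h1
      have key : ∀ j : ℕ, α ^ j * k * (α ^ j)⁻¹ = k * d ^ j := by
        intro j
        induction j with
        | zero => simp
        | succ j ihj =>
          have hcj : α ^ j * d * (α ^ j)⁻¹ = d := by
            have := (hcd.pow_left j).eq
            rw [this]
            group
          calc α ^ (j + 1) * k * (α ^ (j + 1))⁻¹
              = α ^ j * (α * k * α⁻¹) * (α ^ j)⁻¹ := by
                rw [pow_succ]
                group
            _ = (α ^ j * k * (α ^ j)⁻¹) * (α ^ j * d * (α ^ j)⁻¹) := by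
                rw [hk1]
                group
            _ = k * d ^ (j + 1) := by
                rw [ihj, hcj, pow_succ, mul_assoc]
      have hdp : d ^ p = 1 := by
        have h4 := key p
        rw [hαp] at h4
        simpa using h4.symm
      obtain ⟨e, he⟩ := mem_pow_of_isPGroup hQq hdQ
      have hd1 : d = 1 := eq_one_of_pow_prime_of_pow_prime_pow hp.out hq.out hqp hdp he
      rw [hk1, hd1, mul_one]
    · -- Case II
      exfalso
      push Not at hcase
      have hRpow : ∀ r ∈ Subgroup.zpowers α, ∃ i : ℕ, α ^ i = r := by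
        intro r hr
        exact (Submonoid.mem_powers_iff _ _).mp (mem_powers_iff_mem_zpowers.mpr hr)
      have hNR : ∀ r ∈ Subgroup.zpowers α, ∀ g ∈ Z, r * g * r⁻¹ ∈ Z := by
        intro r hr g hg
        obtain ⟨i, rfl⟩ := hRpow r hr
        exact conj_pow_mem_of_conj_mem Z α hZα i g hg
      have hfpf : ∀ r ∈ Subgroup.zpowers α, r ≠ 1 → ∀ g ∈ Z, r * g * r⁻¹ = g → g = 1 := by
        intro r hr hr1 g hg hfix'
        obtain ⟨i, rfl⟩ := hRpow r hr
        have hpi : ¬ p ∣ i := by
          intro hdvd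
          apply hr1
          rw [← orderOf_dvd_iff_pow_eq_one, hαord]
          exact hdvd
        have hcop : Nat.Coprime i p := ((Nat.Prime.coprime_iff_not_dvd hp.out).mpr hpi).symm
        obtain ⟨i', -, hi'⟩ := Nat.exists_mul_mod_eq_one_of_coprime hcop hp.out.one_lt
        have hcg : Commute (α ^ i) g := by
          have h1 := congrArg (fun t => t * α ^ i) hfix'
          show α ^ i * g = g * α ^ i
          simpa using h1
        have hcα : Commute α g := by
          have h3 : α = (α ^ i) ^ i' := by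
            rw [← pow_mul, ← pow_mod_orderOf, hαord, hi', pow_one]
          rw [h3]
          exact hcg.pow_left _
        by_contra hg1
        apply hcase g hg hg1
        rw [hcα.eq]
        group
      have hcopZ : (Nat.card ↥Z).Coprime p := by
        obtain ⟨e, he⟩ := IsPGroup.iff_card.mp hZq
        rw [he]
        exact Nat.Coprime.pow_left _ ((Nat.coprime_primes hq.out hp.out).mpr hqp)
      have htr' : tr ρ (Subgroup.zpowers α) = 0 := by
        rw [tr_zpowers, hαord]
        exact htr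
      have h1 := eq_one_of_tr_eq_zero ρ Z (Subgroup.zpowers α) hNR hfpf hW hcopZ htr' _ hζZ
      exact hζ1 (hfaith _ h1)

open scoped Pointwise in
/-- A `p`-element centralising all its invariant `q`-subgroups (`q ≠ p`) inside a normal
`p'`-subgroup `K` centralises `K`. -/
theorem centralizes_normal_pPrime {Γ : Type*} [Group Γ] [Finite Γ] {p : ℕ} [hp : Fact p.Prime]
    (K : Subgroup Γ) [hKn : K.Normal] (hK : (Nat.card K).Coprime p) (α : Γ) (hαp : α ^ p = 1)
    (hkey : ∀ (q : ℕ) [Fact q.Prime], q ≠ p → ∀ Q : Subgroup Γ, IsPGroup q ↥Q →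
      (∀ k ∈ Q, α * k * α⁻¹ ∈ Q) → ∀ k ∈ Q, α * k * α⁻¹ = k) :
    ∀ k ∈ K, α * k * α⁻¹ = k := by
  classical
  by_contra hne
  push Not at hne
  obtain ⟨k₀, hk₀K, hk₀⟩ := hne
  let T : Subgroup ↥K := (Subgroup.centralizer ({α} : Set Γ)).subgroupOf K
  have hT : T ≠ ⊤ := by
    intro hTtop
    apply hk₀
    have hkT : (⟨k₀, hk₀K⟩ : ↥K) ∈ T := by
      rw [hTtop]
      exact Subgroup.mem_top _
    have h2 := Subgroup.mem_centralizer_iff.mp (Subgroup.mem_subgroupOf.mp hkT) α
      (Set.mem_singleton α)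
    have h3 : α * k₀ = k₀ * α := h2
    rw [h3]
    group
  have hidx : T.index ≠ 1 := fun h => hT (Subgroup.index_eq_one.mp h)
  obtain ⟨q, hq, hqd⟩ := Nat.exists_prime_and_dvd hidx
  haveI : Fact q.Prime := ⟨hq⟩
  have hαpg : IsPGroup p ↥(Subgroup.zpowers α) := by
    intro g
    refine ⟨1, ?_⟩
    obtain ⟨i, hi⟩ := Subgroup.mem_zpowers_iff.mp g.2
    apply Subtype.ext
    rw [pow_one, Subgroup.coe_pow, ← hi, ← zpow_natCast, ← zpow_mul, mul_comm, zpow_mul,
      zpow_natCast, hαp, one_zpow]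
    rfl
  obtain ⟨Q, hQinv⟩ := Cfsg.Agent.S3783.exists_invariant_sylow K hK α hαpg q
  have hQT : ¬ (Q : Subgroup ↥K) ≤ T := fun hle =>
    Q.not_dvd_index (hqd.trans (Subgroup.index_dvd_of_le hle))
  have hqp : q ≠ p := by
    intro hqp
    have hQbot : (Q : Subgroup ↥K) = ⊥ := by
      by_contra hne''
      obtain ⟨k, hk⟩ := IsPGroup.iff_card.mp Q.isPGroup'
      have hk0 : k ≠ 0 := by
        rintro rfl
        rw [pow_zero] at hk
        exact hne'' (Subgroup.card_eq_one.mp hk)
      have h1 : q ∣ Nat.card ↥K :=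
        (dvd_pow_self q hk0).trans (hk ▸ Subgroup.card_subgroup_dvd_card _)
      rw [hqp] at h1
      exact hp.out.one_lt.ne' (Nat.Coprime.eq_one_of_dvd hK.symm h1)
    exact hQT (hQbot ▸ bot_le)
  set QG : Subgroup Γ := (Q : Subgroup ↥K).map K.subtype with hQG
  have hQGq : IsPGroup q ↥QG := Q.isPGroup'.map _
  have hQGx : ∀ a ∈ QG, α * a * α⁻¹ ∈ QG := by
    rintro _ ⟨k, hk, rfl⟩
    exact ⟨_, hQinv k hk, rfl⟩
  have hcent := hkey q hqp QG hQGq hQGx
  apply hQT
  intro k hk
  rw [Subgroup.mem_subgroupOf, Subgroup.mem_centralizer_iff]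
  intro y hy
  rw [Set.mem_singleton_iff] at hy
  subst hy
  have h1 := hcent (k : Γ) (Subgroup.mem_map_of_mem K.subtype hk)
  have h2 := congrArg (fun t => t * y) h1
  simpa using h2

end Cfsg.Agent.Lib.helper66
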