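import Mathlib
import Cfsg.Prelude.Def_Transfer
import Cfsg.Agent.Lib.helper66.ExtraRepD

set_option autoImplicit false

namespace Cfsg.Agent.Lib.helper66

open scoped commutatorElement

/-- Fixed-point-freeness on `P / Z` from `C_P(y) = Z`, for `y` of order prime to the exponent
of `Z`. -/
theorem fpf_of_centralizer {G : Type*} [Group G] (P Z : Subgroup G) (y : G) (m q : ℕ)
    (hy : y ^ m = 1) (hZq : ∀ t ∈ Z, t ^ q = 1) (hmq : Nat.Coprime m q)
    (hC : P ⊓ Subgroup.centralizer {y} = Z) (u : G) (hu : u ∈ P)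
    (huZ : y * u * y⁻¹ * u⁻¹ ∈ Z) : u ∈ Z := by
  obtain ⟨z₀, hz₀⟩ : ∃ z₀, z₀ = y * u * y⁻¹ * u⁻¹ := ⟨_, rfl⟩
  rw [← hz₀] at huZ
  have hz₀C : z₀ ∈ Subgroup.centralizer {y} := by
    have h1 : z₀ ∈ P ⊓ Subgroup.centralizer {y} := by rw [hC]; exact huZ
    exact h1.2
  have hyz : y * z₀ = z₀ * y := Subgroup.mem_centralizer_iff.mp hz₀C y rfl
  have hyu : y * u * y⁻¹ = z₀ * u := by rw [hz₀]; group
  have hyzk : ∀ k : ℕ, y * z₀ ^ k = z₀ ^ k * y := by
    intro k
    induction k with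
    | zero => simp
    | succ k ih => rw [pow_succ, ← mul_assoc, ih, mul_assoc, hyz, ← mul_assoc]
  have hpow : ∀ k : ℕ, y ^ k * u * y⁻¹ ^ k = z₀ ^ k * u := by
    intro k
    induction k with
    | zero => simp
    | succ k ih =>
      calc y ^ (k + 1) * u * y⁻¹ ^ (k + 1) = y * (y ^ k * u * y⁻¹ ^ k) * y⁻¹ := by
            rw [pow_succ', pow_succ]; simp only [mul_assoc]
        _ = y * z₀ ^ k * u * y⁻¹ := by rw [ih]; simp only [mul_assoc]
        _ = z₀ ^ k * (y * u * y⁻¹) := by rw [hyzk k]; simp only [mul_assoc]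
        _ = z₀ ^ (k + 1) * u := by rw [hyu, pow_succ, mul_assoc]
  have h1 : z₀ ^ m = 1 := by
    have h2 := hpow m
    rw [inv_pow, hy] at h2
    simp only [one_mul, inv_one, mul_one] at h2
    exact (mul_eq_right.mp h2.symm)
  have h2 : z₀ ^ q = 1 := hZq z₀ huZ
  have h3 : orderOf z₀ ∣ Nat.gcd m q :=
    Nat.dvd_gcd (orderOf_dvd_of_pow_eq_one h1) (orderOf_dvd_of_pow_eq_one h2)
  rw [hmq.gcd_eq_one] at h3
  have h4 : z₀ = 1 := orderOf_eq_one_iff.mp (Nat.dvd_one.mp h3)
  have h5 : y * u = u * y := by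
    have h6 : y * u * y⁻¹ = u := by rw [hyu, h4, one_mul]
    calc y * u = y * u * y⁻¹ * y := by group
      _ = u * y := by rw [h6]
  have h7 : u ∈ P ⊓ Subgroup.centralizer {y} := by
    refine Subgroup.mem_inf.mpr ⟨hu, ?_⟩
    rw [Subgroup.mem_centralizer_iff]
    intro g hg
    rw [Set.mem_singleton_iff.mp hg]
    exact h5
  rwa [hC] at h7

/-- The data of an extraspecial subgroup in the form needed by `extra_thmA`. -/
theorem extraspecial_data {G : Type*} [Group G] [Finite G] {p : ℕ} (hp : p.Prime)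
    (P : Subgroup G) (hP : Cfsg.IsExtraspecial p ↥P) :
    ∃ z : G, z ∈ P ∧ orderOf z = p ∧
      Subgroup.zpowers z = (Subgroup.center ↥P).map P.subtype ∧
      (∀ u ∈ P, (∀ v ∈ P, u * v = v * u) ↔ u ∈ Subgroup.zpowers z) ∧
      (∀ u ∈ P, ∀ v ∈ P, u * v * u⁻¹ * v⁻¹ ∈ Subgroup.zpowers z) ∧
      (Subgroup.zpowers z).relIndex P * p = Nat.card P := by
  classical
  obtain ⟨⟨hPp, hfrat, hcommP⟩, hcardZ⟩ := hP
  have : Fact p.Prime := ⟨hp⟩
  obtain ⟨z₀, hz₀⟩ : ∃ z₀ : Subgroup.center ↥P, z₀ ≠ 1 := by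
    have : Nontrivial (Subgroup.center ↥P) := by
      rw [← Finite.one_lt_card_iff_nontrivial, hcardZ]
      exact hp.one_lt
    exact exists_ne 1
  have hz₀ord : orderOf z₀ = p := by
    have h1 : orderOf z₀ ∣ p := by
      rw [← hcardZ]
      exact orderOf_dvd_natCard z₀
    rcases (Nat.dvd_prime hp).mp h1 with h2 | h2
    · exact absurd (orderOf_eq_one_iff.mp h2) hz₀
    · exact h2
  set z : G := ((z₀ : ↥P) : G) with hz
  have hzP : z ∈ P := (z₀ : ↥P).2
  have hzord : orderOf z = p := by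
    rw [hz, Subgroup.orderOf_coe, Subgroup.orderOf_coe, hz₀ord]
  have hzZ : z ∈ (Subgroup.center ↥P).map P.subtype := ⟨(z₀ : ↥P), z₀.2, rfl⟩
  have hZeq : Subgroup.zpowers z = (Subgroup.center ↥P).map P.subtype := by
    apply Subgroup.eq_of_le_of_card_ge
    · rw [Subgroup.zpowers_le]
      exact hzZ
    · rw [Nat.card_zpowers, hzord, Subgroup.card_map_of_injective P.subtype_injective, hcardZ]
  refine ⟨z, hzP, hzord, hZeq, ?_, ?_, ?_⟩
  · intro u hu
    rw [hZeq]
    constructor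
    · intro huv
      refine ⟨⟨u, hu⟩, ?_, rfl⟩
      rw [SetLike.mem_coe, Subgroup.mem_center_iff]
      intro v
      apply Subtype.ext
      exact (huv v v.2).symm
    · rintro ⟨u', hu', hu'u⟩ v hv
      have h1 := Subgroup.mem_center_iff.mp hu' ⟨v, hv⟩
      have h2 := congrArg Subtype.val h1
      simp only [Subgroup.coe_mul] at h2
      have h3 : (u' : G) = u := hu'u
      rw [h3] at h2
      exact h2.symm
  · intro u hu v hv
    rw [hZeq]
    have h1 : ⁅(⟨u, hu⟩ : ↥P), ⟨v, hv⟩⁆ ∈ commutator ↥P :=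
      Subgroup.commutator_mem_commutator (Subgroup.mem_top _) (Subgroup.mem_top _)
    rw [hcommP] at h1
    refine ⟨_, h1, ?_⟩
    simp [commutatorElement_def]
  · rw [hZeq]
    have h1 : ((Subgroup.center ↥P).map P.subtype).subgroupOf P = Subgroup.center ↥P := by
      ext g
      rw [Subgroup.mem_subgroupOf]
      constructor
      · rintro ⟨g', hg', hgg'⟩
        have h2 : g' = g := Subtype.ext hgg'
        rwa [← h2]
      · intro hg
        exact ⟨g, hg, rfl⟩
    rw [Subgroup.relIndex, h1, ← hcardZ, mul_comm]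
    exact Subgroup.card_mul_index _

/-- The left regular representation on functions. -/
def regRep (K : Type*) [Field K] (G : Type*) [Group G] : G →* Module.End K (G → K) where
  toFun g := LinearMap.funLeft K K (fun a => g⁻¹ * a)
  map_one' := by
    ext f a
    simp [LinearMap.funLeft_apply]
  map_mul' g g' := by
    ext f a
    simp [LinearMap.funLeft_apply, mul_assoc]

theorem regRep_apply (K : Type*) [Field K] (G : Type*) [Group G] (g : G) (f : G → K) (a : G) :
    regRep K G g f a = f (g⁻¹ * a) := rfl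

theorem regRep_ne_one (K : Type*) [Field K] (G : Type*) [Group G] (z : G) (hz : z ≠ 1) :
    regRep K G z ≠ 1 := by
  classical
  intro h1
  have h2 := congrFun (LinearMap.congr_fun h1 (Pi.single (1 : G) (1 : K))) z
  rw [regRep_apply, inv_mul_cancel, Pi.single_eq_same, Module.End.one_apply,
    Pi.single_eq_of_ne hz] at h2
  exact one_ne_zero h2

end Cfsg.Agent.Lib.helper66
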