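import Mathlib
import Cfsg.Agent.Lib.helper42.FGDefs

/-! S1915 piece T1B (helper66), core: the LEMN statement is a hypothesis.  A subgroup of `S`,
maximal among the commutative subgroups normalized by `S` and `U`, is self-centralizing in `S`. -/

set_option autoImplicit false

namespace Cfsg.Agent.Lib.helper42.FG

variable {G : Type*} [Group G] [Finite G]

omit [Finite G] in
/-- conjugation by an element of the normalizer of `B` preserves the centralizer of `B` -/
theorem h66_conj_mem_centralizer (B : Subgroup G) (t g : G)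
    (ht : t ∈ Subgroup.normalizer (B : Set G)) (hg : g ∈ Subgroup.centralizer (B : Set G)) :
    t * g * t⁻¹ ∈ Subgroup.centralizer (B : Set G) := by
  rw [Subgroup.mem_centralizer_iff]
  intro b hb
  have hb' : t⁻¹ * b * t ∈ B := by
    have h1 := (Subgroup.mem_normalizer_iff.mp (inv_mem ht) b).mp hb
    rwa [inv_inv] at h1
  have h2 := (Subgroup.mem_centralizer_iff.mp hg) _ hb'
  calc b * (t * g * t⁻¹) = t * ((t⁻¹ * b * t) * g) * t⁻¹ := by group
    _ = t * (g * (t⁻¹ * b * t)) * t⁻¹ := by rw [h2]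
    _ = t * g * t⁻¹ * b := by group

omit [Finite G] in
/-- a subgroup stable under conjugation by the elements of a subgroup `T` is normalized by `T` -/
theorem h66_le_normalizer_of_conj (T C : Subgroup G)
    (h : ∀ t ∈ T, ∀ g ∈ C, t * g * t⁻¹ ∈ C) : T ≤ Subgroup.normalizer (C : Set G) := by
  intro t ht
  rw [Subgroup.mem_normalizer_iff]
  intro g
  constructor
  · exact h t ht g
  · intro hg
    have h1 := h t⁻¹ (inv_mem ht) _ hg
    have h2 : t⁻¹ * (t * g * t⁻¹) * t⁻¹⁻¹ = g := by group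
    rwa [h2] at h1

/-- T1B core: LEMN is a hypothesis -/
theorem h66_exists_selfcent_core {A S U : Subgroup G} (h : Cfg A S U)
    (hLEMN : ∀ T B C : Subgroup G, IsPGroup 2 T → B ≤ C → C ≤ T → B ≠ C →
      T ≤ Subgroup.normalizer (B : Set G) → T ≤ Subgroup.normalizer (C : Set G) →
      ∃ y ∈ C, y ∉ B ∧ y * y ∈ B ∧ ∀ t ∈ T, t * y * t⁻¹ * y⁻¹ ∈ B) :
    ∃ B : Subgroup G, B ≤ S ∧ S ≤ Subgroup.normalizer (B : Set G) ∧
      U ≤ Subgroup.normalizer (B : Set G) ∧ (∀ x ∈ B, ∀ y ∈ B, x * y = y * x) ∧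
      ∀ y ∈ S, (∀ x ∈ B, y * x = x * y) → y ∈ B := by
  classical
  -- the family of admissible subgroups
  let 𝒮 : Set (Subgroup G) := {B | B ≤ S ∧ S ≤ Subgroup.normalizer (B : Set G) ∧
    U ≤ Subgroup.normalizer (B : Set G) ∧ ∀ x ∈ B, ∀ y ∈ B, x * y = y * x}
  have hne : 𝒮.Nonempty := by
    refine ⟨⊥, bot_le, ?_, ?_, ?_⟩
    · intro s _
      rw [Subgroup.mem_normalizer_iff]
      intro g
      simp [Subgroup.mem_bot]
    · intro s _
      rw [Subgroup.mem_normalizer_iff]
      intro g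
      simp [Subgroup.mem_bot]
    · intro x hx y hy
      rw [Subgroup.mem_bot] at hx hy
      rw [hx, hy]
  obtain ⟨B, ⟨hBS, hSB, hUB, hcomm⟩, hmax⟩ :=
    Set.exists_max_image 𝒮 (fun B : Subgroup G => Nat.card B) (Set.toFinite 𝒮) hne
  refine ⟨B, hBS, hSB, hUB, hcomm, ?_⟩
  intro y₀ hy₀S hy₀
  by_contra hy₀B
  -- the 2-group `T = S ⊔ U`
  have hS2 : IsPGroup 2 S := IsPGroup.of_card h.hSyl
  have hU2 : IsPGroup 2 U := by
    have := h.hU
    exact IsPGroup.of_card (n := 2) (by rw [IsKleinFour.card_four]; norm_num)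
  have hT2 : IsPGroup 2 (S ⊔ U : Subgroup G) := IsPGroup.to_sup_of_normal_left' hS2 hU2 h.hUS
  have hTB : S ⊔ U ≤ Subgroup.normalizer (B : Set G) := sup_le hSB hUB
  have hTS : S ⊔ U ≤ Subgroup.normalizer (S : Set G) := sup_le Subgroup.le_normalizer h.hUS
  -- `C = C_S(B)`
  have hBC : B ≤ S ⊓ Subgroup.centralizer (B : Set G) := by
    refine le_inf hBS ?_
    intro x hx
    rw [Subgroup.mem_centralizer_iff]
    intro b hb
    exact hcomm b hb x hx
  have hCT : S ⊓ Subgroup.centralizer (B : Set G) ≤ S ⊔ U := inf_le_left.trans le_sup_left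
  have hy₀C : y₀ ∈ S ⊓ Subgroup.centralizer (B : Set G) := by
    refine Subgroup.mem_inf.mpr ⟨hy₀S, ?_⟩
    rw [Subgroup.mem_centralizer_iff]
    intro b hb
    exact (hy₀ b hb).symm
  have hBneC : B ≠ S ⊓ Subgroup.centralizer (B : Set G) := by
    intro hEq
    apply hy₀B
    rw [hEq]
    exact hy₀C
  have hTC : S ⊔ U ≤ Subgroup.normalizer ((S ⊓ Subgroup.centralizer (B : Set G) : Subgroup G) : Set G) := by
    apply h66_le_normalizer_of_conj
    intro t ht g hg
    have hg' := Subgroup.mem_inf.mp hg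
    refine Subgroup.mem_inf.mpr ⟨?_, ?_⟩
    · exact (Subgroup.mem_normalizer_iff.mp (hTS ht) g).mp hg'.1
    · exact h66_conj_mem_centralizer B t g (hTB ht) hg'.2
  obtain ⟨y, hyC, hyB, hyy, hty⟩ := hLEMN (S ⊔ U) B (S ⊓ Subgroup.centralizer (B : Set G))
    hT2 hBC hCT hBneC hTB hTC
  have hyS : y ∈ S := (Subgroup.mem_inf.mp hyC).1
  have hyCB : y ∈ Subgroup.centralizer (B : Set G) := (Subgroup.mem_inf.mp hyC).2
  have hycent : ∀ b ∈ B, b * y = y * b := Subgroup.mem_centralizer_iff.mp hyCB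
  -- the bigger subgroup
  have hB'S : B ⊔ Subgroup.zpowers y ≤ S := sup_le hBS (Subgroup.zpowers_le.mpr hyS)
  have hyB' : y ∈ B ⊔ Subgroup.zpowers y :=
    (le_sup_right : Subgroup.zpowers y ≤ B ⊔ Subgroup.zpowers y) (Subgroup.mem_zpowers y)
  have hZ : B ⊔ Subgroup.zpowers y ≤
      Subgroup.centralizer (B : Set G) ⊓ Subgroup.centralizer ({y} : Set G) := by
    refine sup_le ?_ ?_
    · intro x hx
      refine Subgroup.mem_inf.mpr ⟨?_, ?_⟩
      · rw [Subgroup.mem_centralizer_iff]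
        intro b hb
        exact hcomm b hb x hx
      · rw [Subgroup.mem_centralizer_iff]
        intro z hz
        rw [Set.mem_singleton_iff] at hz
        rw [hz]
        exact (hycent x hx).symm
    · rw [Subgroup.zpowers_le]
      refine Subgroup.mem_inf.mpr ⟨hyCB, ?_⟩
      rw [Subgroup.mem_centralizer_iff]
      intro z hz
      rw [Set.mem_singleton_iff] at hz
      rw [hz]
  have hcomm' : ∀ x ∈ B ⊔ Subgroup.zpowers y, ∀ x' ∈ B ⊔ Subgroup.zpowers y, x * x' = x' * x := by
    intro x hx x' hx'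
    have hxZ := Subgroup.mem_inf.mp (hZ hx)
    have h1 : B ⊔ Subgroup.zpowers y ≤ Subgroup.centralizer ({x} : Set G) := by
      refine sup_le ?_ ?_
      · intro b hb
        rw [Subgroup.mem_centralizer_iff]
        intro z hz
        rw [Set.mem_singleton_iff] at hz
        rw [hz]
        exact ((Subgroup.mem_centralizer_iff.mp hxZ.1) b hb).symm
      · rw [Subgroup.zpowers_le, Subgroup.mem_centralizer_iff]
        intro z hz
        rw [Set.mem_singleton_iff] at hz
        rw [hz]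
        exact ((Subgroup.mem_centralizer_iff.mp hxZ.2) y (Set.mem_singleton y)).symm
    exact (Subgroup.mem_centralizer_iff.mp (h1 hx')) x (Set.mem_singleton x)
  have hTB' : S ⊔ U ≤ Subgroup.normalizer ((B ⊔ Subgroup.zpowers y : Subgroup G) : Set G) := by
    apply h66_le_normalizer_of_conj
    intro t ht g hg
    have h1 : B ⊔ Subgroup.zpowers y ≤
        (B ⊔ Subgroup.zpowers y).comap (MulAut.conj t).toMonoidHom := by
      refine sup_le ?_ ?_
      · intro b hb
        rw [Subgroup.mem_comap]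
        show t * b * t⁻¹ ∈ B ⊔ Subgroup.zpowers y
        exact (le_sup_left : B ≤ B ⊔ Subgroup.zpowers y)
          ((Subgroup.mem_normalizer_iff.mp (hTB ht) b).mp hb)
      · rw [Subgroup.zpowers_le, Subgroup.mem_comap]
        show t * y * t⁻¹ ∈ B ⊔ Subgroup.zpowers y
        have h2 : t * y * t⁻¹ = (t * y * t⁻¹ * y⁻¹) * y := by group
        rw [h2]
        exact mul_mem ((le_sup_left : B ≤ B ⊔ Subgroup.zpowers y) (hty t ht)) hyB'
    exact h1 hg
  have hmem : (B ⊔ Subgroup.zpowers y) ∈ 𝒮 :=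
    ⟨hB'S, le_sup_left.trans hTB', le_sup_right.trans hTB', hcomm'⟩
  have hcard := hmax _ hmem
  have hEq : B = B ⊔ Subgroup.zpowers y := Subgroup.eq_of_le_of_card_ge le_sup_left hcard
  apply hyB
  rw [hEq]
  exact hyB'

end Cfsg.Agent.Lib.helper42.FG
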