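import Mathlib
import Cfsg.Agent.Lib.helper42.FGDefs
import Cfsg.Agent.Lib.helper66.FGT1Bcore
import Cfsg.Agent.Lib.helper79.FGLEMN

/-! S1915 piece T1B (helper66): `exists_selfcent`, from the core and the landed LEMN. -/

set_option autoImplicit false

namespace Cfsg.Agent.Lib.helper42.FG

variable {G : Type*} [Group G] [Finite G]

/-- T1B -/
theorem exists_selfcent {A S U : Subgroup G} (h : Cfg A S U) :
    ∃ B : Subgroup G, B ≤ S ∧ S ≤ Subgroup.normalizer (B : Set G) ∧
      U ≤ Subgroup.normalizer (B : Set G) ∧ (∀ x ∈ B, ∀ y ∈ B, x * y = y * x) ∧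
      ∀ y ∈ S, (∀ x ∈ B, y * x = x * y) → y ∈ B :=
  h66_exists_selfcent_core h
    (fun T B C hT hBC hCT hne hTB hTC => exists_central_step T B C hT hBC hCT hne hTB hTC)

end Cfsg.Agent.Lib.helper42.FG
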