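import Mathlib
import Cfsg.Prelude.Def_Classical
import Cfsg.Prelude.Def_GeometricClasses
import Cfsg.Agent.Lib.helper63.Elusive1
import Cfsg.Agent.Lib.helper85.FeBDIM

/-! S5977/S5978 block [B], piece AKER (helper66 copy, all names prefixed `h66_`): for `i = ord_r(q)` odd
and `r` odd, an element `A` of order `r` of `GL_i(F)` is killed by a polynomial `f` with `f(1) ≠ 0`
which is invertible at the inverse transpose of `A`.  (`f` is the minimal polynomial.) -/

set_option autoImplicit false

namespace Cfsg.Agent.Lib.helper96.FE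

open Polynomial

/-- An invariant subspace of a fixed-point-free `y` of order `r` on a space of dimension `ord_r(q)`
is `⊥` or `⊤`. -/
theorem h66_fe_inv_top {F V : Type*} [Field F] [Fintype F] [AddCommGroup V] [Module F V] [Finite V]
    (r : ℕ) [Fact r.Prime] (hq : ((Fintype.card F : ℕ) : ZMod r) ≠ 0)
    (y : V →ₗ[F] V) (hyr : y ^ r = 1) (hfix : ∀ v, y v = v → v = 0)
    (hdim : Module.finrank F V = orderOf ((Fintype.card F : ℕ) : ZMod r))
    (U : Submodule F V) (hU : ∀ u ∈ U, y u ∈ U) (hne : U ≠ ⊥) : U = ⊤ := by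
  have hyU : (y.restrict hU) ^ r = 1 := by
    rw [Module.End.pow_restrict]
    apply LinearMap.ext
    intro u
    apply Subtype.ext
    rw [LinearMap.coe_restrict_apply, hyr]
    rfl
  have hker : LinearMap.ker (y.restrict hU - 1) = ⊥ := by
    rw [LinearMap.ker_eq_bot']
    intro u hu
    rw [LinearMap.sub_apply, sub_eq_zero] at hu
    have h1 : y (u : V) = u := by
      have := congrArg Subtype.val hu
      rw [LinearMap.coe_restrict_apply] at this
      exact this
    exact Subtype.ext (hfix _ h1)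
  have h := Cfsg.Agent.Lib.helper63.Elusive.orderOf_dvd_finrank_sub r hq (y.restrict hU) hyU
  rw [hker, finrank_bot, Nat.sub_zero] at h
  have hle : Module.finrank F U ≤ Module.finrank F V := Submodule.finrank_le _
  have hd0 : Module.finrank F U ≠ 0 := fun h0 => hne (Submodule.finrank_eq_zero.mp h0)
  have h3 := Nat.le_of_dvd (Nat.pos_of_ne_zero hd0) h
  exact Submodule.eq_top_of_finrank_eq (by omega)

/-- `∑_{i < 2s+1} (-1)^i = 1`. -/
theorem h66_fe_sum_neg_one (R : Type*) [Ring R] (s : ℕ) :
    ∑ i ∈ Finset.range (2 * s + 1), (-1 : R) ^ i = 1 := by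
  induction s with
  | zero => simp
  | succ s ih =>
    have e : 2 * (s + 1) + 1 = (2 * s + 1) + 1 + 1 := by ring
    rw [e, Finset.sum_range_succ, Finset.sum_range_succ, ih]
    have h1 : (-1 : R) ^ (2 * s + 1) = -1 := Odd.neg_one_pow ⟨s, rfl⟩
    have h2 : (-1 : R) ^ (2 * s + 1 + 1) = 1 := Even.neg_one_pow ⟨s + 1, by ring⟩
    rw [h1, h2]
    abel

/-- The linear-map core of AKER. -/
theorem h66_fe_poly_core {F V : Type*} [Field F] [Fintype F] [AddCommGroup V] [Module F V]
    [Finite V] (r : ℕ) [Fact r.Prime] (hr2 : r ≠ 2) (hrF : (r : F) ≠ 0)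
    (hi : Odd (orderOf ((Fintype.card F : ℕ) : ZMod r)))
    (hdim : Module.finrank F V = orderOf ((Fintype.card F : ℕ) : ZMod r))
    (y z : Module.End F V) (hyz : y * z = 1) (hzy : z * y = 1) (hyr : y ^ r = 1)
    (hcyc : aeval y (cyclotomic r F) = 0) :
    ∃ f : F[X], aeval y f = 0 ∧ f.eval 1 ≠ 0 ∧ IsUnit (aeval z f) := by
  classical
  have hr : r.Prime := Fact.out
  have hq : ((Fintype.card F : ℕ) : ZMod r) ≠ 0 := by
    intro h0
    rw [ZMod.natCast_eq_zero_iff] at h0
    obtain ⟨p, hp⟩ := CharP.exists F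
    have hpp : p.Prime := CharP.char_is_prime F p
    have : Fact p.Prime := ⟨hpp⟩
    obtain ⟨k, -, hk⟩ := FiniteField.card F p
    rw [hk] at h0
    have h1 := Nat.Prime.dvd_of_dvd_pow hr h0
    have h2 := (Nat.prime_dvd_prime_iff_eq hr hpp).mp h1
    apply hrF
    rw [h2]
    exact CharP.cast_eq_zero F p
  -- no fixed vectors
  have hpowfix : ∀ v, y v = v → ∀ k : ℕ, (y ^ k) v = v := by
    intro v hv k
    induction k with
    | zero => simp
    | succ k ih => rw [pow_succ, Module.End.mul_apply, hv, ih]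
  have hfix : ∀ v, y v = v → v = 0 := by
    intro v hv
    have h1 := congrArg (fun g : Module.End F V => g v) hcyc
    simp only [cyclotomic_prime, map_sum, map_pow, aeval_X, LinearMap.sum_apply,
      LinearMap.zero_apply] at h1
    rw [Finset.sum_congr rfl (fun k _ => hpowfix v hv k), Finset.sum_const, Finset.card_range,
      ← Nat.cast_smul_eq_nsmul F] at h1
    exact (smul_eq_zero.mp h1).resolve_left hrF
  -- the minimal polynomial
  have hint : IsIntegral F y := Algebra.IsIntegral.isIntegral y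
  obtain ⟨μ, hμdef⟩ : ∃ μ : F[X], μ = minpoly F y := ⟨_, rfl⟩
  have hμ : aeval y μ = 0 := by rw [hμdef]; exact minpoly.aeval F y
  have hmonic : μ.Monic := by rw [hμdef]; exact minpoly.monic hint
  have hdvd : μ ∣ cyclotomic r F := by rw [hμdef]; exact minpoly.dvd F y hcyc
  have hμ0 : μ ≠ 0 := hmonic.ne_zero
  have h1 : μ.eval 1 ≠ 0 := by
    obtain ⟨c, hc⟩ := hdvd
    have h := congrArg (eval 1) hc
    rw [eval_one_cyclotomic_prime, eval_mul] at h
    intro h0
    rw [h0, zero_mul] at h
    exact hrF h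
  have hcm1 : eval (-1) (cyclotomic r F) = 1 := by
    obtain ⟨s, hs⟩ := hr.odd_of_ne_two hr2
    rw [cyclotomic_prime, eval_finsetSum]
    simp only [eval_pow, eval_X]
    have h := h66_fe_sum_neg_one F s
    rw [← hs] at h
    exact h
  have hm1 : μ.eval (-1) ≠ 0 := by
    obtain ⟨c, hc⟩ := hdvd
    have h := congrArg (eval (-1)) hc
    rw [hcm1, eval_mul] at h
    intro h0
    rw [h0, zero_mul] at h
    exact one_ne_zero h
  -- the degree of `μ`
  have hn1 : 0 < Module.finrank F V := by rw [hdim]; exact hi.pos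
  obtain ⟨w, hw0⟩ := Module.finrank_pos_iff_exists_ne_zero.mp hn1
  have hμ1 : μ ≠ 1 := by
    intro h
    rw [h, map_one] at hμ
    apply hw0
    have h2 := congrArg (fun g : Module.End F V => g w) hμ
    simpa using h2
  have hdle : μ.natDegree ≤ orderOf ((Fintype.card F : ℕ) : ZMod r) := by
    rw [← hdim, ← LinearMap.charpoly_natDegree y, hμdef]
    exact natDegree_le_of_dvd (LinearMap.minpoly_dvd_charpoly y) (LinearMap.charpoly_monic y).ne_zero
  have hdge : orderOf ((Fintype.card F : ℕ) : ZMod r) ≤ μ.natDegree := by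
    obtain ⟨W, hWdef⟩ : ∃ W : Submodule F V,
        W = Submodule.span F (Set.range (fun k : Fin μ.natDegree => (y ^ (k : ℕ)) w)) := ⟨_, rfl⟩
    have hgen : ∀ g : F[X], aeval y g w ∈ W := by
      intro g
      rw [← aeval_modByMonic_eq_self_of_root hμ (p := g),
        aeval_eq_sum_range' (natDegree_modByMonic_lt g hmonic hμ1), LinearMap.sum_apply]
      apply Submodule.sum_mem
      intro i hi'
      rw [LinearMap.smul_apply, hWdef]
      exact Submodule.smul_mem _ _ (Submodule.subset_span ⟨⟨i, Finset.mem_range.mp hi'⟩, rfl⟩)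
    have hWinv : ∀ u ∈ W, y u ∈ W := by
      intro u hu
      rw [hWdef] at hu
      induction hu using Submodule.span_induction with
      | mem x hx =>
        obtain ⟨k, rfl⟩ := hx
        have h2 := hgen (X ^ ((k : ℕ) + 1))
        rw [map_pow, aeval_X, pow_succ', Module.End.mul_apply] at h2
        exact h2
      | zero => rw [map_zero]; exact Submodule.zero_mem _
      | add a b _ _ ha hb => rw [map_add]; exact Submodule.add_mem _ ha hb
      | smul c a _ ha => rw [map_smul]; exact Submodule.smul_mem _ _ ha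
    have hwW : w ∈ W := by
      have h2 := hgen 1
      rw [map_one] at h2
      exact h2
    have hWne : W ≠ ⊥ := fun h => hw0 ((Submodule.mem_bot F).mp (h ▸ hwW))
    have hWtop := h66_fe_inv_top r hq y hyr hfix hdim W hWinv hWne
    have hfr : Module.finrank F W ≤ μ.natDegree := by
      have h2 := finrank_range_le_card (R := F) (fun k : Fin μ.natDegree => (y ^ (k : ℕ)) w)
      rw [Fintype.card_fin] at h2
      rw [hWdef]
      exact h2
    rw [hWtop, finrank_top, hdim] at hfr
    exact hfr
  have hdodd : Odd μ.natDegree := by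
    rw [le_antisymm hdle hdge]; exact hi
  refine ⟨μ, hμ, h1, ?_⟩
  rw [LinearMap.isUnit_iff_ker_eq_bot]
  by_contra hne
  have hyzc : Commute y z := by
    show y * z = z * y
    rw [hyz, hzy]
  have hcomm : y * aeval z μ = aeval z μ * y := by
    rw [aeval_eq_sum_range, Finset.mul_sum, Finset.sum_mul]
    apply Finset.sum_congr rfl
    intro i _
    rw [mul_smul_comm, smul_mul_assoc, (hyzc.pow_right i).eq]
  have hUinv : ∀ u ∈ LinearMap.ker (aeval z μ), y u ∈ LinearMap.ker (aeval z μ) := by
    intro u hu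
    rw [LinearMap.mem_ker] at hu ⊢
    have h2 := congrArg (fun g : Module.End F V => g u) hcomm
    simp only [Module.End.mul_apply] at h2
    rw [← h2, hu, map_zero]
  have hUtop := h66_fe_inv_top r hq y hyr hfix hdim _ hUinv hne
  have hz0 : aeval z μ = 0 := by
    apply LinearMap.ext
    intro v
    have hv : v ∈ LinearMap.ker (aeval z μ) := by rw [hUtop]; trivial
    exact LinearMap.mem_ker.mp hv
  have hpowyz : ∀ k : ℕ, y ^ k * z ^ k = 1 := by
    intro k
    induction k with
    | zero => simp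
    | succ k ih => rw [pow_succ, pow_succ', mul_assoc, ← mul_assoc y z, hyz, one_mul, ih]
  have hrev : aeval y μ.reverse = 0 := by
    have hA : aeval y μ.reverse = y ^ μ.natDegree * aeval z μ := by
      rw [aeval_eq_sum_range' (lt_of_le_of_lt (reverse_natDegree_le μ) (Nat.lt_succ_self _)),
        aeval_eq_sum_range, Finset.mul_sum]
      refine Eq.trans ?_ (Finset.sum_range_reflect
        (fun j => y ^ μ.natDegree * (μ.coeff j • z ^ j)) (μ.natDegree + 1))
      apply Finset.sum_congr rfl
      intro i hi'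
      have hid : i ≤ μ.natDegree := Nat.lt_succ_iff.mp (Finset.mem_range.mp hi')
      have e1 : μ.natDegree + 1 - 1 - i = μ.natDegree - i := by omega
      have e2 : y ^ μ.natDegree = y ^ i * y ^ (μ.natDegree - i) := by
        rw [← pow_add]; congr 1; omega
      show μ.reverse.coeff i • y ^ i
        = y ^ μ.natDegree * (μ.coeff (μ.natDegree + 1 - 1 - i) • z ^ (μ.natDegree + 1 - 1 - i))
      rw [e1, coeff_reverse, revAt_le hid, mul_smul_comm, e2, mul_assoc, hpowyz, mul_one]
    rw [hA, hz0, mul_zero]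
  have hdvd2 : μ ∣ μ.reverse := by
    rw [hμdef] at hrev ⊢
    exact minpoly.dvd F y hrev
  obtain ⟨c, hc⟩ := hdvd2
  have hrev0 : μ.reverse ≠ 0 := fun h => hμ0 (reverse_eq_zero.mp h)
  have hc0 : c ≠ 0 := by
    intro h
    rw [h, mul_zero] at hc
    exact hrev0 hc
  have hcdeg : c.natDegree = 0 := by
    have h := reverse_natDegree_le μ
    rw [hc, natDegree_mul hμ0 hc0] at h
    omega
  obtain ⟨a, ha⟩ : ∃ a : F, c = C a := ⟨c.coeff 0, eq_C_of_natDegree_eq_zero hcdeg⟩
  have hcoef : ∀ k, k ≤ μ.natDegree → μ.coeff (μ.natDegree - k) = μ.coeff k * a := by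
    intro k hk
    have h : μ.reverse.coeff k = (μ * c).coeff k := congrArg (fun p : F[X] => p.coeff k) hc
    rw [coeff_reverse, revAt_le hk, ha, coeff_mul_C] at h
    exact h
  have ha1 : a = 1 := by
    have hs : μ.eval 1 = μ.eval 1 * a := by
      have e := eval_eq_sum_range (p := μ) (1 : F)
      simp only [one_pow, mul_one] at e
      rw [e, Finset.sum_mul]
      refine Eq.trans (Finset.sum_range_reflect (fun j => μ.coeff j) (μ.natDegree + 1)).symm ?_
      apply Finset.sum_congr rfl
      intro i hi'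
      have hid : i ≤ μ.natDegree := Nat.lt_succ_iff.mp (Finset.mem_range.mp hi')
      have e1 : μ.natDegree + 1 - 1 - i = μ.natDegree - i := by omega
      show μ.coeff (μ.natDegree + 1 - 1 - i) = μ.coeff i * a
      rw [e1]
      exact hcoef i hid
    have h2 : μ.eval 1 * (a - 1) = 0 := by rw [mul_sub, mul_one, ← hs, sub_self]
    rcases mul_eq_zero.mp h2 with h | h
    · exact absurd h h1
    · exact sub_eq_zero.mp h
  apply hm1
  rw [eval_eq_sum_range]
  apply Finset.sum_involution (fun k _ => μ.natDegree - k)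
  · intro k hk
    have hkd : k ≤ μ.natDegree := Nat.lt_succ_iff.mp (Finset.mem_range.mp hk)
    have hc' := hcoef k hkd
    rw [ha1, mul_one] at hc'
    show μ.coeff k * (-1) ^ k + μ.coeff (μ.natDegree - k) * (-1) ^ (μ.natDegree - k) = 0
    rw [hc']
    have hpow : (-1 : F) ^ (μ.natDegree - k) = - (-1) ^ k := by
      have h2 : (-1 : F) ^ (μ.natDegree - k) * (-1) ^ k = -1 := by
        rw [← pow_add, Nat.sub_add_cancel hkd]
        exact hdodd.neg_one_pow
      have h3 : (-1 : F) ^ k * (-1) ^ k = 1 := by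
        rw [← mul_pow]
        simp
      calc (-1 : F) ^ (μ.natDegree - k)
          = (-1 : F) ^ (μ.natDegree - k) * ((-1) ^ k * (-1) ^ k) := by rw [h3, mul_one]
        _ = ((-1 : F) ^ (μ.natDegree - k) * (-1) ^ k) * (-1) ^ k := by rw [mul_assoc]
        _ = - (-1) ^ k := by rw [h2]; ring
    rw [hpow]
    ring
  · intro k hk _ heq
    have hkd : k ≤ μ.natDegree := Nat.lt_succ_iff.mp (Finset.mem_range.mp hk)
    obtain ⟨t, ht⟩ := hdodd
    omega
  · intro k hk
    exact Finset.mem_range.mpr (by omega)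
  · intro k hk
    have hkd : k ≤ μ.natDegree := Nat.lt_succ_iff.mp (Finset.mem_range.mp hk)
    show μ.natDegree - (μ.natDegree - k) = k
    omega

/-- AKER (L), helper66 copy: for `i = ord_r(q)` odd, `r` odd, `A ∈ GL_i(F)` of order `r`: some `f`
kills `A`, is invertible at the inverse transpose of `A`, and `f(1) ≠ 0`. -/
theorem h66_fe_gl_poly {F : Type*} [Field F] [Fintype F] (r : ℕ) [Fact r.Prime] (hr2 : r ≠ 2)
    (hrF : (r : F) ≠ 0) (hi : Odd (orderOf ((Fintype.card F : ℕ) : ZMod r)))
    (A : GL (Fin (orderOf ((Fintype.card F : ℕ) : ZMod r))) F) (hA : orderOf A = r) :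
    ∃ f : F[X], aeval A.val f = 0 ∧ f.eval 1 ≠ 0 ∧ IsUnit (aeval ((A⁻¹).val.transpose) f) := by
  classical
  have hr : r.Prime := Fact.out
  have hA1 : A ≠ 1 := by
    intro h
    rw [h, orderOf_one] at hA
    exact hr.one_lt.ne hA
  have hAr : A ^ r = 1 := by
    have h := pow_orderOf_eq_one A
    rw [hA] at h
    exact h
  have hcyc := fe_cyc_zero r hrF (Fintype.card_fin _) A hA1 hAr
  obtain ⟨T, hT⟩ : ∃ T : Matrix (Fin (orderOf ((Fintype.card F : ℕ) : ZMod r)))
      (Fin (orderOf ((Fintype.card F : ℕ) : ZMod r))) F ≃ₐ[F]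
      Module.End F (Fin (orderOf ((Fintype.card F : ℕ) : ZMod r)) → F),
      T = Matrix.toLinAlgEquiv' := ⟨_, rfl⟩
  have hcyc' : aeval (T A.val) (cyclotomic r F) = 0 := by
    rw [hT]
    exact hcyc
  have hyz : T A.val * T (A⁻¹).val = 1 := by
    rw [← map_mul, ← Units.val_mul, mul_inv_cancel, Units.val_one, map_one]
  have hzy : T (A⁻¹).val * T A.val = 1 := by
    rw [← map_mul, ← Units.val_mul, inv_mul_cancel, Units.val_one, map_one]
  have hyr : T A.val ^ r = 1 := by
    rw [← map_pow, ← Units.val_pow_eq_pow_val, hAr, Units.val_one, map_one]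
  obtain ⟨f, hf0, hf1, hfu⟩ := h66_fe_poly_core r hr2 hrF hi (Module.finrank_fin_fun F)
    (T A.val) (T (A⁻¹).val) hyz hzy hyr hcyc'
  refine ⟨f, ?_, hf1, ?_⟩
  · have e := aeval_algHom_apply T A.val f
    apply T.injective
    rw [map_zero, ← e]
    exact hf0
  · have e := aeval_algHom_apply T (A⁻¹).val f
    rw [e] at hfu
    have h2 := hfu.map T.symm
    rw [AlgEquiv.symm_apply_apply] at h2
    have htr : aeval ((A⁻¹).val.transpose) f = (aeval (A⁻¹).val f).transpose := by
      rw [aeval_eq_sum_range, aeval_eq_sum_range, Matrix.transpose_sum]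
      apply Finset.sum_congr rfl
      intro i _
      rw [Matrix.transpose_smul, Matrix.transpose_pow]
    rw [htr, Matrix.isUnit_iff_isUnit_det, Matrix.det_transpose]
    exact (Matrix.isUnit_iff_isUnit_det _).mp h2

end Cfsg.Agent.Lib.helper96.FE
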