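import Mathlib
import Cfsg.Agent.Lib.helper51.TS4
import Cfsg.Agent.Lib.helper40.Cores

/-!
# A four-group criterion for an `S₄`-section (the case `p = 2` of Thompson's cyclic lemma)

`involves_s4_of_quadratic_pair` : `V` a self-centralising normal elementary abelian `2`-subgroup
of `G`, `a² ∈ V`, `[a, V] ≤ ⟨a²⟩`, and `g` with `[a, g]` of odd order modulo `V` and not in `V`.
Then `S₄` is involved in `G`.
-/

set_option autoImplicit false
set_option linter.style.haveILetI false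
set_option linter.unusedSectionVars false

namespace Cfsg.Agent.Lib.helper66

theorem involves_s4_of_quadratic_pair {G : Type*} [Group G] [Finite G] (V : Subgroup G)
    [hVn : V.Normal]
    (hVc : ∀ v ∈ V, ∀ w ∈ V, v * w = w * v) (hV2 : ∀ v ∈ V, v ^ 2 = 1)
    (hCV : Subgroup.centralizer (V : Set G) ≤ V)
    (a : G) (ha2 : a ^ 2 ∈ V) (hcomm : ∀ v ∈ V, ∃ m : ℤ, a * v * a⁻¹ * v⁻¹ = (a ^ 2) ^ m)
    (g : G) (m : ℕ) (hm : Odd m) (hgm : (a * g * a⁻¹ * g⁻¹) ^ m ∈ V)
    (hne : a * g * a⁻¹ * g⁻¹ ∉ V) :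
    Cfsg.Involves (Equiv.Perm (Fin 4)) G := by
  classical
  set c := a ^ 2 with hc
  set a' := g * a * g⁻¹ with ha'
  set c' := g * c * g⁻¹ with hc'
  have hc'V : c' ∈ V := hVn.conj_mem c ha2 g
  have ha'2 : a' ^ 2 = c' := by
    rw [ha', hc', hc, conj_pow]
  set T : Subgroup G := Subgroup.zpowers c ⊔ Subgroup.zpowers c' with hT
  have hTV : T ≤ V := sup_le (Subgroup.zpowers_le.mpr ha2) (Subgroup.zpowers_le.mpr hc'V)
  have hT2 : ∀ t ∈ T, t ^ 2 = 1 := fun t ht => hV2 t (hTV ht)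
  have hcT : c ∈ T := Subgroup.mem_sup_left (Subgroup.mem_zpowers c)
  have hc'T : c' ∈ T := Subgroup.mem_sup_right (Subgroup.mem_zpowers c')
  have hT4 : Nat.card T ≤ 4 := by
    let c₀ : ↥V := ⟨c, ha2⟩
    let c₀' : ↥V := ⟨c', hc'V⟩
    haveI : (Subgroup.zpowers c₀').Normal := ⟨fun n hn x => by
      have e : x * n * x⁻¹ = n := Subtype.ext (by
        have := hVc x x.2 n n.2
        simp only [Subgroup.coe_mul, Subgroup.coe_inv]
        rw [this, mul_inv_cancel_right])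
      rw [e]
      exact hn⟩
    have h1 := Cfsg.Agent.Lib.helper40.card_sup_dvd_mul (Subgroup.zpowers c₀)
      (Subgroup.zpowers c₀')
    have e : T = (Subgroup.zpowers c₀ ⊔ Subgroup.zpowers c₀').map V.subtype := by
      rw [Subgroup.map_sup, MonoidHom.map_zpowers, MonoidHom.map_zpowers]
      rfl
    rw [e, Subgroup.card_subtype]
    have o1 : Nat.card (Subgroup.zpowers c₀) ≤ 2 := by
      rw [Nat.card_zpowers]
      exact Nat.le_of_dvd (by norm_num)
        (orderOf_dvd_of_pow_eq_one (Subtype.ext (hV2 c ha2)))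
    have o2 : Nat.card (Subgroup.zpowers c₀') ≤ 2 := by
      rw [Nat.card_zpowers]
      exact Nat.le_of_dvd (by norm_num)
        (orderOf_dvd_of_pow_eq_one (Subtype.ext (hV2 c' hc'V)))
    have hpos : 0 < Nat.card (Subgroup.zpowers c₀) * Nat.card (Subgroup.zpowers c₀') :=
      Nat.mul_pos Nat.card_pos Nat.card_pos
    calc Nat.card ↥(Subgroup.zpowers c₀ ⊔ Subgroup.zpowers c₀')
        ≤ Nat.card (Subgroup.zpowers c₀) * Nat.card (Subgroup.zpowers c₀') :=
          Nat.le_of_dvd hpos h1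
      _ ≤ 2 * 2 := Nat.mul_le_mul o1 o2
  have ha'v : ∀ v ∈ V, ∃ m : ℤ, a' * v * a'⁻¹ * v⁻¹ = c' ^ m := by
    intro v hv
    obtain ⟨m, hm⟩ := hcomm (g⁻¹ * v * g) (by simpa using hVn.conj_mem v hv g⁻¹)
    refine ⟨m, ?_⟩
    calc a' * v * a'⁻¹ * v⁻¹
        = g * (a * (g⁻¹ * v * g) * a⁻¹ * (g⁻¹ * v * g)⁻¹) * g⁻¹ := by
          rw [ha']
          group
      _ = g * c ^ m * g⁻¹ := by rw [hm]
      _ = c' ^ m := by rw [hc', conj_zpow]
  let D : Subgroup G :=
    { carrier := {x | ∀ v ∈ V, x * v * x⁻¹ * v⁻¹ ∈ T}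
      one_mem' := by
        intro v hv
        simp [T.one_mem]
      mul_mem' := by
        intro x y hx hy v hv
        have h1 := hy v hv
        have h2 := hx (y * v * y⁻¹) (hVn.conj_mem v hv y)
        have e : x * y * v * (x * y)⁻¹ * v⁻¹
            = (x * (y * v * y⁻¹) * x⁻¹ * (y * v * y⁻¹)⁻¹) * (y * v * y⁻¹ * v⁻¹) := by group
        rw [e]
        exact T.mul_mem h2 h1
      inv_mem' := by
        intro x hx v hv
        have h2 := hx (x⁻¹ * v * x) (by simpa using hVn.conj_mem v hv x⁻¹)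
        have e : x⁻¹ * v * x⁻¹⁻¹ * v⁻¹
            = (x * (x⁻¹ * v * x) * x⁻¹ * (x⁻¹ * v * x)⁻¹)⁻¹ := by group
        rw [e]
        exact T.inv_mem h2 }
  have hDmem : ∀ x, x ∈ D ↔ ∀ v ∈ V, x * v * x⁻¹ * v⁻¹ ∈ T := fun x => Iff.rfl
  have haD : a ∈ D := by
    rw [hDmem]
    intro v hv
    obtain ⟨m, hm⟩ := hcomm v hv
    rw [hm]
    exact T.zpow_mem hcT m
  have ha'D : a' ∈ D := by
    rw [hDmem]
    intro v hv
    obtain ⟨m, hm⟩ := ha'v v hv
    rw [hm]
    exact T.zpow_mem hc'T m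
  have hDnorm : ∀ x ∈ D, ∀ t ∈ T, x * t * x⁻¹ ∈ T := by
    intro x hx t ht
    have h1 := (hDmem x).mp hx t (hTV ht)
    have e : x * t * x⁻¹ = (x * t * x⁻¹ * t⁻¹) * t := by group
    rw [e]
    exact T.mul_mem h1 ht
  have hDN : D ≤ Subgroup.normalizer (T : Set G) := by
    intro x hx
    rw [Subgroup.mem_normalizer_iff]
    intro t
    constructor
    · exact hDnorm x hx t
    · intro h
      have := hDnorm x⁻¹ (D.inv_mem hx) _ h
      simpa [mul_assoc] using this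
  set u := a * g * a⁻¹ * g⁻¹ with hu
  set y := a * a' with hy
  have hyu : y = u * c' := by
    rw [hy, ha', hu, hc', hc, pow_two]
    group
  have hyD : y ∈ D := D.mul_mem haD ha'D
  have hym : y ^ m ∈ V := by
    rw [← QuotientGroup.eq_one_iff, QuotientGroup.mk_pow]
    have h1 : (QuotientGroup.mk y : G ⧸ V) = QuotientGroup.mk u := by
      rw [hyu, QuotientGroup.mk_mul, (QuotientGroup.eq_one_iff c').mpr hc'V, mul_one]
    rw [h1, ← QuotientGroup.mk_pow]
    exact (QuotientGroup.eq_one_iff _).mpr hgm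
  set N := Nat.card V with hN
  set x := y ^ N with hx
  have hxm : x ^ m = 1 := by
    rw [hx, ← pow_mul, mul_comm, pow_mul]
    have h1 : (⟨y ^ m, hym⟩ : ↥V) ^ N = 1 := pow_card_eq_one'
    simpa using congrArg Subtype.val h1
  have hxD : x ∈ D := D.pow_mem hyD N
  have hV2g : IsPGroup 2 ↥V := by
    intro v
    refine ⟨1, ?_⟩
    apply Subtype.ext
    simpa using hV2 v v.2
  obtain ⟨e, he⟩ := IsPGroup.iff_card.mp hV2g
  have hcopNm : Nat.Coprime N m := by
    rw [hN, he]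
    exact Nat.Coprime.pow_left e (Nat.coprime_two_left.mpr hm)
  have hxT : ∃ t ∈ T, x * t * x⁻¹ ≠ t := by
    by_contra hall
    push Not at hall
    have hx2 : x ^ 2 ∈ V := by
      apply hCV
      rw [Subgroup.mem_centralizer_iff]
      intro v hv
      have h1 := (hDmem x).mp hxD v hv
      have h2 := hall _ h1
      have h3 := hT2 _ h1
      have h4 : x ^ 2 * v * (x ^ 2)⁻¹
          = (x * (x * v * x⁻¹ * v⁻¹) * x⁻¹) * (x * v * x⁻¹ * v⁻¹) * v := by
        rw [pow_two]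
        group
      rw [h2, ← pow_two, h3, one_mul] at h4
      have h5 := congrArg (fun s => s * x ^ 2) h4
      simpa using h5.symm
    obtain ⟨j, hj⟩ := hm
    have hxV : x ∈ V := by
      have h1 : x = (x ^ 2) ^ (j + 1) := by
        rw [← pow_mul]
        have h2 : 2 * (j + 1) = m + 1 := by omega
        rw [h2, pow_succ, hxm, one_mul]
      rw [h1]
      exact V.pow_mem hx2 _
    have hyV : y ∈ V := by
      rw [← QuotientGroup.eq_one_iff]
      have d1 : orderOf (QuotientGroup.mk y : G ⧸ V) ∣ N := orderOf_dvd_of_pow_eq_one (by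
        rw [← QuotientGroup.mk_pow]
        exact (QuotientGroup.eq_one_iff _).mpr hxV)
      have d2 : orderOf (QuotientGroup.mk y : G ⧸ V) ∣ m := orderOf_dvd_of_pow_eq_one (by
        rw [← QuotientGroup.mk_pow]
        exact (QuotientGroup.eq_one_iff _).mpr hym)
      exact orderOf_eq_one_iff.mp (Nat.eq_one_of_dvd_coprimes hcopNm d1 d2)
    apply hne
    have h1 : u = y * c'⁻¹ := by
      rw [hyu]
      group
    rw [h1]
    exact V.mul_mem hyV (V.inv_mem hc'V)
  have hax : a * x * a⁻¹ * x ∈ V := by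
    have h1 : a * y * a⁻¹ = (c * c') * y⁻¹ := by
      rw [hy, ← ha'2, hc, pow_two, pow_two]
      group
    rw [← QuotientGroup.eq_one_iff]
    have h2 : (QuotientGroup.mk (a * y * a⁻¹) : G ⧸ V) = (QuotientGroup.mk y)⁻¹ := by
      rw [h1, QuotientGroup.mk_mul, (QuotientGroup.eq_one_iff _).mpr (V.mul_mem ha2 hc'V),
        one_mul, QuotientGroup.mk_inv]
    have h3 : a * x * a⁻¹ = (a * y * a⁻¹) ^ N := by
      rw [hx, conj_pow]
    rw [QuotientGroup.mk_mul, h3, QuotientGroup.mk_pow, h2, hx, QuotientGroup.mk_pow, inv_pow,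
      inv_mul_cancel]
  set NT := Subgroup.normalizer (T : Set G) with hNT
  have haN : a ∈ NT := hDN haD
  have hxN : x ∈ NT := hDN hxD
  have hTN : T ≤ NT := Subgroup.le_normalizer
  haveI : (T.subgroupOf NT).Normal := Subgroup.normal_in_normalizer
  have hT2' : ∀ t ∈ T.subgroupOf NT, t ^ 2 = 1 := fun t ht =>
    Subtype.ext (by simpa using hT2 _ (Subgroup.mem_subgroupOf.mp ht))
  have hT4' : Nat.card (T.subgroupOf NT) ≤ 4 := by
    rw [Nat.card_congr (Subgroup.subgroupOfEquivOfLe hTN).toEquiv]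
    exact hT4
  have hx' : ∃ m : ℕ, Odd m ∧ (⟨x, hxN⟩ : ↥NT) ^ m = 1 :=
    ⟨m, hm, Subtype.ext (by simpa using hxm)⟩
  have hxT' : ∃ t ∈ T.subgroupOf NT, (⟨x, hxN⟩ : ↥NT) * t * (⟨x, hxN⟩ : ↥NT)⁻¹ ≠ t := by
    obtain ⟨t, ht, hne'⟩ := hxT
    refine ⟨⟨t, hTN ht⟩, Subgroup.mem_subgroupOf.mpr ht, fun h => hne' ?_⟩
    exact congrArg Subtype.val h
  have hax' : (⟨a, haN⟩ : ↥NT) * ⟨x, hxN⟩ * (⟨a, haN⟩ : ↥NT)⁻¹ * ⟨x, hxN⟩
      ∈ Subgroup.centralizer ((T.subgroupOf NT : Subgroup ↥NT) : Set ↥NT) := by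
    rw [Subgroup.mem_centralizer_iff]
    intro t ht
    apply Subtype.ext
    have := hVc _ (hTV (Subgroup.mem_subgroupOf.mp ht)) _ hax
    simpa using this
  exact Cfsg.Agent.Lib.helper51.involves_of_involves_subgroup NT
    (Cfsg.Agent.Lib.helper51.involves_s4_of_four_group (T.subgroupOf NT) hT2' hT4'
      ⟨x, hxN⟩ ⟨a, haN⟩ hx' hxT' hax')

end Cfsg.Agent.Lib.helper66
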