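import Mathlib
import Cfsg.Agent.Lib.helper3.GfDefs

/-!
S4395, shared core (helper66): the field attached to an irreducible module `Irr p q T`.
`E` is the subalgebra of `End V` generated by `T`; it is a finite field, `V ≃+ E`, `T` becomes
the multiplication by an element `τ` of order `q`, and `card E = p ^ orderOf (p : ZMod q)`.
-/

set_option autoImplicit false
set_option linter.style.haveILetI false

namespace Cfsg.Agent.Lib.helper3.Gf

universe v

open scoped IsMulCommutative in
/-- STRUCT: an irreducible module is a finite field on which `T` is a multiplication. -/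
theorem h66_irr_struct (p q : ℕ) [Fact p.Prime] [Fact q.Prime] (hpq : p ≠ q) {V : Type v}
    [AddCommGroup V] [Finite V] (T : V ≃+ V) (h : Irr p q T) :
    ∃ (E : Type v) (_ : Field E) (_ : Fintype E) (τ : E) (e : E ≃+ V),
      CharP E p ∧ orderOf τ = q ∧ (∀ x : E, T (e x) = e (τ * x)) ∧
      Fintype.card E = p ^ orderOf (p : ZMod q) := by
  classical
  have hp : p.Prime := Fact.out
  have hq : q.Prime := Fact.out
  haveI : Module (ZMod p) V := AddCommGroup.zmodModule h.exp
  let T' : Module.End (ZMod p) V := T.toAddMonoidHom.toZModLinearMap p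
  have hT' : ∀ v, T' v = T v := fun v => rfl
  obtain ⟨v₁, hv₁⟩ := h.ne
  have hv₀ : v₁ ≠ 0 := by
    rintro rfl
    exact hv₁ (map_zero T)
  let A : Subalgebra (ZMod p) (Module.End (ZMod p) V) := Algebra.adjoin (ZMod p) {T'}
  letI : CommRing A := inferInstance
  have hTA : T' ∈ A := Algebra.subset_adjoin (Set.mem_singleton _)
  have hcomm : ∀ x : A, (x : Module.End (ZMod p) V) * T' = T' * (x : Module.End (ZMod p) V) := by
    intro x
    have h1 := mul_comm x (⟨T', hTA⟩ : A)
    exact congrArg Subtype.val h1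
  -- kernels are invariant
  have hker : ∀ x : A, x = 0 ∨ Function.Injective (x : Module.End (ZMod p) V) := by
    intro x
    let W : AddSubgroup V := (LinearMap.ker (x : Module.End (ZMod p) V)).toAddSubgroup
    have hW : ∀ w ∈ W, T w ∈ W := by
      intro w hw
      have hw' : (x : Module.End (ZMod p) V) w = 0 := hw
      show (x : Module.End (ZMod p) V) (T w) = 0
      have h1 := congrArg (fun f : Module.End (ZMod p) V => f w) (hcomm x)
      simp only [Module.End.mul_apply] at h1
      rw [← hT', h1, hw', map_zero]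
    rcases h.irr W hW with h0 | h1
    · right
      intro a b hab
      have h2 : a - b ∈ W := by
        show (x : Module.End (ZMod p) V) (a - b) = 0
        rw [map_sub, hab, sub_self]
      rw [h0, AddSubgroup.mem_bot] at h2
      exact sub_eq_zero.mp h2
    · left
      apply Subtype.ext
      apply LinearMap.ext
      intro v
      have h2 : v ∈ W := h1 ▸ AddSubgroup.mem_top v
      exact h2
  -- the additive isomorphism
  let e₀ : A →+ V :=
    { toFun := fun x => (x : Module.End (ZMod p) V) v₁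
      map_zero' := rfl
      map_add' := fun x y => rfl }
  have he₀ : ∀ x : A, e₀ x = (x : Module.End (ZMod p) V) v₁ := fun x => rfl
  have he₀inj : Function.Injective e₀ := by
    rw [injective_iff_map_eq_zero]
    intro x hx
    rcases hker x with h0 | hinj
    · exact h0
    · exfalso
      apply hv₀
      apply hinj
      rw [map_zero]
      exact hx
  have he₀surj : Function.Surjective e₀ := by
    let W : AddSubgroup V := e₀.range
    have hW : ∀ w ∈ W, T w ∈ W := by
      rintro w ⟨x, rfl⟩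
      exact ⟨⟨T', hTA⟩ * x, rfl⟩
    rcases h.irr W hW with h0 | h1
    · exfalso
      have h2 : v₁ ∈ W := ⟨1, rfl⟩
      rw [h0, AddSubgroup.mem_bot] at h2
      exact hv₀ h2
    · intro v
      have h2 : v ∈ W := h1 ▸ AddSubgroup.mem_top v
      exact h2
  let e : A ≃+ V := AddEquiv.ofBijective e₀ ⟨he₀inj, he₀surj⟩
  have he : ∀ x : A, e x = (x : Module.End (ZMod p) V) v₁ := fun x => rfl
  haveI : Finite A := Finite.of_equiv V e.symm.toEquiv
  letI : Fintype A := Fintype.ofFinite A
  -- `A` is a domain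
  haveI : Nontrivial A := by
    refine ⟨⟨1, 0, ?_⟩⟩
    intro h10
    apply hv₀
    have h2 := congrArg e h10
    rw [he, he] at h2
    exact h2
  haveI : NoZeroDivisors A := by
    refine ⟨fun {x y} hxy => ?_⟩
    rcases hker x with h0 | hinj
    · exact Or.inl h0
    · right
      apply Subtype.ext
      apply LinearMap.ext
      intro v
      apply hinj
      have h2 := congrArg (fun z : A => (z : Module.End (ZMod p) V) v) hxy
      exact h2.trans (map_zero (x : Module.End (ZMod p) V)).symm
  haveI : IsDomain A := NoZeroDivisors.to_isDomain A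
  letI : Field A := Fintype.fieldOfDomain A
  -- the element `τ`
  let τ : A := ⟨T', hTA⟩
  have hτq : τ ^ q = 1 := by
    apply Subtype.ext
    apply LinearMap.ext
    intro v
    show ((τ ^ q : A) : Module.End (ZMod p) V) v = v
    rw [SubmonoidClass.coe_pow, Module.End.pow_apply]
    exact h.pow v
  have hτ1 : τ ≠ 1 := by
    intro h1
    apply hv₁
    have h2 := congrArg e h1
    rw [he, he] at h2
    exact h2
  have hτord : orderOf τ = q := orderOf_eq_prime hτq hτ1
  have hτ0 : τ ≠ 0 := by
    intro h0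
    rw [h0, zero_pow hq.ne_zero] at hτq
    exact zero_ne_one hτq
  -- characteristic
  have hpA : (p : A) = 0 := by
    have h1 : ((p : ℕ) : ZMod p) = 0 := ZMod.natCast_self p
    have h2 : (algebraMap (ZMod p) A) ((p : ℕ) : ZMod p) = (p : A) := map_natCast _ p
    rw [← h2, h1, map_zero]
  haveI : CharP A p := (CharP.charP_iff_prime_eq_zero hp).mpr hpA
  obtain ⟨n, -, hn⟩ := FiniteField.card A p
  -- the order of `p` modulo `q`
  have hpq0 : ((p : ℕ) : ZMod q) ≠ 0 := by
    intro h0
    rw [ZMod.natCast_eq_zero_iff] at h0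
    exact hpq ((Nat.prime_dvd_prime_iff_eq hq hp).mp h0).symm
  have ha_pos : 0 < orderOf ((p : ℕ) : ZMod q) := by
    have h1 : ((p : ℕ) : ZMod q) ^ (q - 1) = 1 := ZMod.pow_card_sub_one_eq_one hpq0
    exact Nat.pos_of_dvd_of_pos (orderOf_dvd_of_pow_eq_one h1) (Nat.sub_pos_of_lt hq.one_lt)
  have hqa : q ∣ p ^ orderOf ((p : ℕ) : ZMod q) - 1 := by
    rw [← ZMod.natCast_eq_zero_iff, Nat.cast_sub (Nat.one_le_pow _ _ hp.pos), Nat.cast_pow,
      pow_orderOf_eq_one, Nat.cast_one, sub_self]
  have hτpow : τ ^ p ^ orderOf ((p : ℕ) : ZMod q) = τ := by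
    have h1 : τ ^ (p ^ orderOf ((p : ℕ) : ZMod q) - 1) = 1 :=
      orderOf_dvd_iff_pow_eq_one.mp ((dvd_of_eq hτord).trans hqa)
    calc τ ^ p ^ orderOf ((p : ℕ) : ZMod q)
        = τ ^ (p ^ orderOf ((p : ℕ) : ZMod q) - 1 + 1) := by
          rw [Nat.sub_add_cancel (Nat.one_le_pow _ _ hp.pos)]
      _ = τ := by rw [pow_succ, h1, one_mul]
  have hfrob : ∀ x : A, x ^ p ^ orderOf ((p : ℕ) : ZMod q) = x := by
    rintro ⟨x, hx⟩
    induction hx using Algebra.adjoin_induction with
    | mem x hx =>
      have hx' : x = T' := hx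
      subst hx'
      exact hτpow
    | algebraMap r =>
      have h1 : (⟨algebraMap (ZMod p) (Module.End (ZMod p) V) r, Subalgebra.algebraMap_mem _ r⟩ : A)
          = algebraMap (ZMod p) A r := rfl
      rw [h1, ← map_pow, ZMod.pow_card_pow]
    | add x y hx hy ihx ihy =>
      have h1 : (⟨x + y, add_mem hx hy⟩ : A) = (⟨x, hx⟩ : A) + ⟨y, hy⟩ := rfl
      rw [h1, add_pow_char_pow, ihx, ihy]
    | mul x y hx hy ihx ihy =>
      have h1 : (⟨x * y, mul_mem hx hy⟩ : A) = (⟨x, hx⟩ : A) * ⟨y, hy⟩ := rfl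
      rw [h1, mul_pow, ihx, ihy]
  -- `n ≤ a`
  have hna : (n : ℕ) ≤ orderOf ((p : ℕ) : ZMod q) := by
    obtain ⟨g, hg⟩ := IsCyclic.exists_generator (α := Aˣ)
    have hgord : orderOf g = Fintype.card Aˣ := by
      rw [orderOf_eq_card_of_forall_mem_zpowers hg, Nat.card_eq_fintype_card]
    have hgpow : g ^ (p ^ orderOf ((p : ℕ) : ZMod q) - 1) = 1 := by
      apply Units.ext
      rw [Units.val_pow_eq_pow_val, Units.val_one]
      have h1 := hfrob (g : A)
      have h2 : (g : A) * (g : A) ^ (p ^ orderOf ((p : ℕ) : ZMod q) - 1) = (g : A) * 1 := by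
        rw [← pow_succ', Nat.sub_add_cancel (Nat.one_le_pow _ _ hp.pos), mul_one]
        exact h1
      exact mul_left_cancel₀ g.ne_zero h2
    have hdvd : Fintype.card Aˣ ∣ p ^ orderOf ((p : ℕ) : ZMod q) - 1 := by
      rw [← hgord]
      exact orderOf_dvd_of_pow_eq_one hgpow
    rw [Fintype.card_units, hn] at hdvd
    have hpos : 0 < p ^ orderOf ((p : ℕ) : ZMod q) - 1 := by
      have h1 : p ^ 1 ≤ p ^ orderOf ((p : ℕ) : ZMod q) :=
        Nat.pow_le_pow_right hp.pos ha_pos
      have h2 := hp.two_le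
      rw [pow_one] at h1
      omega
    have hle := Nat.le_of_dvd hpos hdvd
    have h3 : p ^ (n : ℕ) ≤ p ^ orderOf ((p : ℕ) : ZMod q) := by
      have h4 : 1 ≤ p ^ (n : ℕ) := Nat.one_le_pow _ _ hp.pos
      omega
    exact (Nat.pow_le_pow_iff_right hp.one_lt).mp h3
  -- `a ∣ n`
  have han : orderOf ((p : ℕ) : ZMod q) ∣ (n : ℕ) := by
    apply orderOf_dvd_of_pow_eq_one
    have h1 : τ ^ (Fintype.card A - 1) = 1 := FiniteField.pow_card_sub_one_eq_one τ hτ0
    rw [hn] at h1
    have h2 : q ∣ p ^ (n : ℕ) - 1 :=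
      (dvd_of_eq hτord.symm).trans (orderOf_dvd_of_pow_eq_one h1)
    rw [← ZMod.natCast_eq_zero_iff, Nat.cast_sub (Nat.one_le_pow _ _ hp.pos), Nat.cast_pow,
      Nat.cast_one] at h2
    exact sub_eq_zero.mp h2
  have hna' : orderOf ((p : ℕ) : ZMod q) ≤ (n : ℕ) := Nat.le_of_dvd n.pos han
  refine ⟨A, inferInstance, inferInstance, τ, e, inferInstance, hτord, ?_, ?_⟩
  · intro x
    rfl
  · rw [hn, le_antisymm hna hna']

end Cfsg.Agent.Lib.helper3.Gf
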