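import Mathlib
import Cfsg.Agent.Lib.helper66.GrB
import Cfsg.Agent.Lib.helper66.PGroupAction

set_option autoImplicit false

namespace Cfsg.Agent.Lib.helper66

section

variable {L : Type*} [Field L] {U : Type*} [AddCommGroup U] [Module L U]
  {Γ : Type*} [Group Γ]

/-- If the commutator space of `x` has dimension at most two, the involution in `⟨x⟩` fixes
every weight of an `x`-invariant subgroup (orbits of weights have length at most two). -/
theorem rk_orbit [FiniteDimensional L U] (ρ : Γ →* Module.End L U) (x : Γ) (n : ℕ) (hn : 1 ≤ n)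
    (hx : x ^ (2 ^ (n + 1)) = 1)
    (hrk : ∀ P : Submodule L U, (∀ w ∈ P, ρ x w = w → w = 0) → Module.finrank L P ≤ 2)
    (A : Subgroup Γ) (hxA : x ∈ Subgroup.normalizer (A : Set Γ)) (lam : Γ → L) (w₀ : U)
    (hwt : WtV ρ ⊤ A lam w₀) : Fx A (x ^ (2 ^ n)) lam := by
  classical
  by_contra hnfx
  have hτ1 : x ^ (2 ^ n) ≠ 1 := by
    intro h1
    apply hnfx
    rw [h1]
    exact Fx_one A lam
  have h4le : 4 ≤ 2 ^ (n + 1) := by
    calc 4 = 2 ^ 2 := by norm_num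
      _ ≤ 2 ^ (n + 1) := Nat.pow_le_pow_right (by norm_num) (by omega)
  have key : ∀ i j : ℕ, i < j → j < 4 → ∃ z ∈ A, cw lam (x ^ i) z ≠ cw lam (x ^ j) z := by
    intro i j hij hj
    by_contra hall
    push Not at hall
    apply hnfx
    have hfx : Fx A (x ^ (j - i)) lam := by
      intro z hz
      have h2 := hall (x ^ i * z * (x ^ i)⁻¹)
        (conj_mem_of_normalizer A _ (Subgroup.pow_mem _ hxA i) z hz)
      rw [cw_apply, cw_apply] at h2
      have e1 : (x ^ i)⁻¹ * (x ^ i * z * (x ^ i)⁻¹) * x ^ i = z := by group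
      have e2 : (x ^ j)⁻¹ * (x ^ i * z * (x ^ i)⁻¹) * x ^ j
          = (x ^ (j - i))⁻¹ * z * x ^ (j - i) := by
        have h3 : x ^ j = x ^ i * x ^ (j - i) := by
          rw [← pow_add]
          congr 1
          omega
        rw [h3]
        group
      rw [e1, e2] at h2
      exact h2.symm
    have hne : x ^ (j - i) ≠ 1 := pow_ne_one_of_tau x n hx hτ1 (j - i) (by omega) (by omega)
    have hmem := tau_mem_zpowers x n hx (x ^ (j - i))
      (Subgroup.pow_mem _ (Subgroup.mem_zpowers x) _) hne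
    have hstab : x ^ (j - i) ∈ stabW A lam := ⟨Subgroup.pow_mem _ hxA _, hfx⟩
    exact ((Subgroup.zpowers_le.mpr hstab) hmem).2
  have hdist : ∀ i j : Fin 4, i ≠ j →
      ∃ z ∈ A, cw lam (x ^ (i : ℕ)) z ≠ cw lam (x ^ (j : ℕ)) z := by
    intro i j hij
    rcases lt_or_gt_of_ne (show (i : ℕ) ≠ j from fun h => hij (Fin.ext h)) with h | h
    · exact key i j h j.2
    · obtain ⟨z, hz, hne⟩ := key j i h i.2
      exact ⟨z, hz, hne.symm⟩
  have hv : ∀ i : ℕ, WtV ρ ⊤ A (cw lam (x ^ i)) (ρ (x ^ i) w₀) := fun i =>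
    wt_conj ρ ⊤ A lam w₀ hwt (x ^ i) (Subgroup.pow_mem _ hxA i) (fun _ _ => Submodule.mem_top)
  have hind : ∀ c : Fin 4 → L, ∑ i : Fin 4, c i • ρ (x ^ (i : ℕ)) w₀ = 0 → ∀ i, c i = 0 := by
    intro c hsum i
    have h1 := wt_indep ρ A (Finset.univ : Finset (Fin 4)) (fun i => cw lam (x ^ (i : ℕ)))
      (fun i => c i • ρ (x ^ (i : ℕ)) w₀) ?_ ?_ hsum i (Finset.mem_univ _)
    · rcases smul_eq_zero.mp h1 with h | h
      · exact h
      · exact absurd h (hv i).2.1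
    · intro i _ z hz
      rw [map_smul, (hv i).2.2 z hz, smul_comm]
    · intro i _ j _ hij
      exact hdist i j hij
  obtain ⟨v0, hv0⟩ : ∃ v0 : U, v0 = ρ (x ^ 0) w₀ := ⟨_, rfl⟩
  obtain ⟨v1, hv1⟩ : ∃ v1 : U, v1 = ρ (x ^ 1) w₀ := ⟨_, rfl⟩
  obtain ⟨v2, hv2⟩ : ∃ v2 : U, v2 = ρ (x ^ 2) w₀ := ⟨_, rfl⟩
  obtain ⟨v3, hv3⟩ : ∃ v3 : U, v3 = ρ (x ^ 3) w₀ := ⟨_, rfl⟩
  have hind' : ∀ c0 c1 c2 c3 : L, c0 • v0 + c1 • v1 + c2 • v2 + c3 • v3 = 0 →
      c0 = 0 ∧ c1 = 0 ∧ c2 = 0 ∧ c3 = 0 := by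
    intro c0 c1 c2 c3 hsum
    have h1 := hind ![c0, c1, c2, c3] (by
      rw [Fin.sum_univ_four]
      simpa [hv0, hv1, hv2, hv3] using hsum)
    exact ⟨h1 0, h1 1, h1 2, h1 3⟩
  have hx0 : ρ x v0 = v1 := by rw [hv0, hv1, ← rho_mul, ← pow_succ']
  have hx1 : ρ x v1 = v2 := by rw [hv1, hv2, ← rho_mul, ← pow_succ']
  have hx2 : ρ x v2 = v3 := by rw [hv2, hv3, ← rho_mul, ← pow_succ']
  have hli : LinearIndependent L ![v0, v1, v2] := by
    rw [Fintype.linearIndependent_iff]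
    intro g hg
    rw [Fin.sum_univ_three] at hg
    have h1 := hind' (g 0) (g 1) (g 2) 0 (by simpa using hg)
    intro i
    fin_cases i
    · exact h1.1
    · exact h1.2.1
    · exact h1.2.2.1
  have hfin : Module.finrank L (Submodule.span L (Set.range ![v0, v1, v2])) = 3 := by
    rw [finrank_span_eq_card hli]
    simp
  have h2 := hrk (Submodule.span L (Set.range ![v0, v1, v2])) (by
    intro p hp hxp
    obtain ⟨c, rfl⟩ := (Submodule.mem_span_range_iff_exists_fun L).mp hp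
    rw [Fin.sum_univ_three] at hxp ⊢
    simp only [map_add, map_smul, Matrix.cons_val_zero, Matrix.cons_val_one,
      Matrix.cons_val_two, Matrix.head_cons, Matrix.tail_cons] at hxp ⊢
    rw [hx0, hx1, hx2] at hxp
    have h3 := hind' (-c 0) (c 0 - c 1) (c 1 - c 2) (c 2) (by
      have e : (-c 0) • v0 + (c 0 - c 1) • v1 + (c 1 - c 2) • v2 + c 2 • v3
          = (c 0 • v1 + c 1 • v2 + c 2 • v3) - (c 0 • v0 + c 1 • v1 + c 2 • v2) := by module
      rw [e, hxp, sub_self])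
    obtain ⟨h30, h31, h32, h33⟩ := h3
    have hc0 : c 0 = 0 := neg_eq_zero.mp h30
    have hc1 : c 1 = 0 := by
      rw [hc0] at h31
      simpa using h31
    rw [hc0, hc1, h33]
    simp)
  omega

/-- A weight of an `x`-invariant subgroup that is not fixed by `x` has a weight space of
dimension at most two. -/
theorem rk_wt [FiniteDimensional L U] (ρ : Γ →* Module.End L U) (x : Γ)
    (hrk : ∀ P : Submodule L U, (∀ w ∈ P, ρ x w = w → w = 0) → Module.finrank L P ≤ 2)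
    (Z : Subgroup Γ) (hxZ : x ∈ Subgroup.normalizer (Z : Set Γ)) (ν : Γ → L)
    (hnfx : ¬ Fx Z x ν) : Module.finrank L (wtSpace ρ ⊤ Z ν) ≤ 2 := by
  apply hrk
  intro p hp hxp
  by_contra hp0
  have hwt : WtV ρ ⊤ Z ν p := ⟨Submodule.mem_top, hp0, hp.2⟩
  have h2 := wt_conj ρ ⊤ Z ν p hwt x hxZ (fun _ _ => Submodule.mem_top)
  rw [hxp] at h2
  apply hnfx
  intro z hz
  have h3 := h2.2.2 z hz
  have h4 := hwt.2.2 z hz
  rw [h4, cw_apply] at h3
  have h5 : (ν z - ν (x⁻¹ * z * x)) • p = 0 := by rw [sub_smul, h3, sub_self]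
  rcases smul_eq_zero.mp h5 with h | h
  · exact (sub_eq_zero.mp h).symm
  · exact absurd h hp0


theorem inv_comm_elt (g τ : Γ) (hτ2 : τ * τ = 1) :
    τ * (g * τ * g⁻¹ * τ⁻¹) * τ⁻¹ = (g * τ * g⁻¹ * τ⁻¹)⁻¹ := by
  have hτi : τ⁻¹ = τ := inv_eq_of_mul_eq_one_left hτ2
  rw [hτi]
  have e : (g * τ * g⁻¹ * τ)⁻¹ = τ⁻¹ * g * τ⁻¹ * g⁻¹ := by group
  rw [e, hτi]
  calc τ * (g * τ * g⁻¹ * τ) * τ = τ * g * τ * g⁻¹ * (τ * τ) := by group
    _ = τ * g * τ * g⁻¹ := by rw [hτ2, mul_one]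

theorem conj_comm_elt (x g τ : Γ) (hxτ : x * τ = τ * x) :
    x * (g * τ * g⁻¹ * τ⁻¹) * x⁻¹ = (x * g * x⁻¹) * τ * (x * g * x⁻¹)⁻¹ * τ⁻¹ := by
  have h1 : x * τ * x⁻¹ = τ := by rw [hxτ, mul_inv_cancel_right]
  calc x * (g * τ * g⁻¹ * τ⁻¹) * x⁻¹
      = x * g * x⁻¹ * (x * τ * x⁻¹) * (x * g * x⁻¹)⁻¹ * (x * τ * x⁻¹)⁻¹ := by group
    _ = (x * g * x⁻¹) * τ * (x * g * x⁻¹)⁻¹ * τ⁻¹ := by rw [h1]

theorem comm_of_comm_elt (g τ : Γ) (h : g * τ * g⁻¹ * τ⁻¹ = 1) : g * τ = τ * g := by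
  calc g * τ = (g * τ * g⁻¹ * τ⁻¹) * τ * g := by group
    _ = τ * g := by rw [h, one_mul]

/-- **(D′)**: a `t`-group `T` of linear maps normalized by an element `x` of order `2 ^ (n+1)`
whose commutator space has dimension at most two is centralized by the involution of `⟨x⟩`
(unless `n = 1` and `t = 3`). -/
theorem dprime_faithful [IsAlgClosed L] [FiniteDimensional L U] [Finite Γ]
    (ρ : Γ →* Module.End L U) (hinj : Function.Injective ρ) (x : Γ) (n : ℕ) (hn : 1 ≤ n)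
    (hx : x ^ (2 ^ (n + 1)) = 1) (t : ℕ) (ht : t.Prime) (ht2 : t ≠ 2) (htL : (t : L) ≠ 0)
    (h2L : (2 : L) ≠ 0)
    (hrk : ∀ P : Submodule L U, (∀ w ∈ P, ρ x w = w → w = 0) → Module.finrank L P ≤ 2)
    (hne : n = 1 → t ≠ 3) :
    ∀ (k : ℕ) (T : Subgroup Γ), Nat.card T = k → IsPGroup t T →
      x ∈ Subgroup.normalizer (T : Set Γ) → ∀ g ∈ T, g * x ^ (2 ^ n) = x ^ (2 ^ n) * g := by
  classical
  intro k
  induction k using Nat.strong_induction_on with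
  | _ k ih =>
  intro T hk hT hxT
  by_contra hcon
  push Not at hcon
  obtain ⟨g₀, hg₀T, hg₀⟩ := hcon
  have htF : Fact t.Prime := ⟨ht⟩
  obtain ⟨τ, hτ⟩ : ∃ τ : Γ, τ = x ^ (2 ^ n) := ⟨_, rfl⟩
  rw [← hτ] at hg₀
  have hτ2 : τ * τ = 1 := by rw [hτ, ← pow_add, ← two_mul, ← pow_succ', hx]
  have hτi : τ⁻¹ = τ := inv_eq_of_mul_eq_one_left hτ2
  have hxτ : x * τ = τ * x := by rw [hτ, ← pow_succ', ← pow_succ]
  have hxiτ : x⁻¹ * τ = τ * x⁻¹ := by
    calc x⁻¹ * τ = x⁻¹ * (τ * x) * x⁻¹ := by group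
      _ = x⁻¹ * (x * τ) * x⁻¹ := by rw [hxτ]
      _ = τ * x⁻¹ := by group
  have hτN : ∀ H : Subgroup Γ, x ∈ Subgroup.normalizer (H : Set Γ) →
      τ ∈ Subgroup.normalizer (H : Set Γ) := by
    intro H hH
    rw [hτ]
    exact Subgroup.pow_mem _ hH _
  have hcop2 : ∀ e : ℕ, (t ^ e).Coprime 2 := fun e =>
    Nat.Coprime.pow_left e ((Nat.coprime_primes ht Nat.prime_two).mpr ht2)
  have hodd : ∀ g ∈ T, ∃ m : ℕ, g = (g * g) ^ m := by
    intro g hg
    obtain ⟨e, he⟩ := pgroup_pow T t hT g hg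
    exact sqrt_odd g (t ^ e) he (hcop2 e)
  have ih' : ∀ T' : Subgroup Γ, T' ≤ T → T' ≠ T → x ∈ Subgroup.normalizer (T' : Set Γ) →
      ∀ g ∈ T', g * τ = τ * g := by
    intro T' hle hne' hxT' g hg
    have h1 := ih (Nat.card T') (by rw [← hk]; exact card_lt_card_of_lt' hle hne') T' rfl
      (hT.to_le hle) hxT' g hg
    rw [hτ]
    exact h1
  -- (E1) abelian invariant subgroups are centralized by `τ`
  have hab : ∀ A : Subgroup Γ, A ≤ T → (∀ a ∈ A, ∀ b ∈ A, a * b = b * a) →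
      x ∈ Subgroup.normalizer (A : Set Γ) → ∀ g ∈ A, g * τ = τ * g := by
    intro A hAT hAc hxA g hg
    by_contra hne'
    obtain ⟨b, hb⟩ : ∃ b : Γ, b = g * τ * g⁻¹ * τ⁻¹ := ⟨_, rfl⟩
    have hconjA : τ⁻¹ * g⁻¹ * τ ∈ A :=
      conj_mem_of_normalizer' A τ (hτN A hxA) g⁻¹ (A.inv_mem hg)
    have e1 : b = g * (τ⁻¹ * g⁻¹ * τ) := by
      rw [hb, hτi]
      group
    have hbA : b ∈ A := by
      rw [e1]
      exact A.mul_mem hg hconjA
    have hb1 : b ≠ 1 := by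
      intro h1
      rw [hb] at h1
      exact hne' (comm_of_comm_elt g τ h1)
    have hnt : ∃ w ∈ (⊤ : Submodule L U), ρ b w ≠ w := by
      by_contra hall
      push Not at hall
      apply hb1
      apply hinj
      rw [map_one]
      apply LinearMap.ext
      intro w
      exact hall w Submodule.mem_top
    obtain ⟨e, he⟩ := pgroup_pow T t hT b (hAT hbA)
    obtain ⟨lam, w₀, -, hw₀0, hw₀Z, hlam⟩ := exists_joint_eigen ρ ⊤ A
      (fun _ _ _ _ => Submodule.mem_top)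
      (fun z hz z' hz' w _ => by rw [hAc z hz z' hz']) b hbA (t ^ e)
      (by rw [Nat.cast_pow]; exact pow_ne_zero e htL) he hnt
    have hwt : WtV ρ ⊤ A lam w₀ := ⟨Submodule.mem_top, hw₀0, hw₀Z⟩
    have hfx := rk_orbit ρ x n hn hx hrk A hxA lam w₀ hwt
    rw [← hτ] at hfx
    apply hlam
    rw [e1, wt_mul ρ ⊤ A lam w₀ hwt _ _ hg hconjA, hfx g⁻¹ (A.inv_mem hg),
      wt_inv ρ ⊤ A lam w₀ hwt g hg, mul_inv_cancel₀ (wt_ne_zero ρ ⊤ A lam w₀ hwt g hg)]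
  -- (a) `T` is generated by the commutators with `τ`
  obtain ⟨C₁, hC₁⟩ : ∃ C₁ : Set Γ, C₁ = {c | ∃ g ∈ T, c = g * τ * g⁻¹ * τ⁻¹} := ⟨_, rfl⟩
  have hC₁T : ∀ c ∈ C₁, c ∈ T := by
    intro c hc
    rw [hC₁] at hc
    obtain ⟨g, hg, rfl⟩ := hc
    have h1 : g * τ * g⁻¹ * τ⁻¹ = g * (τ * g⁻¹ * τ⁻¹) := by group
    rw [h1]
    exact T.mul_mem hg (conj_mem_of_normalizer T τ (hτN T hxT) g⁻¹ (T.inv_mem hg))
  have hC₁inv : ∀ c ∈ C₁, τ * c * τ⁻¹ = c⁻¹ := by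
    intro c hc
    rw [hC₁] at hc
    obtain ⟨g, hg, rfl⟩ := hc
    exact inv_comm_elt g τ hτ2
  have hT₃T : Subgroup.closure C₁ ≤ T := (Subgroup.closure_le T).mpr hC₁T
  have hconjC : ∀ y : Γ, y ∈ Subgroup.normalizer (T : Set Γ) → y * τ = τ * y →
      ∀ c ∈ Subgroup.closure C₁, y * c * y⁻¹ ∈ Subgroup.closure C₁ := by
    intro y hy hyτ
    apply conj_closure_mem
    intro c hc
    apply Subgroup.subset_closure
    rw [hC₁] at hc ⊢
    obtain ⟨g, hg, rfl⟩ := hc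
    exact ⟨y * g * y⁻¹, conj_mem_of_normalizer T y hy g hg, conj_comm_elt y g τ hyτ⟩
  have hxT₃ : x ∈ Subgroup.normalizer ((Subgroup.closure C₁ : Subgroup Γ) : Set Γ) := by
    apply mem_normalizer_of_conj
    · exact hconjC x hxT hxτ
    · intro c hc
      have h1 := hconjC x⁻¹ (inv_mem hxT) hxiτ c hc
      rwa [inv_inv] at h1
  have hT₃ : Subgroup.closure C₁ = T := by
    by_contra hne'
    have h1 := ih' _ hT₃T hne' hxT₃
    apply hg₀
    have hc : g₀ * τ * g₀⁻¹ * τ⁻¹ ∈ C₁ := by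
      rw [hC₁]
      exact ⟨g₀, hg₀T, rfl⟩
    have h2 := h1 _ (Subgroup.subset_closure hc)
    have h3 := hC₁inv _ hc
    have h4 : τ * (g₀ * τ * g₀⁻¹ * τ⁻¹) * τ⁻¹ = g₀ * τ * g₀⁻¹ * τ⁻¹ := by
      rw [← h2, mul_inv_cancel_right]
    rw [h4] at h3
    have h5 : (g₀ * τ * g₀⁻¹ * τ⁻¹) * (g₀ * τ * g₀⁻¹ * τ⁻¹) = 1 := by
      nth_rewrite 1 [h3]
      exact inv_mul_cancel _
    obtain ⟨m, hm⟩ := hodd _ (hC₁T _ hc)
    rw [h5, one_pow] at hm
    exact comm_of_comm_elt g₀ τ hm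
  -- (b) the derived subgroup
  have hTne : T ≠ ⊥ := by
    intro h0
    rw [h0, Subgroup.mem_bot] at hg₀T
    apply hg₀
    rw [hg₀T, one_mul, mul_one]
  have hDT : ⁅T, T⁆ ≤ T := by
    rw [Subgroup.commutator_le]
    intro a ha b hb
    exact T.mul_mem (T.mul_mem (T.mul_mem ha hb) (T.inv_mem ha)) (T.inv_mem hb)
  have hDne : ⁅T, T⁆ ≠ T := comm_ne_self T t ht hT hTne
  have hxD : x ∈ Subgroup.normalizer ((⁅T, T⁆ : Subgroup Γ) : Set Γ) :=
    normalizer_commutator T T x hxT hxT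
  have hDτ : ∀ d ∈ ⁅T, T⁆, d * τ = τ * d := ih' _ hDT hDne hxD
  have hTD : ∀ g ∈ T, g ∈ Subgroup.normalizer ((⁅T, T⁆ : Subgroup Γ) : Set Γ) := fun g hg =>
    normalizer_commutator T T g (Subgroup.le_normalizer hg) (Subgroup.le_normalizer hg)
  -- (c) the derived subgroup is central
  have hDc : ∀ d ∈ ⁅T, T⁆, ∀ g ∈ T, g * d = d * g := by
    intro d hd g hg
    have hle : Subgroup.closure C₁ ≤ Subgroup.centralizer ({d} : Set Γ) := by
      rw [Subgroup.closure_le]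
      intro c hc
      have hcT := hC₁T c hc
      have he : c * d * c⁻¹ ∈ ⁅T, T⁆ := conj_mem_of_normalizer _ c (hTD c hcT) d hd
      have h1 := hDτ _ he
      have h2 := hDτ d hd
      have h3 := hC₁inv c hc
      have h4 : c * d * c⁻¹ = c⁻¹ * d * c := by
        have e1 : τ * (c * d * c⁻¹) * τ⁻¹
            = (τ * c * τ⁻¹) * (τ * d * τ⁻¹) * (τ * c * τ⁻¹)⁻¹ := by group
        have e2 : τ * d * τ⁻¹ = d := by rw [← h2, mul_inv_cancel_right]
        have e3 : τ * (c * d * c⁻¹) * τ⁻¹ = c * d * c⁻¹ := by rw [← h1, mul_inv_cancel_right]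
        rw [e3, h3, e2, inv_inv] at e1
        exact e1
      have h5 : (c * c) * d = d * (c * c) := by
        calc (c * c) * d = c * (c * d * c⁻¹) * c := by group
          _ = c * (c⁻¹ * d * c) * c := by rw [h4]
          _ = d * (c * c) := by group
      obtain ⟨m, hm⟩ := hodd c hcT
      have h6 : Commute (c * c) d := h5
      have h7 := h6.pow_left m
      rw [← hm] at h7
      show c ∈ Subgroup.centralizer ({d} : Set Γ)
      rw [Subgroup.mem_centralizer_iff]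
      intro y hy
      rw [Set.mem_singleton_iff] at hy
      rw [hy]
      exact h7.eq.symm
    rw [← hT₃] at hg
    have h1 := hle hg
    rw [Subgroup.mem_centralizer_iff] at h1
    exact (h1 d rfl).symm
  -- (d) the center
  have hDZ : ⁅T, T⁆ ≤ centerOf T := fun d hd => ⟨hDT hd, fun u hu => hDc d hd u hu⟩
  have hZT : centerOf T ≤ T := fun z hz => hz.1
  have hZc : ∀ a ∈ centerOf T, ∀ b ∈ centerOf T, a * b = b * a :=
    fun a ha b hb => hb.2 a ha.1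
  have hxZ : x ∈ Subgroup.normalizer ((centerOf T : Subgroup Γ) : Set Γ) :=
    centerOf_norm T x hxT
  have kmem : ∀ a ∈ T, ∀ b ∈ T, a * b * a⁻¹ * b⁻¹ ∈ centerOf T := fun a ha b hb =>
    hDZ (Subgroup.commutator_mem_commutator ha hb)
  -- (e) `τ` inverts `T` modulo its center
  have hinvT : ∀ g ∈ T, τ * g * τ⁻¹ * g ∈ centerOf T := by
    let I : Subgroup Γ :=
      { carrier := {g | g ∈ T ∧ τ * g * τ⁻¹ * g ∈ centerOf T}
        one_mem' := ⟨T.one_mem, by simp [Subgroup.one_mem]⟩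
        mul_mem' := by
          rintro g g' ⟨hg, hg1⟩ ⟨hg', hg1'⟩
          refine ⟨T.mul_mem hg hg', ?_⟩
          have hb : τ * g' * τ⁻¹ ∈ T := conj_mem_of_normalizer T τ (hτN T hxT) g' hg'
          have ha : τ * g * τ⁻¹ ∈ T := conj_mem_of_normalizer T τ (hτN T hxT) g hg
          have hk := kmem _ hb g hg
          have e : τ * (g * g') * τ⁻¹ * (g * g')
              = (τ * g * τ⁻¹) * ((τ * g' * τ⁻¹) * g * (τ * g' * τ⁻¹)⁻¹ * g⁻¹) * g
                * (τ * g' * τ⁻¹ * g') := by group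
          rw [e, hk.2 _ ha]
          have e2 : (τ * g' * τ⁻¹) * g * (τ * g' * τ⁻¹)⁻¹ * g⁻¹ * (τ * g * τ⁻¹) * g
              * (τ * g' * τ⁻¹ * g')
              = ((τ * g' * τ⁻¹) * g * (τ * g' * τ⁻¹)⁻¹ * g⁻¹) * (τ * g * τ⁻¹ * g)
                * (τ * g' * τ⁻¹ * g') := by group
          rw [e2]
          exact (centerOf T).mul_mem ((centerOf T).mul_mem hk hg1) hg1'
        inv_mem' := by
          rintro g ⟨hg, hg1⟩
          refine ⟨T.inv_mem hg, ?_⟩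
          have e : τ * g⁻¹ * τ⁻¹ * g⁻¹ = g * (τ * g * τ⁻¹ * g)⁻¹ * g⁻¹ := by group
          rw [e, ((centerOf T).inv_mem hg1).2 g hg, mul_inv_cancel_right]
          exact (centerOf T).inv_mem hg1 }
    have hle : Subgroup.closure C₁ ≤ I := by
      rw [Subgroup.closure_le]
      intro c hc
      refine ⟨hC₁T c hc, ?_⟩
      rw [hC₁inv c hc, inv_mul_cancel]
      exact (centerOf T).one_mem
    intro g hg
    rw [← hT₃] at hg
    exact (hle hg).2
  -- (f) a weight of the center, nontrivial on a commutator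
  have hnab : ∃ a ∈ T, ∃ b ∈ T, a * b ≠ b * a := by
    by_contra hall
    push Not at hall
    exact hg₀ (hab T le_rfl hall hxT g₀ hg₀T)
  obtain ⟨a₀, ha₀, b₀, hb₀, hab₀⟩ := hnab
  obtain ⟨d₀, hd₀⟩ : ∃ d₀ : Γ, d₀ = a₀ * b₀ * a₀⁻¹ * b₀⁻¹ := ⟨_, rfl⟩
  have hd₀Z : d₀ ∈ centerOf T := by
    rw [hd₀]
    exact kmem a₀ ha₀ b₀ hb₀
  have hd₀1 : d₀ ≠ 1 := by
    intro h1
    apply hab₀
    rw [hd₀] at h1
    calc a₀ * b₀ = (a₀ * b₀ * a₀⁻¹ * b₀⁻¹) * b₀ * a₀ := by group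
      _ = b₀ * a₀ := by rw [h1, one_mul]
  have hnt : ∃ w ∈ (⊤ : Submodule L U), ρ d₀ w ≠ w := by
    by_contra hall
    push Not at hall
    apply hd₀1
    apply hinj
    rw [map_one]
    apply LinearMap.ext
    intro w
    exact hall w Submodule.mem_top
  obtain ⟨e₀, he₀⟩ := pgroup_pow T t hT d₀ (hZT hd₀Z)
  obtain ⟨ν, w₁, -, hw₁0, hw₁Z, hν1⟩ := exists_joint_eigen ρ ⊤ (centerOf T)
    (fun _ _ _ _ => Submodule.mem_top)
    (fun z hz z' hz' w _ => by rw [hZc z hz z' hz']) d₀ hd₀Z (t ^ e₀)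
    (by rw [Nat.cast_pow]; exact pow_ne_zero e₀ htL) he₀ hnt
  have hwν : WtV ρ ⊤ (centerOf T) ν w₁ := ⟨Submodule.mem_top, hw₁0, hw₁Z⟩
  obtain ⟨Uν, hUν⟩ : ∃ Uν : Submodule L U, Uν = wtSpace ρ ⊤ (centerOf T) ν := ⟨_, rfl⟩
  have hmemU : ∀ w : U, w ∈ Uν ↔ ∀ z ∈ centerOf T, ρ z w = ν z • w := by
    intro w
    rw [hUν, mem_wtSpace]
    exact ⟨fun h => h.2, fun h => ⟨Submodule.mem_top, h⟩⟩
  have hw₁U : w₁ ∈ Uν := (hmemU w₁).mpr hw₁Z
  have hUν0 : Uν ≠ ⊥ := by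
    intro h0
    rw [h0, Submodule.mem_bot] at hw₁U
    exact hw₁0 hw₁U
  have hUνT : ∀ g ∈ T, ∀ w ∈ Uν, ρ g w ∈ Uν := by
    intro g hg w hw
    rw [hmemU] at hw ⊢
    intro z hz
    rw [← rho_mul, ← hz.2 g hg, rho_mul, hw z hz, map_smul]
  have hfxν : Fx (centerOf T) x ν := by
    by_contra hnfx
    have hdim := rk_wt ρ x hrk (centerOf T) hxZ ν hnfx
    rw [← hUν] at hdim
    obtain ⟨Rν, hRν⟩ : ∃ Rν : T →* Module.End L Uν, ∀ (u : T) (w : Uν),
        ((Rν u w : Uν) : U) = ρ u w := ⟨restrictHom ρ T Uν hUνT, fun _ _ => rfl⟩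
    obtain ⟨δ, hδ⟩ : ∃ δ : T →* L, ∀ u : T, δ u = LinearMap.det (Rν u) :=
      ⟨(LinearMap.det : Module.End L Uν →* L).comp Rν, fun _ => rfl⟩
    have hδ1 : δ ⟨d₀, hZT hd₀Z⟩ = 1 := by
      have h1 : (⟨d₀, hZT hd₀Z⟩ : T)
          = ⟨a₀, ha₀⟩ * ⟨b₀, hb₀⟩ * (⟨a₀, ha₀⟩ : T)⁻¹ * (⟨b₀, hb₀⟩ : T)⁻¹ := by
        apply Subtype.ext
        simp [hd₀]
      rw [h1]
      calc δ (⟨a₀, ha₀⟩ * ⟨b₀, hb₀⟩ * (⟨a₀, ha₀⟩ : T)⁻¹ * (⟨b₀, hb₀⟩ : T)⁻¹)
          = δ ⟨a₀, ha₀⟩ * δ ⟨b₀, hb₀⟩ * δ (⟨a₀, ha₀⟩ : T)⁻¹ * δ (⟨b₀, hb₀⟩ : T)⁻¹ := by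
            simp only [map_mul]
        _ = (δ ⟨a₀, ha₀⟩ * δ (⟨a₀, ha₀⟩ : T)⁻¹) * (δ ⟨b₀, hb₀⟩ * δ (⟨b₀, hb₀⟩ : T)⁻¹) := by
            ring
        _ = 1 := by
            rw [← map_mul, ← map_mul, mul_inv_cancel, mul_inv_cancel, map_one, mul_one]
    have hscal : Rν ⟨d₀, hZT hd₀Z⟩ = ν d₀ • (1 : Module.End L Uν) := by
      apply LinearMap.ext
      intro w
      apply Subtype.ext
      rw [hRν]
      simpa using (hmemU w).mp w.2 d₀ hd₀Z
    have hdet : (ν d₀) ^ (Module.finrank L Uν) = 1 := by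
      rw [hδ, hscal, LinearMap.det_smul, map_one, mul_one] at hδ1
      exact hδ1
    have hpos : 0 < Module.finrank L Uν :=
      Module.finrank_pos_iff_exists_ne_zero.mpr
        ⟨⟨w₁, hw₁U⟩, fun h0 => hw₁0 (congrArg Subtype.val h0)⟩
    have hsq : (ν d₀) ^ 2 = 1 := by
      have h12 : Module.finrank L Uν = 1 ∨ Module.finrank L Uν = 2 := by omega
      rcases h12 with h1 | h1
      · rw [h1, pow_one] at hdet
        rw [hdet, one_pow]
      · rw [h1] at hdet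
        exact hdet
    have hpow : (ν d₀) ^ (t ^ e₀) = 1 := by
      rw [← wt_pow ρ ⊤ (centerOf T) ν w₁ hwν d₀ hd₀Z, he₀, wt_one ρ ⊤ (centerOf T) ν w₁ hwν]
    exact hν1 (eq_one_of_pow_coprime (ν d₀) 2 (t ^ e₀) hsq hpow (hcop2 e₀).symm)
  have hUνx : ∀ w ∈ Uν, ρ x w ∈ Uν := by
    intro w hw
    rw [hmemU] at hw ⊢
    intro z hz
    have e : z * x = x * (x⁻¹ * z * x) := by group
    rw [← rho_mul, e, rho_mul, hw _ (conj_mem_of_normalizer' _ x hxZ z hz), map_smul,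
      hfxν z hz]
  -- (g) nondegeneracy
  have hνmul : ∀ z ∈ centerOf T, ∀ z' ∈ centerOf T, ν (z * z') = ν z * ν z' :=
    fun z hz z' hz' => wt_mul ρ ⊤ (centerOf T) ν w₁ hwν z z' hz hz'
  let R₂ : Subgroup Γ :=
    { carrier := {a | a ∈ T ∧ ∀ b ∈ T, ν (a * b * a⁻¹ * b⁻¹) = 1}
      one_mem' := ⟨T.one_mem, fun b _ => by
        have e : (1 : Γ) * b * 1⁻¹ * b⁻¹ = 1 := by group
        rw [e]
        exact wt_one ρ ⊤ (centerOf T) ν w₁ hwν⟩
      mul_mem' := by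
        rintro a a' ⟨ha, ha1⟩ ⟨ha', ha1'⟩
        refine ⟨T.mul_mem ha ha', fun b hb => ?_⟩
        have hk := kmem a' ha' b hb
        have e : (a * a') * b * (a * a')⁻¹ * b⁻¹
            = a * (a' * b * a'⁻¹ * b⁻¹) * a⁻¹ * (a * b * a⁻¹ * b⁻¹) := by group
        rw [e, hk.2 a ha, mul_inv_cancel_right, hνmul _ hk _ (kmem a ha b hb), ha1' b hb,
          ha1 b hb, one_mul]
      inv_mem' := by
        rintro a ⟨ha, ha1⟩
        refine ⟨T.inv_mem ha, fun b hb => ?_⟩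
        have hk := kmem a ha b hb
        have e : a⁻¹ * b * a⁻¹⁻¹ * b⁻¹ = a⁻¹ * ((a * b * a⁻¹ * b⁻¹)⁻¹ * a) := by group
        rw [e, ← ((centerOf T).inv_mem hk).2 a ha, inv_mul_cancel_left,
          wt_inv ρ ⊤ (centerOf T) ν w₁ hwν _ hk, ha1 b hb, inv_one] }
  have hR₂T : R₂ ≤ T := fun a ha => ha.1
  have hR₂ne : R₂ ≠ T := by
    intro h0
    have h1 : a₀ ∈ R₂ := by rw [h0]; exact ha₀
    apply hν1
    rw [hd₀]
    exact h1.2 b₀ hb₀
  have hconjR : ∀ y : Γ, y ∈ Subgroup.normalizer (T : Set Γ) →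
      y ∈ Subgroup.normalizer ((centerOf T : Subgroup Γ) : Set Γ) → Fx (centerOf T) y ν →
      ∀ a ∈ R₂, y * a * y⁻¹ ∈ R₂ := by
    rintro y hyT hyZ hfy a ⟨ha, ha1⟩
    refine ⟨conj_mem_of_normalizer T y hyT a ha, fun b hb => ?_⟩
    have hb' : y⁻¹ * b * y ∈ T := conj_mem_of_normalizer' T y hyT b hb
    have e : (y * a * y⁻¹) * b * (y * a * y⁻¹)⁻¹ * b⁻¹
        = y * (a * (y⁻¹ * b * y) * a⁻¹ * (y⁻¹ * b * y)⁻¹) * y⁻¹ := by group
    rw [e, Fx_conj (centerOf T) ν y hyZ hfy _ (kmem a ha _ hb'), ha1 _ hb']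
  have hxR₂ : x ∈ Subgroup.normalizer ((R₂ : Subgroup Γ) : Set Γ) := by
    apply mem_normalizer_of_conj
    · exact hconjR x hxT hxZ hfxν
    · intro a ha
      have h1 := hconjR x⁻¹ (inv_mem hxT) (inv_mem hxZ) (Fx_inv _ ν x hxZ hfxν) a ha
      rwa [inv_inv] at h1
  have hR₂τ : ∀ a ∈ R₂, a * τ = τ * a := ih' R₂ hR₂T hR₂ne hxR₂
  have hR₂Z : ∀ a ∈ R₂, a ∈ centerOf T := by
    intro a ha
    have h1 := hinvT a (hR₂T ha)
    have h2 : τ * a * τ⁻¹ = a := by rw [← hR₂τ a ha, mul_inv_cancel_right]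
    rw [h2] at h1
    obtain ⟨m, hm⟩ := hodd a (hR₂T ha)
    rw [hm]
    exact (centerOf T).pow_mem h1 m
  have hnondeg : ∀ a ∈ T, a ∉ centerOf T → ∃ b ∈ T, ν (a * b * a⁻¹ * b⁻¹) ≠ 1 := by
    intro a ha hna
    by_contra hall
    push Not at hall
    exact hna (hR₂Z a ⟨ha, hall⟩)
  -- (h) a minimal invariant subspace
  obtain ⟨V₂, hV₂U, hV₂0, ⟨hV₂T, hV₂x⟩, hV₂min⟩ := exists_min_submodule
    (fun W : Submodule L U => (∀ u ∈ T, ∀ w ∈ W, ρ u w ∈ W) ∧ (∀ w ∈ W, ρ x w ∈ W))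
    Uν hUν0 ⟨hUνT, hUνx⟩
  have hh4 : 4 ≤ 2 ^ (n + 1) := by
    calc 4 = 2 ^ 2 := by norm_num
      _ ≤ 2 ^ (n + 1) := Nat.pow_le_pow_right (by norm_num) (by omega)
  have hτ1 : τ ≠ 1 := by
    intro h1
    apply hg₀
    rw [h1, mul_one, one_mul]
  have hcardT : ∃ j : ℕ, Nat.card T = t ^ j := IsPGroup.iff_card.mp hT
  obtain ⟨c1, c2, -, c4, -⟩ := extraZ_sub ρ T (centerOf T) x (2 ^ (n + 1)) (by positivity) V₂
    hV₂0 hZT
    (fun z hz => ⟨ν z, fun w hw => (hmemU w).mp (hV₂U hw) z hz⟩)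
    kmem
    (by
      intro u hu hnu
      obtain ⟨b, hb, hne'⟩ := hnondeg u hu hnu
      obtain ⟨w, hw, hw0⟩ := Submodule.exists_mem_ne_zero_of_ne_bot hV₂0
      refine ⟨b, hb, w, hw, ?_⟩
      intro heq
      have hk := kmem u hu b hb
      have e : u * b = (u * b * u⁻¹ * b⁻¹) * (b * u) := by group
      have hbu : ρ (b * u) w ∈ V₂ := by
        rw [rho_mul]
        exact hV₂T b hb _ (hV₂T u hu w hw)
      have h1 : ρ (u * b) w = ν (u * b * u⁻¹ * b⁻¹) • ρ (b * u) w := by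
        nth_rewrite 1 [e]
        rw [rho_mul]
        exact (hmemU _).mp (hV₂U hbu) _ hk
      rw [heq] at h1
      have h2 : (1 - ν (u * b * u⁻¹ * b⁻¹)) • ρ (u * b) w = 0 := by
        rw [sub_smul, one_smul, ← h1, sub_self]
      rcases smul_eq_zero.mp h2 with h3 | h3
      · exact hne' (sub_eq_zero.mp h3).symm
      · apply hw0
        have h4 := rho_inv_apply ρ (u * b) w
        rw [h3, map_zero] at h4
        exact h4.symm)
    hxT hxZ hx
    (by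
      intro i hi0 hi u hu hmem
      let J : Subgroup Γ :=
        { carrier := {y | y ∈ Subgroup.normalizer ((centerOf T : Subgroup Γ) : Set Γ) ∧
            y * u * y⁻¹ * u⁻¹ ∈ centerOf T}
          one_mem' := ⟨Subgroup.one_mem _, by simp [Subgroup.one_mem]⟩
          mul_mem' := by
            rintro y y' ⟨hy, hy'⟩ ⟨hz, hz'⟩
            refine ⟨Subgroup.mul_mem _ hy hz, ?_⟩
            have e : (y * y') * u * (y * y')⁻¹ * u⁻¹
                = y * (y' * u * y'⁻¹ * u⁻¹) * y⁻¹ * (y * u * y⁻¹ * u⁻¹) := by group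
            rw [e]
            exact (centerOf T).mul_mem (conj_mem_of_normalizer _ y hy _ hz') hy'
          inv_mem' := by
            rintro y ⟨hy, hy'⟩
            refine ⟨Subgroup.inv_mem _ hy, ?_⟩
            have e : y⁻¹ * u * y⁻¹⁻¹ * u⁻¹ = y⁻¹ * (y * u * y⁻¹ * u⁻¹)⁻¹ * y := by group
            rw [e]
            exact conj_mem_of_normalizer' _ y hy _ ((centerOf T).inv_mem hy') }
      have hxi : x ^ i ∈ J := by
        refine ⟨Subgroup.pow_mem _ hxZ i, ?_⟩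
        rw [inv_pow] at hmem
        exact hmem
      have hne' : x ^ i ≠ 1 := by
        rw [hτ] at hτ1
        exact pow_ne_one_of_tau x n hx hτ1 i hi0 hi
      have hτJ : τ ∈ J := by
        rw [hτ]
        exact (Subgroup.zpowers_le.mpr hxi) (tau_mem_zpowers x n hx (x ^ i)
          (Subgroup.pow_mem _ (Subgroup.mem_zpowers x) _) hne')
      have h1 := hτJ.2
      have h2 := hinvT u hu
      have h3 : u * u ∈ centerOf T := by
        have e : u * u = (τ * u * τ⁻¹ * u⁻¹)⁻¹ * (τ * u * τ⁻¹ * u) := by group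
        rw [e]
        exact (centerOf T).mul_mem ((centerOf T).inv_mem h1) h2
      obtain ⟨m, hm⟩ := hodd u hu
      rw [hm]
      exact (centerOf T).pow_mem h3 m)
    (by
      obtain ⟨j, hj⟩ := hcardT
      rw [hj, Nat.cast_pow]
      exact pow_ne_zero j htL)
    (by
      rw [Nat.cast_pow]
      exact pow_ne_zero _ (by exact_mod_cast h2L))
    hV₂T hV₂x
    (fun U' hU' hU'0 hU'T hU'x => hV₂min U' hU' hU'0 ⟨hU'T, hU'x⟩)
  -- the dimension is a power of `t`, at least `3`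
  obtain ⟨d, hd⟩ : ∃ d : ℕ, d = Module.finrank L V₂ := ⟨_, rfl⟩
  rw [← hd] at c1 c2 c4
  have hrel1 : (centerOf T).relIndex T ≠ 1 := by
    intro h1
    have h2 : T ≤ centerOf T := Subgroup.relIndex_eq_one.mp h1
    exact hab₀ ((h2 hb₀).2 a₀ ha₀)
  obtain ⟨j, hj⟩ := hcardT
  have hreldvd : (centerOf T).relIndex T ∣ t ^ j := by
    rw [← hj]
    exact Subgroup.relIndex_dvd_card _ _
  obtain ⟨i, -, hi⟩ := (Nat.dvd_prime_pow ht).mp hreldvd
  have hi0 : i ≠ 0 := by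
    intro h0
    rw [h0, pow_zero] at hi
    exact hrel1 hi
  have hdt : ∃ j' : ℕ, d = t ^ j' := by
    have h1 : d ∣ t ^ i := by
      rw [← hi, ← c1]
      exact Dvd.intro_left (d ^ 1) (by ring)
    obtain ⟨j', -, hj'⟩ := (Nat.dvd_prime_pow ht).mp h1
    exact ⟨j', hj'⟩
  obtain ⟨j', hj'⟩ := hdt
  have hj'0 : j' ≠ 0 := by
    intro h0
    rw [h0, pow_zero] at hj'
    rw [hj', one_pow] at c1
    exact hrel1 c1.symm
  have ht3 : 3 ≤ t := by
    have := ht.two_le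
    omega
  have hd3 : 3 ≤ d := by
    rw [hj']
    calc 3 ≤ t := ht3
      _ = t ^ 1 := (pow_one t).symm
      _ ≤ t ^ j' := Nat.pow_le_pow_right ht.pos (by omega)
  have hdodd : Odd d := by
    rw [hj']
    exact (ht.odd_of_ne_two ht2).pow
  -- the fixed space
  obtain ⟨F, hF⟩ : ∃ F : Submodule L U, ∀ w, w ∈ F ↔ w ∈ V₂ ∧ ρ x w = w := by
    refine ⟨V₂ ⊓ (ρ x).eigenspace 1, fun w => ?_⟩
    rw [Submodule.mem_inf, Module.End.mem_eigenspace_iff, one_smul]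
  have hmult := c4 F hF
  have hFV : F ≤ V₂ := fun w hw => ((hF w).mp hw).1
  obtain ⟨P', hP'⟩ := Submodule.exists_isCompl (F.comap V₂.subtype)
  have hP2 := hrk (P'.map V₂.subtype) (by
    rintro _ ⟨p', hp', rfl⟩ hxp
    have h1 : p' ∈ F.comap V₂.subtype := by
      rw [Submodule.mem_comap, hF]
      exact ⟨p'.2, hxp⟩
    have h2 := (Submodule.disjoint_def.mp hP'.disjoint) p' h1 hp'
    rw [h2]
    rfl)
  have hfin1 : Module.finrank L (P'.map V₂.subtype) = Module.finrank L P' :=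
    (LinearEquiv.finrank_eq
      (Submodule.equivMapOfInjective V₂.subtype V₂.injective_subtype P')).symm
  have hfin2 : Module.finrank L (F.comap V₂.subtype) = Module.finrank L F :=
    LinearEquiv.finrank_eq (Submodule.comapSubtypeEquivOfLe hFV)
  have hfin3 := Submodule.finrank_add_eq_of_isCompl hP'
  rw [hfin2, ← hd] at hfin3
  rw [hfin1] at hP2
  obtain ⟨f, hf⟩ : ∃ f : ℕ, f = Module.finrank L F := ⟨_, rfl⟩
  rw [← hf] at hmult hfin3
  obtain ⟨H, hH⟩ : ∃ H : ℕ, H = 2 ^ (n + 1) := ⟨_, rfl⟩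
  rw [← hH] at hmult c2 hh4
  have hd4 : d ≤ 4 := by
    by_contra hcon
    push Not at hcon
    have hf3 : 3 ≤ f := by omega
    have hfd : d ≤ f + 2 := by omega
    zify at hmult hh4 hf3 hfd hcon
    nlinarith [mul_nonneg (sub_nonneg.mpr hh4) (sub_nonneg.mpr (show (1 : ℤ) ≤ f * f by nlinarith)),
      mul_nonneg (sub_nonneg.mpr hfd) (sub_nonneg.mpr hfd)]
  have hd_eq : d = 3 := by
    obtain ⟨q, hq⟩ := hdodd
    omega
  have ht_eq : t = 3 := by
    rw [hd_eq] at hj'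
    have h1 : t ∣ 3 := by
      rw [hj']
      exact dvd_pow_self t hj'0
    exact (Nat.prime_dvd_prime_iff_eq ht Nat.prime_three).mp h1
  obtain ⟨c, hc⟩ := c2
  rw [hd_eq] at hc
  have hn1 : n = 1 := by
    rcases hc with hc | hc
    · have : H * c = 2 := by omega
      rcases Nat.eq_zero_or_pos c with rfl | hcpos
      · omega
      · have : 4 * 1 ≤ H * c := Nat.mul_le_mul hh4 hcpos
        omega
    · have hc1 : c = 1 := by
        rcases Nat.eq_zero_or_pos c with rfl | hcpos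
        · omega
        · by_contra hc2
          have : 4 * 2 ≤ H * c := Nat.mul_le_mul hh4 (by omega)
          omega
      rw [hc1, mul_one] at hc
      have h4 : 2 ^ (n + 1) = 2 ^ 2 := by
        rw [← hH]
        norm_num
        omega
      have := Nat.pow_right_injective (le_refl 2) h4
      omega
  exact hne hn1 ht_eq

end

end Cfsg.Agent.Lib.helper66
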