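import Mathlib
import Cfsg.Agent.Lib.helper66.GrC
import Cfsg.Agent.Lib.helper66.ExtraRepG

set_option autoImplicit false

namespace Cfsg.Agent.Lib.helper66

universe v

section

variable {K : Type*} [Field K] {V : Type v} [AddCommGroup V] [Module K V]
  {Γ : Type*} [Group Γ]

/-- The faithful image of a subgroup acting on an invariant subspace. -/
theorem exists_faithful_image (ρ : Γ →* Module.End K V) (M : Submodule K V)
    (G₀ : Subgroup Γ) [Finite G₀] (hG₀ : ∀ g ∈ G₀, ∀ w ∈ M, ρ g w ∈ M) :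
    ∃ (Γ' : Type v) (_ : Group Γ') (_ : Finite Γ') (π : G₀ →* Γ')
      (ρ' : Γ' →* Module.End K M),
      Function.Surjective π ∧ Function.Injective ρ' ∧
      ∀ (g : G₀) (w : M), ((ρ' (π g) w : M) : V) = ρ g w := by
  let R₀ : G₀ →* Module.End K M := restrictHom ρ G₀ M hG₀
  let P : G₀ →* (Module.End K M)ˣ := R₀.toHomUnits
  refine ⟨P.range, inferInstance,
    Finite.of_surjective P.rangeRestrict P.rangeRestrict_surjective, P.rangeRestrict,
    (Units.coeHom (Module.End K M)).comp P.range.subtype, P.rangeRestrict_surjective, ?_, ?_⟩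
  · intro a b hab
    apply Subtype.ext
    apply Units.ext
    exact hab
  · intro g w
    rfl

end

section

variable {Γ : Type*} [Group Γ] {Γ' : Type*} [Group Γ']

/-- The image of a subgroup of `Γ` under a homomorphism defined on a subgroup `G₀`. -/
def imSub (G₀ : Subgroup Γ) (π : G₀ →* Γ') (H : Subgroup Γ) : Subgroup Γ' :=
  (H.subgroupOf G₀).map π

theorem mem_imSub (G₀ : Subgroup Γ) (π : G₀ →* Γ') (H : Subgroup Γ) (y : Γ') :
    y ∈ imSub G₀ π H ↔ ∃ g : G₀, (g : Γ) ∈ H ∧ π g = y := by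
  constructor
  · rintro ⟨g, hg, rfl⟩
    exact ⟨g, Subgroup.mem_subgroupOf.mp hg, rfl⟩
  · rintro ⟨g, hg, rfl⟩
    exact ⟨g, Subgroup.mem_subgroupOf.mpr hg, rfl⟩

theorem imSub_pgroup (G₀ : Subgroup Γ) (π : G₀ →* Γ') (H : Subgroup Γ) (p : ℕ)
    (hH : IsPGroup p H) : IsPGroup p (imSub G₀ π H) :=
  (hH.comap_subtype (K := G₀)).map π

theorem imSub_norm (G₀ : Subgroup Γ) (π : G₀ →* Γ') (H : Subgroup Γ) (g : G₀)
    (hg : (g : Γ) ∈ Subgroup.normalizer (H : Set Γ)) :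
    π g ∈ Subgroup.normalizer ((imSub G₀ π H : Subgroup Γ') : Set Γ') := by
  apply mem_normalizer_of_conj
  · intro y hy
    obtain ⟨u, hu, rfl⟩ := (mem_imSub G₀ π H y).mp hy
    rw [mem_imSub]
    refine ⟨g * u * g⁻¹, ?_, by simp⟩
    have h1 := conj_mem_of_normalizer H g hg u hu
    simpa using h1
  · intro y hy
    obtain ⟨u, hu, rfl⟩ := (mem_imSub G₀ π H y).mp hy
    rw [mem_imSub]
    refine ⟨g⁻¹ * u * g, ?_, by simp⟩
    have h1 := conj_mem_of_normalizer' H g hg u hu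
    simpa using h1

theorem conj_central (p k y : Γ) (hk : ∀ y, y * k = k * y) :
    (p * k) * y * (p * k)⁻¹ = p * y * p⁻¹ := by
  calc (p * k) * y * (p * k)⁻¹ = p * (k * y) * k⁻¹ * p⁻¹ := by group
    _ = p * (y * k) * k⁻¹ * p⁻¹ := by rw [hk y]
    _ = p * y * p⁻¹ := by group

theorem comm_central (p q k₁ k₂ : Γ) (h1 : ∀ y, y * k₁ = k₁ * y) (h2 : ∀ y, y * k₂ = k₂ * y) :
    (p * k₁) * (q * k₂) * (p * k₁)⁻¹ * (q * k₂)⁻¹ = p * q * p⁻¹ * q⁻¹ := by
  rw [conj_central p k₁ (q * k₂) h1]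
  calc p * (q * k₂) * p⁻¹ * (q * k₂)⁻¹ = p * q * (k₂ * p⁻¹) * k₂⁻¹ * q⁻¹ := by group
    _ = p * q * (p⁻¹ * k₂) * k₂⁻¹ * q⁻¹ := by rw [h2 p⁻¹]
    _ = p * q * p⁻¹ * q⁻¹ := by group

/-- A section `Q / Z` of order `s ^ 2` is generated by two elements. -/
theorem gen2 [Finite Γ] (Q Z : Subgroup Γ) (hZQ : Z ≤ Q) (s : ℕ) (hs : s.Prime)
    (hrel : Z.relIndex Q = s ^ 2) :
    ∃ e₁ ∈ Q, ∃ e₂ ∈ Q, ∀ H : Subgroup Γ, Z ≤ H → e₁ ∈ H → e₂ ∈ H → Q ≤ H := by
  have hcard : Nat.card Z * s ^ 2 = Nat.card Q := by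
    have h1 := Subgroup.relIndex_mul_relIndex (⊥ : Subgroup Γ) Z Q bot_le hZQ
    rw [Subgroup.relIndex_bot_left, Subgroup.relIndex_bot_left, hrel] at h1
    exact h1
  have hs1 : 1 < s := hs.one_lt
  obtain ⟨e₁, he₁Q, he₁Z⟩ : ∃ e₁ ∈ Q, e₁ ∉ Z := by
    by_contra hall
    push Not at hall
    have h1 : Z.relIndex Q = 1 := Subgroup.relIndex_eq_one.mpr hall
    rw [hrel] at h1
    nlinarith
  have hH₁Q : Z ⊔ Subgroup.zpowers e₁ ≤ Q := sup_le hZQ (Subgroup.zpowers_le.mpr he₁Q)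
  have hZH₁ : Z ≤ Z ⊔ Subgroup.zpowers e₁ := le_sup_left
  have he₁H₁ : e₁ ∈ Z ⊔ Subgroup.zpowers e₁ :=
    (le_sup_right : Subgroup.zpowers e₁ ≤ _) (Subgroup.mem_zpowers e₁)
  by_cases hH₁ : Z ⊔ Subgroup.zpowers e₁ = Q
  · refine ⟨e₁, he₁Q, 1, Q.one_mem, fun H hZH he₁H _ => ?_⟩
    rw [← hH₁]
    exact sup_le hZH (Subgroup.zpowers_le.mpr he₁H)
  · obtain ⟨e₂, he₂Q, he₂H₁⟩ : ∃ e₂ ∈ Q, e₂ ∉ Z ⊔ Subgroup.zpowers e₁ := by
      by_contra hall
      push Not at hall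
      exact hH₁ (le_antisymm hH₁Q hall)
    have hH₂Q : Z ⊔ Subgroup.zpowers e₁ ⊔ Subgroup.zpowers e₂ ≤ Q :=
      sup_le hH₁Q (Subgroup.zpowers_le.mpr he₂Q)
    have hlt1 : Nat.card Z < Nat.card (Z ⊔ Subgroup.zpowers e₁ : Subgroup Γ) := by
      apply card_lt_card_of_lt' hZH₁
      intro h0
      apply he₁Z
      rw [h0]
      exact he₁H₁
    have hlt2 : Nat.card (Z ⊔ Subgroup.zpowers e₁ : Subgroup Γ)
        < Nat.card (Z ⊔ Subgroup.zpowers e₁ ⊔ Subgroup.zpowers e₂ : Subgroup Γ) := by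
      apply card_lt_card_of_lt' le_sup_left
      intro h0
      apply he₂H₁
      rw [h0]
      exact (le_sup_right : Subgroup.zpowers e₂ ≤ _) (Subgroup.mem_zpowers e₂)
    obtain ⟨a, ha⟩ := Subgroup.card_dvd_of_le hZH₁
    obtain ⟨b, hb⟩ := Subgroup.card_dvd_of_le
      (le_sup_left : Z ⊔ Subgroup.zpowers e₁ ≤ Z ⊔ Subgroup.zpowers e₁ ⊔ Subgroup.zpowers e₂)
    obtain ⟨c, hc⟩ := Subgroup.card_dvd_of_le hH₂Q
    have hz : 0 < Nat.card Z := Nat.card_pos
    rw [ha] at hlt1 hb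
    rw [hb] at hlt2 hc
    have habc : a * b * c = s ^ 2 := by
      have h1 : Nat.card Z * (a * b * c) = Nat.card Z * s ^ 2 := by
        rw [hcard, hc]
        ring
      exact Nat.eq_of_mul_eq_mul_left hz h1
    have ha1 : 1 < a := by
      by_contra hcon
      push Not at hcon
      have : Nat.card Z * a ≤ Nat.card Z * 1 := Nat.mul_le_mul_left _ hcon
      omega
    have hb1 : 1 < b := by
      by_contra hcon
      push Not at hcon
      have : Nat.card Z * a * b ≤ Nat.card Z * a * 1 := Nat.mul_le_mul_left _ hcon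
      omega
    obtain ⟨m, -, hm⟩ := (Nat.dvd_prime_pow hs).mp (⟨b * c, by rw [← habc]; ring⟩ : a ∣ s ^ 2)
    obtain ⟨m', hm'2, hm'⟩ := (Nat.dvd_prime_pow hs).mp (⟨c, by rw [← habc]⟩ : a * b ∣ s ^ 2)
    have hm0 : m ≠ 0 := by
      intro h0
      rw [h0, pow_zero] at hm
      omega
    have hmm' : m < m' := by
      by_contra hcon
      push Not at hcon
      have h1 : s ^ m' ≤ s ^ m := Nat.pow_le_pow_right hs.pos hcon
      rw [← hm, ← hm'] at h1
      nlinarith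
    have hm'eq : m' = 2 := by omega
    have hc1 : c = 1 := by
      rw [hm', hm'eq] at habc
      have h1 : s ^ 2 * c = s ^ 2 * 1 := by rw [habc, mul_one]
      exact Nat.eq_of_mul_eq_mul_left (by positivity) h1
    have hH₂ : Z ⊔ Subgroup.zpowers e₁ ⊔ Subgroup.zpowers e₂ = Q := by
      apply Subgroup.eq_of_le_of_card_ge hH₂Q
      rw [hc, hc1, mul_one]
      exact le_of_eq hb.symm
    refine ⟨e₁, he₁Q, e₂, he₂Q, fun H hZH he₁H he₂H => ?_⟩
    rw [← hH₂]
    exact sup_le (sup_le hZH (Subgroup.zpowers_le.mpr he₁H)) (Subgroup.zpowers_le.mpr he₂H)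

/-- A nonzero additive function on a `p`-group `S`, vanishing on a proper subgroup `Z`
containing the commutators. -/
theorem exists_add_fun [Finite Γ] (S Z : Subgroup Γ) (s : ℕ) (hs : s.Prime)
    (hS : IsPGroup s S) (hZS : Z ≤ S) (hne : Z ≠ S)
    (hcomm : ∀ u ∈ S, ∀ v ∈ S, u * v * u⁻¹ * v⁻¹ ∈ Z) (L : Type*) [Field L] [CharP L s] :
    ∃ f : Γ → L, (∀ a ∈ S, ∀ b ∈ S, f (a * b) = f a + f b) ∧ (∀ a, a ∉ S → f a = 0) ∧
      (∀ z ∈ Z, f z = 0) ∧ ∃ u ∈ S, f u ≠ 0 := by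
  classical
  have hsF : Fact s.Prime := ⟨hs⟩
  obtain ⟨b, hb⟩ := IsPGroup.iff_card.mp hS
  obtain ⟨a, ha⟩ := IsPGroup.iff_card.mp (hS.to_le hZS)
  have hab : a < b := by
    have h1 : Nat.card Z < Nat.card S := card_lt_card_of_lt' hZS hne
    rw [ha, hb] at h1
    exact (Nat.pow_lt_pow_iff_right hs.one_lt).mp h1
  obtain ⟨K₁, hZK, hKS, hK⟩ := exists_between_card hZS ha (show a ≤ b - 1 by omega)
    (show s ^ (b - 1) ∣ Nat.card S by rw [hb]; exact pow_dvd_pow s (by omega))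
  have hKn : (K₁.subgroupOf S).Normal := by
    constructor
    intro k hk u
    rw [Subgroup.mem_subgroupOf] at hk ⊢
    have h1 := hcomm u u.2 k (hKS hk)
    have h2 : ((u * k * u⁻¹ : S) : Γ) = ((u : Γ) * k * (u : Γ)⁻¹ * (k : Γ)⁻¹) * k := by
      simp
    rw [h2]
    exact K₁.mul_mem (hZK h1) hk
  have hcardq : Nat.card (S ⧸ K₁.subgroupOf S) = s := by
    have h1 := Subgroup.card_eq_card_quotient_mul_card_subgroup (K₁.subgroupOf S)
    have h2 : Nat.card (K₁.subgroupOf S) = s ^ (b - 1) := by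
      rw [← hK]
      exact Nat.card_congr (Subgroup.subgroupOfEquivOfLe hKS).toEquiv
    rw [hb, h2] at h1
    have h3 : s ^ b = s * s ^ (b - 1) := by
      rw [← pow_succ']
      congr 1
      omega
    rw [h3] at h1
    exact (Nat.eq_of_mul_eq_mul_right (pow_pos hs.pos _) h1).symm
  have hcardz : Nat.card (Multiplicative (ZMod s)) = s := by
    rw [Nat.card_eq_fintype_card, Fintype.card_multiplicative, ZMod.card]
  let e : S ⧸ K₁.subgroupOf S ≃* Multiplicative (ZMod s) := mulEquivOfPrimeCardEq hcardq hcardz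
  let cast : ZMod s →+* L := ZMod.castHom (dvd_refl s) L
  have hcast : Function.Injective cast := cast.injective
  refine ⟨fun a => if ha : a ∈ S then
      cast (Multiplicative.toAdd (e (QuotientGroup.mk ⟨a, ha⟩))) else 0, ?_, ?_, ?_, ?_⟩
  · intro a ha b hb
    simp only [dif_pos ha, dif_pos hb, dif_pos (S.mul_mem ha hb)]
    have h1 : (QuotientGroup.mk (⟨a * b, S.mul_mem ha hb⟩ : S) : S ⧸ K₁.subgroupOf S)
        = QuotientGroup.mk ⟨a, ha⟩ * QuotientGroup.mk ⟨b, hb⟩ := rfl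
    rw [h1, map_mul, toAdd_mul, map_add]
  · intro a ha
    simp only [dif_neg ha]
  · intro z hz
    simp only [dif_pos (hZS hz)]
    have h1 : (QuotientGroup.mk (⟨z, hZS hz⟩ : S) : S ⧸ K₁.subgroupOf S) = 1 := by
      rw [QuotientGroup.eq_one_iff, Subgroup.mem_subgroupOf]
      exact hZK hz
    rw [h1, map_one, toAdd_one, map_zero]
  · obtain ⟨u, huS, huK⟩ : ∃ u ∈ S, u ∉ K₁ := by
      by_contra hall
      push Not at hall
      have h1 : K₁ = S := le_antisymm hKS hall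
      rw [h1, hb] at hK
      have := Nat.pow_right_injective hs.two_le hK
      omega
    refine ⟨u, huS, ?_⟩
    simp only [dif_pos huS]
    intro h0
    apply huK
    have h1 : Multiplicative.toAdd (e (QuotientGroup.mk ⟨u, huS⟩)) = 0 := by
      apply hcast
      rw [h0, map_zero]
    have h2 : e (QuotientGroup.mk ⟨u, huS⟩) = 1 := h1
    have h3 : (QuotientGroup.mk (⟨u, huS⟩ : S) : S ⧸ K₁.subgroupOf S) = 1 := by
      apply e.injective
      rw [h2, map_one]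
    rw [QuotientGroup.eq_one_iff, Subgroup.mem_subgroupOf] at h3
    exact h3

/-- Functions on `Γ` that are additive on `S`, vanish outside `S` and vanish on `Z`. -/
def addHomMod (L : Type*) [Field L] (S Z : Subgroup Γ) : Submodule L (Γ → L) where
  carrier := {f | (∀ a ∈ S, ∀ b ∈ S, f (a * b) = f a + f b) ∧ (∀ a, a ∉ S → f a = 0) ∧
    ∀ z ∈ Z, f z = 0}
  add_mem' := by
    rintro f g ⟨hf1, hf2, hf3⟩ ⟨hg1, hg2, hg3⟩
    refine ⟨fun a ha b hb => ?_, fun a ha => ?_, fun z hz => ?_⟩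
    · simp only [Pi.add_apply]
      rw [hf1 a ha b hb, hg1 a ha b hb]
      ring
    · simp only [Pi.add_apply]
      rw [hf2 a ha, hg2 a ha, add_zero]
    · simp only [Pi.add_apply]
      rw [hf3 z hz, hg3 z hz, add_zero]
  zero_mem' := ⟨fun a _ b _ => by simp, fun a _ => rfl, fun z _ => rfl⟩
  smul_mem' := by
    rintro c f ⟨hf1, hf2, hf3⟩
    refine ⟨fun a ha b hb => ?_, fun a ha => ?_, fun z hz => ?_⟩
    · simp only [Pi.smul_apply, smul_eq_mul]
      rw [hf1 a ha b hb]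
      ring
    · simp only [Pi.smul_apply, smul_eq_mul]
      rw [hf2 a ha, mul_zero]
    · simp only [Pi.smul_apply, smul_eq_mul]
      rw [hf3 z hz, mul_zero]

theorem mem_addHomMod (L : Type*) [Field L] (S Z : Subgroup Γ) (f : Γ → L) :
    f ∈ addHomMod L S Z ↔ (∀ a ∈ S, ∀ b ∈ S, f (a * b) = f a + f b) ∧
      (∀ a, a ∉ S → f a = 0) ∧ ∀ z ∈ Z, f z = 0 := Iff.rfl

theorem conjFunRep_mem_addHomMod (L : Type*) [Field L] (S Z : Subgroup Γ) (g : Γ)
    (hgS : g ∈ Subgroup.normalizer (S : Set Γ)) (hgZ : g ∈ Subgroup.normalizer (Z : Set Γ))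
    (f : Γ → L) (hf : f ∈ addHomMod L S Z) : conjFunRep L Γ g f ∈ addHomMod L S Z := by
  obtain ⟨hf1, hf2, hf3⟩ := hf
  refine ⟨fun a ha b hb => ?_, fun a ha => ?_, fun z hz => ?_⟩
  · rw [conjFunRep_apply, conjFunRep_apply, conjFunRep_apply,
      ← hf1 _ (conj_mem_of_normalizer' S g hgS a ha) _ (conj_mem_of_normalizer' S g hgS b hb)]
    congr 1
    group
  · rw [conjFunRep_apply]
    apply hf2
    intro h
    apply ha
    have h2 := conj_mem_of_normalizer S g hgS _ h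
    have h3 : g * (g⁻¹ * a * g) * g⁻¹ = a := by group
    rwa [h3] at h2
  · rw [conjFunRep_apply]
    exact hf3 _ (conj_mem_of_normalizer' Z g hgZ z hz)

theorem addHomMod_one (L : Type*) [Field L] (S Z : Subgroup Γ) (f : Γ → L)
    (hf : f ∈ addHomMod L S Z) : f 1 = 0 := hf.2.2 1 Z.one_mem

theorem addHomMod_inv (L : Type*) [Field L] (S Z : Subgroup Γ) (f : Γ → L)
    (hf : f ∈ addHomMod L S Z) (a : Γ) (ha : a ∈ S) : f a⁻¹ = -f a := by
  have h1 := hf.1 a ha a⁻¹ (S.inv_mem ha)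
  rw [mul_inv_cancel, addHomMod_one L S Z f hf] at h1
  exact eq_neg_of_add_eq_zero_right h1.symm

end

end Cfsg.Agent.Lib.helper66
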