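import Mathlib
import Cfsg.Agent.Lib.helper66.GrD
import Cfsg.Agent.Lib.helper66.OddAction

set_option autoImplicit false

namespace Cfsg.Agent.Lib.helper66

section

variable {K : Type*} [Field K] {W : Type*} [AddCommGroup W] [Module K W]
  {Γ : Type*} [Group Γ]

set_option maxHeartbeats 1600000 in
/-- **The exceptional case of the linear core, faithful form.**  `S` is an `s`-group and `T`
a `t`-group of linear maps, normalized by `x` of order dividing `2 ^ (n+1)` without nonzero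
fixed vectors, `T` normalizes `S`, the center of `S` acts by scalars, and the conclusion holds
for all proper invariant subgroups of `S`; then the commutators `[g, τ]` (`g ∈ T`, `τ` the
involution of `⟨x⟩`) centralize `S`. -/
theorem coreB_faithful [IsAlgClosed K] [FiniteDimensional K W] [Finite Γ]
    (ρ : Γ →* Module.End K W) (hinj : Function.Injective ρ) (x : Γ) (n : ℕ)
    (hx : x ^ (2 ^ (n + 1)) = 1) (hfix : ∀ w, ρ x w = w → w = 0)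
    (s t : ℕ) (hs : s.Prime) (ht : t.Prime) (hs2 : s ≠ 2) (ht2 : t ≠ 2) (hst : s ≠ t)
    (hsK : (s : K) ≠ 0) (h2K : (2 : K) ≠ 0)
    (S T : Subgroup Γ) (hS : IsPGroup s S) (hT : IsPGroup t T)
    (hxS : x ∈ Subgroup.normalizer (S : Set Γ)) (hxT : x ∈ Subgroup.normalizer (T : Set Γ))
    (hTS : T ≤ Subgroup.normalizer (S : Set Γ))
    (hA : ∀ z ∈ centerOf S, ∃ c : K, ρ z = c • (1 : Module.End K W))
    (hmin : ∀ S₀ : Subgroup Γ, S₀ ≤ S → S₀ ≠ S → x ∈ Subgroup.normalizer (S₀ : Set Γ) →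
      T ≤ Subgroup.normalizer (S₀ : Set Γ) → ∀ g ∈ T, ∀ u ∈ S₀,
      (g * x ^ (2 ^ n) * g⁻¹ * (x ^ (2 ^ n))⁻¹) * u
        = u * (g * x ^ (2 ^ n) * g⁻¹ * (x ^ (2 ^ n))⁻¹)) :
    ∀ g ∈ T, ∀ u ∈ S,
      (g * x ^ (2 ^ n) * g⁻¹ * (x ^ (2 ^ n))⁻¹) * u
        = u * (g * x ^ (2 ^ n) * g⁻¹ * (x ^ (2 ^ n))⁻¹) := by
  classical
  by_contra hcon
  push Not at hcon
  obtain ⟨g₀, hg₀, u₀, hu₀, hne₀⟩ := hcon
  have hsF : Fact s.Prime := ⟨hs⟩
  have htF : Fact t.Prime := ⟨ht⟩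
  obtain ⟨τ, hτ⟩ : ∃ τ : Γ, τ = x ^ (2 ^ n) := ⟨_, rfl⟩
  rw [← hτ] at hne₀ hmin
  have hτ2 : τ * τ = 1 := by rw [hτ, ← pow_add, ← two_mul, ← pow_succ', hx]
  have hτi : τ⁻¹ = τ := inv_eq_of_mul_eq_one_left hτ2
  have hxτ : x * τ = τ * x := by rw [hτ, ← pow_succ', ← pow_succ]
  have hxiτ : x⁻¹ * τ = τ * x⁻¹ := by
    calc x⁻¹ * τ = x⁻¹ * (τ * x) * x⁻¹ := by group
      _ = x⁻¹ * (x * τ) * x⁻¹ := by rw [hxτ]
      _ = τ * x⁻¹ := by group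
  have hτN : ∀ H : Subgroup Γ, x ∈ Subgroup.normalizer (H : Set Γ) →
      τ ∈ Subgroup.normalizer (H : Set Γ) := by
    intro H hH
    rw [hτ]
    exact Subgroup.pow_mem _ hH _
  have hoddS : ∀ u ∈ S, ∃ m : ℕ, u = (u * u) ^ m := by
    intro u hu
    obtain ⟨e, he⟩ := pgroup_pow S s hS u hu
    exact sqrt_odd u (s ^ e) he
      (Nat.Coprime.pow_left e ((Nat.coprime_primes hs Nat.prime_two).mpr hs2))
  have hoddT : ∀ g ∈ T, ∃ m : ℕ, g = (g * g) ^ m := by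
    intro g hg
    obtain ⟨e, he⟩ := pgroup_pow T t hT g hg
    exact sqrt_odd g (t ^ e) he
      (Nat.Coprime.pow_left e ((Nat.coprime_primes ht Nat.prime_two).mpr ht2))
  have hcopT : ∀ c ∈ T, (orderOf c).Coprime s := by
    intro c hc
    obtain ⟨e, he⟩ := pgroup_pow T t hT c hc
    exact Nat.Coprime.coprime_dvd_left (orderOf_dvd_of_pow_eq_one he)
      (Nat.Coprime.pow_left e ((Nat.coprime_primes ht hs).mpr (Ne.symm hst)))
  -- the commutators with `τ`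
  obtain ⟨C₁, hC₁⟩ : ∃ C₁ : Set Γ, C₁ = {c | ∃ g ∈ T, c = g * τ * g⁻¹ * τ⁻¹} := ⟨_, rfl⟩
  have hC₁T : ∀ c ∈ C₁, c ∈ T := by
    intro c hc
    rw [hC₁] at hc
    obtain ⟨g, hg, rfl⟩ := hc
    have h1 : g * τ * g⁻¹ * τ⁻¹ = g * (τ * g⁻¹ * τ⁻¹) := by group
    rw [h1]
    exact T.mul_mem hg (conj_mem_of_normalizer T τ (hτN T hxT) g⁻¹ (T.inv_mem hg))
  have hC₁inv : ∀ c ∈ C₁, τ * c * τ⁻¹ = c⁻¹ := by
    intro c hc
    rw [hC₁] at hc
    obtain ⟨g, hg, rfl⟩ := hc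
    exact inv_comm_elt g τ hτ2
  obtain ⟨T₁, hT₁⟩ : ∃ T₁ : Subgroup Γ, T₁ = Subgroup.closure C₁ := ⟨_, rfl⟩
  have hC₁T₁ : ∀ c ∈ C₁, c ∈ T₁ := by
    intro c hc
    rw [hT₁]
    exact Subgroup.subset_closure hc
  have hT₁T : T₁ ≤ T := by
    rw [hT₁]
    exact (Subgroup.closure_le T).mpr hC₁T
  have hT₁S : T₁ ≤ Subgroup.normalizer (S : Set Γ) := hT₁T.trans hTS
  have hconjC : ∀ y : Γ, y ∈ Subgroup.normalizer (T : Set Γ) → y * τ = τ * y →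
      ∀ c ∈ T₁, y * c * y⁻¹ ∈ T₁ := by
    intro y hy hyτ
    rw [hT₁]
    apply conj_closure_mem
    intro c hc
    apply Subgroup.subset_closure
    rw [hC₁] at hc ⊢
    obtain ⟨g, hg, rfl⟩ := hc
    exact ⟨y * g * y⁻¹, conj_mem_of_normalizer T y hy g hg, conj_comm_elt y g τ hyτ⟩
  have hxT₁ : x ∈ Subgroup.normalizer ((T₁ : Subgroup Γ) : Set Γ) := by
    apply mem_normalizer_of_conj
    · exact hconjC x hxT hxτ
    · intro c hc
      have h1 := hconjC x⁻¹ (inv_mem hxT) hxiτ c hc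
      rwa [inv_inv] at h1
  have hTT₁ : T ≤ Subgroup.normalizer ((T₁ : Subgroup Γ) : Set Γ) := by
    have key : ∀ g' ∈ T, ∀ c ∈ T₁, g' * c * g'⁻¹ ∈ T₁ := by
      intro g' hg'
      rw [hT₁]
      apply conj_closure_mem
      intro c hc
      rw [hC₁] at hc
      obtain ⟨g, hg, rfl⟩ := hc
      have e : g' * (g * τ * g⁻¹ * τ⁻¹) * g'⁻¹
          = ((g' * g) * τ * (g' * g)⁻¹ * τ⁻¹) * (g' * τ * g'⁻¹ * τ⁻¹)⁻¹ := by group
      rw [e, ← hT₁]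
      apply T₁.mul_mem
      · apply hC₁T₁
        rw [hC₁]
        exact ⟨g' * g, T.mul_mem hg' hg, rfl⟩
      · apply T₁.inv_mem
        apply hC₁T₁
        rw [hC₁]
        exact ⟨g', hg', rfl⟩
    intro g' hg'
    apply mem_normalizer_of_conj
    · exact key g' hg'
    · intro c hc
      have h1 := key g'⁻¹ (T.inv_mem hg') c hc
      rwa [inv_inv] at h1
  have hminT₁ : ∀ S₀ : Subgroup Γ, S₀ ≤ S → S₀ ≠ S → x ∈ Subgroup.normalizer (S₀ : Set Γ) →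
      T ≤ Subgroup.normalizer (S₀ : Set Γ) → ∀ c ∈ T₁, ∀ u ∈ S₀, c * u = u * c := by
    intro S₀ h1 h2 h3 h4
    have hle : T₁ ≤ Subgroup.centralizer (S₀ : Set Γ) := by
      rw [hT₁, Subgroup.closure_le]
      intro c hc
      rw [hC₁] at hc
      obtain ⟨g, hg, rfl⟩ := hc
      rw [SetLike.mem_coe, Subgroup.mem_centralizer_iff]
      intro u hu
      exact (hmin S₀ h1 h2 h3 h4 g hg u hu).symm
    intro c hc u hu
    exact ((Subgroup.mem_centralizer_iff.mp (hle hc)) u hu).symm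
  have hc₀ : g₀ * τ * g₀⁻¹ * τ⁻¹ ∈ C₁ := by
    rw [hC₁]
    exact ⟨g₀, hg₀, rfl⟩
  have hnotgood : ¬ (∀ c ∈ T₁, ∀ u ∈ S, c * u = u * c) :=
    fun h => hne₀ (h _ (hC₁T₁ _ hc₀) u₀ hu₀)
  -- Step 1: `S = [S, T₁]`
  have hcomST : ⁅S, T₁⁆ ≤ S := by
    rw [Subgroup.commutator_le]
    intro u hu c hc
    rw [commutatorElement_def]
    have e : u * c * u⁻¹ * c⁻¹ = u * (c * u⁻¹ * c⁻¹) := by group
    rw [e]
    exact S.mul_mem hu (conj_mem_of_normalizer S c (hT₁S hc) u⁻¹ (S.inv_mem hu))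
  have hST₁ : ⁅S, T₁⁆ = S := by
    by_contra hne
    have h1 := hminT₁ ⁅S, T₁⁆ hcomST hne (normalizer_commutator S T₁ x hxS hxT₁)
      (fun g hg => normalizer_commutator S T₁ g (hTS hg) (hTT₁ hg))
    apply hnotgood
    intro c hc u hu
    have hy : u⁻¹ * c * u * c⁻¹ ∈ ⁅S, T₁⁆ := by
      have h2 := Subgroup.commutator_mem_commutator (S.inv_mem hu) hc
      rw [commutatorElement_def, inv_inv] at h2
      exact h2
    have hcy := h1 c hc _ hy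
    obtain ⟨m, hm⟩ := pgroup_pow S s hS _ (hcomST hy)
    have hy1 := eq_one_of_conj_eq_mul_of_coprime (p := s) (b := c) (x := u)
      (y := u⁻¹ * c * u * c⁻¹) (hcopT c (hT₁T hc)) (by group)
      (by rw [hcy, mul_inv_cancel_right]) hm
    calc c * u = u * (u⁻¹ * c * u * c⁻¹) * c := by group
      _ = u * c := by rw [hy1, mul_one]
  -- Step 2: class two
  have hSne : S ≠ ⊥ := by
    intro h0
    rw [h0, Subgroup.mem_bot] at hu₀
    apply hne₀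
    rw [hu₀, one_mul, mul_one]
  have hDS : ⁅S, S⁆ ≤ S := by
    rw [Subgroup.commutator_le]
    intro a ha b hb
    exact S.mul_mem (S.mul_mem (S.mul_mem ha hb) (S.inv_mem ha)) (S.inv_mem hb)
  have hDne : ⁅S, S⁆ ≠ S := comm_ne_self S s hs hS hSne
  have hT₁D := hminT₁ ⁅S, S⁆ hDS hDne (normalizer_commutator S S x hxS hxS)
    (fun g hg => normalizer_commutator S S g (hTS hg) (hTS hg))
  have hSD : ∀ u ∈ S, u ∈ Subgroup.normalizer ((⁅S, S⁆ : Subgroup Γ) : Set Γ) := fun u hu =>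
    normalizer_commutator S S u (Subgroup.le_normalizer hu) (Subgroup.le_normalizer hu)
  have hDc : ∀ d ∈ ⁅S, S⁆, ∀ u ∈ S, u * d = d * u := by
    intro d hd u hu
    have hle : ⁅S, T₁⁆ ≤ Subgroup.centralizer ({d} : Set Γ) := by
      rw [Subgroup.commutator_le]
      intro v hv c hc
      rw [Subgroup.mem_centralizer_iff]
      intro y hy
      rw [Set.mem_singleton_iff] at hy
      rw [hy]
      have h1 := hT₁D c hc d hd
      have hd' : v⁻¹ * d * v ∈ ⁅S, S⁆ := conj_mem_of_normalizer' _ v (hSD v hv) d hd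
      have h2 := hT₁D c hc _ hd'
      have h3 : c⁻¹ * d = d * c⁻¹ := by
        calc c⁻¹ * d = c⁻¹ * (d * c) * c⁻¹ := by group
          _ = c⁻¹ * (c * d) * c⁻¹ := by rw [h1]
          _ = d * c⁻¹ := by group
      rw [commutatorElement_def]
      calc d * (v * c * v⁻¹ * c⁻¹) = v * ((v⁻¹ * d * v) * c) * v⁻¹ * c⁻¹ := by group
        _ = v * (c * (v⁻¹ * d * v)) * v⁻¹ * c⁻¹ := by rw [h2]
        _ = v * c * v⁻¹ * (d * c⁻¹) := by group
        _ = v * c * v⁻¹ * (c⁻¹ * d) := by rw [h3]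
        _ = v * c * v⁻¹ * c⁻¹ * d := by group
    rw [← hST₁] at hu
    have h1 := hle hu
    rw [Subgroup.mem_centralizer_iff] at h1
    exact (h1 d rfl).symm
  obtain ⟨Z, hZ⟩ : ∃ Z : Subgroup Γ, Z = centerOf S := ⟨_, rfl⟩
  have hDZ : ⁅S, S⁆ ≤ Z := by
    intro d hd
    rw [hZ]
    exact ⟨hDS hd, fun u hu => hDc d hd u hu⟩
  have hZS : Z ≤ S := by
    intro z hz
    rw [hZ] at hz
    exact hz.1
  have kmem : ∀ u ∈ S, ∀ v ∈ S, u * v * u⁻¹ * v⁻¹ ∈ Z := fun u hu v hv =>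
    hDZ (Subgroup.commutator_mem_commutator hu hv)
  have hxZ : x ∈ Subgroup.normalizer ((Z : Subgroup Γ) : Set Γ) := by
    rw [hZ]
    exact centerOf_norm S x hxS
  have hTZ : T ≤ Subgroup.normalizer ((Z : Subgroup Γ) : Set Γ) := by
    intro g hg
    rw [hZ]
    exact centerOf_norm S g (hTS hg)
  have hZcen : ∀ z ∈ Z, ∀ y : Γ, y * z = z * y := by
    intro z hz y
    rw [hZ] at hz
    obtain ⟨c, hc⟩ := hA z hz
    apply hinj
    rw [map_mul, map_mul, hc, mul_smul_comm, smul_mul_assoc, mul_one, one_mul]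
  have hZsq : ∀ u ∈ S, u * u ∈ Z → u ∈ Z := by
    intro u hu huu
    obtain ⟨m, hm⟩ := hoddS u hu
    rw [hm]
    exact Z.pow_mem huu m
  -- Step 3: `τ` acts nontrivially on `S / Z`
  obtain ⟨u₁, hu₁, hu₁Z⟩ : ∃ u₁ ∈ S, τ * u₁ * τ⁻¹ * u₁⁻¹ ∉ Z := by
    by_contra hall
    push Not at hall
    let J : Subgroup Γ :=
      { carrier := {y | y ∈ Subgroup.normalizer (S : Set Γ) ∧
          ∀ u ∈ S, y * u * y⁻¹ * u⁻¹ ∈ Z}
        one_mem' := ⟨Subgroup.one_mem _, fun u _ => by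
          have e : (1 : Γ) * u * 1⁻¹ * u⁻¹ = 1 := by group
          rw [e]
          exact Z.one_mem⟩
        mul_mem' := by
          rintro y y' ⟨hy, hy1⟩ ⟨hy', hy1'⟩
          refine ⟨Subgroup.mul_mem _ hy hy', fun u hu => ?_⟩
          have e : (y * y') * u * (y * y')⁻¹ * u⁻¹
              = y * (y' * u * y'⁻¹ * u⁻¹) * y⁻¹ * (y * u * y⁻¹ * u⁻¹) := by group
          have hz := hy1' u hu
          rw [e, hZcen _ hz y, mul_inv_cancel_right]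
          exact Z.mul_mem hz (hy1 u hu)
        inv_mem' := by
          rintro y ⟨hy, hy1⟩
          refine ⟨Subgroup.inv_mem _ hy, fun u hu => ?_⟩
          have hu' : y⁻¹ * u * y ∈ S := conj_mem_of_normalizer' S y hy u hu
          have e : y⁻¹ * u * y⁻¹⁻¹ * u⁻¹
              = (y * (y⁻¹ * u * y) * y⁻¹ * (y⁻¹ * u * y)⁻¹)⁻¹ := by group
          rw [e]
          exact Z.inv_mem (hy1 _ hu') }
    have hτJ : τ ∈ J := ⟨hτN S hxS, hall⟩
    have hle : T₁ ≤ J := by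
      rw [hT₁, Subgroup.closure_le]
      intro c hc
      rw [hC₁] at hc
      obtain ⟨g, hg, rfl⟩ := hc
      have h1 : g * τ * g⁻¹ ∈ J := by
        refine ⟨Subgroup.mul_mem _ (Subgroup.mul_mem _ (hTS hg) (hτN S hxS))
          (Subgroup.inv_mem _ (hTS hg)), fun u hu => ?_⟩
        have hu' := conj_mem_of_normalizer' S g (hTS hg) u hu
        have e : (g * τ * g⁻¹) * u * (g * τ * g⁻¹)⁻¹ * u⁻¹
            = g * (τ * (g⁻¹ * u * g) * τ⁻¹ * (g⁻¹ * u * g)⁻¹) * g⁻¹ := by group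
        rw [e, hZcen _ (hall _ hu') g, mul_inv_cancel_right]
        exact hall _ hu'
      exact J.mul_mem h1 (J.inv_mem hτJ)
    have hle2 : ⁅S, T₁⁆ ≤ Z := by
      rw [Subgroup.commutator_le]
      intro u hu c hc
      rw [commutatorElement_def]
      have h1 := (hle hc).2 u⁻¹ (S.inv_mem hu)
      have e : u * c * u⁻¹ * c⁻¹ = u * (c * u⁻¹ * c⁻¹ * u⁻¹⁻¹) * u⁻¹ := by group
      rw [e, hZcen _ h1 u, mul_inv_cancel_right]
      exact h1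
    rw [hST₁] at hle2
    exact hne₀ (hZcen u₀ (hle2 hu₀) _)
  have hτ1 : τ ≠ 1 := by
    intro h1
    apply hu₁Z
    rw [h1]
    have e : (1 : Γ) * u₁ * 1⁻¹ * u₁⁻¹ = 1 := by group
    rw [e]
    exact Z.one_mem
  -- Step 4: the subgroup inverted by `τ` modulo `Z`
  let Q : Subgroup Γ :=
    { carrier := {u | u ∈ S ∧ τ * u * τ⁻¹ * u ∈ Z}
      one_mem' := ⟨S.one_mem, by
        have e : τ * 1 * τ⁻¹ * 1 = 1 := by group
        rw [e]
        exact Z.one_mem⟩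
      mul_mem' := by
        rintro g g' ⟨hg, hg1⟩ ⟨hg', hg1'⟩
        refine ⟨S.mul_mem hg hg', ?_⟩
        have hb : τ * g' * τ⁻¹ ∈ S := conj_mem_of_normalizer S τ (hτN S hxS) g' hg'
        have hk := kmem _ hb g hg
        have e : τ * (g * g') * τ⁻¹ * (g * g')
            = (τ * g * τ⁻¹) * ((τ * g' * τ⁻¹) * g * (τ * g' * τ⁻¹)⁻¹ * g⁻¹) * g
              * (τ * g' * τ⁻¹ * g') := by group
        rw [e, hZcen _ hk (τ * g * τ⁻¹)]
        have e2 : (τ * g' * τ⁻¹) * g * (τ * g' * τ⁻¹)⁻¹ * g⁻¹ * (τ * g * τ⁻¹) * g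
            * (τ * g' * τ⁻¹ * g')
            = ((τ * g' * τ⁻¹) * g * (τ * g' * τ⁻¹)⁻¹ * g⁻¹) * (τ * g * τ⁻¹ * g)
              * (τ * g' * τ⁻¹ * g') := by group
        rw [e2]
        exact Z.mul_mem (Z.mul_mem hk hg1) hg1'
      inv_mem' := by
        rintro g ⟨hg, hg1⟩
        refine ⟨S.inv_mem hg, ?_⟩
        have e : τ * g⁻¹ * τ⁻¹ * g⁻¹ = g * (τ * g * τ⁻¹ * g)⁻¹ * g⁻¹ := by group
        rw [e, hZcen _ (Z.inv_mem hg1) g, mul_inv_cancel_right]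
        exact Z.inv_mem hg1 }
  have hQS : Q ≤ S := fun u hu => hu.1
  have hZQ : Z ≤ Q := by
    intro z hz
    refine ⟨hZS hz, ?_⟩
    have h1 : τ * z * τ⁻¹ = z := by rw [hZcen z hz τ, mul_inv_cancel_right]
    rw [h1]
    exact Z.mul_mem hz hz
  have hconjQ : ∀ y : Γ, y ∈ Subgroup.normalizer (S : Set Γ) →
      y ∈ Subgroup.normalizer ((Z : Subgroup Γ) : Set Γ) → y * τ = τ * y →
      ∀ u ∈ Q, y * u * y⁻¹ ∈ Q := by
    rintro y hyS hyZ hyτ u ⟨hu, hu1⟩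
    refine ⟨conj_mem_of_normalizer S y hyS u hu, ?_⟩
    have h1 : τ = y * τ * y⁻¹ := by rw [hyτ, mul_inv_cancel_right]
    have e : τ * (y * u * y⁻¹) * τ⁻¹ * (y * u * y⁻¹) = y * (τ * u * τ⁻¹ * u) * y⁻¹ := by
      calc τ * (y * u * y⁻¹) * τ⁻¹ * (y * u * y⁻¹)
          = (y * τ * y⁻¹) * (y * u * y⁻¹) * (y * τ * y⁻¹)⁻¹ * (y * u * y⁻¹) := by rw [← h1]
        _ = y * (τ * u * τ⁻¹ * u) * y⁻¹ := by group
    rw [e]
    exact conj_mem_of_normalizer Z y hyZ _ hu1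
  have hxQ : x ∈ Subgroup.normalizer ((Q : Subgroup Γ) : Set Γ) := by
    apply mem_normalizer_of_conj
    · exact hconjQ x hxS hxZ hxτ
    · intro u hu
      have h1 := hconjQ x⁻¹ (inv_mem hxS) (inv_mem hxZ) hxiτ u hu
      rwa [inv_inv] at h1
  have hv₁Q : τ * u₁ * τ⁻¹ * u₁⁻¹ ∈ Q := by
    refine ⟨S.mul_mem (conj_mem_of_normalizer S τ (hτN S hxS) u₁ hu₁) (S.inv_mem hu₁), ?_⟩
    have e : τ * (τ * u₁ * τ⁻¹ * u₁⁻¹) * τ⁻¹ * (τ * u₁ * τ⁻¹ * u₁⁻¹) = 1 := by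
      rw [hτi]
      calc τ * (τ * u₁ * τ * u₁⁻¹) * τ * (τ * u₁ * τ * u₁⁻¹)
          = (τ * τ) * u₁ * τ * u₁⁻¹ * (τ * τ) * u₁ * τ * u₁⁻¹ := by group
        _ = u₁ * τ * τ * u₁⁻¹ := by
          rw [hτ2]
          group
        _ = u₁ * (τ * τ) * u₁⁻¹ := by group
        _ = 1 := by
          rw [hτ2]
          group
    rw [e]
    exact Z.one_mem
  have hminus : ∀ u ∈ S, u * (τ * u * τ⁻¹)⁻¹ ∈ Q := by
    intro u hu
    have hpS : τ * u * τ⁻¹ ∈ S := conj_mem_of_normalizer S τ (hτN S hxS) u hu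
    refine ⟨S.mul_mem hu (S.inv_mem hpS), ?_⟩
    have hp : τ * (τ * u * τ⁻¹) * τ⁻¹ = u := by
      rw [hτi]
      calc τ * (τ * u * τ) * τ = (τ * τ) * u * (τ * τ) := by group
        _ = u := by
          rw [hτ2]
          group
    have e : τ * (u * (τ * u * τ⁻¹)⁻¹) * τ⁻¹ * (u * (τ * u * τ⁻¹)⁻¹) = 1 := by
      have e1 : τ * (u * (τ * u * τ⁻¹)⁻¹) * τ⁻¹ * (u * (τ * u * τ⁻¹)⁻¹)
          = (τ * u * τ⁻¹) * (τ * (τ * u * τ⁻¹) * τ⁻¹)⁻¹ * (u * (τ * u * τ⁻¹)⁻¹) := by group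
      rw [e1, hp]
      group
    rw [e]
    exact Z.one_mem
  -- Step 5: nondegeneracy
  have hQpg : IsPGroup s Q := hS.to_le hQS
  have hnondeg : ∀ w ∈ Q, w ∉ Z → ∃ v ∈ Q, v * w ≠ w * v := by
    intro w hw hwZ
    have hwS := hQS hw
    have h1 : ¬ (∀ u ∈ S, u * w = w * u) := fun h => hwZ (by rw [hZ]; exact ⟨hwS, h⟩)
    push Not at h1
    obtain ⟨u, hu, huw⟩ := h1
    have hpS : τ * u * τ⁻¹ ∈ S := conj_mem_of_normalizer S τ (hτN S hxS) u hu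
    refine ⟨u * (τ * u * τ⁻¹)⁻¹, hminus u hu, fun hcomm => huw ?_⟩
    have hz := kmem u hu w hwS
    have hk : τ * w * τ⁻¹ * w ∈ Z := hw.2
    obtain ⟨z, hzdef⟩ : ∃ z, z = u * w * u⁻¹ * w⁻¹ := ⟨_, rfl⟩
    obtain ⟨k, hkdef⟩ : ∃ k, k = τ * w * τ⁻¹ * w := ⟨_, rfl⟩
    obtain ⟨p, hpdef⟩ : ∃ p, p = τ * u * τ⁻¹ := ⟨_, rfl⟩
    rw [← hzdef] at hz
    rw [← hkdef] at hk
    rw [← hpdef] at hcomm
    have hzc := hZcen z hz
    have hkc := hZcen k hk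
    have h2 : p * w⁻¹ * p⁻¹ * w = z := by
      have e1 : τ * w * τ⁻¹ = w⁻¹ * k := by
        rw [hkc w⁻¹, hkdef]
        group
      calc p * w⁻¹ * p⁻¹ * w = p * (w⁻¹ * k) * p⁻¹ * (w⁻¹ * k)⁻¹ := by
            have e2 : p * (w⁻¹ * k) * p⁻¹ * (w⁻¹ * k)⁻¹
                = p * w⁻¹ * (k * p⁻¹) * k⁻¹ * w := by group
            rw [e2, ← hkc p⁻¹]
            group
        _ = (τ * u * τ⁻¹) * (τ * w * τ⁻¹) * (τ * u * τ⁻¹)⁻¹ * (τ * w * τ⁻¹)⁻¹ := by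
            rw [e1, hpdef]
        _ = τ * z * τ⁻¹ := by
            rw [hzdef]
            group
        _ = z := by rw [hzc τ, mul_inv_cancel_right]
    have h3 : p⁻¹ * w * p * w⁻¹ = z := by
      calc p⁻¹ * w * p * w⁻¹ = w * p⁻¹ * (p * w⁻¹ * p⁻¹ * w) * p * w⁻¹ := by group
        _ = w * p⁻¹ * z * p * w⁻¹ := by rw [h2]
        _ = w * (p⁻¹ * z) * p * w⁻¹ := by group
        _ = w * (z * p⁻¹) * p * w⁻¹ := by rw [hzc p⁻¹]
        _ = (w * z) * w⁻¹ := by group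
        _ = z := by rw [hzc w, mul_inv_cancel_right]
    have h4 : z * z = 1 := by
      calc z * z = u * z * u⁻¹ * z := by rw [hzc u, mul_inv_cancel_right]
        _ = u * (p⁻¹ * w * p * w⁻¹) * u⁻¹ * (u * w * u⁻¹ * w⁻¹) := by rw [h3, ← hzdef]
        _ = (u * p⁻¹ * w) * (u * p⁻¹)⁻¹ * w⁻¹ := by group
        _ = (w * (u * p⁻¹)) * (u * p⁻¹)⁻¹ * w⁻¹ := by rw [hcomm]
        _ = 1 := by group
    have hz1 : z = 1 := by
      obtain ⟨m, hm⟩ := hoddS z (hZS hz)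
      rw [hm, h4, one_pow]
    calc u * w = (u * w * u⁻¹ * w⁻¹) * w * u := by group
      _ = w * u := by rw [← hzdef, hz1, one_mul]
  have hrel1 : Z.relIndex Q ≠ 1 := by
    intro h
    exact hu₁Z (Subgroup.relIndex_eq_one.mp h hv₁Q)
  have hhK : ((2 ^ (n + 1) : ℕ) : K) ≠ 0 := by
    rw [Nat.cast_pow, Nat.cast_ofNat]
    exact pow_ne_zero _ h2K
  have hcardQ : (Nat.card Q : K) ≠ 0 := by
    obtain ⟨e, he⟩ := IsPGroup.iff_card.mp hQpg
    rw [he, Nat.cast_pow]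
    exact pow_ne_zero _ hsK
  have hfpfQ : ∀ i, 0 < i → i < 2 ^ (n + 1) → ∀ u ∈ Q,
      x ^ i * u * x⁻¹ ^ i * u⁻¹ ∈ Z → u ∈ Z := by
    intro i hi0 hi u hu hiu
    have hb1 : x ^ i ≠ 1 := pow_ne_one_of_tau x n hx (by rw [← hτ]; exact hτ1) i hi0 hi
    have hτb : x ^ (2 ^ n) ∈ Subgroup.zpowers (x ^ i) :=
      tau_mem_zpowers x n hx (x ^ i) (Subgroup.pow_mem _ (Subgroup.mem_zpowers x) i) hb1
    let J' : Subgroup Γ :=
      { carrier := {y | y * u * y⁻¹ * u⁻¹ ∈ Z}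
        one_mem' := by
          have e : (1 : Γ) * u * 1⁻¹ * u⁻¹ = 1 := by group
          show (1 : Γ) * u * 1⁻¹ * u⁻¹ ∈ Z
          rw [e]
          exact Z.one_mem
        mul_mem' := by
          intro y y' hy hy'
          have hy1 : y * u * y⁻¹ * u⁻¹ ∈ Z := hy
          have hy1' : y' * u * y'⁻¹ * u⁻¹ ∈ Z := hy'
          have e : (y * y') * u * (y * y')⁻¹ * u⁻¹
              = y * (y' * u * y'⁻¹ * u⁻¹) * y⁻¹ * (y * u * y⁻¹ * u⁻¹) := by group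
          show (y * y') * u * (y * y')⁻¹ * u⁻¹ ∈ Z
          rw [e, hZcen _ hy1' y, mul_inv_cancel_right]
          exact Z.mul_mem hy1' hy1
        inv_mem' := by
          intro y hy
          have hy1 : y * u * y⁻¹ * u⁻¹ ∈ Z := hy
          have e : y⁻¹ * u * y⁻¹⁻¹ * u⁻¹ = y⁻¹ * (y * u * y⁻¹ * u⁻¹)⁻¹ * y := by group
          show y⁻¹ * u * y⁻¹⁻¹ * u⁻¹ ∈ Z
          rw [e, hZcen _ (Z.inv_mem hy1) y⁻¹, inv_mul_cancel_right]
          exact Z.inv_mem hy1 }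
    have hbJ : x ^ i ∈ J' := by
      show x ^ i * u * (x ^ i)⁻¹ * u⁻¹ ∈ Z
      rw [← inv_pow]
      exact hiu
    have hτJ' : x ^ (2 ^ n) ∈ J' := (Subgroup.zpowers_le.mpr hbJ) hτb
    have h1 : τ * u * τ⁻¹ * u⁻¹ ∈ Z := by
      rw [hτ]
      exact hτJ'
    have h2 : τ * u * τ⁻¹ * u ∈ Z := hu.2
    have h3 : u * u ∈ Z := by
      have e : u * u = (τ * u * τ⁻¹ * u⁻¹)⁻¹ * (τ * u * τ⁻¹ * u) := by group
      rw [e]
      exact Z.mul_mem (Z.inv_mem h1) h2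
    exact hZsq u (hQS hu) h3
  have hnondeg' : ∀ W₁ : Submodule K W, W₁ ≠ ⊥ → ∀ u ∈ Q, u ∉ Z →
      ∃ v ∈ Q, ∃ w ∈ W₁, ρ (v * u) w ≠ ρ (u * v) w := by
    intro W₁ hW₁ u hu huZ
    obtain ⟨v, hv, hvu⟩ := hnondeg u hu huZ
    obtain ⟨w, hw, hw0⟩ := (Submodule.ne_bot_iff W₁).mp hW₁
    refine ⟨v, hv, w, hw, fun heq => ?_⟩
    have hk := kmem v (hQS hv) u (hQS hu)
    obtain ⟨c, hc⟩ := hA _ (by rw [← hZ]; exact hk)
    have h5 : ρ (v * u) w = c • ρ (u * v) w := by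
      have e1 : v * u = (v * u * v⁻¹ * u⁻¹) * (u * v) := by group
      calc ρ (v * u) w = ρ ((v * u * v⁻¹ * u⁻¹) * (u * v)) w := by rw [← e1]
        _ = c • ρ (u * v) w := by
          rw [map_mul, hc, smul_mul_assoc, one_mul, LinearMap.smul_apply]
    have hne : ρ (u * v) w ≠ 0 := by
      intro h0
      apply hw0
      have h1 : ρ (u * v)⁻¹ (ρ (u * v) w) = w := by
        rw [← Module.End.mul_apply, ← map_mul, inv_mul_cancel, map_one, Module.End.one_apply]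
      rw [← h1, h0, map_zero]
    have hc1 : c = 1 := by
      have h2 : (c - 1) • ρ (u * v) w = 0 := by rw [sub_smul, one_smul, ← h5, heq, sub_self]
      rcases smul_eq_zero.mp h2 with h3 | h3
      · exact sub_eq_zero.mp h3
      · exact absurd h3 hne
    apply hvu
    have h4 : v * u * v⁻¹ * u⁻¹ = 1 := by
      apply hinj
      rw [hc, hc1, one_smul, map_one]
    calc v * u = (v * u * v⁻¹ * u⁻¹) * (u * v) := by group
      _ = u * v := by rw [h4, one_mul]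
  have hkey : ∀ U : Submodule K W, U ≠ ⊥ → (∀ u ∈ Q, ∀ w ∈ U, ρ u w ∈ U) →
      (∀ w ∈ U, ρ x w ∈ U) → ∃ V₁ : Submodule K W, V₁ ≤ U ∧
        Module.finrank K V₁ + 1 = 2 ^ (n + 1) ∧ (Module.finrank K V₁) ^ 2 = Z.relIndex Q ∧
        ∀ ε : K, ε ^ (2 ^ (n + 1)) = 1 → ε ≠ 1 → ∃ v ∈ V₁, v ≠ 0 ∧ ρ x v = ε • v := by
    intro U hU0 hUQ hUx
    obtain ⟨V₁, hV₁U, hV₁0, ⟨hV₁Q, hV₁x⟩, hV₁min⟩ := exists_min_submodule
      (fun U' : Submodule K W => (∀ u ∈ Q, ∀ w ∈ U', ρ u w ∈ U') ∧ (∀ w ∈ U', ρ x w ∈ U'))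
      U hU0 ⟨hUQ, hUx⟩
    have hfixV : ∀ w ∈ V₁, ρ x w = w → w = 0 := fun w _ hw => hfix w hw
    obtain ⟨h1, -, h3, -, h5⟩ := extraZ_sub ρ Q Z x (2 ^ (n + 1)) (by positivity) V₁ hV₁0 hZQ
      (fun z hz => by
        obtain ⟨c, hc⟩ := hA z (by rw [← hZ]; exact hz)
        exact ⟨c, fun w _ => by rw [hc, LinearMap.smul_apply, Module.End.one_apply]⟩)
      (fun u hu v hv => kmem u (hQS hu) v (hQS hv))
      (hnondeg' V₁ hV₁0) hxQ hxZ hx hfpfQ hcardQ hhK hV₁Q hV₁x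
      (fun U' hU'le hU'0 hU'Q hU'x => hV₁min U' hU'le hU'0 ⟨hU'Q, hU'x⟩)
    have h3' := h3 hfixV
    have hd1 : Module.finrank K V₁ ≠ 1 := by
      intro h
      rw [h, one_pow] at h1
      exact hrel1 h1.symm
    have hd : Module.finrank K V₁ + 1 = 2 ^ (n + 1) := by
      rcases h3' with h | h
      · exact absurd h hd1
      · exact h
    exact ⟨V₁, hV₁U, hd, h1, h5 hfixV hd⟩
  have hWtop : (⊤ : Submodule K W) ≠ ⊥ := by
    intro h
    apply hτ1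
    apply hinj
    apply LinearMap.ext
    intro w
    have hw : w ∈ (⊥ : Submodule K W) := by
      rw [← h]
      exact Submodule.mem_top
    rw [Submodule.mem_bot] at hw
    rw [hw, map_zero, map_zero]
  obtain ⟨V₀, -, hd₀, hsq₀, -⟩ := hkey ⊤ hWtop (fun _ _ _ _ => Submodule.mem_top)
    (fun _ _ => Submodule.mem_top)
  obtain ⟨d, hddef⟩ : ∃ d, d = Module.finrank K V₀ := ⟨_, rfl⟩
  rw [← hddef] at hd₀ hsq₀
  obtain ⟨b, hb⟩ : ∃ b, Z.relIndex Q = s ^ b := IsPGroup.index hQpg (Z.subgroupOf Q)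
  have hdvd : d ∣ s ^ b := by
    rw [← hb, ← hsq₀]
    exact dvd_pow_self d two_ne_zero
  obtain ⟨b', -, hb'⟩ := (Nat.dvd_prime_pow hs).mp hdvd
  have hn1 : 1 ≤ n := by
    by_contra h
    have h0 : n = 0 := by omega
    rw [h0] at hd₀
    have hd1 : d = 1 := by
      norm_num at hd₀
      omega
    rw [hd1, one_pow] at hsq₀
    exact hrel1 hsq₀.symm
  have hb'1 : b' = 1 := by
    apply mersenne_exp s b' (n + 1) (hs.odd_of_ne_two hs2) hs.one_lt (by omega)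
    rw [← hb']
    exact hd₀
  have hds : d = s := by rw [hb', hb'1, pow_one]
  have hs1 : s + 1 = 2 ^ (n + 1) := by
    rw [← hds]
    exact hd₀
  have hrel : Z.relIndex Q = s ^ 2 := by rw [← hsq₀, hds]
  have hxcomm : ∀ a : Γ, (∀ u ∈ Q, a * u = u * a) → x * a = a * x := by
    intro a ha
    apply hinj
    rw [map_mul, map_mul]
    apply commutant_comm {X | ∃ u ∈ Q, X = ρ u} (ρ x) (ρ x⁻¹) (2 ^ (n + 1))
    · rw [← map_pow, hx, map_one]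
    · rw [← map_mul, mul_inv_cancel, map_one]
    · rw [← map_mul, inv_mul_cancel, map_one]
    · exact hhK
    · rintro X ⟨u, hu, rfl⟩
      exact ⟨x⁻¹ * u * x, conj_mem_of_normalizer' Q x hxQ u hu, by rw [map_mul, map_mul]⟩
    · exact hfix
    · intro U hU0 hUA hUx ε hε hε1
      obtain ⟨V₁, hV₁U, -, -, h5⟩ := hkey U hU0 (fun u hu w hw => hUA _ ⟨u, hu, rfl⟩ w hw) hUx
      obtain ⟨v, hv, hv0, hxv⟩ := h5 ε hε hε1
      exact ⟨v, hV₁U hv, hv0, hxv⟩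
    · rintro X ⟨u, hu, rfl⟩
      rw [← map_mul, ← map_mul, ha u hu]
  have hQnS : ∀ v ∈ S, ∀ u ∈ Q, v * u * v⁻¹ ∈ Q := by
    intro v hv u hu
    have e : v * u * v⁻¹ = (v * u * v⁻¹ * u⁻¹) * u := by group
    rw [e]
    exact Q.mul_mem (hZQ (kmem v hv u (hQS hu))) hu
  have hplus : ∀ u ∈ S, ∀ q ∈ Q, (u * (τ * u * τ⁻¹)) * q = q * (u * (τ * u * τ⁻¹)) := by
    intro u hu q hq
    obtain ⟨z, hzdef⟩ : ∃ z, z = u * q * u⁻¹ * q⁻¹ := ⟨_, rfl⟩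
    obtain ⟨k, hkdef⟩ : ∃ k, k = τ * q * τ⁻¹ * q := ⟨_, rfl⟩
    have hz : z ∈ Z := by
      rw [hzdef]
      exact kmem u hu q (hQS hq)
    have hk : k ∈ Z := by
      rw [hkdef]
      exact hq.2
    have hzc := hZcen z hz
    have hkc := hZcen k hk
    have hzic := hZcen z⁻¹ (Z.inv_mem hz)
    have e1 : τ * q * τ⁻¹ = q⁻¹ * k := by
      rw [hkc q⁻¹, hkdef]
      group
    have h2 : u * (τ * q * τ⁻¹) * u⁻¹ * (τ * q * τ⁻¹)⁻¹ = z⁻¹ := by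
      rw [e1]
      calc u * (q⁻¹ * k) * u⁻¹ * (q⁻¹ * k)⁻¹ = u * q⁻¹ * (k * u⁻¹) * k⁻¹ * q := by group
        _ = u * q⁻¹ * (u⁻¹ * k) * k⁻¹ * q := by rw [hkc u⁻¹]
        _ = q⁻¹ * (u * q * u⁻¹ * q⁻¹)⁻¹ * q := by group
        _ = q⁻¹ * z⁻¹ * q := by rw [← hzdef]
        _ = z⁻¹ := by rw [hzic q⁻¹, inv_mul_cancel_right]
    have hτq : τ * (τ * q * τ⁻¹) * τ⁻¹ = q := by
      rw [hτi]
      calc τ * (τ * q * τ) * τ = (τ * τ) * q * (τ * τ) := by group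
        _ = q := by
          rw [hτ2]
          group
    have h3 : (τ * u * τ⁻¹) * q * (τ * u * τ⁻¹)⁻¹ * q⁻¹ = z⁻¹ := by
      calc (τ * u * τ⁻¹) * q * (τ * u * τ⁻¹)⁻¹ * q⁻¹
          = (τ * u * τ⁻¹) * (τ * (τ * q * τ⁻¹) * τ⁻¹) * (τ * u * τ⁻¹)⁻¹
            * (τ * (τ * q * τ⁻¹) * τ⁻¹)⁻¹ := by rw [hτq]
        _ = τ * (u * (τ * q * τ⁻¹) * u⁻¹ * (τ * q * τ⁻¹)⁻¹) * τ⁻¹ := by group
        _ = z⁻¹ := by rw [h2, hzic τ, mul_inv_cancel_right]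
    have h4 : (u * (τ * u * τ⁻¹)) * q * (u * (τ * u * τ⁻¹))⁻¹ * q⁻¹ = 1 := by
      calc (u * (τ * u * τ⁻¹)) * q * (u * (τ * u * τ⁻¹))⁻¹ * q⁻¹
          = u * ((τ * u * τ⁻¹) * q * (τ * u * τ⁻¹)⁻¹ * q⁻¹) * u⁻¹ * (u * q * u⁻¹ * q⁻¹) := by
            group
        _ = u * z⁻¹ * u⁻¹ * z := by rw [h3, ← hzdef]
        _ = 1 := by rw [hzic u, mul_inv_cancel_right, inv_mul_cancel]
    calc (u * (τ * u * τ⁻¹)) * q
        = ((u * (τ * u * τ⁻¹)) * q * (u * (τ * u * τ⁻¹))⁻¹ * q⁻¹) * q * (u * (τ * u * τ⁻¹)) := by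
          group
      _ = q * (u * (τ * u * τ⁻¹)) := by rw [h4, one_mul]
  have hxS2 : ∀ u ∈ S, x * u * x⁻¹ * u⁻¹ ∈ Q := by
    let J₂ : Subgroup Γ :=
      { carrier := {v | v ∈ S ∧ x * v * x⁻¹ * v⁻¹ ∈ Q}
        one_mem' := ⟨S.one_mem, by
          have e : x * 1 * x⁻¹ * (1 : Γ)⁻¹ = 1 := by group
          rw [e]
          exact Q.one_mem⟩
        mul_mem' := by
          rintro v v' ⟨hv, hv1⟩ ⟨hv', hv1'⟩
          refine ⟨S.mul_mem hv hv', ?_⟩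
          have e : x * (v * v') * x⁻¹ * (v * v')⁻¹
              = (x * v * x⁻¹ * v⁻¹) * (v * (x * v' * x⁻¹ * v'⁻¹) * v⁻¹) := by group
          rw [e]
          exact Q.mul_mem hv1 (hQnS v hv _ hv1')
        inv_mem' := by
          rintro v ⟨hv, hv1⟩
          refine ⟨S.inv_mem hv, ?_⟩
          have e : x * v⁻¹ * x⁻¹ * v⁻¹⁻¹ = v⁻¹ * (x * v * x⁻¹ * v⁻¹)⁻¹ * v⁻¹⁻¹ := by group
          rw [e]
          exact hQnS v⁻¹ (S.inv_mem hv) _ (Q.inv_mem hv1) }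
    intro u hu
    have hpS : τ * u * τ⁻¹ ∈ S := conj_mem_of_normalizer S τ (hτN S hxS) u hu
    have haS : u * (τ * u * τ⁻¹) ∈ S := S.mul_mem hu hpS
    have hbQ : (τ * u * τ⁻¹)⁻¹ * u ∈ Q := by
      have h1 := hQnS (τ * u * τ⁻¹)⁻¹ (S.inv_mem hpS) _ (hminus u hu)
      have e : (τ * u * τ⁻¹)⁻¹ * (u * (τ * u * τ⁻¹)⁻¹) * (τ * u * τ⁻¹)⁻¹⁻¹
          = (τ * u * τ⁻¹)⁻¹ * u := by group
      rwa [e] at h1
    have hxa : x * (u * (τ * u * τ⁻¹)) = (u * (τ * u * τ⁻¹)) * x :=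
      hxcomm _ (fun q hq => hplus u hu q hq)
    have huu : u * u ∈ J₂ := by
      refine ⟨S.mul_mem hu hu, ?_⟩
      have hxb : x * ((τ * u * τ⁻¹)⁻¹ * u) * x⁻¹ ∈ Q := conj_mem_of_normalizer Q x hxQ _ hbQ
      have e : x * (u * u) * x⁻¹ * (u * u)⁻¹
          = (x * (u * (τ * u * τ⁻¹))) * ((τ * u * τ⁻¹)⁻¹ * u) * x⁻¹ * (u * u)⁻¹ := by group
      rw [e, hxa]
      have e2 : u * (τ * u * τ⁻¹) * x * ((τ * u * τ⁻¹)⁻¹ * u) * x⁻¹ * (u * u)⁻¹
          = (u * (τ * u * τ⁻¹)) * ((x * ((τ * u * τ⁻¹)⁻¹ * u) * x⁻¹)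
            * ((τ * u * τ⁻¹)⁻¹ * u)⁻¹) * (u * (τ * u * τ⁻¹))⁻¹ := by group
      rw [e2]
      exact hQnS _ haS _ (Q.mul_mem hxb (Q.inv_mem hbQ))
    obtain ⟨m, hm⟩ := hoddS u hu
    have h1 : u ∈ J₂ := by
      rw [hm]
      exact J₂.pow_mem huu m
    exact h1.2
  have hxS2' : ∀ u ∈ S, x⁻¹ * u * x * u⁻¹ ∈ Q := by
    intro u hu
    have h1 := hxS2 u hu
    have h2 := conj_mem_of_normalizer' Q x hxQ _ (Q.inv_mem h1)
    have e : x⁻¹ * (x * u * x⁻¹ * u⁻¹)⁻¹ * x = x⁻¹ * u * x * u⁻¹ := by group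
    rwa [e] at h2
  -- the dual of `S / Z` over the algebraic closure of the prime field
  obtain ⟨L, _, _, _, ⟨hLalg⟩⟩ : ∃ (L : Type) (_ : Field L) (_ : CharP L s), True ∧
      Nonempty (IsAlgClosed L) :=
    ⟨AlgebraicClosure (ZMod s), inferInstance, inferInstance, trivial, ⟨inferInstance⟩⟩
  have := hLalg
  have hcast : ∀ r : ℕ, r.Prime → r ≠ s → (r : L) ≠ 0 := by
    intro r hr hrs h0
    have h1 := (CharP.cast_eq_zero_iff L s r).mp h0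
    exact hrs ((Nat.prime_dvd_prime_iff_eq hs hr).mp h1).symm
  have htL : (t : L) ≠ 0 := hcast t ht (Ne.symm hst)
  have h2L : (2 : L) ≠ 0 := by
    have h1 := hcast 2 Nat.prime_two (Ne.symm hs2)
    exact_mod_cast h1
  obtain ⟨Λ, hΛ⟩ : ∃ Λ : Submodule L (Γ → L), Λ = addHomMod L S Z := ⟨_, rfl⟩
  obtain ⟨G₁, hG₁⟩ : ∃ G₁ : Subgroup Γ, G₁ = Subgroup.normalizer (S : Set Γ) ⊓
      Subgroup.normalizer ((Z : Subgroup Γ) : Set Γ) := ⟨_, rfl⟩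
  have hG₁Λ : ∀ g ∈ G₁, ∀ f ∈ Λ, conjFunRep L Γ g f ∈ Λ := by
    intro g hg f hf
    rw [hG₁] at hg
    rw [hΛ] at hf ⊢
    exact conjFunRep_mem_addHomMod L S Z g hg.1 hg.2 f hf
  obtain ⟨Γ'', _, _, π, ρ'', -, hρ''inj, hρ''⟩ :=
    exists_faithful_image (conjFunRep L Γ) Λ G₁ hG₁Λ
  have hxG₁ : x ∈ G₁ := by
    rw [hG₁]
    exact ⟨hxS, hxZ⟩
  have hTG₁ : T ≤ G₁ := by
    intro g hg
    rw [hG₁]
    exact ⟨hTS hg, hTZ hg⟩
  have hT₁G₁ : T₁ ≤ G₁ := hT₁T.trans hTG₁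
  have hτG₁ : τ ∈ G₁ := by
    rw [hτ]
    exact G₁.pow_mem hxG₁ _
  obtain ⟨x'', hx''⟩ : ∃ x'' : Γ'', x'' = π ⟨x, hxG₁⟩ := ⟨_, rfl⟩
  have hx''pow : x'' ^ (2 ^ (n + 1)) = 1 := by
    rw [hx'', ← map_pow]
    have e : (⟨x, hxG₁⟩ : G₁) ^ (2 ^ (n + 1)) = 1 := by
      apply Subtype.ext
      rw [Subgroup.coe_pow, Subgroup.coe_one]
      exact hx
    rw [e, map_one]
  have hτ'' : x'' ^ (2 ^ n) = π ⟨τ, hτG₁⟩ := by
    rw [hx'', ← map_pow]
    congr 1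
    apply Subtype.ext
    rw [Subgroup.coe_pow]
    exact hτ.symm
  obtain ⟨e₁, he₁, e₂, he₂, hgen⟩ := gen2 Q Z hZQ s hs hrel
  have hrk'' : ∀ P : Submodule L Λ, (∀ w ∈ P, ρ'' x'' w = w → w = 0) →
      Module.finrank L P ≤ 2 := by
    intro P hP
    let ev : P →ₗ[L] (Fin 2 → L) :=
      { toFun := fun f => ![((f : Λ) : Γ → L) e₁, ((f : Λ) : Γ → L) e₂]
        map_add' := by
          intro f g
          ext i
          fin_cases i <;> simp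
        map_smul' := by
          intro c f
          ext i
          fin_cases i <;> simp }
    have hev : Function.Injective ev := by
      rw [injective_iff_map_eq_zero]
      intro f hf
      obtain ⟨f0, hf0⟩ : ∃ f0 : Γ → L, f0 = ((f : Λ) : Γ → L) := ⟨_, rfl⟩
      have h1 : f0 e₁ = 0 := by
        have h := congrFun hf 0
        rw [hf0]
        simpa [ev] using h
      have h2 : f0 e₂ = 0 := by
        have h := congrFun hf 1
        rw [hf0]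
        simpa [ev] using h
      have hfΛ : f0 ∈ addHomMod L S Z := by
        rw [hf0, ← hΛ]
        exact (f : Λ).2
      obtain ⟨hadd, hoff, hZ0⟩ := hfΛ
      let H : Subgroup Γ :=
        { carrier := {u | u ∈ S ∧ f0 u = 0}
          one_mem' := ⟨S.one_mem, hZ0 1 Z.one_mem⟩
          mul_mem' := by
            rintro a b ⟨ha, ha0⟩ ⟨hb, hb0⟩
            exact ⟨S.mul_mem ha hb, by rw [hadd a ha b hb, ha0, hb0, add_zero]⟩
          inv_mem' := by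
            rintro a ⟨ha, ha0⟩
            refine ⟨S.inv_mem ha, ?_⟩
            rw [addHomMod_inv L S Z f0 ⟨hadd, hoff, hZ0⟩ a ha, ha0, neg_zero] }
      have hQH : Q ≤ H := hgen H (fun z hz => ⟨hZS hz, hZ0 z hz⟩) ⟨hQS he₁, h1⟩ ⟨hQS he₂, h2⟩
      have hfix'' : ρ'' x'' (f : Λ) = (f : Λ) := by
        apply Subtype.ext
        rw [hx'', hρ'']
        funext a
        rw [conjFunRep_apply, ← hf0]
        show f0 (x⁻¹ * a * x) = f0 a
        by_cases ha : a ∈ S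
        · have hq := hxS2' a ha
          have e : x⁻¹ * a * x = (x⁻¹ * a * x * a⁻¹) * a := by group
          rw [e, hadd _ (hQS hq) a ha, (hQH hq).2, zero_add]
        · have ha' : x⁻¹ * a * x ∉ S := by
            intro h
            apply ha
            have h2 := conj_mem_of_normalizer S x hxS _ h
            have e : x * (x⁻¹ * a * x) * x⁻¹ = a := by group
            rwa [e] at h2
          rw [hoff a ha, hoff _ ha']
      have h0 := hP f f.2 hfix''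
      exact Subtype.ext h0
    have h3 := LinearMap.finrank_le_finrank_of_injective hev
    rw [Module.finrank_fin_fun] at h3
    exact h3
  obtain ⟨T₁'', hT₁''⟩ : ∃ T₁'' : Subgroup Γ'', T₁'' = imSub G₁ π T₁ := ⟨_, rfl⟩
  have hT₁''pg : IsPGroup t T₁'' := by
    rw [hT₁'']
    exact imSub_pgroup G₁ π T₁ t (hT.to_le hT₁T)
  have hx''T₁ : x'' ∈ Subgroup.normalizer ((T₁'' : Subgroup Γ'') : Set Γ'') := by
    rw [hT₁'', hx'']
    exact imSub_norm G₁ π T₁ ⟨x, hxG₁⟩ hxT₁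
  have hne'' : n = 1 → t ≠ 3 := by
    intro hn1' ht3
    rw [hn1'] at hs1
    have h3 : s = 3 := by
      norm_num at hs1
      omega
    exact hst (h3.trans ht3.symm)
  have hdp := dprime_faithful ρ'' hρ''inj x'' n hn1 hx''pow t ht ht2 htL h2L hrk'' hne''
    (Nat.card T₁'') T₁'' rfl hT₁''pg hx''T₁
  have hC₁ker : ∀ c (hc : c ∈ C₁), π ⟨c, hT₁G₁ (hC₁T₁ c hc)⟩ = 1 := by
    intro c hc
    have hcT₁ := hC₁T₁ c hc
    obtain ⟨c', hc'⟩ : ∃ c' : G₁, c' = ⟨c, hT₁G₁ hcT₁⟩ := ⟨_, rfl⟩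
    obtain ⟨τ', hτ'⟩ : ∃ τ' : G₁, τ' = ⟨τ, hτG₁⟩ := ⟨_, rfl⟩
    rw [← hτ'] at hτ''
    have h1 : π c' ∈ T₁'' := by
      rw [hT₁'', mem_imSub]
      refine ⟨c', ?_, rfl⟩
      rw [hc']
      exact hcT₁
    have h2 := hdp _ h1
    rw [hτ''] at h2
    have h3 : τ' * c' * τ'⁻¹ = c'⁻¹ := by
      apply Subtype.ext
      rw [hτ', hc']
      exact hC₁inv c hc
    have h4 : π c' = (π c')⁻¹ := by
      calc π c' = π c' * π τ' * (π τ')⁻¹ := by rw [mul_inv_cancel_right]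
        _ = π τ' * π c' * (π τ')⁻¹ := by rw [h2]
        _ = π (τ' * c' * τ'⁻¹) := by rw [map_mul, map_mul, map_inv]
        _ = (π c')⁻¹ := by rw [h3, map_inv]
    have h5 : π c' * π c' = 1 := by
      calc π c' * π c' = π c' * (π c')⁻¹ := by rw [← h4]
        _ = 1 := mul_inv_cancel _
    obtain ⟨m, hm⟩ := hoddT c (hT₁T hcT₁)
    have h6 : c' = (c' * c') ^ m := by
      apply Subtype.ext
      rw [Subgroup.coe_pow, Subgroup.coe_mul, hc']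
      exact hm
    rw [← hc', h6, map_pow, map_mul, h5, one_pow]
  have hT₁ker : ∀ c (hc : c ∈ T₁), π ⟨c, hT₁G₁ hc⟩ = 1 := by
    have hle : T₁ ≤ (π.ker).map G₁.subtype := by
      rw [hT₁, Subgroup.closure_le]
      intro c hc
      exact ⟨⟨c, hT₁G₁ (hC₁T₁ c hc)⟩, MonoidHom.mem_ker.mpr (hC₁ker c hc), rfl⟩
    intro c hc
    obtain ⟨c', hc'ker, hc'⟩ := hle hc
    have e : c' = ⟨c, hT₁G₁ hc⟩ := Subtype.ext hc'
    rw [← e]
    exact MonoidHom.mem_ker.mp hc'ker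
  have hT₁triv : ∀ c ∈ T₁, ∀ f ∈ Λ, ∀ a : Γ, f (c⁻¹ * a * c) = f a := by
    intro c hc f hf a
    have h1 := hρ'' ⟨c, hT₁G₁ hc⟩ ⟨f, hf⟩
    rw [hT₁ker c hc, map_one, Module.End.one_apply] at h1
    have h2 := congrFun h1 a
    rw [conjFunRep_apply] at h2
    exact h2.symm
  let Φ : Subgroup Γ :=
    { carrier := {u | u ∈ S ∧ ∀ f ∈ Λ, f u = 0}
      one_mem' := ⟨S.one_mem, fun f hf => by
        rw [hΛ] at hf
        exact addHomMod_one L S Z f hf⟩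
      mul_mem' := by
        rintro a b ⟨ha, ha0⟩ ⟨hb, hb0⟩
        refine ⟨S.mul_mem ha hb, fun f hf => ?_⟩
        have hf' := hf
        rw [hΛ] at hf'
        rw [hf'.1 a ha b hb, ha0 f hf, hb0 f hf, add_zero]
      inv_mem' := by
        rintro a ⟨ha, ha0⟩
        refine ⟨S.inv_mem ha, fun f hf => ?_⟩
        have hf' := hf
        rw [hΛ] at hf'
        rw [addHomMod_inv L S Z f hf' a ha, ha0 f hf, neg_zero] }
  have hΦS : Φ ≤ S := fun u hu => hu.1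
  have hZneS : Z ≠ S := by
    intro h
    apply hu₁Z
    rw [h]
    exact S.mul_mem (conj_mem_of_normalizer S τ (hτN S hxS) u₁ hu₁) (S.inv_mem hu₁)
  have hΦne : Φ ≠ S := by
    intro h
    obtain ⟨f, hf1, hf2, hf3, u, hu, hfu⟩ := exists_add_fun S Z s hs hS hZS hZneS kmem L
    have hfΛ : f ∈ Λ := by
      rw [hΛ]
      exact ⟨hf1, hf2, hf3⟩
    rw [← h] at hu
    exact hfu (hu.2 f hfΛ)
  have hΦconj : ∀ g ∈ G₁, ∀ u ∈ Φ, g * u * g⁻¹ ∈ Φ := by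
    rintro g hg u ⟨hu, hu0⟩
    have hg' := hg
    rw [hG₁] at hg'
    refine ⟨conj_mem_of_normalizer S g hg'.1 u hu, fun f hf => ?_⟩
    have h1 := hG₁Λ g⁻¹ (G₁.inv_mem hg) f hf
    have h2 := hu0 _ h1
    rw [conjFunRep_apply, inv_inv] at h2
    exact h2
  have hxΦ : x ∈ Subgroup.normalizer ((Φ : Subgroup Γ) : Set Γ) := by
    apply mem_normalizer_of_conj
    · exact hΦconj x hxG₁
    · intro u hu
      have h1 := hΦconj x⁻¹ (G₁.inv_mem hxG₁) u hu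
      rwa [inv_inv] at h1
  have hTΦ : T ≤ Subgroup.normalizer ((Φ : Subgroup Γ) : Set Γ) := by
    intro g hg
    apply mem_normalizer_of_conj
    · exact hΦconj g (hTG₁ hg)
    · intro u hu
      have h1 := hΦconj g⁻¹ (G₁.inv_mem (hTG₁ hg)) u hu
      rwa [inv_inv] at h1
  have hΦcen := hminT₁ Φ hΦS hΦne hxΦ hTΦ
  apply hnotgood
  intro c hc u hu
  have hcS : c * u * c⁻¹ ∈ S := conj_mem_of_normalizer S c (hT₁S hc) u hu
  have hy : u⁻¹ * c * u * c⁻¹ ∈ Φ := by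
    have e : u⁻¹ * c * u * c⁻¹ = u⁻¹ * (c * u * c⁻¹) := by group
    refine ⟨?_, fun f hf => ?_⟩
    · rw [e]
      exact S.mul_mem (S.inv_mem hu) hcS
    · have hf' := hf
      rw [hΛ] at hf'
      have h1 := hT₁triv c⁻¹ (T₁.inv_mem hc) f hf u
      rw [inv_inv] at h1
      rw [e, hf'.1 _ (S.inv_mem hu) _ hcS, h1, addHomMod_inv L S Z f hf' u hu, neg_add_cancel]
  have hcy := hΦcen c hc _ hy
  obtain ⟨m, hm⟩ := pgroup_pow S s hS _ (hΦS hy)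
  have hy1 := eq_one_of_conj_eq_mul_of_coprime (p := s) (b := c) (x := u)
    (y := u⁻¹ * c * u * c⁻¹) (hcopT c (hT₁T hc)) (by group)
    (by rw [hcy, mul_inv_cancel_right]) hm
  calc c * u = u * (u⁻¹ * c * u * c⁻¹) * c := by group
    _ = u * c := by rw [hy1, mul_one]

end

end Cfsg.Agent.Lib.helper66
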