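import Mathlib
import Cfsg.Agent.Lib.helper66.GrE

set_option autoImplicit false

namespace Cfsg.Agent.Lib.helper66

universe v

section

variable {K : Type*} [Field K] {V : Type v} [AddCommGroup V] [Module K V]
  {Γ : Type*} [Group Γ]

/-- The linear core statement for the invariant subspace `M`. -/
def LinCoreAt (ρ : Γ →* Module.End K V) (s t : ℕ) (M : Submodule K V) : Prop :=
  ∀ (x : Γ) (n : ℕ), x ^ (2 ^ (n + 1)) = 1 → (∀ w ∈ M, ρ x w ∈ M) →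
    (∀ w ∈ M, ρ x w = w → w = 0) →
  ∀ (T : Subgroup Γ), IsPGroup t T → (∀ g ∈ T, ∀ w ∈ M, ρ g w ∈ M) →
    x ∈ Subgroup.normalizer (T : Set Γ) →
  ∀ (S : Subgroup Γ), IsPGroup s S → (∀ u ∈ S, ∀ w ∈ M, ρ u w ∈ M) →
    x ∈ Subgroup.normalizer (S : Set Γ) → T ≤ Subgroup.normalizer (S : Set Γ) →
  ∀ g ∈ T, ∀ u ∈ S, ∀ w ∈ M,
    ρ ((g * x ^ (2 ^ n) * g⁻¹ * (x ^ (2 ^ n))⁻¹) * u) w
      = ρ (u * (g * x ^ (2 ^ n) * g⁻¹ * (x ^ (2 ^ n))⁻¹)) w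

/-- The sum of a weight vector over a transversal of the stabilizer of its weight in a cyclic
group is a nonzero fixed vector. -/
theorem orbit_range_sum (ρ : Γ →* Module.End K V) (M : Submodule K V) (Z : Subgroup Γ) (x : Γ)
    (hxZ : x ∈ Subgroup.normalizer (Z : Set Γ)) (μ : Γ → K) (w : V) (hw : WtV ρ M Z μ w)
    (N : ℕ) (hN : 0 < N) (hxN : ρ (x ^ N) w = w)
    (hfree : ∀ i, 0 < i → i < N → ¬ Fx Z (x ^ i) μ) :
    (∑ i ∈ Finset.range N, ρ (x ^ i) w) ≠ 0 ∧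
      ρ x (∑ i ∈ Finset.range N, ρ (x ^ i) w) = ∑ i ∈ Finset.range N, ρ (x ^ i) w := by
  classical
  constructor
  · intro h0
    have h1 := wt_indep ρ Z (Finset.range N) (fun i => cw μ (x ^ i)) (fun i => ρ (x ^ i) w)
      ?_ ?_ h0 0 (Finset.mem_range.mpr hN)
    · apply hw.2.1
      simpa using h1
    · intro i _ z hz
      exact (wt_conj ρ ⊤ Z μ w ⟨Submodule.mem_top, hw.2.1, hw.2.2⟩ (x ^ i)
        (Subgroup.pow_mem _ hxZ i) (fun _ _ => Submodule.mem_top)).2.2 z hz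
    · have key : ∀ i j, i < j → j < N → ∃ z ∈ Z, cw μ (x ^ i) z ≠ cw μ (x ^ j) z := by
        intro i j hij hjN
        by_contra hall
        push Not at hall
        apply hfree (j - i) (by omega) (by omega)
        intro z hz
        have hb : x ^ i ∈ Subgroup.normalizer (Z : Set Γ) := Subgroup.pow_mem _ hxZ i
        have h2 := hall (x ^ i * z * (x ^ i)⁻¹) (conj_mem_of_normalizer Z _ hb z hz)
        rw [cw_apply, cw_apply] at h2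
        have e1 : (x ^ i)⁻¹ * (x ^ i * z * (x ^ i)⁻¹) * x ^ i = z := by group
        have e3 : x ^ j = x ^ i * x ^ (j - i) := by
          rw [← pow_add]
          congr 1
          omega
        have e2 : (x ^ j)⁻¹ * (x ^ i * z * (x ^ i)⁻¹) * x ^ j
            = (x ^ (j - i))⁻¹ * z * x ^ (j - i) := by
          rw [e3]
          group
        rw [e1, e2] at h2
        exact h2.symm
      intro i hi j hj hij
      rcases lt_or_gt_of_ne hij with h | h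
      · exact key i j h (Finset.mem_range.mp hj)
      · obtain ⟨z, hz, hne⟩ := key j i h (Finset.mem_range.mp hi)
        exact ⟨z, hz, fun h' => hne h'.symm⟩
  · rw [map_sum]
    have h1 := Finset.sum_range_succ' (fun i => ρ (x ^ i) w) N
    have h2 := Finset.sum_range_succ (fun i => ρ (x ^ i) w) N
    rw [h2] at h1
    simp only [pow_zero, map_one, Module.End.one_apply] at h1
    rw [hxN] at h1
    have h3 := add_right_cancel h1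
    rw [h3]
    apply Finset.sum_congr rfl
    intro i _
    rw [← rho_mul, ← pow_succ']

/-- The involution of a cyclic `2`-group acting without fixed vectors fixes every weight. -/
theorem tau_fix_wt [Finite Γ] (ρ : Γ →* Module.End K V) (M : Submodule K V) (Z : Subgroup Γ)
    (x : Γ) (n : ℕ) (hx : x ^ (2 ^ (n + 1)) = 1) (hxZ : x ∈ Subgroup.normalizer (Z : Set Γ))
    (hMx : ∀ w ∈ M, ρ x w ∈ M) (hfix : ∀ w ∈ M, ρ x w = w → w = 0)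
    (μ : Γ → K) (w : V) (hw : WtV ρ M Z μ w) : Fx Z (x ^ (2 ^ n)) μ := by
  classical
  by_contra hnot
  have : Fintype (Subgroup.zpowers x) := Fintype.ofFinite _
  have hB : Subgroup.zpowers x ≤ Subgroup.normalizer (Z : Set Γ) := Subgroup.zpowers_le.mpr hxZ
  have hfree : ∀ b ∈ Subgroup.zpowers x, b ≠ 1 → ¬ Fx Z b μ := by
    intro b hb hb1 hFb
    apply hnot
    have h1 := tau_mem_zpowers x n hx b hb hb1
    have h2 : Subgroup.zpowers b ≤ stabW Z μ := Subgroup.zpowers_le.mpr ⟨hB hb, hFb⟩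
    exact (h2 h1).2
  have h1 := orbit_sum_ne_zero ρ M Z (Subgroup.zpowers x) hB μ w hw hfree
  apply h1
  apply hfix
  · exact orbit_sum_mem ρ M (Subgroup.zpowers x) (zpowers_mem_of_mem ρ M x hMx) w hw.1
  · exact orbit_sum_fixed ρ (Subgroup.zpowers x) x (Subgroup.mem_zpowers x) w

/-- The stabilizer of a weight in the cyclic `2`-group, acting without fixed vectors on the
weight space. -/
theorem stab_exp [Finite Γ] (ρ : Γ →* Module.End K V) (M : Submodule K V) (Z : Subgroup Γ)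
    (x : Γ) (n : ℕ) (hx : x ^ (2 ^ (n + 1)) = 1) (hxZ : x ∈ Subgroup.normalizer (Z : Set Γ))
    (hMx : ∀ w ∈ M, ρ x w ∈ M) (hfix : ∀ w ∈ M, ρ x w = w → w = 0)
    (μ : Γ → K) (w : V) (hw : WtV ρ M Z μ w) :
    ∃ a, a ≤ n ∧ Fx Z (x ^ (2 ^ a)) μ ∧
      ∀ w' ∈ wtSpace ρ M Z μ, ρ (x ^ (2 ^ a)) w' = w' → w' = 0 := by
  classical
  have hτ := tau_fix_wt ρ M Z x n hx hxZ hMx hfix μ w hw
  have hex : ∃ N, 0 < N ∧ Fx Z (x ^ N) μ := ⟨2 ^ n, by positivity, hτ⟩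
  obtain ⟨N, hNdef⟩ : ∃ N, N = Nat.find hex := ⟨_, rfl⟩
  have hNspec : 0 < N ∧ Fx Z (x ^ N) μ := by
    rw [hNdef]
    exact Nat.find_spec hex
  have hNmin : ∀ i, 0 < i → i < N → ¬ Fx Z (x ^ i) μ := by
    intro i hi0 hiN hFi
    rw [hNdef] at hiN
    exact Nat.find_min hex hiN ⟨hi0, hFi⟩
  have hxN : x ^ N ∈ stabW Z μ := ⟨Subgroup.pow_mem _ hxZ N, hNspec.2⟩
  have hdvd : N ∣ 2 ^ n := by
    apply Nat.dvd_of_mod_eq_zero
    by_contra hr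
    have hr0 : 0 < 2 ^ n % N := Nat.pos_of_ne_zero hr
    have hrN : 2 ^ n % N < N := Nat.mod_lt _ hNspec.1
    apply hNmin _ hr0 hrN
    have e : x ^ (2 ^ n % N) = ((x ^ N) ^ (2 ^ n / N))⁻¹ * x ^ (2 ^ n) := by
      rw [← pow_mul, eq_inv_mul_iff_mul_eq, ← pow_add, Nat.div_add_mod]
    have h1 : x ^ (2 ^ n % N) ∈ stabW Z μ := by
      rw [e]
      exact Subgroup.mul_mem _ (Subgroup.inv_mem _ (Subgroup.pow_mem _ hxN _))
        ⟨Subgroup.pow_mem _ hxZ _, hτ⟩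
    exact h1.2
  obtain ⟨a, han, haN⟩ := (Nat.dvd_prime_pow Nat.prime_two).mp hdvd
  refine ⟨a, han, by rw [← haN]; exact hNspec.2, ?_⟩
  intro w' hw' hfix'
  by_contra hw'0
  have hwt' : WtV ρ M Z μ w' := ⟨hw'.1, hw'0, hw'.2⟩
  rw [← haN] at hfix'
  obtain ⟨h1, h2⟩ := orbit_range_sum ρ M Z x hxZ μ w' hwt' N hNspec.1 hfix' hNmin
  apply h1
  apply hfix _ _ h2
  exact Submodule.sum_mem _ (fun i _ => pow_mem_of_mem ρ M x hMx i w' hw'.1)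

/-- The stabilizer of a weight preserves the weight space. -/
theorem wtSpace_pres (ρ : Γ →* Module.End K V) (M : Submodule K V) (Z : Subgroup Γ) (μ : Γ → K)
    (g : Γ) (hg : g ∈ stabW Z μ) (hMg : ∀ w ∈ M, ρ g w ∈ M) :
    ∀ w ∈ wtSpace ρ M Z μ, ρ g w ∈ wtSpace ρ M Z μ := by
  intro w hw
  refine ⟨hMg w hw.1, fun z hz => ?_⟩
  have hz' := conj_mem_of_normalizer' Z g hg.1 z hz
  have e : z * g = g * (g⁻¹ * z * g) := by group
  rw [← rho_mul, e, rho_mul, hw.2 _ hz', map_smul, hg.2 z hz]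

set_option maxHeartbeats 1600000 in
/-- **Case A of the linear core**: some element of the center (modulo the kernel) of `S` is not
a scalar on `M`; reduction to the weight spaces. -/
theorem coreA [IsAlgClosed K] [FiniteDimensional K V] [Finite Γ] (ρ : Γ →* Module.End K V)
    (s t : ℕ) (hs : s.Prime) (ht : t.Prime) (ht2 : t ≠ 2) (hsK : (s : K) ≠ 0)
    (M : Submodule K V)
    (hIH : ∀ M' : Submodule K V, Module.finrank K M' < Module.finrank K M → LinCoreAt ρ s t M')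
    (x : Γ) (n : ℕ) (hx : x ^ (2 ^ (n + 1)) = 1) (hMx : ∀ w ∈ M, ρ x w ∈ M)
    (hfix : ∀ w ∈ M, ρ x w = w → w = 0)
    (T : Subgroup Γ) (hT : IsPGroup t T) (hMT : ∀ g ∈ T, ∀ w ∈ M, ρ g w ∈ M)
    (hxT : x ∈ Subgroup.normalizer (T : Set Γ))
    (S : Subgroup Γ) (hS : IsPGroup s S) (hMS : ∀ u ∈ S, ∀ w ∈ M, ρ u w ∈ M)
    (hxS : x ∈ Subgroup.normalizer (S : Set Γ)) (hTS : T ≤ Subgroup.normalizer (S : Set Γ))
    (hns : ∃ z ∈ cenMod ρ M S hMS, ¬ ∃ c : K, ∀ w ∈ M, ρ z w = c • w) :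
    ∀ g ∈ T, ∀ u ∈ S, ∀ w ∈ M,
      ρ ((g * x ^ (2 ^ n) * g⁻¹ * (x ^ (2 ^ n))⁻¹) * u) w
        = ρ (u * (g * x ^ (2 ^ n) * g⁻¹ * (x ^ (2 ^ n))⁻¹)) w := by
  classical
  intro g₀ hg₀ u₀ hu₀ w₁ hw₁
  by_contra hne
  have hsF : Fact s.Prime := ⟨hs⟩
  obtain ⟨τ, hτ⟩ : ∃ τ : Γ, τ = x ^ (2 ^ n) := ⟨_, rfl⟩
  rw [← hτ] at hne
  have hτ2 : τ * τ = 1 := by rw [hτ, ← pow_add, ← two_mul, ← pow_succ', hx]
  have hτT : τ ∈ Subgroup.normalizer (T : Set Γ) := by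
    rw [hτ]
    exact Subgroup.pow_mem _ hxT _
  obtain ⟨c₀, hc₀⟩ : ∃ c₀ : Γ, c₀ = g₀ * τ * g₀⁻¹ * τ⁻¹ := ⟨_, rfl⟩
  rw [← hc₀] at hne
  have hc₀T : c₀ ∈ T := by
    rw [hc₀]
    have h1 : g₀ * τ * g₀⁻¹ * τ⁻¹ = g₀ * (τ * g₀⁻¹ * τ⁻¹) := by group
    rw [h1]
    exact T.mul_mem hg₀ (conj_mem_of_normalizer T τ hτT g₀⁻¹ (T.inv_mem hg₀))
  have hc₀inv : τ * c₀ * τ⁻¹ = c₀⁻¹ := by
    rw [hc₀]
    exact inv_comm_elt g₀ τ hτ2
  obtain ⟨Z₁, hZ₁⟩ : ∃ Z₁ : Subgroup Γ, Z₁ = cenMod ρ M S hMS := ⟨_, rfl⟩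
  rw [← hZ₁] at hns
  obtain ⟨z₁, hz₁, hz₁ns⟩ := hns
  have hZ₁S : Z₁ ≤ S := by
    rw [hZ₁]
    exact cenMod_le ρ M S hMS
  have hZ₁c : ∀ z ∈ Z₁, ∀ v ∈ S, ∀ w ∈ M, ρ (z * v) w = ρ (v * z) w := by
    intro z hz
    rw [hZ₁] at hz
    exact hz.2
  have hnormZ : ∀ g : Γ, g ∈ Subgroup.normalizer (S : Set Γ) → (∀ w ∈ M, ρ g w ∈ M) →
      g ∈ Subgroup.normalizer ((Z₁ : Subgroup Γ) : Set Γ) := by
    intro g hgS hMg
    have hMg' := inv_mem_of_mem ρ M g hMg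
    rw [hZ₁]
    apply mem_normalizer_of_conj
    · exact conj_mem_cenMod ρ M S hMS g hgS hMg hMg'
    · intro z hz
      have h1 := conj_mem_cenMod ρ M S hMS g⁻¹ (inv_mem hgS) hMg'
        (by rw [inv_inv]; exact hMg) z hz
      rwa [inv_inv] at h1
  have hxZ₁ := hnormZ x hxS hMx
  have hTZ₁ : T ≤ Subgroup.normalizer ((Z₁ : Subgroup Γ) : Set Γ) :=
    fun g hg => hnormZ g (hTS hg) (hMT g hg)
  -- the element `b`
  obtain ⟨b, hb⟩ : ∃ b : Γ, b = c₀ * u₀ * c₀⁻¹ * u₀⁻¹ := ⟨_, rfl⟩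
  have hc₀S : c₀ ∈ Subgroup.normalizer (S : Set Γ) := hTS hc₀T
  have hbS : b ∈ S := by
    rw [hb]
    exact S.mul_mem (conj_mem_of_normalizer S c₀ hc₀S u₀ hu₀) (S.inv_mem hu₀)
  have hMc₀ := hMT c₀ hc₀T
  have hMu₀ := hMS u₀ hu₀
  have hbnt : ∃ w ∈ M, ρ b w ≠ w := by
    refine ⟨ρ (u₀ * c₀) w₁, ?_, ?_⟩
    · rw [rho_mul]
      exact hMu₀ _ (hMc₀ w₁ hw₁)
    · rw [← rho_mul, hb]
      have e : c₀ * u₀ * c₀⁻¹ * u₀⁻¹ * (u₀ * c₀) = c₀ * u₀ := by group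
      rw [e]
      exact hne
  -- an abelian group containing `Z₁` and `b`
  obtain ⟨Cb, hCb⟩ : ∃ Cb : Subgroup Γ, Cb = cmOnSub ρ M S hMS {b} := ⟨_, rfl⟩
  have hCbS : Cb ≤ S := by
    rw [hCb]
    exact fun y hy => hy.1
  have hMCb : ∀ y ∈ Cb, ∀ w ∈ M, ρ y w ∈ M := fun y hy => hMS y (hCbS hy)
  obtain ⟨A, hA⟩ : ∃ A : Subgroup Γ, A = cmOnSub ρ M Cb hMCb (Cb : Set Γ) := ⟨_, rfl⟩
  have hACb : A ≤ Cb := by
    rw [hA]
    exact fun y hy => hy.1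
  have hZ₁Cb : Z₁ ≤ Cb := by
    intro z hz
    rw [hCb]
    refine ⟨hZ₁S hz, fun y hy w hw => ?_⟩
    rw [Set.mem_singleton_iff] at hy
    rw [hy, ← rho_mul, ← rho_mul]
    exact hZ₁c z hz b hbS w hw
  have hZ₁A : Z₁ ≤ A := by
    intro z hz
    rw [hA]
    refine ⟨hZ₁Cb hz, fun y hy w hw => ?_⟩
    rw [← rho_mul, ← rho_mul]
    exact hZ₁c z hz y (hCbS hy) w hw
  have hbCb : b ∈ Cb := by
    rw [hCb]
    refine ⟨hbS, fun y hy w hw => ?_⟩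
    rw [Set.mem_singleton_iff] at hy
    rw [hy]
  have hbA : b ∈ A := by
    rw [hA]
    refine ⟨hbCb, fun y hy w hw => ?_⟩
    have hy' : y ∈ cmOnSub ρ M S hMS {b} := by
      rw [← hCb]
      exact hy
    exact (hy'.2 b rfl w hw).symm
  have hMA : ∀ z ∈ A, ∀ w ∈ M, ρ z w ∈ M := fun z hz => hMCb z (hACb hz)
  have hcommA : ∀ z ∈ A, ∀ z' ∈ A, ∀ w ∈ M, ρ (z * z') w = ρ (z' * z) w := by
    intro z hz z' hz' w hw
    rw [hA] at hz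
    rw [rho_mul, rho_mul]
    exact hz.2 z' (hACb hz') w hw
  obtain ⟨e, he⟩ := pgroup_pow S s hS b hbS
  obtain ⟨lam, w₀, hw₀M, hw₀0, hw₀A, hlam⟩ := exists_joint_eigen ρ M A hMA hcommA b hbA (s ^ e)
    (by rw [Nat.cast_pow]; exact pow_ne_zero e hsK) he hbnt
  have hwt : WtV ρ M Z₁ lam w₀ := ⟨hw₀M, hw₀0, fun z hz => hw₀A z (hZ₁A hz)⟩
  -- the weight space
  obtain ⟨E, hE⟩ : ∃ E : Submodule K V, E = wtSpace ρ M Z₁ lam := ⟨_, rfl⟩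
  have hEM : E ≤ M := by
    rw [hE]
    exact fun w hw => hw.1
  have hw₀E : w₀ ∈ E := by
    rw [hE]
    exact ⟨hw₀M, hwt.2.2⟩
  have hElt : Module.finrank K E < Module.finrank K M := by
    apply Submodule.finrank_lt_finrank_of_lt
    refine lt_of_le_of_ne hEM ?_
    intro hEq
    apply hz₁ns
    refine ⟨lam z₁, fun w hw => ?_⟩
    rw [← hEq, hE] at hw
    exact hw.2 z₁ hz₁
  -- the stabilizer of the weight in the cyclic group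
  obtain ⟨a, han, hFa, hfixE⟩ := stab_exp ρ M Z₁ x n hx hxZ₁ hMx hfix lam w₀ hwt
  obtain ⟨xa, hxa⟩ : ∃ xa : Γ, xa = x ^ (2 ^ a) := ⟨_, rfl⟩
  rw [← hxa] at hFa hfixE
  rw [← hE] at hfixE
  have hxaZ : xa ∈ Subgroup.normalizer ((Z₁ : Subgroup Γ) : Set Γ) := by
    rw [hxa]
    exact Subgroup.pow_mem _ hxZ₁ _
  have hxaSt : xa ∈ stabW Z₁ lam := ⟨hxaZ, hFa⟩
  have hxapow : xa ^ (2 ^ ((n - a) + 1)) = 1 := by
    rw [hxa, ← pow_mul, ← pow_add]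
    have e1 : a + (n - a + 1) = n + 1 := by omega
    rw [e1, hx]
  have hxaτ : xa ^ (2 ^ (n - a)) = τ := by
    rw [hxa, hτ, ← pow_mul, ← pow_add]
    congr 2
    omega
  have hMxa : ∀ w ∈ M, ρ xa w ∈ M := by
    rw [hxa]
    exact pow_mem_of_mem ρ M x hMx _
  have hExa : ∀ w ∈ E, ρ xa w ∈ E := by
    rw [hE]
    exact wtSpace_pres ρ M Z₁ lam xa hxaSt hMxa
  obtain ⟨Tχ, hTχ⟩ : ∃ Tχ : Subgroup Γ, Tχ = T ⊓ stabW Z₁ lam := ⟨_, rfl⟩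
  have hTχT : Tχ ≤ T := by
    rw [hTχ]
    exact inf_le_left
  have hTχSt : Tχ ≤ stabW Z₁ lam := by
    rw [hTχ]
    exact inf_le_right
  have hETχ : ∀ g ∈ Tχ, ∀ w ∈ E, ρ g w ∈ E := by
    intro g hg
    rw [hE]
    exact wtSpace_pres ρ M Z₁ lam g (hTχSt hg) (hMT g (hTχT hg))
  have hxaTχ : xa ∈ Subgroup.normalizer ((Tχ : Subgroup Γ) : Set Γ) := by
    have hxaT : xa ∈ Subgroup.normalizer (T : Set Γ) := by
      rw [hxa]
      exact Subgroup.pow_mem _ hxT _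
    apply mem_normalizer_of_conj
    · intro g hg
      rw [hTχ]
      exact ⟨conj_mem_of_normalizer T xa hxaT g (hTχT hg),
        Subgroup.mul_mem _ (Subgroup.mul_mem _ hxaSt (hTχSt hg)) (Subgroup.inv_mem _ hxaSt)⟩
    · intro g hg
      rw [hTχ]
      exact ⟨conj_mem_of_normalizer' T xa hxaT g (hTχT hg),
        Subgroup.mul_mem _ (Subgroup.mul_mem _ (Subgroup.inv_mem _ hxaSt) (hTχSt hg)) hxaSt⟩
  have hES : ∀ u ∈ S, ∀ w ∈ E, ρ u w ∈ E := by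
    intro u hu w hw
    rw [hE] at hw ⊢
    refine ⟨hMS u hu w hw.1, fun z hz => ?_⟩
    rw [← rho_mul, hZ₁c z hz u hu w hw.1, rho_mul, hw.2 z hz, map_smul]
  have hxaS : xa ∈ Subgroup.normalizer (S : Set Γ) := by
    rw [hxa]
    exact Subgroup.pow_mem _ hxS _
  have hIHE := hIH E hElt xa (n - a) hxapow hExa hfixE Tχ (hT.to_le hTχT) hETχ hxaTχ S hS hES
    hxaS (hTχT.trans hTS)
  rw [hxaτ] at hIHE
  -- `c₀` stabilizes the weight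
  have hτSt : ∀ μ w, WtV ρ M Z₁ μ w → Fx Z₁ τ μ := by
    intro μ w hw
    rw [hτ]
    exact tau_fix_wt ρ M Z₁ x n hx hxZ₁ hMx hfix μ w hw
  have hc₀St : c₀ ∈ stabW Z₁ lam := by
    have h1 : τ ∈ stabW Z₁ lam :=
      ⟨by rw [hτ]; exact Subgroup.pow_mem _ hxZ₁ _, hτSt lam w₀ hwt⟩
    have hg₀Z := hTZ₁ hg₀
    have h2 : g₀ * τ * g₀⁻¹ ∈ stabW Z₁ lam := by
      refine ⟨Subgroup.mul_mem _ (Subgroup.mul_mem _ hg₀Z h1.1) (Subgroup.inv_mem _ hg₀Z), ?_⟩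
      have h3 := hτSt (cw lam g₀⁻¹) (ρ g₀⁻¹ w₀) (wt_conj ρ M Z₁ lam w₀ hwt g₀⁻¹
        (Subgroup.inv_mem _ hg₀Z) (hMT _ (T.inv_mem hg₀)))
      rw [Fx_cw Z₁ lam τ g₀⁻¹ (Subgroup.inv_mem _ hg₀Z), inv_inv] at h3
      exact h3
    rw [hc₀]
    exact Subgroup.mul_mem _ h2 (Subgroup.inv_mem _ h1)
  have hc₀Tχ : c₀ ∈ Tχ := by
    rw [hTχ]
    exact ⟨hc₀T, hc₀St⟩
  have hcc : c₀ * τ * c₀⁻¹ * τ⁻¹ = c₀ * c₀ := by
    calc c₀ * τ * c₀⁻¹ * τ⁻¹ = c₀ * (τ * c₀ * τ⁻¹)⁻¹ := by group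
      _ = c₀ * c₀ := by rw [hc₀inv, inv_inv]
  have hsq := hIHE c₀ hc₀Tχ
  rw [hcc] at hsq
  -- `c₀` commutes with `u₀` on `E`
  obtain ⟨D, hD⟩ : ∃ D : Subgroup Γ, D = cmOnSub ρ E Tχ hETχ {u₀} := ⟨_, rfl⟩
  have hccD : c₀ * c₀ ∈ D := by
    rw [hD]
    refine ⟨Tχ.mul_mem hc₀Tχ hc₀Tχ, fun y hy w hw => ?_⟩
    rw [Set.mem_singleton_iff] at hy
    rw [hy, ← rho_mul, ← rho_mul]
    exact hsq u₀ hu₀ w hw
  have hc₀D : c₀ ∈ D := by
    obtain ⟨e', he'⟩ := pgroup_pow T t hT c₀ hc₀T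
    obtain ⟨m, hm⟩ := sqrt_odd c₀ (t ^ e') he'
      (Nat.Coprime.pow_left e' ((Nat.coprime_primes ht Nat.prime_two).mpr ht2))
    rw [hm]
    exact D.pow_mem hccD m
  rw [hD] at hc₀D
  have hcomm := hc₀D.2 u₀ rfl
  -- `b` fixes `w₀`
  apply hlam
  have hb1 : ρ b w₀ = w₀ := by
    have hw' : ρ (u₀ * c₀)⁻¹ w₀ ∈ E := by
      rw [mul_inv_rev, rho_mul]
      exact hETχ _ (Tχ.inv_mem hc₀Tχ) _ (hES _ (S.inv_mem hu₀) w₀ hw₀E)
    have e : b = (c₀ * u₀) * (u₀ * c₀)⁻¹ := by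
      rw [hb]
      group
    rw [e, rho_mul, rho_mul, hcomm _ hw', ← rho_mul, ← rho_mul, mul_inv_cancel, map_one,
      Module.End.one_apply]
  have h2 := hw₀A b hbA
  rw [hb1] at h2
  have h3 : (lam b - 1) • w₀ = 0 := by rw [sub_smul, one_smul, ← h2, sub_self]
  rcases smul_eq_zero.mp h3 with h | h
  · exact sub_eq_zero.mp h
  · exact absurd h hw₀0

set_option maxHeartbeats 1600000 in
/-- **Case B of the linear core**: the center (modulo the kernel) of `S` acts by scalars on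
`M`; transfer to the faithful image and `coreB_faithful`. -/
theorem coreB [IsAlgClosed K] [FiniteDimensional K V] [Finite Γ] (ρ : Γ →* Module.End K V)
    (s t : ℕ) (hs : s.Prime) (ht : t.Prime) (hs2 : s ≠ 2) (ht2 : t ≠ 2) (hst : s ≠ t)
    (hsK : (s : K) ≠ 0) (h2K : (2 : K) ≠ 0)
    (M : Submodule K V)
    (x : Γ) (n : ℕ) (hx : x ^ (2 ^ (n + 1)) = 1) (hMx : ∀ w ∈ M, ρ x w ∈ M)
    (hfix : ∀ w ∈ M, ρ x w = w → w = 0)
    (T : Subgroup Γ) (hT : IsPGroup t T) (hMT : ∀ g ∈ T, ∀ w ∈ M, ρ g w ∈ M)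
    (hxT : x ∈ Subgroup.normalizer (T : Set Γ))
    (S : Subgroup Γ) (hS : IsPGroup s S) (hMS : ∀ u ∈ S, ∀ w ∈ M, ρ u w ∈ M)
    (hxS : x ∈ Subgroup.normalizer (S : Set Γ)) (hTS : T ≤ Subgroup.normalizer (S : Set Γ))
    (hsc : ∀ z ∈ cenMod ρ M S hMS, ∃ c : K, ∀ w ∈ M, ρ z w = c • w)
    (hmin : ∀ S₀ : Subgroup Γ, S₀ ≤ S → S₀ ≠ S → x ∈ Subgroup.normalizer (S₀ : Set Γ) →
      T ≤ Subgroup.normalizer (S₀ : Set Γ) → ∀ g ∈ T, ∀ u ∈ S₀, ∀ w ∈ M,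
      ρ ((g * x ^ (2 ^ n) * g⁻¹ * (x ^ (2 ^ n))⁻¹) * u) w
        = ρ (u * (g * x ^ (2 ^ n) * g⁻¹ * (x ^ (2 ^ n))⁻¹)) w) :
    ∀ g ∈ T, ∀ u ∈ S, ∀ w ∈ M,
      ρ ((g * x ^ (2 ^ n) * g⁻¹ * (x ^ (2 ^ n))⁻¹) * u) w
        = ρ (u * (g * x ^ (2 ^ n) * g⁻¹ * (x ^ (2 ^ n))⁻¹)) w := by
  classical
  obtain ⟨G₀, hG₀⟩ : ∃ G₀ : Subgroup Γ, G₀ = stabM ρ M := ⟨_, rfl⟩
  have hG₀M : ∀ g ∈ G₀, ∀ w ∈ M, ρ g w ∈ M := by
    intro g hg w hw
    rw [hG₀] at hg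
    exact stabM_mem ρ M g hg w hw
  have hmemG₀ : ∀ g : Γ, (∀ w ∈ M, ρ g w ∈ M) → g ∈ G₀ := by
    intro g hg
    rw [hG₀]
    exact mem_stabM_of ρ M g hg
  obtain ⟨Γ', _, _, π, ρ', -, hρ'inj, hρ'⟩ := exists_faithful_image ρ M G₀ hG₀M
  have hxG₀ : x ∈ G₀ := hmemG₀ x hMx
  have hSG₀ : S ≤ G₀ := fun u hu => hmemG₀ u (hMS u hu)
  have hTG₀ : T ≤ G₀ := fun g hg => hmemG₀ g (hMT g hg)
  have hπeq : ∀ a b : G₀, (∀ w ∈ M, ρ (a : Γ) w = ρ (b : Γ) w) → π a = π b := by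
    intro a b hab
    apply hρ'inj
    apply LinearMap.ext
    intro w
    apply Subtype.ext
    rw [hρ', hρ']
    exact hab w w.2
  have hπeq' : ∀ a b : G₀, π a = π b → ∀ w ∈ M, ρ (a : Γ) w = ρ (b : Γ) w := by
    intro a b hab w hw
    have h1 := hρ' a ⟨w, hw⟩
    have h2 := hρ' b ⟨w, hw⟩
    rw [hab] at h1
    exact h1.symm.trans h2
  obtain ⟨x', hx'⟩ : ∃ x' : Γ', x' = π ⟨x, hxG₀⟩ := ⟨_, rfl⟩
  obtain ⟨S', hS'⟩ : ∃ S' : Subgroup Γ', S' = imSub G₀ π S := ⟨_, rfl⟩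
  obtain ⟨T', hT'⟩ : ∃ T' : Subgroup Γ', T' = imSub G₀ π T := ⟨_, rfl⟩
  have hx'pow : x' ^ (2 ^ (n + 1)) = 1 := by
    rw [hx', ← map_pow]
    have e : (⟨x, hxG₀⟩ : G₀) ^ (2 ^ (n + 1)) = 1 := by
      apply Subtype.ext
      rw [Subgroup.coe_pow, Subgroup.coe_one]
      exact hx
    rw [e, map_one]
  have hτG₀ : x ^ (2 ^ n) ∈ G₀ := G₀.pow_mem hxG₀ _
  obtain ⟨τ₀, hτ₀⟩ : ∃ τ₀ : G₀, τ₀ = ⟨x ^ (2 ^ n), hτG₀⟩ := ⟨_, rfl⟩
  have hτ' : x' ^ (2 ^ n) = π τ₀ := by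
    rw [hx', ← map_pow, hτ₀]
    congr 1
  have hfix' : ∀ w : M, ρ' x' w = w → w = 0 := by
    intro w hw
    apply Subtype.ext
    apply hfix w w.2
    have h1 := hρ' ⟨x, hxG₀⟩ w
    rw [← hx', hw] at h1
    exact h1.symm
  have hcomm_elt : ∀ g : G₀, π g * x' ^ (2 ^ n) * (π g)⁻¹ * (x' ^ (2 ^ n))⁻¹
      = π (g * τ₀ * g⁻¹ * τ₀⁻¹) := by
    intro g
    rw [hτ', map_mul, map_mul, map_mul, map_inv, map_inv]
  have hres := coreB_faithful ρ' hρ'inj x' n hx'pow hfix' s t hs ht hs2 ht2 hst hsK h2K S' T'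
    (by rw [hS']; exact imSub_pgroup G₀ π S s hS) (by rw [hT']; exact imSub_pgroup G₀ π T t hT)
    (by rw [hS', hx']; exact imSub_norm G₀ π S ⟨x, hxG₀⟩ hxS)
    (by rw [hT', hx']; exact imSub_norm G₀ π T ⟨x, hxG₀⟩ hxT)
    (by
      intro y hy
      rw [hT', mem_imSub] at hy
      obtain ⟨g, hg, rfl⟩ := hy
      rw [hS']
      exact imSub_norm G₀ π S g (hTS hg))
    ?_ ?_
  · intro g hg u hu w hw
    have h1 := hres (π ⟨g, hTG₀ hg⟩) (by rw [hT', mem_imSub]; exact ⟨⟨g, hTG₀ hg⟩, hg, rfl⟩)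
      (π ⟨u, hSG₀ hu⟩) (by rw [hS', mem_imSub]; exact ⟨⟨u, hSG₀ hu⟩, hu, rfl⟩)
    rw [hcomm_elt, ← map_mul, ← map_mul] at h1
    have h2 := hπeq' _ _ h1 w hw
    rw [hτ₀] at h2
    exact h2
  · intro z hz
    have hz1 : z ∈ S' := hz.1
    rw [hS', mem_imSub] at hz1
    obtain ⟨z₀, hz₀S, rfl⟩ := hz1
    have hz₀c : (z₀ : Γ) ∈ cenMod ρ M S hMS := by
      refine ⟨hz₀S, fun v hv w hw => ?_⟩
      have h1 := hz.2 (π ⟨v, hSG₀ hv⟩) (by rw [hS', mem_imSub]; exact ⟨⟨v, hSG₀ hv⟩, hv, rfl⟩)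
      rw [← map_mul, ← map_mul] at h1
      exact (hπeq' _ _ h1 w hw).symm
    obtain ⟨c, hc⟩ := hsc _ hz₀c
    refine ⟨c, ?_⟩
    apply LinearMap.ext
    intro w
    apply Subtype.ext
    rw [hρ', hc w w.2, LinearMap.smul_apply, Module.End.one_apply, Submodule.coe_smul]
  · intro S₀' hS₀'S hS₀'ne hxS₀' hTS₀' g' hg' u' hu'
    obtain ⟨S₀, hS₀⟩ : ∃ S₀ : Subgroup Γ, S₀ = S ⊓ (S₀'.comap π).map G₀.subtype := ⟨_, rfl⟩
    have hmemS₀ : ∀ u : Γ, u ∈ S₀ ↔ u ∈ S ∧ ∃ h : u ∈ G₀, π ⟨u, h⟩ ∈ S₀' := by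
      intro u
      rw [hS₀, Subgroup.mem_inf]
      constructor
      · rintro ⟨h1, ⟨u₁, hu₁, rfl⟩⟩
        exact ⟨h1, u₁.2, hu₁⟩
      · rintro ⟨h1, h, h2⟩
        exact ⟨h1, ⟨⟨u, h⟩, h2, rfl⟩⟩
    have hS₀S : S₀ ≤ S := by
      rw [hS₀]
      exact inf_le_left
    have hS₀ne : S₀ ≠ S := by
      intro heq
      apply hS₀'ne
      apply le_antisymm hS₀'S
      intro y hy
      rw [hS', mem_imSub] at hy
      obtain ⟨u, hu, rfl⟩ := hy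
      rw [← heq] at hu
      obtain ⟨-, h, h2⟩ := (hmemS₀ _).mp hu
      exact h2
    have hconj : ∀ (g : Γ) (hg : g ∈ G₀), g ∈ Subgroup.normalizer (S : Set Γ) →
        π ⟨g, hg⟩ ∈ Subgroup.normalizer ((S₀' : Subgroup Γ') : Set Γ') →
        ∀ u ∈ S₀, g * u * g⁻¹ ∈ S₀ := by
      intro g hg hgS hgS₀' u hu
      obtain ⟨hu1, h, h2⟩ := (hmemS₀ u).mp hu
      refine (hmemS₀ _).mpr ⟨conj_mem_of_normalizer S g hgS u hu1,
        G₀.mul_mem (G₀.mul_mem hg h) (G₀.inv_mem hg), ?_⟩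
      have h3 := conj_mem_of_normalizer S₀' _ hgS₀' _ h2
      rw [← map_inv, ← map_mul, ← map_mul] at h3
      exact h3
    have hnormS₀ : ∀ (g : Γ) (hg : g ∈ G₀), g ∈ Subgroup.normalizer (S : Set Γ) →
        π ⟨g, hg⟩ ∈ Subgroup.normalizer ((S₀' : Subgroup Γ') : Set Γ') →
        g ∈ Subgroup.normalizer ((S₀ : Subgroup Γ) : Set Γ) := by
      intro g hg hgS hgS₀'
      apply mem_normalizer_of_conj
      · exact hconj g hg hgS hgS₀'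
      · intro u hu
        have h0 : π ⟨g⁻¹, G₀.inv_mem hg⟩ ∈
            Subgroup.normalizer ((S₀' : Subgroup Γ') : Set Γ') := by
          have e : π ⟨g⁻¹, G₀.inv_mem hg⟩ = (π ⟨g, hg⟩)⁻¹ := by
            rw [← map_inv]
            rfl
          rw [e]
          exact inv_mem hgS₀'
        have h1 := hconj g⁻¹ (G₀.inv_mem hg) (inv_mem hgS) h0 u hu
        rwa [inv_inv] at h1
    have hxS₀ : x ∈ Subgroup.normalizer ((S₀ : Subgroup Γ) : Set Γ) :=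
      hnormS₀ x hxG₀ hxS (by rw [← hx']; exact hxS₀')
    have hTS₀ : T ≤ Subgroup.normalizer ((S₀ : Subgroup Γ) : Set Γ) := by
      intro g hg
      exact hnormS₀ g (hTG₀ hg) (hTS hg)
        (hTS₀' (by rw [hT', mem_imSub]; exact ⟨⟨g, hTG₀ hg⟩, hg, rfl⟩))
    have hm := hmin S₀ hS₀S hS₀ne hxS₀ hTS₀
    rw [hT', mem_imSub] at hg'
    obtain ⟨g, hg, rfl⟩ := hg'
    have hu'S := hS₀'S hu'
    rw [hS', mem_imSub] at hu'S
    obtain ⟨u, hu, rfl⟩ := hu'S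
    have huS₀ : (u : Γ) ∈ S₀ := (hmemS₀ _).mpr ⟨hu, u.2, hu'⟩
    have h1 := hm (g : Γ) hg (u : Γ) huS₀
    rw [hcomm_elt, ← map_mul, ← map_mul]
    apply hπeq
    rw [hτ₀]
    exact h1

/-- **The linear core.**  A cyclic `2`-group `⟨x⟩` acting without fixed vectors, normalizing a
`t`-group `T` and an `s`-group `S` normalized by `T` (`s`, `t` distinct odd primes, `s` not
the characteristic): the commutators `[g, τ]`, `g ∈ T`, `τ` the involution, centralize `S`. -/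
theorem linCore2 [IsAlgClosed K] [FiniteDimensional K V] [Finite Γ] (ρ : Γ →* Module.End K V)
    (s t : ℕ) (hs : s.Prime) (ht : t.Prime) (hs2 : s ≠ 2) (ht2 : t ≠ 2) (hst : s ≠ t)
    (hsK : (s : K) ≠ 0) (h2K : (2 : K) ≠ 0) :
    ∀ (d : ℕ) (M : Submodule K V), Module.finrank K M = d → LinCoreAt ρ s t M := by
  intro d
  induction d using Nat.strong_induction_on with
  | _ d ihd =>
    intro M hMd x n hx hMx hfix T hT hMT hxT
    have key : ∀ (k : ℕ) (S : Subgroup Γ), Nat.card S = k → IsPGroup s S →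
        (∀ u ∈ S, ∀ w ∈ M, ρ u w ∈ M) →
        x ∈ Subgroup.normalizer (S : Set Γ) → T ≤ Subgroup.normalizer (S : Set Γ) →
        ∀ g ∈ T, ∀ u ∈ S, ∀ w ∈ M,
          ρ ((g * x ^ (2 ^ n) * g⁻¹ * (x ^ (2 ^ n))⁻¹) * u) w
            = ρ (u * (g * x ^ (2 ^ n) * g⁻¹ * (x ^ (2 ^ n))⁻¹)) w := by
      intro k
      induction k using Nat.strong_induction_on with
      | _ k ihk =>
        intro S hSk hS hMS hxS hTS
        by_cases hsc : ∀ z ∈ cenMod ρ M S hMS, ∃ c : K, ∀ w ∈ M, ρ z w = c • w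
        · apply coreB ρ s t hs ht hs2 ht2 hst hsK h2K M x n hx hMx hfix T hT hMT hxT S hS hMS
            hxS hTS hsc
          intro S₀ hS₀S hS₀ne hxS₀ hTS₀
          have hlt : Nat.card S₀ < k := by
            rw [← hSk]
            exact card_lt_card_of_lt' hS₀S hS₀ne
          exact ihk (Nat.card S₀) hlt S₀ rfl (hS.to_le hS₀S) (fun u hu => hMS u (hS₀S hu))
            hxS₀ hTS₀
        · have hns : ∃ z ∈ cenMod ρ M S hMS, ¬ ∃ c : K, ∀ w ∈ M, ρ z w = c • w := by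
            by_contra h
            apply hsc
            intro z hz
            by_contra h'
            exact h ⟨z, hz, h'⟩
          exact coreA ρ s t hs ht ht2 hsK M
            (fun M' hM' => ihd (Module.finrank K M') (by rw [← hMd]; exact hM') M' rfl)
            x n hx hMx hfix T hT hMT hxT S hS hMS hxS hTS hns
    intro S hS hMS hxS hTS
    exact key (Nat.card S) S rfl hS hMS hxS hTS

end

end Cfsg.Agent.Lib.helper66
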