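import Mathlib
import Cfsg.Agent.Lib.helper66.GrF
import Cfsg.Agent.Lib.helper65.Fitting
import Cfsg.Agent.Lib.helper30.FittingRank

set_option autoImplicit false

namespace Cfsg.Agent.Lib.helper66

universe u

/-- **The core for automorphisms of an elementary abelian group.**  `x` is an automorphism of
the elementary abelian `l`-group `V` with `x ^ (2 ^ (n+1)) = 1` and without nontrivial fixed
points, normalizing an `s`-group `S` and a `t`-group `T` of automorphisms (`s ≠ t` odd primes,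
`s ≠ l`), and `T` normalizes `S`.  Then the commutators `[g, τ]`, `g ∈ T`, with the involution
`τ = x ^ (2 ^ n)`, centralize `S`. -/
theorem g2_core_aut (V : Type u) [CommGroup V] [Finite V] (l : ℕ) (hl : l.Prime) (hl2 : l ≠ 2)
    (hVl : ∀ v : V, v ^ l = 1) (x : MulAut V) (n : ℕ) (hx : x ^ (2 ^ (n + 1)) = 1)
    (hfpf : ∀ v : V, x v = v → v = 1)
    (s t : ℕ) (hs : s.Prime) (ht : t.Prime) (hs2 : s ≠ 2) (ht2 : t ≠ 2) (hst : s ≠ t)
    (hsl : s ≠ l)
    (S T : Subgroup (MulAut V)) (hS : IsPGroup s S) (hT : IsPGroup t T)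
    (hxS : x ∈ Subgroup.normalizer (S : Set (MulAut V)))
    (hxT : x ∈ Subgroup.normalizer (T : Set (MulAut V)))
    (hTS : T ≤ Subgroup.normalizer (S : Set (MulAut V))) :
    ∀ g ∈ T, ∀ u ∈ S, (g * x ^ (2 ^ n) * g⁻¹ * (x ^ (2 ^ n))⁻¹) * u
        = u * (g * x ^ (2 ^ n) * g⁻¹ * (x ^ (2 ^ n))⁻¹) := by
  classical
  have hlF : Fact l.Prime := ⟨hl⟩
  obtain ⟨L, _, _, _, ⟨hLalg⟩⟩ : ∃ (L : Type) (_ : Field L) (_ : CharP L l), True ∧
      Nonempty (IsAlgClosed L) :=
    ⟨AlgebraicClosure (ZMod l), inferInstance, inferInstance, trivial, ⟨inferInstance⟩⟩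
  have := hLalg
  have hcast : ∀ r : ℕ, r.Prime → r ≠ l → (r : L) ≠ 0 := by
    intro r hr hrl h0
    have h1 := (CharP.cast_eq_zero_iff L l r).mp h0
    exact hrl ((Nat.prime_dvd_prime_iff_eq hl hr).mp h1).symm
  have h2L : (2 : L) ≠ 0 := by
    have h1 := hcast 2 Nat.prime_two (Ne.symm hl2)
    exact_mod_cast h1
  have hsL : (s : L) ≠ 0 := hcast s hs hsl
  have hmem : ∀ g : MulAut V, ∀ w ∈ addHomAll L V, autFunRep L V g w ∈ addHomAll L V :=
    fun g w hw => autFunRep_mem L V g w hw
  have hfix : ∀ w ∈ addHomAll L V, autFunRep L V x w = w → w = 0 := by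
    intro w hw hxw
    have hx1 : ∀ v : V, w (x v) = w v := by
      intro v
      have h1 := congrFun hxw (x v)
      rw [autFunRep_apply, MulAut.inv_apply_self] at h1
      exact h1.symm
    have hxi : ∀ (i : ℕ) (v : V), w ((x ^ i) v) = w v := by
      intro i
      induction i with
      | zero =>
        intro v
        simp
      | succ i ih =>
        intro v
        rw [pow_succ, MulAut.mul_apply, ih, hx1]
    funext v
    obtain ⟨N, hN⟩ : ∃ N : V, N = ∏ i ∈ Finset.range (2 ^ (n + 1)), (x ^ i) v := ⟨_, rfl⟩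
    have hNx : x N = N := by
      rw [hN, map_prod]
      have h1 := Finset.prod_range_succ' (fun i => (x ^ i) v) (2 ^ (n + 1))
      have h2 := Finset.prod_range_succ (fun i => (x ^ i) v) (2 ^ (n + 1))
      rw [h2] at h1
      simp only [pow_zero, MulAut.one_apply] at h1
      rw [hx, MulAut.one_apply] at h1
      have h3 := mul_right_cancel h1
      rw [h3]
      apply Finset.prod_congr rfl
      intro i _
      rw [pow_succ', MulAut.mul_apply]
    have hN1 : N = 1 := hfpf N hNx
    have h2 : w N = 0 := by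
      rw [hN1]
      exact addHomAll_one L V w hw
    rw [hN, addHomAll_prod L V w hw] at h2
    have h3 : ∑ i ∈ Finset.range (2 ^ (n + 1)), w ((x ^ i) v) = (2 ^ (n + 1) : ℕ) • w v := by
      rw [Finset.sum_congr rfl (fun i _ => hxi i v), Finset.sum_const, Finset.card_range]
    rw [h3, nsmul_eq_mul] at h2
    rcases mul_eq_zero.mp h2 with h | h
    · exfalso
      rw [Nat.cast_pow, Nat.cast_ofNat] at h
      exact pow_ne_zero _ h2L h
    · exact h
  have key := linCore2 (autFunRep L V) s t hs ht hs2 ht2 hst hsL h2L _ (addHomAll L V) rfl x n hx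
    (hmem x) hfix T hT (fun g _ => hmem g) hxT S hS (fun u _ => hmem u) hxS hTS
  intro g hg u hu
  obtain ⟨c, hc⟩ : ∃ c : MulAut V, c = g * x ^ (2 ^ n) * g⁻¹ * (x ^ (2 ^ n))⁻¹ := ⟨_, rfl⟩
  have h1 := key g hg u hu
  rw [← hc] at h1 ⊢
  have h2 : (u * c)⁻¹ * (c * u) = 1 := by
    apply autFunRep_faithful L V l hVl
    intro f hf
    rw [rho_mul, h1 f hf, rho_inv_apply]
  calc c * u = (u * c) * ((u * c)⁻¹ * (c * u)) := by group
    _ = u * c := by rw [h2, mul_one]

/-- **A nilpotency criterion.**  `B` has odd order and is generated by elements inverted by the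
automorphism `τ`; `F₀` is a nilpotent normal subgroup with nilpotent quotient; for every prime
`t` there is a `τ`-invariant Sylow `t`-subgroup `T` such that the elements `g⁻¹ τ(g)`, `g ∈ T`,
centralize the elements of `F₀` of prime power order for the other primes.  Then `B` is
nilpotent. -/
theorem nil_of_tau {B : Type*} [Group B] [Finite B] (hodd : Odd (Nat.card B)) (τ : MulAut B)
    (hgen : ∀ H : Subgroup B, (∀ c : B, τ c = c⁻¹ → c ∈ H) → H = ⊤)
    (F₀ : Subgroup B) [hF₀n : F₀.Normal] (hF₀ : Group.IsNilpotent F₀) (k : ℕ)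
    (hk : (⊤ : Subgroup B).lowerCentralSeries k ≤ F₀)
    (hT : ∀ t : ℕ, t.Prime → ∃ T : Sylow t B,
      (∀ g ∈ (T : Subgroup B), τ g ∈ (T : Subgroup B)) ∧
      ∀ g ∈ (T : Subgroup B), ∀ s : ℕ, s.Prime → s ≠ t → ∀ y ∈ F₀,
        (∃ e : ℕ, y ^ (s ^ e) = 1) → (g⁻¹ * τ g) * y = y * (g⁻¹ * τ g)) :
    Group.IsNilpotent B := by
  classical
  obtain ⟨F, hF⟩ : ∃ F : Subgroup B, F = Cfsg.fittingSubgroup B := ⟨_, rfl⟩
  have hFn : F.Normal := by
    rw [hF]
    infer_instance
  have hFnil : Group.IsNilpotent F := by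
    rw [hF]
    exact Cfsg.Agent.Lib.helper65.fittingSubgroup_isNilpotent
  have hFle : ∀ N : Subgroup B, N.Normal → Group.IsNilpotent N → N ≤ F := by
    intro N hN hNnil
    rw [hF]
    exact le_sSup ⟨hN, hNnil⟩
  have hQnil : Group.IsNilpotent (B ⧸ F₀) := by
    rw [Subgroup.nilpotent_iff_lowerCentralSeries]
    refine ⟨k, ?_⟩
    have h1 := Subgroup.map_lowerCentralSeries (⊤ : Subgroup B) (QuotientGroup.mk' F₀) k
    rw [← MonoidHom.range_eq_map,
      MonoidHom.range_eq_top.mpr (QuotientGroup.mk'_surjective F₀)] at h1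
    rw [← h1, Subgroup.map_eq_bot_iff, QuotientGroup.ker_mk']
    exact hk
  let J : Subgroup B :=
    { carrier := {b | b⁻¹ * τ b ∈ F}
      one_mem' := by
        show (1 : B)⁻¹ * τ 1 ∈ F
        rw [map_one, inv_one, one_mul]
        exact F.one_mem
      mul_mem' := by
        intro a b ha hb
        have ha' : a⁻¹ * τ a ∈ F := ha
        have hb' : b⁻¹ * τ b ∈ F := hb
        show (a * b)⁻¹ * τ (a * b) ∈ F
        have e : (a * b)⁻¹ * τ (a * b) = b⁻¹ * (a⁻¹ * τ a) * b⁻¹⁻¹ * (b⁻¹ * τ b) := by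
          rw [map_mul]
          group
        rw [e]
        exact F.mul_mem (hFn.conj_mem _ ha' _) hb'
      inv_mem' := by
        intro a ha
        have ha' : a⁻¹ * τ a ∈ F := ha
        show a⁻¹⁻¹ * τ a⁻¹ ∈ F
        have e : a⁻¹⁻¹ * τ a⁻¹ = a * (a⁻¹ * τ a)⁻¹ * a⁻¹ := by
          rw [map_inv]
          group
        rw [e]
        exact hFn.conj_mem _ (F.inv_mem ha') _ }
  have hTJ : ∀ t : ℕ, t.Prime → ∃ T : Sylow t B, (T : Subgroup B) ≤ J := by
    intro t ht
    have htF : Fact t.Prime := ⟨ht⟩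
    obtain ⟨T, hTτ, hcent⟩ := hT t ht
    refine ⟨T, ?_⟩
    obtain ⟨C, hC⟩ : ∃ C : Set B, C = {c | ∃ g ∈ (T : Subgroup B), c = g⁻¹ * τ g} := ⟨_, rfl⟩
    obtain ⟨P, hP⟩ : ∃ P : Subgroup B, P = Subgroup.closure C := ⟨_, rfl⟩
    have hCT : ∀ c ∈ C, c ∈ (T : Subgroup B) := by
      intro c hc
      rw [hC] at hc
      obtain ⟨g, hg, rfl⟩ := hc
      exact (T : Subgroup B).mul_mem ((T : Subgroup B).inv_mem hg) (hTτ g hg)
    have hPT : P ≤ (T : Subgroup B) := by
      rw [hP]
      exact (Subgroup.closure_le _).mpr hCT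
    have hCP : ∀ c ∈ C, c ∈ P := by
      intro c hc
      rw [hP]
      exact Subgroup.subset_closure hc
    have hconjT : ∀ h ∈ (T : Subgroup B), ∀ y ∈ P, h * y * h⁻¹ ∈ P := by
      intro h hh
      rw [hP]
      apply conj_closure_mem
      intro c hc
      rw [← hP]
      rw [hC] at hc
      obtain ⟨g, hg, rfl⟩ := hc
      have e : h * (g⁻¹ * τ g) * h⁻¹
          = ((g * h⁻¹)⁻¹ * τ (g * h⁻¹)) * (h⁻¹⁻¹ * τ h⁻¹)⁻¹ := by
        rw [map_mul, map_inv]
        group
      rw [e]
      apply P.mul_mem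
      · apply hCP
        rw [hC]
        exact ⟨g * h⁻¹, (T : Subgroup B).mul_mem hg ((T : Subgroup B).inv_mem hh), rfl⟩
      · apply P.inv_mem
        apply hCP
        rw [hC]
        exact ⟨h⁻¹, (T : Subgroup B).inv_mem hh, rfl⟩
    have hTNP : (T : Subgroup B) ≤ Subgroup.normalizer (P : Set B) := by
      intro h hh
      apply mem_normalizer_of_conj
      · exact hconjT h hh
      · intro y hy
        have h1 := hconjT h⁻¹ ((T : Subgroup B).inv_mem hh) y hy
        rwa [inv_inv] at h1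
    have hF₀t : ∀ z ∈ F₀, (∃ e : ℕ, z ^ (t ^ e) = 1) → z ∈ (T : Subgroup B) := by
      obtain ⟨Q, hQF, hQt, hQ⟩ := exists_sylow_of_nilpotent_sub F₀ hF₀ t
      have hQn : ∀ b : B, b ∈ Subgroup.normalizer (Q : Set B) := by
        intro b
        apply normalizes_of_char F₀ Q t hQt hQ hQF b
        rw [Subgroup.normalizer_eq_top_iff.mpr hF₀n]
        exact Subgroup.mem_top b
      have h1 : IsPGroup t (Q ⊔ (T : Subgroup B) : Subgroup B) :=
        IsPGroup.to_sup_of_normal_left' hQt T.isPGroup' (fun b _ => hQn b)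
      have h2 := T.is_maximal' h1 le_sup_right
      intro z hz hzt
      have h3 : z ∈ Q ⊔ (T : Subgroup B) :=
        (le_sup_left : Q ≤ Q ⊔ (T : Subgroup B)) (hQ z hz hzt)
      rw [h2] at h3
      exact h3
    have hF₀NP : F₀ ≤ Subgroup.normalizer (P : Set B) := by
      intro f hf
      apply Cfsg.Agent.Lib.helper30.mem_of_prime_pow_parts
      intro z hz q e hq hzq
      have hzF : z ∈ F₀ := (Subgroup.zpowers_le.mpr hf) hz
      have hzpow : z ^ (q ^ e) = 1 := by
        rw [← hzq]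
        exact pow_orderOf_eq_one z
      by_cases hqt : q = t
      · rw [hqt] at hzpow
        exact hTNP (hF₀t z hzF ⟨e, hzpow⟩)
      · have hzc : ∀ c ∈ C, z * c * z⁻¹ = c := by
          intro c hc
          rw [hC] at hc
          obtain ⟨g, hg, rfl⟩ := hc
          have h1 := hcent g hg q hq hqt z hzF ⟨e, hzpow⟩
          rw [← h1, mul_inv_cancel_right]
        have hzci : ∀ c ∈ C, z⁻¹ * c * z⁻¹⁻¹ = c := by
          intro c hc
          have h1 := hzc c hc
          calc z⁻¹ * c * z⁻¹⁻¹ = z⁻¹ * (z * c * z⁻¹) * z := by rw [h1, inv_inv]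
            _ = c := by group
        apply mem_normalizer_of_conj
        · rw [hP]
          apply conj_closure_mem
          intro c hc
          rw [hzc c hc]
          exact Subgroup.subset_closure hc
        · intro y hy
          have h2 : ∀ y ∈ Subgroup.closure C, z⁻¹ * y * z⁻¹⁻¹ ∈ Subgroup.closure C := by
            apply conj_closure_mem
            intro c hc
            rw [hzci c hc]
            exact Subgroup.subset_closure hc
          rw [hP] at hy ⊢
          have h3 := h2 y hy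
          rwa [inv_inv] at h3
    have hTn : ((T : Subgroup B).map (QuotientGroup.mk' F₀)).Normal := by
      have h1 : ((T.mapSurjective (QuotientGroup.mk'_surjective F₀) : Sylow t (B ⧸ F₀)) :
          Subgroup (B ⧸ F₀)).Normal :=
        Sylow.normal_of_normalizerCondition Group.normalizerCondition_of_isNilpotent _
      rwa [Sylow.coe_mapSurjective] at h1
    have hconjN : ∀ b : B, ∀ h ∈ (T : Subgroup B),
        b * h * b⁻¹ ∈ Subgroup.normalizer (P : Set B) := by
      intro b h hh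
      have h1 : QuotientGroup.mk' F₀ (b * h * b⁻¹) ∈
          (T : Subgroup B).map (QuotientGroup.mk' F₀) := by
        rw [map_mul, map_mul, map_inv]
        exact hTn.conj_mem _ ⟨h, hh, rfl⟩ _
      obtain ⟨h', hh', he⟩ := h1
      have h2 : h'⁻¹ * (b * h * b⁻¹) ∈ F₀ := by
        rw [← QuotientGroup.ker_mk' F₀, MonoidHom.mem_ker, map_mul, map_inv, he, inv_mul_cancel]
      have e : b * h * b⁻¹ = h' * (h'⁻¹ * (b * h * b⁻¹)) := by group
      rw [e]
      exact Subgroup.mul_mem _ (hTNP hh') (hF₀NP h2)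
    have hPcore : P ≤ (T : Subgroup B).normalCore := by
      intro p hp b
      obtain ⟨Pb, hPb⟩ : ∃ Pb : Subgroup B, Pb = P.map (MulAut.conj b).toMonoidHom := ⟨_, rfl⟩
      have hPbt : IsPGroup t Pb := by
        rw [hPb]
        exact (T.isPGroup'.to_le hPT).map _
      have hkey : ∀ h ∈ (T : Subgroup B), ∀ y ∈ Pb, h * y * h⁻¹ ∈ Pb := by
        intro h hh y hy
        rw [hPb] at hy ⊢
        obtain ⟨p', hp', rfl⟩ := hy
        have h1 := hconjN b⁻¹ h hh
        rw [inv_inv] at h1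
        refine ⟨(b⁻¹ * h * b) * p' * (b⁻¹ * h * b)⁻¹, conj_mem_of_normalizer P _ h1 p' hp', ?_⟩
        show b * ((b⁻¹ * h * b) * p' * (b⁻¹ * h * b)⁻¹) * b⁻¹ = h * (b * p' * b⁻¹) * h⁻¹
        group
      have hTPb : (T : Subgroup B) ≤ Subgroup.normalizer (Pb : Set B) := by
        intro h hh
        apply mem_normalizer_of_conj
        · exact hkey h hh
        · intro y hy
          have h1 := hkey h⁻¹ ((T : Subgroup B).inv_mem hh) y hy
          rwa [inv_inv] at h1
      have h1 : IsPGroup t (Pb ⊔ (T : Subgroup B) : Subgroup B) :=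
        IsPGroup.to_sup_of_normal_left' hPbt T.isPGroup' hTPb
      have h2 := T.is_maximal' h1 le_sup_right
      have h3 : b * p * b⁻¹ ∈ Pb ⊔ (T : Subgroup B) := by
        apply (le_sup_left : Pb ≤ Pb ⊔ (T : Subgroup B))
        rw [hPb]
        exact ⟨p, hp, rfl⟩
      rw [h2] at h3
      exact h3
    have hOle : (T : Subgroup B).normalCore ≤ F := by
      apply hFle _ (Subgroup.normalCore_normal _)
      exact (T.isPGroup'.to_le (Subgroup.normalCore_le _)).isNilpotent
    intro g hg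
    show g⁻¹ * τ g ∈ F
    apply hOle
    apply hPcore
    apply hCP
    rw [hC]
    exact ⟨g, hg, rfl⟩
  have hJtop : J = ⊤ := by
    by_contra hne
    have hidx : J.index ≠ 1 := fun h => hne (Subgroup.index_eq_one.mp h)
    obtain ⟨q, hq, hqd⟩ := Nat.exists_prime_and_dvd hidx
    have : Fact q.Prime := ⟨hq⟩
    obtain ⟨T, hTJ'⟩ := hTJ q hq
    have h1 : J.index ∣ (T : Subgroup B).index := Subgroup.index_dvd_of_le hTJ'
    exact T.not_dvd_index (dvd_trans hqd h1)
  have hFtop : F = ⊤ := by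
    apply hgen
    intro c hc
    have h1 : c ∈ J := by
      rw [hJtop]
      trivial
    have h2 : c⁻¹ * τ c ∈ F := h1
    rw [hc] at h2
    have h3 : c⁻¹ ∈ F := by
      obtain ⟨m, hm⟩ := sqrt_odd c⁻¹ (Nat.card B) pow_card_eq_one'
        (Nat.coprime_two_right.mpr hodd)
      rw [hm]
      exact F.pow_mem h2 m
    have h4 := F.inv_mem h3
    rwa [inv_inv] at h4
  rw [hFtop] at hFnil
  exact Group.isNilpotent_top.mp hFnil

end Cfsg.Agent.Lib.helper66
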