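import Mathlib
import Cfsg.Agent.Lib.helper66.GrG
import Cfsg.Agent.Lib.helper75.SGWrap
import Cfsg.Agent.S3794

set_option autoImplicit false

namespace Cfsg.Agent.Lib.helper66

open Cfsg.Agent.Lib.helper75 Cfsg.Agent.Lib.helper1

universe u

/-- The lower central series of a normal subgroup consists of normal subgroups. -/
theorem lcs_normal {G : Type*} [Group G] (S : Subgroup G) [hS : S.Normal] (k : ℕ) :
    (S.lowerCentralSeries k).Normal := by
  induction k with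
  | zero => exact hS
  | succ k ih =>
    rw [Subgroup.lowerCentralSeries_succ]
    exact Subgroup.commutator_normal _ _

theorem lcs_map_le {G G' : Type*} [Group G] [Group G'] (f : G →* G') (S : Subgroup G)
    (S' : Subgroup G') (h : S.map f ≤ S') (k : ℕ) :
    (S.lowerCentralSeries k).map f ≤ S'.lowerCentralSeries k := by
  rw [Subgroup.map_lowerCentralSeries]
  exact Subgroup.lowerCentralSeries_mono k h

theorem eq_one_of_two_pow {B : Type*} [Group B] [Finite B] (hodd : ¬ 2 ∣ Nat.card B) (z : B)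
    (e : ℕ) (hz : z ^ (2 ^ e) = 1) : z = 1 := by
  have h1 : z ^ Nat.gcd (2 ^ e) (Nat.card B) = 1 := pow_gcd_eq_one.mpr ⟨hz, pow_card_eq_one'⟩
  have h2 : Nat.gcd (2 ^ e) (Nat.card B) = 1 :=
    Nat.Coprime.pow_left e ((Nat.Prime.coprime_iff_not_dvd Nat.prime_two).mpr hodd)
  rwa [h2, pow_one] at h1

set_option maxHeartbeats 1600000 in
/-- A faithful irreducible action: if `[A, τ]` is metanilpotent, it is nilpotent. -/
theorem g2_tau_nil {A : Type*} [Group A] [Finite A] {M : Type*} [CommGroup M] [Finite M]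
    [Nontrivial M] (r : ℕ) [Fact r.Prime] (hM : ∀ x : M, x ^ r = 1) (n : ℕ) (hn : 1 ≤ n)
    (σ : MulAut A) (hσ : σ ^ (2 ^ n) = 1) (hfpf : ∀ g, σ g = g → g = 1)
    (β : MulAut M) (hβ : β ^ (2 ^ n) = 1) (hβfpf : ∀ x, β x = x → x = 1)
    (φ : A →* MulAut M) (hφ : Function.Injective φ)
    (hβφ : ∀ a x, β (φ a x) = φ (σ a) (β x))
    (hirr : ∀ F : Subgroup M, (∀ a, ∀ m ∈ F, φ a m ∈ F) → (∀ m ∈ F, β m ∈ F) → F = ⊥ ∨ F = ⊤)
    (hmeta : ∃ k j,
      ((sgK (σ ^ (2 ^ (n - 1)))).lowerCentralSeries k).lowerCentralSeries j = ⊥) :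
    Group.IsNilpotent ↥(sgK (σ ^ (2 ^ (n - 1)))) := by
  classical
  have hr : r.Prime := Fact.out
  obtain ⟨τ, hτ⟩ : ∃ τ : MulAut A, τ = σ ^ (2 ^ (n - 1)) := ⟨_, rfl⟩
  rw [← hτ] at hmeta ⊢
  obtain ⟨k, j, hkj⟩ := hmeta
  have hτσ : ∀ x, σ (τ x) = τ (σ x) := fun x => by
    rw [hτ]
    exact (sg_pow_comm σ _ x).symm
  have hKσ : ∀ x ∈ sgK τ, σ x ∈ sgK τ := sgK_inv σ τ hτσ
  have hKτ : ∀ x ∈ sgK τ, τ x ∈ sgK τ := sgK_inv τ τ (fun x => rfl)
  have hP0 : 0 < 2 ^ n := by positivity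
  have hndA := sg_not_dvd_card σ 2 n Nat.prime_two hσ hfpf
  have hndM := sg_not_dvd_card β 2 n Nat.prime_two hβ hβfpf
  have hττ : ∀ a, τ (τ a) = a := by
    intro a
    have h1 : τ * τ = 1 := by
      rw [hτ, ← pow_add, ← two_mul, ← pow_succ', Nat.sub_add_cancel hn, hσ]
    have h2 := congrArg (fun f : MulAut A => f a) h1
    simpa [MulAut.mul_apply] using h2
  have hrM : r ∣ Nat.card M := by
    obtain ⟨x, hx⟩ := exists_ne (1 : M)
    have h1 : orderOf x ∣ r := orderOf_dvd_of_pow_eq_one (hM x)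
    have h2 : orderOf x = r := by
      rcases (Nat.dvd_prime hr).mp h1 with h | h
      · exact absurd (orderOf_eq_one_iff.mp h) hx
      · exact h
    rw [← h2]
    exact orderOf_dvd_natCard x
  have hr2 : r ≠ 2 := by
    intro h
    rw [h] at hrM
    exact hndM hrM
  have hconjβ : ∀ a, β * φ a * β⁻¹ = φ (σ a) := by
    intro a
    refine MulEquiv.ext fun m => ?_
    rw [MulAut.mul_apply, MulAut.mul_apply, hβφ, MulAut.apply_inv_self]
  have hconjpow : ∀ (i : ℕ) (a : A), β ^ i * φ a * (β ^ i)⁻¹ = φ ((σ ^ i) a) := by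
    intro i
    induction i with
    | zero =>
      intro a
      simp
    | succ i ih =>
      intro a
      have e : β ^ (i + 1) * φ a * (β ^ (i + 1))⁻¹
          = β ^ i * (β * φ a * β⁻¹) * (β ^ i)⁻¹ := by
        rw [pow_succ]
        group
      rw [e, hconjβ, ih, pow_succ, MulAut.mul_apply]
  -- the nilpotent normal subgroup, in `A`
  obtain ⟨F₀A, hF₀A⟩ : ∃ F₀A : Subgroup A, F₀A = (sgK τ).lowerCentralSeries k := ⟨_, rfl⟩
  have hF₀An : F₀A.Normal := by
    rw [hF₀A]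
    exact lcs_normal _ k
  have hF₀Anil : Group.IsNilpotent F₀A := by
    rw [hF₀A]
    exact (Subgroup.isNilpotent_iff_lowerCentralSeries _).mpr ⟨j, hkj⟩
  have hF₀Aσ : ∀ x ∈ F₀A, σ x ∈ F₀A := by
    intro x hx
    have h1 : (sgK τ).map σ.toMonoidHom ≤ sgK τ := by
      rintro _ ⟨y, hy, rfl⟩
      exact hKσ y hy
    have h2 := lcs_map_le σ.toMonoidHom (sgK τ) (sgK τ) h1 k
    rw [hF₀A] at hx ⊢
    exact h2 ⟨x, hx, rfl⟩
  have hnoR : ∀ z ∈ F₀A, (∃ e : ℕ, z ^ (r ^ e) = 1) → z = 1 := by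
    obtain ⟨R, hRF, hRr, hR⟩ := exists_sylow_of_nilpotent_sub F₀A hF₀Anil r
    have hRnorm : ∀ a : A, a ∈ Subgroup.normalizer (R : Set A) := by
      intro a
      apply normalizes_of_char F₀A R r hRr hR hRF a
      rw [Subgroup.normalizer_eq_top_iff.mpr hF₀An]
      exact Subgroup.mem_top a
    have hRσ : ∀ x ∈ R, σ x ∈ R := by
      intro x hx
      obtain ⟨e, he⟩ := pgroup_pow R r hRr x hx
      exact hR (σ x) (hF₀Aσ x (hRF hx)) ⟨e, by rw [← map_pow, he, map_one]⟩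
    have hRσ' : ∀ x ∈ R, σ⁻¹ x ∈ R := sg_inv_mem σ (2 ^ n) hP0 hσ R hRσ
    obtain ⟨Fx, hFx⟩ : ∃ Fx : Subgroup M, ∀ m, m ∈ Fx ↔ ∀ x ∈ R, φ x m = m :=
      ⟨{ carrier := {m | ∀ x ∈ R, φ x m = m}
         mul_mem' := by
          intro a b ha hb x hx
          rw [map_mul, ha x hx, hb x hx]
         one_mem' := by
          intro x hx
          exact map_one _
         inv_mem' := by
          intro a ha x hx
          rw [map_inv, ha x hx] }, fun m => Iff.rfl⟩
    have hFne : Fx ≠ ⊥ := by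
      let _ : MulAction R M := MulAction.compHom M (φ.comp R.subtype)
      have h1 : (1 : M) ∈ MulAction.fixedPoints R M := by
        intro x
        show φ (x : A) 1 = 1
        exact map_one _
      obtain ⟨b, hb, hb1⟩ := hRr.exists_fixed_point_of_prime_dvd_card_of_fixed_point M hrM h1
      intro hbot
      apply hb1
      have h2 : b ∈ Fx := (hFx b).mpr (fun x hx => hb ⟨x, hx⟩)
      rw [hbot] at h2
      exact (Subgroup.mem_bot.mp h2).symm
    have hFφ : ∀ a, ∀ m ∈ Fx, φ a m ∈ Fx := by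
      intro a m hm
      rw [hFx] at hm ⊢
      intro x hx
      have h1 : a⁻¹ * x * a ∈ R := conj_mem_of_normalizer' R a (hRnorm a) x hx
      have h2 : x * a = a * (a⁻¹ * x * a) := by group
      rw [← MulAut.mul_apply, ← map_mul, h2, map_mul, MulAut.mul_apply, hm _ h1]
    have hFβ : ∀ m ∈ Fx, β m ∈ Fx := by
      intro m hm
      rw [hFx] at hm ⊢
      intro x hx
      have h1 := hβφ (σ⁻¹ x) m
      rw [MulAut.apply_inv_self, hm _ (hRσ' x hx)] at h1
      exact h1.symm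
    rcases hirr Fx hFφ hFβ with h | h
    · exact absurd h hFne
    · intro z hz hzr
      have hzR := hR z hz hzr
      apply hφ
      rw [map_one]
      refine MulEquiv.ext fun m => ?_
      have hm : m ∈ Fx := by
        rw [h]
        trivial
      exact (hFx m).mp hm z hzR
  -- the group `B = [A, τ]`
  obtain ⟨σB, hσB⟩ : ∃ σB : MulAut (sgK τ), σB = restrictAut σ (sgK τ) hKσ := ⟨_, rfl⟩
  obtain ⟨τB, hτB⟩ : ∃ τB : MulAut (sgK τ), τB = restrictAut τ (sgK τ) hKτ := ⟨_, rfl⟩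
  have hσBv : ∀ b : sgK τ, ((σB b : sgK τ) : A) = σ b := by
    intro b
    rw [hσB]
    rfl
  have hτBv : ∀ b : sgK τ, ((τB b : sgK τ) : A) = τ b := by
    intro b
    rw [hτB]
    rfl
  have hσBpow : σB ^ (2 ^ n) = 1 := by
    rw [hσB]
    refine MulEquiv.ext fun y => Subtype.ext ?_
    rw [sg_restrict_pow, hσ]
    rfl
  have hσBfpf : ∀ b : sgK τ, σB b = b → b = 1 := by
    intro b hb
    apply Subtype.ext
    apply hfpf
    have h1 := congrArg Subtype.val hb
    rw [hσBv] at h1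
    exact h1
  have hτBeq : ∀ b : sgK τ, τB b = (σB ^ (2 ^ (n - 1))) b := by
    intro b
    apply Subtype.ext
    rw [hτBv, hσB, sg_restrict_pow]
    exact DFunLike.congr_fun hτ _
  have hcardB : ¬ 2 ∣ Nat.card (sgK τ) :=
    fun h => hndA (dvd_trans h (Subgroup.card_subgroup_dvd_card _))
  have hoddB : Odd (Nat.card (sgK τ)) := by
    rw [← Nat.not_even_iff_odd, even_iff_two_dvd]
    exact hcardB
  obtain ⟨ψ, hψ⟩ : ∃ ψ : (sgK τ) →* MulAut M, ψ = φ.comp (sgK τ).subtype := ⟨_, rfl⟩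
  have hψv : ∀ b : sgK τ, ψ b = φ (b : A) := by
    intro b
    rw [hψ]
    rfl
  have hψinj : Function.Injective ψ := by
    rw [hψ]
    exact hφ.comp (Subgroup.subtype_injective _)
  have hψσ : ∀ b : sgK τ, β * ψ b * β⁻¹ = ψ (σB b) := by
    intro b
    rw [hψv, hψv, hσBv]
    exact hconjβ _
  have hψτ : ∀ b : sgK τ, β ^ (2 ^ (n - 1)) * ψ b * (β ^ (2 ^ (n - 1)))⁻¹ = ψ (τB b) := by
    intro b
    have h3 : τ (b : A) = (σ ^ (2 ^ (n - 1))) (b : A) := DFunLike.congr_fun hτ _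
    rw [hψv, hψv, hτBv, h3]
    exact hconjpow _ _
  have hnormβ : ∀ H : Subgroup (sgK τ), (∀ h ∈ H, σB h ∈ H) →
      β ∈ Subgroup.normalizer ((H.map ψ : Subgroup (MulAut M)) : Set (MulAut M)) := by
    intro H hH
    have hH' : ∀ h ∈ H, σB⁻¹ h ∈ H := sg_inv_mem σB (2 ^ n) hP0 hσBpow H hH
    apply mem_normalizer_of_conj
    · rintro _ ⟨h, hh, rfl⟩
      rw [hψσ]
      exact ⟨σB h, hH h hh, rfl⟩
    · rintro _ ⟨h, hh, rfl⟩
      refine ⟨σB⁻¹ h, hH' h hh, ?_⟩
      have h1 := hψσ (σB⁻¹ h)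
      rw [MulAut.apply_inv_self] at h1
      rw [← h1]
      group
  have hnormψ : ∀ (H : Subgroup (sgK τ)) (g : sgK τ),
      g ∈ Subgroup.normalizer (H : Set (sgK τ)) →
      ψ g ∈ Subgroup.normalizer ((H.map ψ : Subgroup (MulAut M)) : Set (MulAut M)) := by
    intro H g hg
    apply mem_normalizer_of_conj
    · rintro _ ⟨h, hh, rfl⟩
      exact ⟨g * h * g⁻¹, conj_mem_of_normalizer H g hg h hh, by rw [map_mul, map_mul, map_inv]⟩
    · rintro _ ⟨h, hh, rfl⟩
      exact ⟨g⁻¹ * h * g, conj_mem_of_normalizer' H g hg h hh,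
        by rw [map_mul, map_mul, map_inv]⟩
  obtain ⟨F₀, hF₀⟩ : ∃ F₀ : Subgroup (sgK τ),
      F₀ = (⊤ : Subgroup (sgK τ)).lowerCentralSeries k := ⟨_, rfl⟩
  have hF₀n : F₀.Normal := by
    rw [hF₀]
    exact lcs_normal _ k
  have hF₀map : F₀.map (sgK τ).subtype = F₀A := by
    rw [hF₀, hF₀A]
    exact Subgroup.top_subtype_lowerCentralSeries (sgK τ) k
  have hF₀nil : Group.IsNilpotent F₀ := by
    rw [Subgroup.isNilpotent_iff_lowerCentralSeries]
    refine ⟨j, ?_⟩
    apply (Subgroup.map_eq_bot_iff_of_injective _ (Subgroup.subtype_injective (sgK τ))).mp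
    rw [Subgroup.map_lowerCentralSeries, hF₀map, hF₀A]
    exact hkj
  have hF₀σ : ∀ x ∈ F₀, σB x ∈ F₀ := by
    intro x hx
    have h2 := lcs_map_le σB.toMonoidHom (⊤ : Subgroup (sgK τ)) ⊤ le_top k
    rw [hF₀] at hx ⊢
    exact h2 ⟨x, hx, rfl⟩
  apply nil_of_tau hoddB τB ?_ F₀ hF₀nil k (by rw [hF₀]) ?_
  · intro H hH
    have hgenK : sgK τ ≤ H.map (sgK τ).subtype := by
      apply sgK_le
      intro g
      refine ⟨⟨g⁻¹ * τ g, sgK_mem τ g⟩, hH _ ?_, rfl⟩
      apply Subtype.ext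
      rw [hτBv]
      show τ (g⁻¹ * τ g) = (g⁻¹ * τ g)⁻¹
      rw [map_mul, map_inv, hττ]
      group
    rw [eq_top_iff]
    intro b _
    obtain ⟨b', hb', hbb⟩ := hgenK b.2
    have e : b' = b := Subtype.ext hbb
    rwa [← e]
  · intro t ht
    have htF : Fact t.Prime := ⟨ht⟩
    obtain ⟨P, hP⟩ := Cfsg.Agent.S0031.result σB (fun g hg => hσBfpf g hg) t
    have hPσ : ∀ y ∈ (P : Subgroup (sgK τ)), σB y ∈ (P : Subgroup (sgK τ)) := by
      intro y hy
      have h1 : σB y ∈ (P : Subgroup (sgK τ)).map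
          ((σB : (sgK τ) ≃* (sgK τ)) : (sgK τ) →* (sgK τ)) := ⟨y, hy, rfl⟩
      rwa [hP] at h1
    have hPτ : ∀ y ∈ (P : Subgroup (sgK τ)), τB y ∈ (P : Subgroup (sgK τ)) := by
      intro y hy
      rw [hτBeq]
      exact sg_pow_mem σB _ hPσ _ y hy
    refine ⟨P, hPτ, ?_⟩
    intro g hg s hs hst y hy hys
    obtain ⟨e, he⟩ := hys
    have hyA : (y : A) ∈ F₀A := by
      rw [← hF₀map]
      exact ⟨y, hy, rfl⟩
    have heA : (y : A) ^ (s ^ e) = 1 := by
      have h1 := congrArg Subtype.val he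
      rwa [Subgroup.coe_pow, Subgroup.coe_one] at h1
    by_cases hsr : s = r
    · have hy1 : (y : A) = 1 := hnoR _ hyA ⟨e, by rw [← hsr]; exact heA⟩
      have hy1' : y = 1 := Subtype.ext hy1
      rw [hy1', mul_one, one_mul]
    by_cases hs2 : s = 2
    · have hy1' : y = 1 := eq_one_of_two_pow hcardB y e (by rw [← hs2]; exact he)
      rw [hy1', mul_one, one_mul]
    by_cases ht2 : t = 2
    · obtain ⟨e', he'⟩ := pgroup_pow (P : Subgroup (sgK τ)) t P.isPGroup' g hg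
      have hg1 : g = 1 := eq_one_of_two_pow hcardB g e' (by rw [← ht2]; exact he')
      rw [hg1]
      simp
    have hsF : Fact s.Prime := ⟨hs⟩
    obtain ⟨Q, hQF, hQs, hQ⟩ := exists_sylow_of_nilpotent_sub F₀ hF₀nil s
    have hQnorm : ∀ b : sgK τ, b ∈ Subgroup.normalizer (Q : Set (sgK τ)) := by
      intro b
      apply normalizes_of_char F₀ Q s hQs hQ hQF b
      rw [Subgroup.normalizer_eq_top_iff.mpr hF₀n]
      exact Subgroup.mem_top b
    have hQσ : ∀ x ∈ Q, σB x ∈ Q := by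
      intro x hx
      obtain ⟨e', he'⟩ := pgroup_pow Q s hQs x hx
      exact hQ (σB x) (hF₀σ x (hQF hx)) ⟨e', by rw [← map_pow, he', map_one]⟩
    have hyQ : y ∈ Q := hQ y hy ⟨e, he⟩
    have hcore := g2_core_aut M r hr hr2 hM β (n - 1)
      (by rw [Nat.sub_add_cancel hn]; exact hβ) hβfpf
      s t hs ht hs2 ht2 hst hsr (Q.map ψ) ((P : Subgroup (sgK τ)).map ψ) (hQs.map ψ)
      (P.isPGroup'.map ψ) (hnormβ Q hQσ) (hnormβ _ hPσ)
      (by
        rintro _ ⟨h, _, rfl⟩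
        exact hnormψ Q h (hQnorm h))
      (ψ g⁻¹) ⟨g⁻¹, (P : Subgroup (sgK τ)).inv_mem hg, rfl⟩ (ψ y) ⟨y, hyQ, rfl⟩
    have e1 : ψ g⁻¹ * β ^ (2 ^ (n - 1)) * (ψ g⁻¹)⁻¹ * (β ^ (2 ^ (n - 1)))⁻¹
        = ψ (g⁻¹ * τB g) := by
      have h1 := hψτ g⁻¹
      have h2 : ψ (τB g⁻¹) = (ψ (τB g))⁻¹ := by rw [map_inv, map_inv]
      calc ψ g⁻¹ * β ^ (2 ^ (n - 1)) * (ψ g⁻¹)⁻¹ * (β ^ (2 ^ (n - 1)))⁻¹
          = ψ g⁻¹ * (β ^ (2 ^ (n - 1)) * ψ g⁻¹ * (β ^ (2 ^ (n - 1)))⁻¹)⁻¹ := by group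
        _ = ψ g⁻¹ * ((ψ (τB g))⁻¹)⁻¹ := by rw [h1, h2]
        _ = ψ (g⁻¹ * τB g) := by rw [inv_inv, map_mul]
    rw [e1, ← map_mul, ← map_mul] at hcore
    exact hψinj hcore

set_option maxHeartbeats 1600000 in
/-- `[G, τ]` is metanilpotent, where `τ = σ ^ (2 ^ (n - 1))`. -/
theorem g2_K_meta_aux (N : ℕ) :
    ∀ {G : Type u} [Group G] [Finite G], Nat.card G ≤ N → Group.IsSolvable G →
      ∀ (n : ℕ) (σ : MulAut G), 1 ≤ n → σ ^ (2 ^ n) = 1 → (∀ g, σ g = g → g = 1) →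
        ∃ k j,
          ((sgK (σ ^ (2 ^ (n - 1)))).lowerCentralSeries k).lowerCentralSeries j = ⊥ := by
  induction N with
  | zero =>
    intro G _ _ hcard
    have := Nat.card_pos (α := G)
    omega
  | succ N ih =>
    intro G _ _ hcard hG n σ hn hσ hfpf
    classical
    rcases subsingleton_or_nontrivial G with hsub | hnt
    · refine ⟨0, 0, ?_⟩
      rw [Subgroup.lowerCentralSeries_zero, Subgroup.lowerCentralSeries_zero, eq_bot_iff]
      intro x _
      rw [Subgroup.mem_bot]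
      exact Subsingleton.elim _ _
    obtain ⟨τ, hτ⟩ : ∃ τ : MulAut G, τ = σ ^ (2 ^ (n - 1)) := ⟨_, rfl⟩
    have IH : ∀ (C : Subgroup G) [C.Normal] (hC : ∀ x ∈ C, σ x ∈ C), C ≠ ⊥ →
        ∃ k j, ((sgK ((quotAut σ C hC : MulAut (G ⧸ C)) ^ (2 ^ (n - 1)))).lowerCentralSeries
          k).lowerCentralSeries j = ⊥ := by
      intro C _ hC hC0
      have hcardC : Nat.card (G ⧸ C) ≤ N := by
        have h1 := Subgroup.card_eq_card_quotient_mul_card_subgroup C
        haveI : Nontrivial C := (Subgroup.nontrivial_iff_ne_bot C).mpr hC0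
        have h2 : 1 < Nat.card C := Finite.one_lt_card
        have h3 : 0 < Nat.card (G ⧸ C) := Nat.card_pos
        have h4 : Nat.card (G ⧸ C) * 2 ≤ Nat.card (G ⧸ C) * Nat.card C :=
          Nat.mul_le_mul_left _ h2
        omega
      have hσq : (quotAut σ C hC : MulAut (G ⧸ C)) ^ (2 ^ n) = 1 := by
        refine MulEquiv.ext fun g => ?_
        obtain ⟨u, rfl⟩ := QuotientGroup.mk_surjective g
        rw [sg_quot_pow_mk, hσ]
        rfl
      haveI := hG
      exact ih hcardC inferInstance n (quotAut σ C hC) hn hσq (quotAut_fpf σ hfpf C hC)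
    obtain ⟨M, hMn, hMσ, hM0, hmin⟩ := sg_exists_min σ
    haveI := hMn
    have hab := sg_min_abelian hG σ M hMσ hM0 hmin
    obtain ⟨r, hr, hexp⟩ := sg_min_exp σ M hMσ hM0 hmin hab
    haveI : Fact r.Prime := ⟨hr⟩
    have hP0 : 0 < 2 ^ n := by positivity
    have hMσ' : ∀ x ∈ M, σ⁻¹ x ∈ M := sg_inv_mem σ (2 ^ n) hP0 hσ M hMσ
    obtain ⟨φ, hφ⟩ : ∃ φ : G →* MulAut M, ∀ (g : G) (m : M), ((φ g m : M) : G) = g * m * g⁻¹ :=
      ⟨MulAut.conjNormal, fun g m => MulAut.conjNormal_apply g m⟩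
    have hker : ∀ g, g ∈ φ.ker ↔ ∀ m ∈ M, g * m = m * g := by
      intro g
      rw [MonoidHom.mem_ker]
      constructor
      · intro h m hm
        have h1 : ((φ g ⟨m, hm⟩ : M) : G) = m := by rw [h]; rfl
        rw [hφ] at h1
        calc g * m = g * m * g⁻¹ * g := by group
          _ = m * g := by rw [h1]
      · intro h
        refine MulEquiv.ext fun m => Subtype.ext ?_
        rw [hφ, h m m.2]
        show (m : G) * g * g⁻¹ = m
        group
    have hCσ : ∀ x ∈ φ.ker, σ x ∈ φ.ker := by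
      intro x hx
      rw [hker] at hx ⊢
      intro m hm
      have h1 := hx (σ⁻¹ m) (hMσ' m hm)
      have h2 := congrArg σ h1
      rwa [map_mul, map_mul, MulAut.apply_inv_self] at h2
    have hMC : M ≤ φ.ker := by
      intro a ha
      rw [hker]
      intro m hm
      exact hab a ha m hm
    have hC0 : φ.ker ≠ ⊥ := by
      intro h
      apply hM0
      rw [eq_bot_iff, ← h]
      exact hMC
    have hmetaC := IH φ.ker hCσ hC0
    have hnilC : Group.IsNilpotent
        ↥(sgK ((quotAut σ φ.ker hCσ : MulAut (G ⧸ φ.ker)) ^ (2 ^ (n - 1)))) := by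
      letI : CommGroup M :=
        { (inferInstance : Group M) with mul_comm := fun a b => Subtype.ext (hab a a.2 b b.2) }
      haveI : Nontrivial M := (Subgroup.nontrivial_iff_ne_bot M).mpr hM0
      have hexpM : ∀ x : M, x ^ r = 1 := fun x => Subtype.ext (hexp x x.2)
      have hβ : (restrictAut σ M hMσ : MulAut M) ^ (2 ^ n) = 1 := by
        refine MulEquiv.ext fun y => Subtype.ext ?_
        rw [sg_restrict_pow, hσ]
        rfl
      have hβfpf : ∀ x : M, (restrictAut σ M hMσ : MulAut M) x = x → x = 1 :=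
        fun x hx => Subtype.ext (hfpf x (congrArg Subtype.val hx))
      have hσq : (quotAut σ φ.ker hCσ : MulAut (G ⧸ φ.ker)) ^ (2 ^ n) = 1 := by
        refine MulEquiv.ext fun g => ?_
        obtain ⟨u, rfl⟩ := QuotientGroup.mk_surjective g
        rw [sg_quot_pow_mk, hσ]
        rfl
      have hfpfq := quotAut_fpf σ hfpf φ.ker hCσ
      have hcompat : ∀ (a : G ⧸ φ.ker) (x : M),
          (restrictAut σ M hMσ : MulAut M) (QuotientGroup.kerLift φ a x)
            = QuotientGroup.kerLift φ ((quotAut σ φ.ker hCσ : MulAut (G ⧸ φ.ker)) a)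
                ((restrictAut σ M hMσ : MulAut M) x) := by
        intro a x
        obtain ⟨g, rfl⟩ := QuotientGroup.mk_surjective a
        apply Subtype.ext
        show σ ((φ g x : M) : G) = ((φ (σ g) (restrictAut σ M hMσ x) : M) : G)
        rw [hφ, hφ, map_mul, map_mul, map_inv]
        rfl
      have hirr : ∀ F : Subgroup M,
          (∀ a : G ⧸ φ.ker, ∀ m ∈ F, QuotientGroup.kerLift φ a m ∈ F) →
          (∀ m ∈ F, (restrictAut σ M hMσ : MulAut M) m ∈ F) → F = ⊥ ∨ F = ⊤ := by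
        intro F hF1 hF2
        have hNn : (F.map M.subtype).Normal := by
          constructor
          rintro _ ⟨m, hm, rfl⟩ g
          exact ⟨φ g m, hF1 (QuotientGroup.mk g) m hm, hφ g m⟩
        have hNσ : ∀ x ∈ F.map M.subtype, σ x ∈ F.map M.subtype := by
          rintro _ ⟨m, hm, rfl⟩
          exact ⟨restrictAut σ M hMσ m, hF2 m hm, rfl⟩
        have hNM : F.map M.subtype ≤ M := by
          rintro _ ⟨m, hm, rfl⟩
          exact m.2
        rcases hmin _ hNn hNσ hNM with h | h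
        · left
          exact (Subgroup.map_eq_bot_iff_of_injective F M.subtype_injective).mp h
        · right
          rw [eq_top_iff]
          intro m _
          have h1 : (m : G) ∈ F.map M.subtype := by
            rw [h]
            exact m.2
          obtain ⟨m', hm', hmm⟩ := h1
          have h2 : m' = m := Subtype.ext hmm
          rwa [← h2]
      exact g2_tau_nil r hexpM n hn (quotAut σ φ.ker hCσ) hσq hfpfq
        (restrictAut σ M hMσ) hβ hβfpf (QuotientGroup.kerLift φ)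
        (QuotientGroup.kerLift_injective φ) hcompat hirr hmetaC
    obtain ⟨c, hc⟩ := (Subgroup.isNilpotent_iff_lowerCentralSeries _).mp hnilC
    have hcompatC : ∀ x, (QuotientGroup.mk' φ.ker) (τ x)
        = ((quotAut σ φ.ker hCσ : MulAut (G ⧸ φ.ker)) ^ (2 ^ (n - 1)))
            (QuotientGroup.mk' φ.ker x) := by
      intro x
      rw [hτ]
      exact (sg_quot_pow_mk σ φ.ker hCσ (2 ^ (n - 1)) x).symm
    have hKC : (sgK τ).lowerCentralSeries c ≤ φ.ker := by
      have h1 : (sgK τ).map (QuotientGroup.mk' φ.ker)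
          ≤ sgK ((quotAut σ φ.ker hCσ : MulAut (G ⧸ φ.ker)) ^ (2 ^ (n - 1))) := by
        rintro _ ⟨x, hx, rfl⟩
        exact sgK_map (QuotientGroup.mk' φ.ker) τ _ hcompatC x hx
      have h2 := lcs_map_le (QuotientGroup.mk' φ.ker) (sgK τ) _ h1 c
      rw [hc, le_bot_iff, Subgroup.map_eq_bot_iff, QuotientGroup.ker_mk'] at h2
      exact h2
    obtain ⟨k, j, hkj⟩ := IH M hMσ hM0
    have hcompatM : ∀ x, (QuotientGroup.mk' M) (τ x)
        = ((quotAut σ M hMσ : MulAut (G ⧸ M)) ^ (2 ^ (n - 1))) (QuotientGroup.mk' M x) := by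
      intro x
      rw [hτ]
      exact (sg_quot_pow_mk σ M hMσ (2 ^ (n - 1)) x).symm
    have hKM : ((sgK τ).lowerCentralSeries k).lowerCentralSeries j ≤ M := by
      have h1 : (sgK τ).map (QuotientGroup.mk' M)
          ≤ sgK ((quotAut σ M hMσ : MulAut (G ⧸ M)) ^ (2 ^ (n - 1))) := by
        rintro _ ⟨x, hx, rfl⟩
        exact sgK_map (QuotientGroup.mk' M) τ _ hcompatM x hx
      have h2 := lcs_map_le (QuotientGroup.mk' M) (sgK τ) _ h1 k
      have h3 := lcs_map_le (QuotientGroup.mk' M) ((sgK τ).lowerCentralSeries k) _ h2 j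
      rw [hkj, le_bot_iff, Subgroup.map_eq_bot_iff, QuotientGroup.ker_mk'] at h3
      exact h3
    rw [← hτ]
    refine ⟨max k c, j + 1, ?_⟩
    obtain ⟨L, hL⟩ : ∃ L : Subgroup G, L = (sgK τ).lowerCentralSeries (max k c) := ⟨_, rfl⟩
    rw [← hL]
    have hLk : L ≤ (sgK τ).lowerCentralSeries k := by
      rw [hL]
      exact (sgK τ).lowerCentralSeries_antitone (le_max_left k c)
    have hLC : L ≤ φ.ker := by
      rw [hL]
      exact ((sgK τ).lowerCentralSeries_antitone (le_max_right k c)).trans hKC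
    have hLM : L.lowerCentralSeries j ≤ M :=
      le_trans (Subgroup.lowerCentralSeries_mono j hLk) hKM
    rw [Subgroup.lowerCentralSeries_succ, eq_bot_iff]
    have h1 : ⁅L.lowerCentralSeries j, L⁆ ≤ ⁅M, φ.ker⁆ := Subgroup.commutator_mono hLM hLC
    have h2 : ⁅M, φ.ker⁆ = ⊥ := by
      rw [Subgroup.commutator_eq_bot_iff_le_centralizer]
      intro m hm
      rw [Subgroup.mem_centralizer_iff]
      intro g hg
      exact (hker g).mp hg m hm
    rw [← h2]
    exact h1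

/-- A chain of normal subgroups from `N` to `⊤` with nilpotent factors. -/
def FChain (G : Type*) [Group G] (m : ℕ) (N : Subgroup G) : Prop :=
  ∃ F : Fin (m + 1) → Subgroup G, F 0 = N ∧ F (Fin.last m) = ⊤ ∧ Monotone F ∧
    (∀ i, (F i).Normal) ∧
    ∀ i : Fin m, ∃ k : ℕ, (F i.succ).lowerCentralSeries k ≤ F i.castSucc

theorem fchain_top (G : Type*) [Group G] : FChain G 0 ⊤ :=
  ⟨fun _ => ⊤, rfl, rfl, fun _ _ _ => le_rfl, fun _ => inferInstance, fun i => i.elim0⟩

theorem fchain_prepend {G : Type*} [Group G] (N K : Subgroup G) [N.Normal] (hNK : N ≤ K)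
    (hk : ∃ k, K.lowerCentralSeries k ≤ N) (m : ℕ) (h : FChain G m K) :
    FChain G (m + 1) N := by
  obtain ⟨F', h0, h1, hmono, hnorm, hnil⟩ := h
  refine ⟨Fin.cons N F', ?_, ?_, ?_, ?_, ?_⟩
  · rfl
  · have e : Fin.last (m + 1) = (Fin.last m).succ := rfl
    rw [e, Fin.cons_succ, h1]
  · rw [Fin.monotone_iff_le_succ]
    intro i
    refine Fin.cases ?_ (fun j => ?_) i
    · rw [Fin.castSucc_zero, Fin.cons_zero, Fin.cons_succ, h0]
      exact hNK
    · rw [← Fin.succ_castSucc, Fin.cons_succ, Fin.cons_succ]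
      exact hmono (Fin.castSucc_le_succ j)
  · intro i
    refine Fin.cases ?_ (fun j => ?_) i
    · rw [Fin.cons_zero]
      infer_instance
    · rw [Fin.cons_succ]
      exact hnorm j
  · intro i
    refine Fin.cases ?_ (fun j => ?_) i
    · obtain ⟨k, hk⟩ := hk
      refine ⟨k, ?_⟩
      rw [Fin.castSucc_zero, Fin.cons_zero, Fin.cons_succ, h0]
      exact hk
    · obtain ⟨k, hk⟩ := hnil j
      refine ⟨k, ?_⟩
      rw [← Fin.succ_castSucc, Fin.cons_succ, Fin.cons_succ]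
      exact hk

theorem fchain_comap {G : Type*} [Group G] (K : Subgroup G) [K.Normal] (m : ℕ)
    (h : FChain (G ⧸ K) m ⊥) : FChain G m K := by
  obtain ⟨F', h0, h1, hmono, hnorm, hnil⟩ := h
  refine ⟨fun i => (F' i).comap (QuotientGroup.mk' K), ?_, ?_, ?_, ?_, ?_⟩
  · show (F' 0).comap (QuotientGroup.mk' K) = K
    rw [h0]
    exact QuotientGroup.ker_mk' K
  · show (F' (Fin.last m)).comap (QuotientGroup.mk' K) = ⊤
    rw [h1, Subgroup.comap_top]
  · intro i j hij
    exact Subgroup.comap_mono (hmono hij)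
  · intro i
    haveI := hnorm i
    show ((F' i).comap (QuotientGroup.mk' K)).Normal
    infer_instance
  · intro i
    obtain ⟨k, hk⟩ := hnil i
    refine ⟨k, ?_⟩
    show ((F' i.succ).comap (QuotientGroup.mk' K)).lowerCentralSeries k
      ≤ (F' i.castSucc).comap (QuotientGroup.mk' K)
    rw [← Subgroup.map_le_iff_le_comap, Subgroup.map_lowerCentralSeries,
      Subgroup.map_comap_eq_self_of_surjective (QuotientGroup.mk'_surjective K)]
    exact hk

/-- **Gross's theorem**, chain form: a fixed-point-free automorphism with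
`σ ^ (2 ^ (m+2)) = 1` of a finite solvable group gives a Fitting chain of length `2m + 2`. -/
theorem g2_chain (m : ℕ) :
    ∀ {G : Type u} [Group G] [Finite G], Group.IsSolvable G → ∀ σ : MulAut G,
      σ ^ (2 ^ (m + 2)) = 1 → (∀ g, σ g = g → g = 1) → FChain G (2 * m + 2) ⊥ := by
  induction m with
  | zero =>
    intro G _ _ hG σ hσ hfpf
    have h4 : σ ^ 4 = 1 := by
      norm_num at hσ
      exact hσ
    have hnil : Group.IsNilpotent (commutator G) := Cfsg.Agent.S3794.result hG σ h4 hfpf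
    have h1 : FChain G 1 (commutator G) := by
      apply fchain_prepend (commutator G) ⊤ le_top ⟨1, ?_⟩ 0 (fchain_top G)
      rw [Subgroup.top_lowerCentralSeries_one]
    have h2 : FChain G 2 ⊥ := by
      apply fchain_prepend ⊥ (commutator G) bot_le ?_ 1 h1
      obtain ⟨k, hk⟩ := (Subgroup.isNilpotent_iff_lowerCentralSeries _).mp hnil
      exact ⟨k, le_of_eq hk⟩
    exact h2
  | succ m ih =>
    intro G _ _ hG σ hσ hfpf
    obtain ⟨k, j, hkj⟩ := g2_K_meta_aux (Nat.card G) le_rfl hG (m + 1 + 2) σ (by omega) hσ hfpf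
    have e0 : m + 1 + 2 - 1 = m + 2 := by omega
    rw [e0] at hkj
    have hKσ : ∀ x ∈ sgK (σ ^ (2 ^ (m + 2))), σ x ∈ sgK (σ ^ (2 ^ (m + 2))) :=
      sgK_inv σ _ (fun x => (sg_pow_comm σ _ x).symm)
    have hσq : (quotAut σ _ hKσ : MulAut (G ⧸ sgK (σ ^ (2 ^ (m + 2))))) ^ (2 ^ (m + 2)) = 1 := by
      refine MulEquiv.ext fun g => ?_
      obtain ⟨u, rfl⟩ := QuotientGroup.mk_surjective g
      rw [sg_quot_pow_mk]
      show (QuotientGroup.mk ((σ ^ (2 ^ (m + 2))) u) : G ⧸ sgK (σ ^ (2 ^ (m + 2))))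
        = QuotientGroup.mk u
      apply QuotientGroup.eq.mpr
      have h2 := Subgroup.inv_mem _ (sgK_mem (σ ^ (2 ^ (m + 2))) u)
      rwa [mul_inv_rev, inv_inv] at h2
    haveI := hG
    have hq := ih (G := G ⧸ sgK (σ ^ (2 ^ (m + 2)))) inferInstance (quotAut σ _ hKσ) hσq
      (quotAut_fpf σ hfpf _ hKσ)
    have h1 := fchain_comap (sgK (σ ^ (2 ^ (m + 2)))) (2 * m + 2) hq
    obtain ⟨N₁, hN₁⟩ : ∃ N₁ : Subgroup G,
        N₁ = (sgK (σ ^ (2 ^ (m + 2)))).lowerCentralSeries k := ⟨_, rfl⟩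
    have hN₁n : N₁.Normal := by
      rw [hN₁]
      exact lcs_normal _ k
    have h2 : FChain G (2 * m + 2 + 1) N₁ :=
      fchain_prepend N₁ _ (by rw [hN₁]; exact Subgroup.lowerCentralSeries_le_self _ k)
        ⟨k, by rw [hN₁]⟩ _ h1
    have h3 : FChain G (2 * m + 2 + 1 + 1) ⊥ :=
      fchain_prepend ⊥ N₁ bot_le ⟨j, by rw [hN₁, hkj]⟩ _ h2
    have e : 2 * (m + 1) + 2 = 2 * m + 2 + 1 + 1 := by ring
    rw [e]
    exact h3

/-- **Gross's theorem** for `p = 2`: a finite solvable group with a fixed-point-free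
automorphism `σ`, `σ ^ (2 ^ n) = 1`, `n > 1`, has a Fitting chain of length `2n - 2`. -/
theorem g2_final {G : Type u} [Group G] [Finite G] (hG : Group.IsSolvable G) (σ : MulAut G)
    (n : ℕ) (hn : 1 < n) (hσ : σ ^ (2 ^ n) = 1) (hfpf : ∀ g : G, σ g = g → g = 1) :
    ∃ F : Fin ((2 * n - 2) + 1) → Subgroup G, F 0 = ⊥ ∧ F (Fin.last (2 * n - 2)) = ⊤ ∧
      Monotone F ∧ (∀ i, (F i).Normal) ∧
      ∀ i : Fin (2 * n - 2), ∃ k : ℕ, (F i.succ).lowerCentralSeries k ≤ F i.castSucc := by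
  obtain ⟨m, rfl⟩ : ∃ m, n = m + 2 := ⟨n - 2, by omega⟩
  have e : 2 * (m + 2) - 2 = 2 * m + 2 := by omega
  rw [e]
  exact g2_chain m hG σ hσ hfpf

end Cfsg.Agent.Lib.helper66
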