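import Mathlib
import Cfsg.Prelude.Def_LieTypeChar
import Cfsg.Agent.Lib.helper44.LODefs
import Cfsg.Agent.S0245
import Cfsg.Agent.S0246

/-! S2363 split (architect helper44), piece PSP (helper66 racing copy, all names prefixed `h66_`):
`LOGood p |PSp_2m(F)|` for `m ≥ 2`, from the landed order formulas S0245 / S0246. -/

set_option autoImplicit false

namespace Cfsg.Agent.Lib.helper44.LO

open Cfsg

/-- Own copy of the core arithmetic (ARITH). -/
theorem h66_lo_good {p : ℕ} (hp : p.Prime) (f : ℕ) (hf : 1 ≤ f) (c n N M e : ℕ)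
    (hc : c * n = (p ^ f) ^ N * M) (hcp : ¬ p ∣ c) (hMp : ¬ p ∣ M) (hM : M < c * (p ^ f) ^ e)
    (h1 : e ≤ 2 * N) (h2 : 3 * e ≤ 5 * N) : LOGood p n := by
  have hc0 : c ≠ 0 := fun h => hcp (h ▸ dvd_zero p)
  have hM0 : M ≠ 0 := fun h => hMp (h ▸ dvd_zero p)
  have hq0 : 0 < p ^ f := pow_pos hp.pos f
  have hn0 : n ≠ 0 := by
    intro h
    rw [h, mul_zero] at hc
    exact (Nat.mul_ne_zero (pow_pos hq0 N).ne' hM0) hc.symm
  have hk : n.factorization p = f * N := by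
    have h3 : (c * n).factorization p = ((p ^ f) ^ N * M).factorization p := by rw [hc]
    rw [Nat.factorization_mul hc0 hn0, Nat.factorization_mul (pow_pos hq0 N).ne' hM0, ← pow_mul,
      Finsupp.add_apply, Finsupp.add_apply, Nat.factorization_eq_zero_of_not_dvd hcp,
      Nat.factorization_eq_zero_of_not_dvd hMp, hp.factorization_pow, Finsupp.single_eq_same] at h3
    omega
  have hlt : n < (p ^ f) ^ (N + e) := by
    have h3 : c * n < c * (p ^ f) ^ (N + e) := by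
      rw [hc, pow_add]
      calc (p ^ f) ^ N * M < (p ^ f) ^ N * (c * (p ^ f) ^ e) :=
            Nat.mul_lt_mul_of_pos_left hM (pow_pos hq0 N)
        _ = c * ((p ^ f) ^ N * (p ^ f) ^ e) := by ring
    exact Nat.lt_of_mul_lt_mul_left h3
  have e1 : f * (N + e) ≤ 3 * (f * N) := by nlinarith [Nat.mul_le_mul_left f h1]
  have e2 : f * (N + e) * 3 ≤ 8 * (f * N) := by nlinarith [Nat.mul_le_mul_left f h2]
  constructor
  · rw [hk]
    calc n < (p ^ f) ^ (N + e) := hlt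
      _ = p ^ (f * (N + e)) := by rw [← pow_mul]
      _ ≤ p ^ (3 * (f * N)) := Nat.pow_le_pow_right hp.pos e1
  · rw [hk]
    calc n ^ 3 < ((p ^ f) ^ (N + e)) ^ 3 := Nat.pow_lt_pow_left hlt (by norm_num)
      _ = p ^ (f * (N + e) * 3) := by rw [← pow_mul, ← pow_mul, mul_assoc]
      _ ≤ p ^ (8 * (f * N)) := Nat.pow_le_pow_right hp.pos e2

/-- `∏_{i ≤ m} (q^(2(i+1)) - 1) < q^((m+1)^2 + (m+1))`. -/
theorem h66_lo_prod_lt (q : ℕ) (hq : 2 ≤ q) (m : ℕ) :
    ∏ i ∈ Finset.range (m + 1), (q ^ (2 * (i + 1)) - 1) < q ^ ((m + 1) ^ 2 + (m + 1)) := by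
  induction m with
  | zero =>
    rw [Finset.prod_range_one]
    have h : 0 < q ^ (2 * (0 + 1)) := pow_pos (by omega) _
    have e : (0 + 1) ^ 2 + (0 + 1) = 2 * (0 + 1) := by norm_num
    rw [e]
    omega
  | succ m ih =>
    rw [Finset.prod_range_succ]
    have h1 : q ^ (2 * (m + 1 + 1)) - 1 < q ^ (2 * (m + 1 + 1)) :=
      Nat.sub_lt (pow_pos (by omega) _) one_pos
    have e : (m + 1 + 1) ^ 2 + (m + 1 + 1) = ((m + 1) ^ 2 + (m + 1)) + 2 * (m + 1 + 1) := by ring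
    rw [e, pow_add]
    exact Nat.mul_lt_mul'' ih h1

/-- PSP, helper66 copy. -/
theorem h66_lo_psp {F : Type} [Field F] [Fintype F] (p : ℕ) (hp : p.Prime) [CharP F p] (m : ℕ) (hm : 2 ≤ m) :
    LOGood p (Nat.card (Cfsg.PSp m F)) := by
  obtain ⟨⟨f, hfpos⟩, -, hq⟩ := FiniteField.card F p
  have hq' : Fintype.card F = p ^ f := hq
  have hS := Cfsg.Agent.S0245.result (F := F) hq' m
  have hZ := Cfsg.Agent.S0246.result (F := F) hq' m (by omega)
  have hquot := Subgroup.card_eq_card_quotient_mul_card_subgroup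
    (Subgroup.center (Matrix.symplecticGroup (Fin m) F))
  have hq2 : 2 ≤ p ^ f := le_trans hp.two_le (Nat.le_self_pow (by omega) p)
  have hpq : p ∣ p ^ f := dvd_pow_self p (by omega)
  obtain ⟨m', rfl⟩ : ∃ m', m = m' + 1 := ⟨m - 1, by omega⟩
  have hM := h66_lo_prod_lt (p ^ f) hq2 m'
  apply h66_lo_good hp f hfpos (Nat.gcd 2 (p ^ f - 1)) _ ((m' + 1) ^ 2)
    (∏ i ∈ Finset.range (m' + 1), ((p ^ f) ^ (2 * (i + 1)) - 1)) ((m' + 1) ^ 2 + (m' + 1))
  · rw [← hS, hquot, hZ, mul_comm]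
  · intro h
    have h1 : p ∣ p ^ f - 1 := h.trans (Nat.gcd_dvd_right _ _)
    have h2 : p ∣ 1 := by
      have h3 := Nat.dvd_sub hpq h1
      rwa [Nat.sub_sub_self (by omega)] at h3
    exact hp.one_lt.ne' (Nat.dvd_one.mp h2)
  · intro h
    obtain ⟨i, -, hi⟩ := (hp.prime.dvd_finsetProd_iff _).mp h
    have h0 : p ∣ (p ^ f) ^ (2 * (i + 1)) := dvd_pow hpq (by omega)
    have hpos : 1 ≤ (p ^ f) ^ (2 * (i + 1)) := Nat.one_le_pow _ _ (by omega)
    have h2 : p ∣ 1 := by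
      have h3 := Nat.dvd_sub h0 hi
      rwa [Nat.sub_sub_self hpos] at h3
    exact hp.one_lt.ne' (Nat.dvd_one.mp h2)
  · have hc1 : 1 ≤ Nat.gcd 2 (p ^ f - 1) := Nat.gcd_pos_of_pos_left _ (by norm_num)
    calc _ < (p ^ f) ^ ((m' + 1) ^ 2 + (m' + 1)) := hM
      _ ≤ Nat.gcd 2 (p ^ f - 1) * (p ^ f) ^ ((m' + 1) ^ 2 + (m' + 1)) :=
          Nat.le_mul_of_pos_left _ hc1
  · nlinarith
  · nlinarith

end Cfsg.Agent.Lib.helper44.LO
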