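import Mathlib
import Cfsg.Agent.Lib.helper4.P3XS

set_option autoImplicit false
open Cfsg
open scoped commutatorElement

namespace Cfsg.Agent.Lib.helper79.P3

theorem h66_e27_cube_mul {G : Type*} [Group G] (u v c : G) (hvu : v * u = u * v * c)
    (hcu : c * u = u * c) (hcv : c * v = v * c) (hc3 : c * c * c = 1) :
    (u * v) ^ 3 = u ^ 3 * v ^ 3 := by
  rw [pow_three', pow_three', pow_three']
  calc u * v * (u * v) * (u * v)
      = u * (v * u) * (v * u) * v := by simp only [mul_assoc]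
    _ = u * (u * v * c) * (u * v * c) * v := by rw [hvu]
    _ = u * u * v * (c * u) * v * c * v := by simp only [mul_assoc]
    _ = u * u * v * (u * c) * v * c * v := by rw [hcu]
    _ = u * u * (v * u) * c * v * c * v := by simp only [mul_assoc]
    _ = u * u * (u * v * c) * c * v * c * v := by rw [hvu]
    _ = u * u * u * v * c * (c * v) * c * v := by simp only [mul_assoc]
    _ = u * u * u * v * c * (v * c) * c * v := by rw [hcv]
    _ = u * u * u * v * (c * v) * c * c * v := by simp only [mul_assoc]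
    _ = u * u * u * v * (v * c) * c * c * v := by rw [hcv]
    _ = u * u * u * v * v * (c * c * c) * v := by simp only [mul_assoc]
    _ = u * u * u * (v * v * v) := by rw [hc3]; simp only [mul_assoc, mul_one, one_mul]

theorem h66_e27_pow {G : Type*} [Group G] [Finite G] (hG : Nat.card G = 27) (K : Subgroup G) :
    Nat.card K = 1 ∨ Nat.card K = 3 ∨ Nat.card K = 9 ∨ Nat.card K = 27 := by
  have hdvd : Nat.card K ∣ 3 ^ 3 := by
    have h1 := Subgroup.card_subgroup_dvd_card K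
    rw [hG] at h1
    simpa using h1
  obtain ⟨k, hk, hk2⟩ := (Nat.dvd_prime_pow Nat.prime_three).mp hdvd
  interval_cases k <;> rw [hk2] <;> norm_num

/-- EXP27 (racer copy helper66), statement verbatim. -/
theorem h66_p3_exp27 {G : Type*} [Group G] [Finite G] (hG : Nat.card G = 27) (hna : ∃ a b : G, a * b ≠ b * a)
    (E : Subgroup G) (hE : Nat.card E = 9) (hEe : ∀ e ∈ E, e ^ 3 = 1) (ψ : G →* G)
    (hψ : Function.Injective ψ) (hψE : ∀ e ∈ E, ψ e = e⁻¹) : ∀ g : G, g ^ 3 = 1 := by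
  classical
  have hp3 : Fact (Nat.Prime 3) := ⟨Nat.prime_three⟩
  obtain ⟨⟨_, _, hcomm⟩, hZ⟩ := p3_extraspecial27 hG hna
  have hZ3 : ∀ z ∈ Subgroup.center G, z ^ 3 = 1 := by
    intro z hz
    have h1 : (⟨z, hz⟩ : Subgroup.center G) ^ Nat.card (Subgroup.center G) = 1 := pow_card_eq_one'
    rw [hZ] at h1
    have h2 := congrArg Subtype.val h1
    simpa using h2
  have hZc : ∀ z ∈ Subgroup.center G, ∀ g : G, g * z = z * g := fun z hz g =>
    Subgroup.mem_center_iff.mp hz g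
  have hc : ∀ g a : G, g⁻¹ * a⁻¹ * g * a ∈ Subgroup.center G := by
    intro g a
    rw [← hcomm, commutator_def]
    have h1 : ⁅g⁻¹, a⁻¹⁆ ∈ ⁅(⊤ : Subgroup G), (⊤ : Subgroup G)⁆ :=
      Subgroup.commutator_mem_commutator (Subgroup.mem_top _) (Subgroup.mem_top _)
    rw [commutatorElement_def, inv_inv, inv_inv] at h1
    exact h1
  have h5 : ∀ u v : G, (u * v) ^ 3 = u ^ 3 * v ^ 3 := by
    intro u v
    have hcz := hc v u
    refine h66_e27_cube_mul u v (v⁻¹ * u⁻¹ * v * u) (by group) (hZc _ hcz u).symm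
      (hZc _ hcz v).symm ?_
    rw [← pow_three']
    exact hZ3 _ hcz
  have h4 : ∀ g : G, g ^ 3 ∈ Subgroup.center G := by
    intro g
    rw [Subgroup.mem_center_iff]
    intro a
    have hcz := hc g a
    have h1 : a⁻¹ * g * a = g * (g⁻¹ * a⁻¹ * g * a) := by group
    have h2 : (a⁻¹ * g * a) ^ 3 = a⁻¹ * g ^ 3 * a := by
      have h0 := conj_pow (a := a⁻¹) (b := g) (i := 3)
      rwa [inv_inv] at h0
    have hcm : Commute g (g⁻¹ * a⁻¹ * g * a) := hZc _ hcz g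
    have h3 : (g * (g⁻¹ * a⁻¹ * g * a)) ^ 3 = g ^ 3 * (g⁻¹ * a⁻¹ * g * a) ^ 3 := hcm.mul_pow 3
    rw [hZ3 _ hcz, mul_one, ← h1, h2] at h3
    calc a * g ^ 3 = a * (a⁻¹ * g ^ 3 * a) := by rw [h3]
      _ = g ^ 3 * a := by group
  by_contra hcon
  push_neg at hcon
  obtain ⟨y, hy⟩ := hcon
  let θ : G →* G := MonoidHom.mk' (fun g => g ^ 3) h5
  have hker : ∀ g, g ∈ θ.ker ↔ g ^ 3 = 1 := fun g => by
    rw [MonoidHom.mem_ker]
    exact Iff.rfl
  have hEK : E ≤ θ.ker := fun e he => (hker e).mpr (hEe e he)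
  have hyK : y ∉ θ.ker := fun h => hy ((hker y).mp h)
  have hKcard : Nat.card θ.ker = 9 := by
    have h9 : 9 ≤ Nat.card θ.ker := hE ▸ Subgroup.card_le_of_le hEK
    have h27 : Nat.card θ.ker ≠ 27 := by
      intro h27
      apply hyK
      have h1 : θ.ker = ⊤ := Subgroup.eq_top_of_card_eq _ (by rw [h27, hG])
      rw [h1]; exact Subgroup.mem_top y
    rcases h66_e27_pow hG θ.ker with h | h | h | h <;> omega
  have hEeq : E = θ.ker := Subgroup.eq_of_le_of_card_ge hEK (by rw [hKcard, hE])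
  have hK : ∀ g : G, g ^ 3 = 1 → g ∈ E := fun g hg => by rw [hEeq]; exact (hker g).mpr hg
  have hEab : ∀ a ∈ E, ∀ b ∈ E, a * b = b * a := by
    intro a ha b hb
    have h1 := IsPGroup.commutative_of_card_eq_prime_sq (p := 3) (G := E)
      (by rw [hE]; norm_num) ⟨a, ha⟩ ⟨b, hb⟩
    exact congrArg Subtype.val h1
  have hzZ : y ^ 3 ∈ Subgroup.center G := h4 y
  have hzE : y ^ 3 ∈ E := hK _ (hZ3 _ hzZ)
  have hψz : ψ (y ^ 3) = (y ^ 3)⁻¹ := hψE _ hzE
  have hw : (ψ y * y) ^ 3 = 1 := by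
    rw [h5, ← map_pow, hψz, inv_mul_cancel]
  have hwE : ψ y * y ∈ E := hK _ hw
  have hyE : ∀ a ∈ E, a * y = y * a := by
    intro a ha
    have hcz := hc a y
    have hcE : a⁻¹ * y⁻¹ * a * y ∈ E := hK _ (hZ3 _ hcz)
    have h1 : ψ (a⁻¹ * y⁻¹ * a * y) = (a⁻¹ * y⁻¹ * a * y)⁻¹ := hψE _ hcE
    have h2 : ψ (a⁻¹ * y⁻¹ * a * y) = a * (ψ y)⁻¹ * a⁻¹ * ψ y := by
      rw [map_mul, map_mul, map_mul, map_inv, map_inv, hψE a ha, inv_inv]
    have hwa : (ψ y * y) * a = a * (ψ y * y) := hEab _ hwE a ha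
    have h5' : a⁻¹ * (ψ y * y) = (ψ y * y) * a⁻¹ := by
      calc a⁻¹ * (ψ y * y) = a⁻¹ * ((ψ y * y) * a) * a⁻¹ := by group
        _ = a⁻¹ * (a * (ψ y * y)) * a⁻¹ := by rw [hwa]
        _ = (ψ y * y) * a⁻¹ := by group
    have h4' : (ψ y)⁻¹ * a⁻¹ * ψ y = y * a⁻¹ * y⁻¹ := by
      calc (ψ y)⁻¹ * a⁻¹ * ψ y = (ψ y)⁻¹ * (a⁻¹ * (ψ y * y)) * y⁻¹ := by group
        _ = (ψ y)⁻¹ * ((ψ y * y) * a⁻¹) * y⁻¹ := by rw [h5']
        _ = y * a⁻¹ * y⁻¹ := by group
    have h3 : a * (ψ y)⁻¹ * a⁻¹ * ψ y = a * y * a⁻¹ * y⁻¹ := by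
      calc a * (ψ y)⁻¹ * a⁻¹ * ψ y = a * ((ψ y)⁻¹ * a⁻¹ * ψ y) := by group
        _ = a * (y * a⁻¹ * y⁻¹) := by rw [h4']
        _ = a * y * a⁻¹ * y⁻¹ := by group
    have h6 : a * y * a⁻¹ * y⁻¹ = a⁻¹ * y⁻¹ * a * y := by
      have h7 := hZc _ hcz (a * y)
      calc a * y * a⁻¹ * y⁻¹ = (a * y) * (a⁻¹ * y⁻¹ * a * y) * (a * y)⁻¹ := by group
        _ = (a⁻¹ * y⁻¹ * a * y) * (a * y) * (a * y)⁻¹ := by rw [h7]
        _ = a⁻¹ * y⁻¹ * a * y := by group
    have h8 : (a⁻¹ * y⁻¹ * a * y)⁻¹ = a⁻¹ * y⁻¹ * a * y := by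
      rw [← h1, h2, h3, h6]
    have h11 : (a⁻¹ * y⁻¹ * a * y) * (a⁻¹ * y⁻¹ * a * y) = 1 := by
      calc (a⁻¹ * y⁻¹ * a * y) * (a⁻¹ * y⁻¹ * a * y)
          = (a⁻¹ * y⁻¹ * a * y)⁻¹ * (a⁻¹ * y⁻¹ * a * y) := by rw [h8]
        _ = 1 := inv_mul_cancel _
    have h9 : a⁻¹ * y⁻¹ * a * y = 1 := by
      have h10 := hZ3 _ hcz
      rw [pow_three, h11, mul_one] at h10
      exact h10
    calc a * y = y * a * (a⁻¹ * y⁻¹ * a * y) := by group
      _ = y * a := by rw [h9, mul_one]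
  have hyE' : y ∉ E := fun h => hy (hEe y h)
  have hEC : E ≤ Subgroup.centralizer ({y} : Set G) := by
    intro a ha
    rw [Subgroup.mem_centralizer_iff]
    intro t ht
    rw [Set.mem_singleton_iff.mp ht]
    exact (hyE a ha).symm
  have hyC : y ∈ Subgroup.centralizer ({y} : Set G) := by
    rw [Subgroup.mem_centralizer_iff]
    intro t ht
    rw [Set.mem_singleton_iff.mp ht]
  have hCtop : Subgroup.centralizer ({y} : Set G) = ⊤ := by
    have hlt : 9 < Nat.card (Subgroup.centralizer ({y} : Set G)) := by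
      by_contra hcon
      have h1 := Subgroup.eq_of_le_of_card_ge hEC (by rw [hE]; exact not_lt.mp hcon)
      exact hyE' (h1 ▸ hyC)
    apply Subgroup.eq_top_of_card_eq
    rw [hG]
    rcases h66_e27_pow hG (Subgroup.centralizer ({y} : Set G)) with h | h | h | h <;> omega
  have hycen : y ∈ Subgroup.center G := by
    rw [Subgroup.mem_center_iff]
    intro g
    have hg : g ∈ Subgroup.centralizer ({y} : Set G) := by rw [hCtop]; exact Subgroup.mem_top g
    rw [Subgroup.mem_centralizer_iff] at hg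
    exact (hg y rfl).symm
  exact hy (hZ3 y hycen)

end Cfsg.Agent.Lib.helper79.P3
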