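import Mathlib
import Cfsg.Agent.Lib.helper79.PearlX
import Cfsg.Agent.Lib.helper12.PGroupGens

set_option autoImplicit false

namespace Cfsg.Agent.Lib.helper79.P3

open Cfsg.Agent.Lib.helper68

theorem h66_n4_pow {G : Type*} [Group G] [Finite G] (hG : Nat.card G = 3 ^ 4) (K : Subgroup G) :
    Nat.card K = 1 ∨ Nat.card K = 3 ∨ Nat.card K = 9 ∨ Nat.card K = 27 ∨ Nat.card K = 81 := by
  have hdvd : Nat.card K ∣ 3 ^ 4 := hG ▸ Subgroup.card_subgroup_dvd_card K
  obtain ⟨k, hk, hk2⟩ := (Nat.dvd_prime_pow (by norm_num : Nat.Prime 3)).mp hdvd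
  interval_cases k <;> rw [hk2] <;> norm_num

theorem h66_n4_gen27 {G : Type*} [Group G] [Finite G] (hG : Nat.card G = 3 ^ 4) (H : Subgroup G)
    (hH : Nat.card H = 27) (a : G) (ha : a ∈ H) (ha3 : a ^ 3 ≠ 1) :
    ∃ T : Finset G, T.card ≤ 2 ∧ Subgroup.closure (T : Set G) = H := by
  classical
  have hA : 9 ≤ Nat.card (Subgroup.zpowers a) := by
    rcases h66_n4_pow hG (Subgroup.zpowers a) with h | h | h | h | h
    · exfalso
      rw [Nat.card_zpowers] at h
      exact ha3 (by rw [orderOf_eq_one_iff.mp h]; simp)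
    · exfalso
      rw [Nat.card_zpowers] at h
      exact ha3 (by rw [← h]; exact pow_orderOf_eq_one a)
    all_goals omega
  have hAH : Subgroup.zpowers a ≤ H := (Subgroup.zpowers_le).mpr ha
  by_cases hEq : H ≤ Subgroup.zpowers a
  · refine ⟨{a}, by simp, ?_⟩
    rw [Finset.coe_singleton, ← Subgroup.zpowers_eq_closure]
    exact le_antisymm hAH hEq
  · obtain ⟨b, hbH, hb⟩ := SetLike.not_le_iff_exists.mp hEq
    refine ⟨{a, b}, Finset.card_le_two, ?_⟩
    have hKH : Subgroup.closure (({a, b} : Finset G) : Set G) ≤ H := by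
      rw [Subgroup.closure_le]
      intro y hy
      simp only [Finset.coe_insert, Finset.coe_singleton, Set.mem_insert_iff,
        Set.mem_singleton_iff] at hy
      rcases hy with rfl | rfl
      · exact ha
      · exact hbH
    have haK : a ∈ Subgroup.closure (({a, b} : Finset G) : Set G) :=
      Subgroup.subset_closure (by simp)
    have hbK : b ∈ Subgroup.closure (({a, b} : Finset G) : Set G) :=
      Subgroup.subset_closure (by simp)
    have hAK : Subgroup.zpowers a ≤ Subgroup.closure (({a, b} : Finset G) : Set G) :=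
      (Subgroup.zpowers_le).mpr haK
    have hlt : Nat.card (Subgroup.zpowers a)
        < Nat.card (Subgroup.closure (({a, b} : Finset G) : Set G)) := by
      by_contra hcon
      have h1 := Subgroup.eq_of_le_of_card_ge hAK (not_lt.mp hcon)
      exact hb (h1 ▸ hbK)
    have hle : Nat.card (Subgroup.closure (({a, b} : Finset G) : Set G)) ≤ Nat.card H :=
      Subgroup.card_le_of_le hKH
    refine Subgroup.eq_of_le_of_card_ge hKH ?_
    rcases h66_n4_pow hG (Subgroup.closure (({a, b} : Finset G) : Set G)) with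
      h | h | h | h | h <;> omega

/-- N4 core (racer helper66): the leaves UNIF / NONUNIF (j = 2) / FRAT as hypotheses. -/
theorem h66_p3_n4_core {G : Type*} [Group G] [Finite G] (hG : Nat.card G = 3 ^ 4) (x : G)
    (hC : Nat.card (Subgroup.centralizer ({x} : Set G)) = 3 ^ 2)
    (hUNIF : ∀ h : G, Nat.card (Subgroup.centralizer ({h} : Set G)) = 3 ^ 2 →
      ∀ H : Subgroup G, h ∈ H → ∃ T : Finset G, T.card ≤ 2 ∧ Subgroup.closure (T : Set G) = H)
    (hNON : ∀ h : G, h ∉ gam G 2 → Nat.card (Subgroup.centralizer ({h} : Set G)) ≠ 3 ^ 2 →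
      ∀ v ∈ gam G 2, com v h ∈ gam G 4)
    (hFRAT : ∀ H : Subgroup G, H ⊔ gam G 2 = ⊤ → H = ⊤) :
    (∀ H : Subgroup G, ∃ T : Finset G, T.card ≤ 2 ∧ Subgroup.closure (T : Set G) = H) ∨
      ∃ M : Subgroup G, Nat.card M = 27 ∧ (∀ a ∈ M, ∀ b ∈ M, a * b = b * a) ∧ ∀ a ∈ M, a ^ 3 = 1 := by
  classical
  have : Fact (Nat.Prime 3) := ⟨by norm_num⟩
  by_cases hM : ∃ M : Subgroup G, Nat.card M = 27 ∧ (∀ a ∈ M, ∀ b ∈ M, a * b = b * a) ∧
      ∀ a ∈ M, a ^ 3 = 1
  · exact Or.inr hM
  left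
  have hP2 : Nat.card (gam G 2) = 9 := by
    have h1 := Cfsg.Agent.Lib.helper79.h79_px_card 3 4 hG x hC (by norm_num) 2 (by norm_num)
      (by norm_num)
    rw [h1]; norm_num
  have hP4 : gam G 4 = ⊥ := by
    have h1 := Cfsg.Agent.Lib.helper79.h79_px_card 3 4 hG x hC (by norm_num) 4 (by norm_num)
      (by norm_num)
    exact Subgroup.card_eq_one.mp (by rw [h1]; norm_num)
  have hsmall : ∀ H : Subgroup G, Nat.card H ≤ 9 →
      ∃ T : Finset G, T.card ≤ 2 ∧ Subgroup.closure (T : Set G) = H := by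
    intro H hH
    have hdvd : Nat.card H ∣ 3 ^ 4 := hG ▸ Subgroup.card_subgroup_dvd_card H
    obtain ⟨k, hk, hk2⟩ := (Nat.dvd_prime_pow (by norm_num : Nat.Prime 3)).mp hdvd
    have hk' : k ≤ 2 := by
      by_contra hcon
      have h3 : 3 ^ 3 ≤ 3 ^ k := Nat.pow_le_pow_right (by norm_num) (by omega)
      rw [hk2] at hH
      omega
    obtain ⟨T, hT, hcl⟩ := Cfsg.Agent.Lib.helper12.h12_pgroup_gens 3 k H hk2
    exact ⟨T, hT.trans hk', hcl⟩
  intro H
  by_cases hH2 : H ≤ gam G 2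
  · exact hsmall H (by rw [← hP2]; exact Subgroup.card_le_of_le hH2)
  obtain ⟨h, hhH, hh2⟩ := SetLike.not_le_iff_exists.mp hH2
  by_cases hCh : Nat.card (Subgroup.centralizer ({h} : Set G)) = 3 ^ 2
  · exact hUNIF h hCh H hhH
  by_cases htop : H ⊔ gam G 2 = ⊤
  · have hHtop := hFRAT H htop
    exact hUNIF x hC H (by rw [hHtop]; exact Subgroup.mem_top x)
  -- `h` centralizes `P_2`
  have hcomm : ∀ v ∈ gam G 2, v * h = h * v := by
    intro v hv
    have h1 := hNON h hh2 hCh v hv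
    rw [hP4, Subgroup.mem_bot] at h1
    have h2 : h * v * com v h = h * v := by rw [h1, mul_one]
    rw [← h2]
    simp only [com]
    group
  have hP2ab : ∀ a ∈ gam G 2, ∀ b ∈ gam G 2, a * b = b * a := by
    intro a ha b hb
    have h1 := IsPGroup.commutative_of_card_eq_prime_sq (p := 3) (G := gam G 2)
      (by rw [hP2]; norm_num) ⟨a, ha⟩ ⟨b, hb⟩
    exact congrArg Subtype.val h1
  -- the abelian subgroup `M`
  have hS0 : ∀ s ∈ ({h} ∪ (gam G 2 : Set G) : Set G), ∀ t ∈ ({h} ∪ (gam G 2 : Set G) : Set G),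
      s * t = t * s := by
    intro s hs t ht
    rcases hs with hs | hs <;> rcases ht with ht | ht
    · rw [Set.mem_singleton_iff.mp hs, Set.mem_singleton_iff.mp ht]
    · rw [Set.mem_singleton_iff.mp hs]; exact (hcomm t ht).symm
    · rw [Set.mem_singleton_iff.mp ht]; exact hcomm s hs
    · exact hP2ab s hs t ht
  have hM1 : Subgroup.closure ({h} ∪ (gam G 2 : Set G) : Set G)
      ≤ Subgroup.centralizer ({h} ∪ (gam G 2 : Set G) : Set G) := by
    rw [Subgroup.closure_le]
    intro s hs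
    rw [SetLike.mem_coe, Subgroup.mem_centralizer_iff]
    intro t ht
    exact hS0 t ht s hs
  have hMab : ∀ a ∈ Subgroup.closure ({h} ∪ (gam G 2 : Set G) : Set G),
      ∀ b ∈ Subgroup.closure ({h} ∪ (gam G 2 : Set G) : Set G), a * b = b * a := by
    have hM2 : Subgroup.closure ({h} ∪ (gam G 2 : Set G) : Set G)
        ≤ Subgroup.centralizer (Subgroup.closure ({h} ∪ (gam G 2 : Set G) : Set G) : Set G) := by
      rw [Subgroup.closure_le]
      intro s hs
      rw [SetLike.mem_coe, Subgroup.mem_centralizer_iff]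
      intro m hm
      have h1 := hM1 hm
      rw [Subgroup.mem_centralizer_iff] at h1
      exact (h1 s hs).symm
    intro a ha b hb
    have h1 := hM2 hb
    rw [Subgroup.mem_centralizer_iff] at h1
    exact h1 a ha
  have hhM : h ∈ Subgroup.closure ({h} ∪ (gam G 2 : Set G) : Set G) :=
    Subgroup.subset_closure (Or.inl rfl)
  have hPM : gam G 2 ≤ Subgroup.closure ({h} ∪ (gam G 2 : Set G) : Set G) :=
    fun v hv => Subgroup.subset_closure (Or.inr hv)
  have hMN : Subgroup.closure ({h} ∪ (gam G 2 : Set G) : Set G) ≤ H ⊔ gam G 2 := by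
    rw [Subgroup.closure_le]
    intro s hs
    rcases hs with hs | hs
    · rw [Set.mem_singleton_iff.mp hs]; exact (le_sup_left : H ≤ H ⊔ gam G 2) hhH
    · exact (le_sup_right : gam G 2 ≤ H ⊔ gam G 2) hs
  have hN81 : Nat.card (H ⊔ gam G 2 : Subgroup G) ≠ 81 := by
    intro h81
    apply htop
    apply Subgroup.eq_top_of_card_eq
    rw [h81, hG]
    norm_num
  have hlt : 9 < Nat.card (Subgroup.closure ({h} ∪ (gam G 2 : Set G) : Set G)) := by
    by_contra hcon
    have h1 := Subgroup.eq_of_le_of_card_ge hPM (by rw [hP2]; exact not_lt.mp hcon)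
    exact hh2 (h1 ▸ hhM)
  have hle : Nat.card (Subgroup.closure ({h} ∪ (gam G 2 : Set G) : Set G))
      ≤ Nat.card (H ⊔ gam G 2 : Subgroup G) := Subgroup.card_le_of_le hMN
  have hN27 : Nat.card (H ⊔ gam G 2 : Subgroup G) = 27 := by
    rcases h66_n4_pow hG (H ⊔ gam G 2) with h | h | h | h | h <;> omega
  have hM27 : Nat.card (Subgroup.closure ({h} ∪ (gam G 2 : Set G) : Set G)) = 27 := by
    rcases h66_n4_pow hG (Subgroup.closure ({h} ∪ (gam G 2 : Set G) : Set G)) with
      h | h | h | h | h <;> omega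
  have hMeq : Subgroup.closure ({h} ∪ (gam G 2 : Set G) : Set G) = H ⊔ gam G 2 :=
    Subgroup.eq_of_le_of_card_ge hMN (by rw [hN27, hM27])
  have hHM : H ≤ Subgroup.closure ({h} ∪ (gam G 2 : Set G) : Set G) := by
    rw [hMeq]; exact le_sup_left
  by_cases hH9 : Nat.card H ≤ 9
  · exact hsmall H hH9
  have hH27 : Nat.card H = 27 := by
    have h1 : Nat.card H ≤ 27 := hM27 ▸ Subgroup.card_le_of_le hHM
    rcases h66_n4_pow hG H with h | h | h | h | h <;> omega
  by_cases hex : ∃ a ∈ H, a ^ 3 ≠ 1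
  · obtain ⟨a, ha, ha3⟩ := hex
    exact h66_n4_gen27 hG H hH27 a ha ha3
  · exfalso
    apply hM
    refine ⟨H, hH27, fun a ha b hb => hMab a (hHM ha) b (hHM hb), fun a ha => ?_⟩
    by_contra ha3
    exact hex ⟨a, ha, ha3⟩

end Cfsg.Agent.Lib.helper79.P3
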