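import Mathlib
import Cfsg.Agent.Lib.helper75.PQDefs
import Cfsg.Agent.Lib.helper63.PQ_NILCRIT
import Cfsg.Agent.Lib.helper18.PQ_A
import Cfsg.Agent.Lib.helper1.Coprime

/-!
# S4306 piece STEP-A (helper66): the faithful linear case, modulo the tower theorem

`PQSetup.step_faithful_core` is the skeleton statement `PQSetup.step_faithful` with the tower
theorem (`tower_thm`) as an explicit hypothesis `htower`.
-/

set_option autoImplicit false

namespace Cfsg.Agent.Lib.helper75.PQ

/-- STEP-A (core): the faithful linear case, with the tower theorem as a hypothesis. -/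
theorem PQSetup.step_faithful_core {Γ : Type*} [Group Γ] [Finite Γ] {N K H : Subgroup Γ}
    {p q : ℕ} (hS : PQSetup N K H p q) {F : Type*} [Field F] [IsAlgClosed F] {W : Type*}
    [AddCommGroup W] [Module F W] [FiniteDimensional F W] (ρ : Γ →* Module.End F W)
    (htower : ∀ (S R : Subgroup Γ) (s r : ℕ), Tower ρ K H S R p q s r → Cz S R)
    (l : ℕ) (hl : l.Prime) [CharP F l] (hlpq : ¬ l ∣ p * q)
    (hfaith : ∀ n ∈ N, ρ n = 1 → n = 1)
    (hfpfW : ∀ w : W, (∀ k ∈ K, ρ k w = w) → (∀ h ∈ H, ρ h w = w) → w = 0)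
    (hOl : ∀ T : Subgroup Γ, T ≤ N → T.Normal → IsPGroup l T → T = ⊥)
    (k m : ℕ) (hkm : (N.lowerCentralSeries k).lowerCentralSeries m = ⊥) :
    ∃ j : ℕ, N.lowerCentralSeries j = ⊥ := by
  have hF := hS.frob
  have hNn := hS.nN
  apply nilpotent_of_sylow_cz N hNn k m hkm
  intro s hs
  haveI : Fact s.Prime := ⟨hs⟩
  have hAN : K ⊔ H ≤ Subgroup.normalizer (N : Set Γ) := by
    rw [Subgroup.normalizer_eq_top_iff.mpr hNn]; exact le_top
  have hcardA : Nat.card (K ⊔ H : Subgroup Γ) = p * q := hF.card_sup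
  have hcop : (Nat.card (K ⊔ H : Subgroup Γ)).Coprime (Nat.card N) := by
    rw [hcardA]; exact hS.cop.symm
  obtain ⟨P, hP⟩ := Cfsg.Agent.Lib.helper1.exists_invariant_sylow (p := s) (K ⊔ H) N hAN hcop
    (Or.inr hS.solv)
  refine ⟨P, ?_⟩
  intro t ht hts T hTN hTn hTt
  obtain ⟨P', hP'⟩ : ∃ P' : Subgroup Γ, P' = (P : Subgroup N).map N.subtype := ⟨_, rfl⟩
  rw [← hP'] at hP ⊢
  have hP'N : P' ≤ N := by rw [hP']; exact Subgroup.map_subtype_le _
  have hP's : IsPGroup s P' := by rw [hP']; exact P.isPGroup'.map N.subtype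
  have hbotL : ∀ X : Subgroup Γ, Cz (⊥ : Subgroup Γ) X := by
    intro X x hx y _
    rw [Subgroup.mem_bot] at hx
    rw [hx, one_mul, mul_one]
  have hbotR : ∀ X : Subgroup Γ, Cz X (⊥ : Subgroup Γ) := by
    intro X x _ y hy
    rw [Subgroup.mem_bot] at hy
    rw [hy, one_mul, mul_one]
  by_cases htl : t = l
  · subst htl
    rw [hOl T hTN hTn hTt]
    exact hbotR _
  have hcopN : ∀ u : ℕ, u.Prime → u ∣ p * q → ∀ X : Subgroup Γ, X ≤ N → IsPGroup u X →
      X = ⊥ := by
    intro u hu hupq X hXN hXu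
    haveI : Fact u.Prime := ⟨hu⟩
    obtain ⟨e, he⟩ := IsPGroup.iff_card.mp hXu
    have h1 : Nat.card X ∣ Nat.card N := Subgroup.card_dvd_of_le hXN
    rcases Nat.eq_zero_or_pos e with h0 | h0
    · rw [h0, pow_zero] at he
      exact Subgroup.card_eq_one.mp he
    · exfalso
      have h2 : u ∣ Nat.card N := dvd_trans (by rw [he]; exact dvd_pow_self u h0.ne') h1
      have h3 : u ∣ Nat.gcd (Nat.card N) (p * q) := Nat.dvd_gcd h2 hupq
      rw [Nat.Coprime.gcd_eq_one hS.cop] at h3
      exact hu.one_lt.ne' (Nat.dvd_one.mp h3)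
  by_cases hspq : s ∣ p * q
  · rw [hcopN s hs hspq P' hP'N hP's]
    exact hbotL _
  by_cases htpq : t ∣ p * q
  · rw [hcopN t ht htpq T hTN hTt]
    exact hbotR _
  have hTnorm : ∀ X : Subgroup Γ, X ≤ Subgroup.normalizer (T : Set Γ) := by
    intro X
    rw [Subgroup.normalizer_eq_top_iff.mpr hTn]; exact le_top
  apply htower P' T s t
  exact
    { hp := hF.hp
      hq := hF.hq
      hs := hs
      hr := ht
      hpq := hF.hpq
      hsr := fun h => hts h.symm
      hsp := fun h => hspq (h ▸ dvd_mul_right p q)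
      hsq := fun h => hspq (h ▸ dvd_mul_left q p)
      hrp := fun h => htpq (h ▸ dvd_mul_right p q)
      hrq := fun h => htpq (h ▸ dvd_mul_left q p)
      cardK := hF.cardK
      cardH := hF.cardH
      HK := hF.HK
      nab := hF.nab
      Sgrp := hP's
      Rgrp := hTt
      KS := le_sup_left.trans hP
      HS := le_sup_right.trans hP
      KR := hTnorm K
      HR := hTnorm H
      SR := hTnorm P'
      fpfS := fun x hx => hS.fpf x (hP'N hx)
      fpfR := fun x hx => hS.fpf x (hTN hx)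
      fpfW := hfpfW
      faith := fun x hx => hfaith x (hTN hx)
      pF := fun h => hlpq (dvd_mul_of_dvd_left ((CharP.cast_eq_zero_iff F l p).mp h) q)
      qF := fun h => hlpq (dvd_mul_of_dvd_right ((CharP.cast_eq_zero_iff F l q).mp h) p)
      rF := fun h => htl ((Nat.prime_dvd_prime_iff_eq hl ht).mp
        ((CharP.cast_eq_zero_iff F l t).mp h)).symm }

end Cfsg.Agent.Lib.helper75.PQ
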