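import Mathlib
import Cfsg.Agent.Lib.helper75.PQDefs
import Cfsg.Agent.Lib.helper66.PQ_STEPA
import Cfsg.Agent.Lib.helper18.PQ_MINV
import Cfsg.Agent.Lib.helper72.PQ_QUOT
import Cfsg.Agent.Lib.helper66.PLengthSeries

/-!
# S4306 piece STEP-B (helper66): `N / C_N(V)` is nilpotent, modulo the tower theorem, LIN and OL

`PQSetup.step_core` is the skeleton statement `PQSetup.step` with three explicit hypotheses:
`htower` (the tower theorem `tower_thm`), `hlin` (`exists_lin V hVn`) and `hol`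
(`no_normal_l V hVn hVne hVmin`), each in the exact shape of the skeleton statement.
-/

set_option autoImplicit false

namespace Cfsg.Agent.Lib.helper75.PQ

universe u

/-- STEP-B (core). -/
theorem PQSetup.step_core {Γ : Type u} [Group Γ] [Finite Γ] {N K H : Subgroup Γ} {p q : ℕ}
    (hS : PQSetup N K H p q) (V : Subgroup Γ) (hVn : V.Normal) (hVN : V ≤ N) (hVne : V ≠ ⊥)
    (hVmin : ∀ U : Subgroup Γ, U.Normal → U ≤ V → U = ⊥ ∨ U = V)
    (htower : ∀ (Γ' : Type u) [Group Γ'] [Finite Γ'] (F : Type) [Field F] [IsAlgClosed F]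
      (W : Type) [AddCommGroup W] [Module F W] [FiniteDimensional F W]
      (ρ : Γ' →* Module.End F W) (K' H' S R : Subgroup Γ') (s r : ℕ),
      Tower ρ K' H' S R p q s r → Cz S R)
    (hlin : ∀ (l : ℕ), l.Prime → (∀ v ∈ V, v ^ l = 1) →
      (∀ v ∈ V, ∀ v' ∈ V, v * v' = v' * v) →
      ∃ (F : Type) (_ : Field F) (_ : IsAlgClosed F) (_ : CharP F l) (W : Type)
        (_ : AddCommGroup W) (_ : Module F W) (_ : FiniteDimensional F W)
        (ρ : Γ →* Module.End F W),
        (∀ g : Γ, ρ g = 1 ↔ ∀ v ∈ V, g * v = v * g) ∧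
        (∀ A : Subgroup Γ, (Nat.card A).Coprime l →
          (∀ v ∈ V, (∀ a ∈ A, a * v = v * a) → v = 1) →
          ∀ w : W, (∀ a ∈ A, ρ a w = w) → w = 0))
    (hol : ∀ (l : ℕ), l.Prime → (∀ v ∈ V, v ^ l = 1) → ∀ (L : Subgroup Γ), L.Normal →
      (∀ x ∈ L, ∃ n : ℕ, ∀ v ∈ V, x ^ (l ^ n) * v = v * x ^ (l ^ n)) →
      ∀ x ∈ L, ∀ v ∈ V, x * v = v * x)
    (ih : ∀ (Γ' : Type u) [Group Γ'] [Finite Γ'] (N' K' H' : Subgroup Γ'),
      Nat.card N' < Nat.card N → PQSetup N' K' H' p q →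
      ∃ k m : ℕ, (N'.lowerCentralSeries k).lowerCentralSeries m = ⊥) :
    ∃ j : ℕ, N.lowerCentralSeries j ≤ Subgroup.centralizer (V : Set Γ) := by
  classical
  have hF := hS.frob
  have hNn := hS.nN
  obtain ⟨l, hl, hexp, hab⟩ := minimal_normal_elementary N V hS.solv hVn hVN hVne hVmin
  haveI : Fact l.Prime := ⟨hl⟩
  -- `l` does not divide `p q`
  have hlpq : ¬ l ∣ p * q := by
    intro hd
    obtain ⟨v, hv, hv1⟩ : ∃ v ∈ V, v ≠ 1 := by
      by_contra hcon
      push Not at hcon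
      apply hVne
      rw [eq_bot_iff]
      intro v hv
      rw [Subgroup.mem_bot]
      exact hcon v hv
    have ho : orderOf v = l := orderOf_eq_prime (hexp v hv) hv1
    have h1 : l ∣ Nat.card N := by
      rw [← ho]
      have := orderOf_dvd_natCard (⟨v, hVN hv⟩ : N)
      rwa [Subgroup.orderOf_mk] at this
    have h3 : l ∣ Nat.gcd (Nat.card N) (p * q) := Nat.dvd_gcd h1 hd
    rw [Nat.Coprime.gcd_eq_one hS.cop] at h3
    exact hl.one_lt.ne' (Nat.dvd_one.mp h3)
  obtain ⟨F, iF, iAC, iCh, W, iW, iM, iFD, ρ, hρ1, hρ2⟩ := hlin l hl hexp hab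
  -- the kernel
  obtain ⟨C, hCdef⟩ : ∃ C : Subgroup Γ, C = N ⊓ Subgroup.centralizer (V : Set Γ) := ⟨_, rfl⟩
  have hCN : C ≤ N := by rw [hCdef]; exact inf_le_left
  have hCV : C ≤ Subgroup.centralizer (V : Set Γ) := by rw [hCdef]; exact inf_le_right
  have hCn : C.Normal := by
    constructor
    intro x hx g
    rw [hCdef, Subgroup.mem_inf] at hx ⊢
    refine ⟨hNn.conj_mem x hx.1 g, ?_⟩
    rw [Subgroup.mem_centralizer_iff]
    intro v hv
    have h1 : g⁻¹ * v * g ∈ V := by simpa using hVn.conj_mem v hv g⁻¹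
    have h2 := Subgroup.mem_centralizer_iff.mp hx.2 _ h1
    calc v * (g * x * g⁻¹) = g * ((g⁻¹ * v * g) * x) * g⁻¹ := by group
      _ = g * (x * (g⁻¹ * v * g)) * g⁻¹ := by rw [h2]
      _ = g * x * g⁻¹ * v := by group
  haveI := hCn
  have hVC : V ≤ C := by
    intro v hv
    rw [hCdef, Subgroup.mem_inf]
    refine ⟨hVN hv, ?_⟩
    rw [Subgroup.mem_centralizer_iff]
    intro v' hv'
    exact hab v' hv' v hv
  have hmemC : ∀ x : Γ, x ∈ N → (∀ v ∈ V, x * v = v * x) → x ∈ C := by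
    intro x hxN hx
    rw [hCdef, Subgroup.mem_inf]
    refine ⟨hxN, ?_⟩
    rw [Subgroup.mem_centralizer_iff]
    intro v hv
    exact (hx v hv).symm
  have hCcz : ∀ x ∈ C, ∀ v ∈ V, x * v = v * x := by
    intro x hx v hv
    exact (Subgroup.mem_centralizer_iff.mp (hCV hx) v hv).symm
  -- the quotient
  have hcard : Nat.card (N.map (QuotientGroup.mk' C)) < Nat.card N := by
    rw [Cfsg.Agent.Lib.helper66.card_map_mk'_eq_relIndex]
    have h1 := Subgroup.relIndex_mul_relIndex ⊥ C N bot_le hCN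
    rw [Subgroup.relIndex_bot_left, Subgroup.relIndex_bot_left] at h1
    have hC1 : 1 < Nat.card C := by
      haveI : Nontrivial C := (Subgroup.nontrivial_iff_ne_bot C).mpr (by
        intro hb
        apply hVne
        rw [eq_bot_iff, ← hb]
        exact hVC)
      exact Finite.one_lt_card
    have hpos : 0 < C.relIndex N := by
      rcases Nat.eq_zero_or_pos (C.relIndex N) with h0 | h0
      · rw [h0, mul_zero] at h1
        exact absurd h1.symm (Nat.card_pos).ne'
      · exact h0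
    rw [← h1]
    nlinarith
  have hS' := hS.quot C hCN
  obtain ⟨k, m, hkm⟩ := ih (Γ ⧸ C) _ _ _ hcard hS'
  -- the representation of the quotient
  have hker : C ≤ ρ.ker := by
    intro x hx
    rw [MonoidHom.mem_ker]
    exact (hρ1 x).mpr (hCcz x hx)
  obtain ⟨ρ', hρ'⟩ : ∃ ρ' : Γ ⧸ C →* Module.End F W, ρ' = QuotientGroup.lift C ρ hker :=
    ⟨_, rfl⟩
  have hρ'mk : ∀ g : Γ, ρ' (g : Γ ⧸ C) = ρ g := by
    intro g
    rw [hρ']
    exact QuotientGroup.lift_mk C hker g
  have hfaith : ∀ n ∈ N.map (QuotientGroup.mk' C), ρ' n = 1 → n = 1 := by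
    rintro _ ⟨n, hn, rfl⟩ h1
    rw [QuotientGroup.mk'_apply, hρ'mk] at h1
    rw [QuotientGroup.mk'_apply, QuotientGroup.eq_one_iff]
    exact hmemC n hn ((hρ1 n).mp h1)
  have hfpfW : ∀ w : W, (∀ k ∈ K.map (QuotientGroup.mk' C), ρ' k w = w) →
      (∀ h ∈ H.map (QuotientGroup.mk' C), ρ' h w = w) → w = 0 := by
    intro w hK hH
    have hcop : (Nat.card (K ⊔ H : Subgroup Γ)).Coprime l := by
      rw [hF.card_sup]
      exact ((Nat.Prime.coprime_iff_not_dvd hl).mpr hlpq).symm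
    apply hρ2 (K ⊔ H) hcop
    · intro v hv h
      exact hS.fpf v (hVN hv) (fun k hk => h k (le_sup_left (a := K) hk))
        (fun h' hh => h h' (le_sup_right (b := H) hh))
    · intro a ha
      obtain ⟨k, hk, h, hh, rfl⟩ := hF.mem_sup a ha
      have h1 : ρ k w = w := by
        have := hK (QuotientGroup.mk' C k) (Subgroup.mem_map_of_mem _ hk)
        rwa [QuotientGroup.mk'_apply, hρ'mk] at this
      have h2 : ρ h w = w := by
        have := hH (QuotientGroup.mk' C h) (Subgroup.mem_map_of_mem _ hh)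
        rwa [QuotientGroup.mk'_apply, hρ'mk] at this
      rw [map_mul, Module.End.mul_apply, h2, h1]
  have hOl : ∀ T : Subgroup (Γ ⧸ C), T ≤ N.map (QuotientGroup.mk' C) → T.Normal →
      IsPGroup l T → T = ⊥ := by
    intro T hTN hTn hTl
    have hLn : (T.comap (QuotientGroup.mk' C)).Normal := hTn.comap _
    have hL : ∀ x ∈ T.comap (QuotientGroup.mk' C), ∃ n : ℕ, ∀ v ∈ V,
        x ^ (l ^ n) * v = v * x ^ (l ^ n) := by
      intro x hx
      obtain ⟨n, hn⟩ := hTl ⟨QuotientGroup.mk' C x, hx⟩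
      refine ⟨n, ?_⟩
      have h1 : (QuotientGroup.mk' C x) ^ (l ^ n) = 1 := by
        have := congrArg Subtype.val hn
        simpa using this
      rw [← map_pow, QuotientGroup.mk'_apply, QuotientGroup.eq_one_iff] at h1
      exact hCcz _ h1
    have hcz := hol l hl hexp _ hLn hL
    rw [eq_bot_iff]
    intro t ht
    obtain ⟨n, hn, hnt⟩ := hTN ht
    have hnL : n ∈ T.comap (QuotientGroup.mk' C) := by
      rw [Subgroup.mem_comap, hnt]
      exact ht
    rw [Subgroup.mem_bot, ← hnt, QuotientGroup.mk'_apply, QuotientGroup.eq_one_iff]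
    exact hmemC n hn (hcz n hnL)
  obtain ⟨j, hj⟩ := hS'.step_faithful_core ρ'
    (fun S R s r T => htower (Γ ⧸ C) F W ρ' _ _ S R s r T) l hl hlpq hfaith hfpfW hOl k m hkm
  refine ⟨j, ?_⟩
  rw [← Subgroup.map_lowerCentralSeries, Subgroup.map_eq_bot_iff, QuotientGroup.ker_mk'] at hj
  exact hj.trans hCV

end Cfsg.Agent.Lib.helper75.PQ
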