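import Mathlib

/-! S5238 BLOCK F, sub-split `s5238c` (helper45), leaf C10 `in_E` (helper66 racing copy, prefixed). -/

namespace Cfsg.Agent.Lib.helper45.PearlC

/-- C10 IN_E, helper66 copy. -/
theorem h66_in_E {G : Type*} [Group G] [Finite G] (p : ℕ) [Fact p.Prime] (n : ℕ)
    (hG : Nat.card G = p ^ n) (E : Subgroup G) (hE : Nat.card ↥E = p ^ 3)
    (hna : ¬ IsMulCommutative ↥E) (hC : Subgroup.centralizer (E : Set G) ≤ E)
    (hCp : Nat.card ↥(Subgroup.centralizer (E : Set G)) = p)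
    (hZ : Subgroup.center G = Subgroup.centralizer (E : Set G))
    (w : G) (hw : ∀ g : G, w * g * w⁻¹ * g⁻¹ ∈ Subgroup.center G)
    (hidx : Nat.card G ≤ p * Nat.card ↥(Subgroup.centralizer ({w} : Set G)))
    (hstep : ∀ A B C : Subgroup G, C ≤ B →
      Nat.card ↥(A ⊓ B) * Nat.card ↥C ≤ Nat.card ↥(A ⊓ C) * Nat.card ↥B)
    (hcg : ∀ (D : Subgroup G), D ≤ E → Nat.card ↥E ≤ p * Nat.card ↥D → ∀ e ∈ E, e ∉ D →
      ∀ g : G, (∀ d ∈ D, d * g = g * d) → e * g = g * e →
        g ∈ Subgroup.centralizer (E : Set G))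
    (hcc : ∀ a b : G, a ∈ E → b ∈ E → a * b * a⁻¹ * b⁻¹ ∈ Subgroup.centralizer (E : Set G))
    (hpow : ∀ c : G, c ∈ Subgroup.center G → c ≠ 1 → ∀ z : G, z ∈ Subgroup.center G →
      ∃ k : ℕ, z = c ^ k)
    (hadj : ∀ (d e w c : G) (k : ℕ), (∀ g : G, c * g = g * c) → d * e * d⁻¹ * e⁻¹ = c →
      w * e * w⁻¹ * e⁻¹ = c ^ k → d * w = w * d → e * (w * (d ^ k)⁻¹) = (w * (d ^ k)⁻¹) * e) :
    w ∈ E := by
  have hp : p.Prime := Fact.out
  obtain ⟨D, hDdef⟩ : ∃ D : Subgroup G, D = E ⊓ Subgroup.centralizer ({w} : Set G) := ⟨_, rfl⟩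
  have hDE : D ≤ E := by rw [hDdef]; exact inf_le_left
  have hDw : ∀ d ∈ D, w * d = d * w := by
    intro d hd
    rw [hDdef] at hd
    exact Subgroup.mem_centralizer_iff.mp hd.2 w rfl
  -- |E| ≤ p |D|
  have hED : Nat.card ↥E ≤ p * Nat.card ↥D := by
    have h1 := hstep E ⊤ (Subgroup.centralizer ({w} : Set G)) le_top
    rw [inf_top_eq, Subgroup.card_top, ← hDdef] at h1
    have hpos : 0 < Nat.card ↥(Subgroup.centralizer ({w} : Set G)) := Nat.card_pos
    have h2 : Nat.card ↥E * Nat.card ↥(Subgroup.centralizer ({w} : Set G))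
        ≤ (p * Nat.card ↥D) * Nat.card ↥(Subgroup.centralizer ({w} : Set G)) := by
      calc Nat.card ↥E * Nat.card ↥(Subgroup.centralizer ({w} : Set G))
          ≤ Nat.card ↥D * Nat.card G := h1
        _ ≤ Nat.card ↥D * (p * Nat.card ↥(Subgroup.centralizer ({w} : Set G))) :=
            Nat.mul_le_mul_left _ hidx
        _ = (p * Nat.card ↥D) * Nat.card ↥(Subgroup.centralizer ({w} : Set G)) := by ring
    exact Nat.le_of_mul_le_mul_right h2 hpos
  by_cases hcase : E ≤ Subgroup.centralizer ({w} : Set G)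
  · apply hC
    rw [Subgroup.mem_centralizer_iff]
    intro h hh
    exact (Subgroup.mem_centralizer_iff.mp (hcase hh) w rfl).symm
  · obtain ⟨e, heE, hew⟩ := SetLike.not_le_iff_exists.mp hcase
    have heD : e ∉ D := by
      intro h
      rw [hDdef] at h
      exact hew h.2
    -- card D = p ^ 2
    have hDcard : Nat.card ↥D = p ^ 2 := by
      obtain ⟨j, hj, hDj⟩ := (Nat.dvd_prime_pow hp).mp (hE ▸ Subgroup.card_dvd_of_le hDE)
      rw [hE, hDj, ← pow_succ'] at hED
      have h3 : 3 ≤ j + 1 := (Nat.pow_le_pow_iff_right hp.one_lt).mp hED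
      have hj3 : j ≠ 3 := by
        intro h
        apply heD
        have hDE' : D = E := Subgroup.eq_of_le_of_card_ge hDE (by rw [hE, hDj, h])
        rw [hDE']
        exact heE
      have hj2 : j = 2 := by omega
      rw [hDj, hj2]
    have hDc : ∀ a b : ↥D, a * b = b * a :=
      (IsPGroup.isMulCommutative_of_card_eq_prime_sq hDcard).is_comm.comm
    have hDcomm : ∀ a ∈ D, ∀ b ∈ D, a * b = b * a := fun a ha b hb =>
      congrArg Subtype.val (hDc ⟨a, ha⟩ ⟨b, hb⟩)
    -- some d ∈ D does not commute with e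
    obtain ⟨d, hdD, hde⟩ : ∃ d ∈ D, d * e ≠ e * d := by
      by_contra hcon
      have hall : ∀ d ∈ D, e * d = d * e := by
        intro d hd
        by_contra h
        exact hcon ⟨d, hd, fun h' => h h'.symm⟩
      have hDle : D ≤ Subgroup.centralizer (E : Set G) := by
        intro d' hd'
        exact hcg D hDE hED e heE heD d' (fun d hd => hDcomm d hd d' hd') (hall d' hd')
      have h4 := Nat.le_of_dvd (by rw [hCp]; exact hp.pos) (Subgroup.card_dvd_of_le hDle)
      rw [hDcard, hCp] at h4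
      have h5 : p * 2 ≤ p * p := Nat.mul_le_mul_left p hp.two_le
      nlinarith [hp.pos]
    obtain ⟨c, hcdef⟩ : ∃ c : G, d * e * d⁻¹ * e⁻¹ = c := ⟨_, rfl⟩
    have hcZ : c ∈ Subgroup.center G := by
      rw [hZ, ← hcdef]
      exact hcc d e (hDE hdD) heE
    have hc1 : c ≠ 1 := by
      intro h
      apply hde
      rw [h] at hcdef
      have h6 : d * e = d * e * d⁻¹ * e⁻¹ * (e * d) := by group
      rw [h6, hcdef, one_mul]
    obtain ⟨k, hk⟩ := hpow c hcZ hc1 _ (hw e)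
    have hccomm : ∀ g : G, c * g = g * c := fun g => (Subgroup.mem_center_iff.mp hcZ g).symm
    have hge := hadj d e w c k hccomm hcdef hk (hDw d hdD).symm
    have hdk : d ^ k ∈ D := D.pow_mem hdD k
    have hgD : ∀ d' ∈ D, d' * (w * (d ^ k)⁻¹) = (w * (d ^ k)⁻¹) * d' := by
      intro d' hd'
      have h7 : d' * w = w * d' := (hDw d' hd').symm
      have h8 : d' * (d ^ k)⁻¹ = (d ^ k)⁻¹ * d' := hDcomm d' hd' _ (D.inv_mem hdk)
      rw [← mul_assoc, h7, mul_assoc, h8, mul_assoc]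
    have hgE : w * (d ^ k)⁻¹ ∈ E := hC (hcg D hDE hED e heE heD _ hgD hge)
    have h9 : w = w * (d ^ k)⁻¹ * d ^ k := by group
    rw [h9]
    exact E.mul_mem hgE (hDE hdk)

end Cfsg.Agent.Lib.helper45.PearlC
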