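import Mathlib
import Cfsg.Agent.Lib.helper68.HallPet
import Cfsg.Agent.Lib.helper65.PearlDefs
import Cfsg.Agent.Lib.helper65.PearlBasic

/-! S5238L (helper65), piece Q: core of `q_claim` with the statements D1, I1, S, U as hypotheses (helper66). -/

set_option autoImplicit false

namespace Cfsg.Agent.Lib.helper65.PearlPow

open Cfsg.Agent.Lib.helper68

variable {H : Type*} [Group H]

/-- The core of Q: the four used statements as hypotheses (for this `H`, `x`, `g`, `w`). -/
theorem h66_q_claim_core (x g : H) {w : ℕ} (hw : 1 ≤ w) (hg : g ∈ gam H w)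
    (hD1 : ∀ {u v : ℕ} {s s' : ℕ → H}, PolySeq v s → Rel u s s' → Rel (u + 1) (dl s) (dl s'))
    (hI1 : ∀ {v j : ℕ} {s : ℕ → H} {y : H}, PolySeq v s → y ∈ gam H j →
      Rel (v + 1 + j) (dl s) (dl (fun n => s n * y)))
    (hS : ∀ j : ℕ, Rel (w + j + 2) ((ph x)^[j] (dl (tt x g))) (dl ((ph x)^[j] (tt x g))))
    (hU : ∀ j : ℕ, Rel (w + j + 2) (fun n => (ph x)^[j + 1] (tt x g) n * yk x (com x g) j)
      ((ph x)^[j] (dl (tt x g))))
    (k : ℕ) :
    Rel (w + k + 2) (fun n => (ph x)^[k + 1] (tt x g) n * yk x (com x g) k)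
      (dl^[k + 1] (tt x g)) := by
  induction k with
  | zero =>
    apply rel_of_eq
    show (fun n => ph x (tt x g) n * com x g) = dl (tt x g)
    rw [dl_tt]
  | succ k ih =>
    -- the sequence `A_k`
    have hs : PolySeq (w + k + 1) ((ph x)^[k + 1] (tt x g)) := by
      have h := polyseq_ph_iter x (tt_polyseq x g hg) (k + 1)
      exact PolySeq.mono (by omega) h
    have hy : yk x (com x g) k ∈ gam H (w + 1 + k) := yk_mem x g hg k
    have hA : PolySeq (w + k + 1) (fun n => (ph x)^[k + 1] (tt x g) n * yk x (com x g) k) :=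
      PolySeq.mul hs (PolySeq.mono (by omega) (polyseq_const hy))
    -- (1)
    have h1 : Rel (w + k + 3) (dl (fun n => (ph x)^[k + 1] (tt x g) n * yk x (com x g) k))
        (dl^[k + 1 + 1] (tt x g)) := by
      have h := hD1 hA ih
      rw [Function.iterate_succ_apply' dl (k + 1)]
      exact h
    -- (2)
    have h2 : Rel (w + k + 3) (dl ((ph x)^[k + 1] (tt x g)))
        (dl (fun n => (ph x)^[k + 1] (tt x g) n * yk x (com x g) k)) :=
      rel_mono (by omega) (hI1 hs hy)
    -- (3)
    have h3 : Rel (w + k + 3) ((ph x)^[k + 1] (dl (tt x g))) (dl ((ph x)^[k + 1] (tt x g))) :=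
      hS (k + 1)
    -- (4)
    have h4 : Rel (w + k + 3) (fun n => (ph x)^[k + 1 + 1] (tt x g) n * yk x (com x g) (k + 1))
        ((ph x)^[k + 1] (dl (tt x g))) := hU (k + 1)
    exact rel_trans h4 (rel_trans h3 (rel_trans h2 h1))

end Cfsg.Agent.Lib.helper65.PearlPow
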