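import Mathlib
import Cfsg.Agent.Lib.helper68.HallPet
import Cfsg.Agent.Lib.helper65.PearlDefs
import Cfsg.Agent.Lib.helper65.PearlBasic
import Cfsg.Agent.Lib.helper43.PearlD1
import Cfsg.Agent.Lib.helper43.PearlD2
import Cfsg.Agent.Lib.helper98.PearlI1
import Cfsg.Agent.Lib.helper58.PearlI3
import Cfsg.Agent.Lib.helper66.PearlQcore

/-! S5238L (helper65), helper66 racing copies (all names prefixed `h66_`) of the pieces I2 (`rel_dl_ph`),
S (`s_claim`), U (`u_claim`) and Q (`q_claim`), over the landed D1, D2, I1, I3. -/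

set_option autoImplicit false

namespace Cfsg.Agent.Lib.helper65.PearlPow

open Cfsg.Agent.Lib.helper68

variable {H : Type*} [Group H]

/-- I2, helper66 copy. -/
theorem h66_rel_dl_ph {v : ℕ} (x : H) {s : ℕ → H} (hs : PolySeq v s) :
    Rel (2 * v + 2) (ph x (dl s)) (dl (ph x s)) := by
  unfold Rel
  have he : PolySeq (2 * v + 2) (fun n => com (ph x s n) (dl s n)) := by
    have h1 : PolySeq (v + 1) (ph x s) := polyseq_ph x hs
    have h2 : PolySeq (v + 1) (dl s) := PolySeq.diff hs
    exact PolySeq.mono (by omega) (PolySeq.comm h1 h2)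
  have ha : PolySeq (v + 1 + 1) (ph x (dl s)) := polyseq_ph x (PolySeq.diff hs : PolySeq (v + 1) (dl s))
  have h := polyseq_conj he ha
  have e : (fun n => (ph x (dl s) n)⁻¹ * dl (ph x s) n)
      = fun n => (ph x (dl s) n)⁻¹ * com (ph x s n) (dl s n) * ph x (dl s) n := by
    funext n
    unfold dl ph com
    group
  rw [e]
  exact h

/-- S, helper66 copy. -/
theorem h66_s_claim (x g : H) {w : ℕ} (hw : 1 ≤ w) (hg : g ∈ gam H w) (j : ℕ) :
    Rel (w + j + 2) ((ph x)^[j] (dl (tt x g))) (dl ((ph x)^[j] (tt x g))) := by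
  induction j with
  | zero => exact rel_refl _ _
  | succ j ih =>
    have hdl : PolySeq (w + 1) (dl (tt x g)) := PolySeq.diff (tt_polyseq x g hg)
    have hs : PolySeq (w + 1 + j) ((ph x)^[j] (dl (tt x g))) := polyseq_ph_iter x hdl j
    have h1 : Rel (w + j + 3) (ph x ((ph x)^[j] (dl (tt x g)))) (ph x (dl ((ph x)^[j] (tt x g)))) :=
      rel_ph x hs ih
    have hs' : PolySeq (w + j) ((ph x)^[j] (tt x g)) := polyseq_ph_iter x (tt_polyseq x g hg) j
    have h2 : Rel (w + j + 3) (ph x (dl ((ph x)^[j] (tt x g)))) (dl (ph x ((ph x)^[j] (tt x g)))) :=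
      rel_mono (by omega) (h66_rel_dl_ph x hs')
    rw [Function.iterate_succ_apply' (ph x) j (dl (tt x g)),
      Function.iterate_succ_apply' (ph x) j (tt x g)]
    exact rel_trans h1 h2

/-- U, helper66 copy. -/
theorem h66_u_claim (x g : H) {w : ℕ} (hw : 1 ≤ w) (hg : g ∈ gam H w) (j : ℕ) :
    Rel (w + j + 2) (fun n => (ph x)^[j + 1] (tt x g) n * yk x (com x g) j)
      ((ph x)^[j] (dl (tt x g))) := by
  induction j with
  | zero =>
    apply rel_of_eq
    show (fun n => ph x (tt x g) n * com x g) = dl (tt x g)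
    rw [dl_tt]
  | succ j ih =>
    have hs : PolySeq (w + j + 1) ((ph x)^[j + 1] (tt x g)) :=
      PolySeq.mono (by omega) (polyseq_ph_iter x (tt_polyseq x g hg) (j + 1))
    have hy : yk x (com x g) j ∈ gam H (w + 1 + j) := yk_mem x g hg j
    have hB : PolySeq (w + j + 1) (fun n => (ph x)^[j + 1] (tt x g) n * yk x (com x g) j) :=
      PolySeq.mul hs (PolySeq.mono (by omega) (polyseq_const hy))
    have h1 : Rel (w + j + 3) (ph x (fun n => (ph x)^[j + 1] (tt x g) n * yk x (com x g) j))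
        (ph x ((ph x)^[j] (dl (tt x g)))) := rel_ph x hB ih
    have h2 : Rel (w + j + 3)
        (fun n => ph x ((ph x)^[j + 1] (tt x g)) n * com (yk x (com x g) j) x)
        (ph x (fun n => (ph x)^[j + 1] (tt x g) n * yk x (com x g) j)) :=
      rel_mono (by omega) (rel_ph_mul_const x hs hy)
    have h3 := rel_trans h2 h1
    rw [Function.iterate_succ_apply' (ph x) (j + 1) (tt x g),
      Function.iterate_succ_apply' (ph x) j (dl (tt x g))]
    exact h3

/-- Q, helper66 copy. -/
theorem h66_q_claim (x g : H) {w : ℕ} (hw : 1 ≤ w) (hg : g ∈ gam H w) (k : ℕ) :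
    Rel (w + k + 2) (fun n => (ph x)^[k + 1] (tt x g) n * yk x (com x g) k)
      (dl^[k + 1] (tt x g)) :=
  h66_q_claim_core x g hw hg (fun hs h => rel_dl hs h) (fun hs hy => rel_dl_mul_const hs hy)
    (fun j => h66_s_claim x g hw hg j) (fun j => h66_u_claim x g hw hg j) k

end Cfsg.Agent.Lib.helper65.PearlPow
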