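import Mathlib
import Cfsg.Agent.Lib.helper44.PresDefs
import Cfsg.Agent.Lib.helper79.PresHC
import Cfsg.Agent.Lib.helper77.PresMATa
import Cfsg.Agent.Lib.helper6.PresPARA
import Cfsg.Agent.Lib.helper6.PresPARB

/-! S2286 piece OG, core: `sl_psl_generic_field` with the generic odd theorems (GSL, GPSL) and the
two MATb facts about `mT F * mT F` as hypotheses. -/

set_option autoImplicit false

namespace Cfsg.Agent.Lib.helper44.Pres

open Polynomial
open scoped commutatorElement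

theorem h66_exists_gen (F : Type*) [Field F] [Fintype F] :
    ∃ ζ : Fˣ, ∀ y : Fˣ, y ∈ Subgroup.zpowers ζ :=
  IsCyclic.exists_generator

theorem h66_lift_gu {G : Type*} [Group G] (u t h : G) : FreeGroup.lift ![u, t, h] gu = u := by
  simp [gu]

theorem h66_lift_gt {G : Type*} [Group G] (u t h : G) : FreeGroup.lift ![u, t, h] gt = t := by
  simp [gt]

theorem h66_lift_gh {G : Type*} [Group G] (u t h : G) : FreeGroup.lift ![u, t, h] gh = h := by
  simp [gh]

theorem h66_mU_zero (F : Type*) [Field F] : mU F 0 = 1 := by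
  ext i j
  fin_cases i <;> fin_cases j <;> simp [mU]

theorem h66_mU_pow_char {F : Type*} [Field F] {p : ℕ} [Fact p.Prime] [Algebra (ZMod p) F] :
    mU F 1 ^ p = 1 := by
  have h0 : ((p : ℕ) : F) = 0 := by
    have h1 := map_natCast (algebraMap (ZMod p) F) p
    rw [ZMod.natCast_self, map_zero] at h1
    exact h1.symm
  have h2 : mU F 1 ^ p = mU F (p • (1 : F)) := mU_pow (1 : F) p
  rw [h2, nsmul_one, h0, h66_mU_zero]

theorem h66_mU_comm {F : Type*} [Field F] (a b : F) : Commute (mU F a) (mU F b) := by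
  show mU F a * mU F b = mU F b * mU F a
  rw [mU_mul, mU_mul, add_comm]

theorem h66_rel2 {F : Type*} [Field F] (ζ : Fˣ) (i : ℕ) :
    ⁅mU F 1, mH ζ ^ i * mU F 1 * (mH ζ ^ i)⁻¹⁆ = 1 := by
  rw [mH_pow_conj, commutatorElement_eq_one_iff_commute]
  exact h66_mU_comm _ _

theorem h66_rel3 {F : Type*} [Field F] (ζ : Fˣ) (i j : ℕ)
    (hij : ((ζ : F) ^ 2) ^ j = 1 + ((ζ : F) ^ 2) ^ i) :
    mH ζ ^ j * mU F 1 * (mH ζ ^ j)⁻¹ * (mU F 1 * (mH ζ ^ i * mU F 1 * (mH ζ ^ i)⁻¹))⁻¹ = 1 := by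
  rw [mH_pow_conj, mH_pow_conj, mU_mul, mul_one, mul_one, hij, mul_inv_cancel]

theorem h66_odd_card {F : Type*} [Fintype F] {p : ℕ} [Fact p.Prime] (hp2 : p ≠ 2) (e : ℕ)
    (he : Fintype.card F = p ^ e) : Odd (Fintype.card F) := by
  rw [he]
  exact ((Fact.out : p.Prime).odd_of_ne_two hp2).pow

-- OG (core)
theorem h66_og_core {F : Type*} [Field F] [Fintype F] {p : ℕ} [Fact p.Prime]
    [Algebra (ZMod p) F] (hp2 : p ≠ 2) (e : ℕ) (he : Fintype.card F = p ^ e) (he2 : 2 ≤ e)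
    (h9 : Fintype.card F ≠ 9)
    (hGSL : ∀ (ζ : Fˣ), (∀ y : Fˣ, y ∈ Subgroup.zpowers ζ) → ∀ (i : ℕ),
      Algebra.adjoin (ZMod p) {((ζ : F) ^ 2) ^ i} = ⊤ →
      ∀ (extra : List (FreeGroup (Fin 3))), extra.length ≤ 3 →
      (∀ r ∈ extra, FreeGroup.lift ![mU F 1, mT F, mH ζ] r = 1) →
      (∀ (G : Type) [Group G] (u t h : G),
        polyWord (h ^ i) u (minpoly (ZMod p) (((ζ : F) ^ 2) ^ i)) = 1 →
        (∀ r ∈ extra, FreeGroup.lift ![u, t, h] r = 1) →
        u ^ p = 1 ∧ ∀ n : ℕ, Commute u ((h ^ i) ^ n * u * ((h ^ i) ^ n)⁻¹)) →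
      ∃ rels : Finset (FreeGroup (Fin 3)), rels.card ≤ 9 ∧
        Nonempty (PresentedGroup (↑rels : Set (FreeGroup (Fin 3))) ≃*
          Matrix.SpecialLinearGroup (Fin 2) F))
    (hGPSL : ∀ (ζ : Fˣ), (∀ y : Fˣ, y ∈ Subgroup.zpowers ζ) → ∀ (i : ℕ),
      Algebra.adjoin (ZMod p) {((ζ : F) ^ 2) ^ i} = ⊤ →
      ∀ (extra : List (FreeGroup (Fin 3))), extra.length ≤ 3 →
      (∀ r ∈ extra, FreeGroup.lift ![mU F 1, mT F, mH ζ] r ∈
        Subgroup.center (Matrix.SpecialLinearGroup (Fin 2) F)) →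
      (∀ (G : Type) [Group G] (u t h : G),
        polyWord (h ^ i) u (minpoly (ZMod p) (((ζ : F) ^ 2) ^ i)) = 1 →
        (∀ r ∈ extra, FreeGroup.lift ![u, t, h] r = 1) →
        u ^ p = 1 ∧ h ^ ((Fintype.card F - 1) / 2) = 1 ∧
          ∀ n : ℕ, Commute u ((h ^ i) ^ n * u * ((h ^ i) ^ n)⁻¹)) →
      ∃ rels : Finset (FreeGroup (Fin 3)), rels.card ≤ 9 ∧
        Nonempty (PresentedGroup (↑rels : Set (FreeGroup (Fin 3))) ≃*
          Matrix.ProjectiveSpecialLinearGroup (Fin 2) F))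
    (hTsq : ∀ (ζ : Fˣ), (∀ y : Fˣ, y ∈ Subgroup.zpowers ζ) →
      mT F * mT F = mH ζ ^ ((Fintype.card F - 1) / 2))
    (hTc : mT F * mT F ∈ Subgroup.center (Matrix.SpecialLinearGroup (Fin 2) F)) :
    (∃ rels : Finset (FreeGroup (Fin 3)), rels.card ≤ 9 ∧
      Nonempty (PresentedGroup (↑rels : Set (FreeGroup (Fin 3))) ≃*
        Matrix.SpecialLinearGroup (Fin 2) F)) ∧
    (∃ rels : Finset (FreeGroup (Fin 3)), rels.card ≤ 9 ∧
      Nonempty (PresentedGroup (↑rels : Set (FreeGroup (Fin 3))) ≃*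
        Matrix.ProjectiveSpecialLinearGroup (Fin 2) F)) := by
  obtain ⟨ζ, hζ⟩ := h66_exists_gen F
  obtain ⟨i, j, hij, hμ⟩ := exists_pair hp2 e he he2 h9 ζ hζ
  constructor
  · -- SL
    refine hGSL ζ hζ i hμ
      [gu ^ p, ⁅gu, gh ^ i * gu * (gh ^ i)⁻¹⁆,
        gh ^ j * gu * (gh ^ j)⁻¹ * (gu * (gh ^ i * gu * (gh ^ i)⁻¹))⁻¹] (by simp) ?_ ?_
    · intro r hr
      simp only [List.mem_cons, List.not_mem_nil, or_false] at hr
      rcases hr with rfl | rfl | rfl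
      · rw [map_pow, h66_lift_gu]; exact h66_mU_pow_char
      · rw [map_commutatorElement, map_mul, map_mul, map_inv, map_pow, h66_lift_gu, h66_lift_gh]
        exact h66_rel2 ζ i
      · simp only [map_mul, map_inv, map_pow, h66_lift_gu, h66_lift_gh]
        exact h66_rel3 ζ i j hij
    · intro G _ u t h _ hrel
      have h1 := hrel (gu ^ p) (by simp)
      have h2 := hrel ⁅gu, gh ^ i * gu * (gh ^ i)⁻¹⁆ (by simp)
      have h3 := hrel (gh ^ j * gu * (gh ^ j)⁻¹ * (gu * (gh ^ i * gu * (gh ^ i)⁻¹))⁻¹) (by simp)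
      rw [map_pow, h66_lift_gu] at h1
      rw [map_commutatorElement, map_mul, map_mul, map_inv, map_pow, h66_lift_gu, h66_lift_gh,
        commutatorElement_eq_one_iff_commute] at h2
      simp only [map_mul, map_inv, map_pow, h66_lift_gu, h66_lift_gh] at h3
      rw [mul_inv_eq_one] at h3
      exact ⟨h1, comm_trick u (h ^ i) (h ^ j) ((Commute.refl h).pow_pow i j) h2 h3⟩
  · -- PSL
    refine hGPSL ζ hζ i hμ
      [gu ^ p * (gh ^ ((Fintype.card F - 1) / 2))⁻¹, ⁅gu, gh ^ i * gu * (gh ^ i)⁻¹⁆,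
        gh ^ j * gu * (gh ^ j)⁻¹ * (gu * (gh ^ i * gu * (gh ^ i)⁻¹))⁻¹] (by simp) ?_ ?_
    · intro r hr
      simp only [List.mem_cons, List.not_mem_nil, or_false] at hr
      rcases hr with rfl | rfl | rfl
      · rw [map_mul, map_inv, map_pow, map_pow, h66_lift_gu, h66_lift_gh, h66_mU_pow_char,
          one_mul, ← hTsq ζ hζ]
        exact Subgroup.inv_mem _ hTc
      · rw [map_commutatorElement, map_mul, map_mul, map_inv, map_pow, h66_lift_gu, h66_lift_gh,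
          h66_rel2 ζ i]
        exact Subgroup.one_mem _
      · simp only [map_mul, map_inv, map_pow, h66_lift_gu, h66_lift_gh]
        rw [h66_rel3 ζ i j hij]
        exact Subgroup.one_mem _
    · intro G _ u t h _ hrel
      have h1 := hrel (gu ^ p * (gh ^ ((Fintype.card F - 1) / 2))⁻¹) (by simp)
      have h2 := hrel ⁅gu, gh ^ i * gu * (gh ^ i)⁻¹⁆ (by simp)
      have h3 := hrel (gh ^ j * gu * (gh ^ j)⁻¹ * (gu * (gh ^ i * gu * (gh ^ i)⁻¹))⁻¹) (by simp)
      rw [map_mul, map_inv, map_pow, map_pow, h66_lift_gu, h66_lift_gh, mul_inv_eq_one] at h1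
      rw [map_commutatorElement, map_mul, map_mul, map_inv, map_pow, h66_lift_gu, h66_lift_gh,
        commutatorElement_eq_one_iff_commute] at h2
      simp only [map_mul, map_inv, map_pow, h66_lift_gu, h66_lift_gh] at h3
      rw [mul_inv_eq_one] at h3
      have hc : h ^ ((Fintype.card F - 1) / 2) = 1 :=
        eq_one_of_merge u (h ^ i) (h ^ j) (h ^ ((Fintype.card F - 1) / 2)) p h1 h2 h3
          ((Commute.refl h).pow_pow _ i) ((Commute.refl h).pow_pow _ j)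
      exact ⟨h1.trans hc, hc,
        comm_trick u (h ^ i) (h ^ j) ((Commute.refl h).pow_pow i j) h2 h3⟩

end Cfsg.Agent.Lib.helper44.Pres
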