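import Mathlib
import Cfsg.Agent.Lib.helper44.PresDefs
import Cfsg.Agent.Lib.helper66.PresOGcore

/-! S2286 piece O9, core: `sl_psl_nine` with the generic odd theorems (GSL, GPSL) and the two MATb
facts about `mT F * mT F` as hypotheses. -/

set_option autoImplicit false

namespace Cfsg.Agent.Lib.helper44.Pres

open Polynomial
open scoped commutatorElement

theorem h66_deg_two_core {G : Type*} [Group G] (u g : G) (m : (ZMod 3)[X]) (hm : m.Monic)
    (hd1 : 1 ≤ m.natDegree) (hd2 : m.natDegree ≤ 2) (hrel : polyWord g u m = 1) :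
    g ^ 2 * u * (g ^ 2)⁻¹ ∈ Subgroup.closure {u, g * u * g⁻¹} := by
  have hu : u ∈ Subgroup.closure ({u, g * u * g⁻¹} : Set G) :=
    Subgroup.subset_closure (Set.mem_insert _ _)
  have hgu : g * u * g⁻¹ ∈ Subgroup.closure ({u, g * u * g⁻¹} : Set G) :=
    Subgroup.subset_closure (Set.mem_insert_of_mem _ rfl)
  have hone : ((1 : ZMod 3)).val = 1 := rfl
  rcases (by omega : m.natDegree = 1 ∨ m.natDegree = 2) with hd | hd
  · have hc : (m.coeff 1).val = 1 := by
      have : m.coeff 1 = 1 := by rw [← hd]; exact hm.coeff_natDegree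
      rw [this, hone]
    unfold polyWord at hrel
    rw [hd] at hrel
    have hr : List.range (1 + 1) = [0, 1] := rfl
    rw [hr] at hrel
    simp only [List.map_cons, List.map_nil, List.prod_cons, List.prod_nil, pow_zero, one_mul,
      inv_one, mul_one, hc, pow_one] at hrel
    have e1 : g * u * g⁻¹ = (u ^ (m.coeff 0).val)⁻¹ := eq_inv_of_mul_eq_one_right hrel
    have e2 : g ^ 2 * u * (g ^ 2)⁻¹ = ((g * u * g⁻¹) ^ (m.coeff 0).val)⁻¹ := by
      calc g ^ 2 * u * (g ^ 2)⁻¹ = g * (g * u * g⁻¹) * g⁻¹ := by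
            rw [pow_two, mul_inv_rev]; simp only [mul_assoc]
        _ = g * (u ^ (m.coeff 0).val)⁻¹ * g⁻¹ := by rw [e1]
        _ = (g * u ^ (m.coeff 0).val * g⁻¹)⁻¹ := by group
        _ = ((g * u * g⁻¹) ^ (m.coeff 0).val)⁻¹ := by rw [conj_pow]
    rw [e2]
    exact Subgroup.inv_mem _ (Subgroup.pow_mem _ hgu _)
  · have hc : (m.coeff 2).val = 1 := by
      have : m.coeff 2 = 1 := by rw [← hd]; exact hm.coeff_natDegree
      rw [this, hone]
    unfold polyWord at hrel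
    rw [hd] at hrel
    have hr : List.range (2 + 1) = [0, 1, 2] := rfl
    rw [hr] at hrel
    simp only [List.map_cons, List.map_nil, List.prod_cons, List.prod_nil, pow_zero, one_mul,
      inv_one, mul_one, hc, pow_one] at hrel
    have e1 : g ^ 2 * u * (g ^ 2)⁻¹ =
        (u ^ (m.coeff 0).val * (g * u * g⁻¹) ^ (m.coeff 1).val)⁻¹ :=
      eq_inv_of_mul_eq_one_right (by rw [mul_assoc]; exact hrel)
    rw [e1]
    exact Subgroup.inv_mem _ (Subgroup.mul_mem _ (Subgroup.pow_mem _ hu _)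
      (Subgroup.pow_mem _ hgu _))

-- O9 (core)
theorem h66_o9_core {F : Type*} [Field F] [Fintype F] [Fact (Nat.Prime 3)]
    [Algebra (ZMod 3) F] (he : Fintype.card F = 9)
    (hGSL : ∀ (ζ : Fˣ), (∀ y : Fˣ, y ∈ Subgroup.zpowers ζ) → ∀ (i : ℕ),
      Algebra.adjoin (ZMod 3) {((ζ : F) ^ 2) ^ i} = ⊤ →
      ∀ (extra : List (FreeGroup (Fin 3))), extra.length ≤ 3 →
      (∀ r ∈ extra, FreeGroup.lift ![mU F 1, mT F, mH ζ] r = 1) →
      (∀ (G : Type) [Group G] (u t h : G),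
        polyWord (h ^ i) u (minpoly (ZMod 3) (((ζ : F) ^ 2) ^ i)) = 1 →
        (∀ r ∈ extra, FreeGroup.lift ![u, t, h] r = 1) →
        u ^ 3 = 1 ∧ ∀ n : ℕ, Commute u ((h ^ i) ^ n * u * ((h ^ i) ^ n)⁻¹)) →
      ∃ rels : Finset (FreeGroup (Fin 3)), rels.card ≤ 9 ∧
        Nonempty (PresentedGroup (↑rels : Set (FreeGroup (Fin 3))) ≃*
          Matrix.SpecialLinearGroup (Fin 2) F))
    (hGPSL : ∀ (ζ : Fˣ), (∀ y : Fˣ, y ∈ Subgroup.zpowers ζ) → ∀ (i : ℕ),
      Algebra.adjoin (ZMod 3) {((ζ : F) ^ 2) ^ i} = ⊤ →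
      ∀ (extra : List (FreeGroup (Fin 3))), extra.length ≤ 3 →
      (∀ r ∈ extra, FreeGroup.lift ![mU F 1, mT F, mH ζ] r ∈
        Subgroup.center (Matrix.SpecialLinearGroup (Fin 2) F)) →
      (∀ (G : Type) [Group G] (u t h : G),
        polyWord (h ^ i) u (minpoly (ZMod 3) (((ζ : F) ^ 2) ^ i)) = 1 →
        (∀ r ∈ extra, FreeGroup.lift ![u, t, h] r = 1) →
        u ^ 3 = 1 ∧ h ^ ((Fintype.card F - 1) / 2) = 1 ∧
          ∀ n : ℕ, Commute u ((h ^ i) ^ n * u * ((h ^ i) ^ n)⁻¹)) →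
      ∃ rels : Finset (FreeGroup (Fin 3)), rels.card ≤ 9 ∧
        Nonempty (PresentedGroup (↑rels : Set (FreeGroup (Fin 3))) ≃*
          Matrix.ProjectiveSpecialLinearGroup (Fin 2) F))
    (hTsq : ∀ (ζ : Fˣ), (∀ y : Fˣ, y ∈ Subgroup.zpowers ζ) →
      mT F * mT F = mH ζ ^ ((Fintype.card F - 1) / 2))
    (hTc : mT F * mT F ∈ Subgroup.center (Matrix.SpecialLinearGroup (Fin 2) F)) :
    (∃ rels : Finset (FreeGroup (Fin 3)), rels.card ≤ 9 ∧
      Nonempty (PresentedGroup (↑rels : Set (FreeGroup (Fin 3))) ≃*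
        Matrix.SpecialLinearGroup (Fin 2) F)) ∧
    (∃ rels : Finset (FreeGroup (Fin 3)), rels.card ≤ 9 ∧
      Nonempty (PresentedGroup (↑rels : Set (FreeGroup (Fin 3))) ≃*
        Matrix.ProjectiveSpecialLinearGroup (Fin 2) F)) := by
  obtain ⟨ζ, hζ⟩ := h66_exists_gen F
  have hμ : Algebra.adjoin (ZMod 3) {((ζ : F) ^ 2) ^ 1} = ⊤ := by
    rw [pow_one]; exact adjoin_sq_gen ζ hζ
  have hM : (Fintype.card F - 1) / 2 = 4 := by rw [he]
  have hfr : Module.finrank (ZMod 3) F = 2 := by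
    have h1 : Fintype.card F = Fintype.card (ZMod 3) ^ Module.finrank (ZMod 3) F :=
      Module.card_eq_pow_finrank
    rw [he, ZMod.card] at h1
    have h2 : (3 : ℕ) ^ 2 = 3 ^ Module.finrank (ZMod 3) F := by rw [← h1]; norm_num
    exact (Nat.pow_right_injective (by norm_num : 2 ≤ 3) h2).symm
  have hint : IsIntegral (ZMod 3) (((ζ : F) ^ 2) ^ 1) := IsIntegral.of_finite _ _
  have hmon : (minpoly (ZMod 3) (((ζ : F) ^ 2) ^ 1)).Monic := minpoly.monic hint
  have hd1 : 1 ≤ (minpoly (ZMod 3) (((ζ : F) ^ 2) ^ 1)).natDegree := minpoly.natDegree_pos hint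
  have hd2 : (minpoly (ZMod 3) (((ζ : F) ^ 2) ^ 1)).natDegree ≤ 2 := by
    rw [← hfr]; exact minpoly.natDegree_le _
  have key : ∀ (G : Type) [Group G] (u h : G),
      polyWord (h ^ 1) u (minpoly (ZMod 3) (((ζ : F) ^ 2) ^ 1)) = 1 →
      Commute u (h ^ 1 * u * (h ^ 1)⁻¹) →
      ∀ n : ℕ, Commute u ((h ^ 1) ^ n * u * ((h ^ 1) ^ n)⁻¹) := by
    intro G _ u h hG hE
    exact comm_deg_two u (h ^ 1) hE (h66_deg_two_core u (h ^ 1) _ hmon hd1 hd2 hG)
  constructor
  · -- SL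
    refine hGSL ζ hζ 1 hμ
      [gu ^ 3, ⁅gu, gh ^ 1 * gu * (gh ^ 1)⁻¹⁆] (by simp) ?_ ?_
    · intro r hr
      simp only [List.mem_cons, List.not_mem_nil, or_false] at hr
      rcases hr with rfl | rfl
      · rw [map_pow, h66_lift_gu]; exact h66_mU_pow_char
      · rw [map_commutatorElement, map_mul, map_mul, map_inv, map_pow, h66_lift_gu, h66_lift_gh]
        exact h66_rel2 ζ 1
    · intro G _ u t h hG hrel
      have h1 := hrel (gu ^ 3) (by simp)
      have h2 := hrel ⁅gu, gh ^ 1 * gu * (gh ^ 1)⁻¹⁆ (by simp)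
      rw [map_pow, h66_lift_gu] at h1
      rw [map_commutatorElement, map_mul, map_mul, map_inv, map_pow, h66_lift_gu, h66_lift_gh,
        commutatorElement_eq_one_iff_commute] at h2
      exact ⟨h1, key G u h hG h2⟩
  · -- PSL
    refine hGPSL ζ hζ 1 hμ
      [gu ^ 3, ⁅gu, gh ^ 1 * gu * (gh ^ 1)⁻¹⁆, gh ^ 4] (by simp) ?_ ?_
    · intro r hr
      simp only [List.mem_cons, List.not_mem_nil, or_false] at hr
      rcases hr with rfl | rfl | rfl
      · rw [map_pow, h66_lift_gu, h66_mU_pow_char]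
        exact Subgroup.one_mem _
      · rw [map_commutatorElement, map_mul, map_mul, map_inv, map_pow, h66_lift_gu, h66_lift_gh,
          h66_rel2 ζ 1]
        exact Subgroup.one_mem _
      · have h4 := hTsq ζ hζ
        rw [hM] at h4
        rw [map_pow, h66_lift_gh, ← h4]
        exact hTc
    · intro G _ u t h hG hrel
      have h1 := hrel (gu ^ 3) (by simp)
      have h2 := hrel ⁅gu, gh ^ 1 * gu * (gh ^ 1)⁻¹⁆ (by simp)
      have h3 := hrel (gh ^ 4) (by simp)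
      rw [map_pow, h66_lift_gu] at h1
      rw [map_commutatorElement, map_mul, map_mul, map_inv, map_pow, h66_lift_gu, h66_lift_gh,
        commutatorElement_eq_one_iff_commute] at h2
      rw [map_pow, h66_lift_gh] at h3
      rw [hM]
      exact ⟨h1, h3, key G u h hG h2⟩

end Cfsg.Agent.Lib.helper44.Pres
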