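import Mathlib
import Cfsg.Agent.Lib.helper44.PresDefs
import Cfsg.Agent.Lib.helper66.PresO9core
import Cfsg.Agent.Lib.helper44.PresGSL
import Cfsg.Agent.Lib.helper25.PresGPSL
import Cfsg.Agent.Lib.helper77.PresMATb

/-! S2286 piece O9 (`sl_psl_nine`): the instance `q = 9` of the generic odd theorems. -/

set_option autoImplicit false

namespace Cfsg.Agent.Lib.helper44.Pres

open Polynomial

-- O9
theorem sl_psl_nine {F : Type*} [Field F] [Fintype F] [Fact (Nat.Prime 3)]
    [Algebra (ZMod 3) F] (he : Fintype.card F = 9) :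
    (∃ rels : Finset (FreeGroup (Fin 3)), rels.card ≤ 9 ∧
      Nonempty (PresentedGroup (↑rels : Set (FreeGroup (Fin 3))) ≃*
        Matrix.SpecialLinearGroup (Fin 2) F)) ∧
    (∃ rels : Finset (FreeGroup (Fin 3)), rels.card ≤ 9 ∧
      Nonempty (PresentedGroup (↑rels : Set (FreeGroup (Fin 3))) ≃*
        Matrix.ProjectiveSpecialLinearGroup (Fin 2) F)) :=
  h66_o9_core he
    (fun ζ hζ i hμ extra hlen hSL hcomm =>
      sl_odd_generic (by norm_num) ζ hζ i hμ extra hlen hSL hcomm)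
    (fun ζ hζ i hμ extra hlen hPSL hcomm =>
      psl_odd_generic (by norm_num) ζ hζ i hμ extra hlen hPSL hcomm)
    (fun ζ hζ => mT_sq_eq (by rw [he]; exact ⟨4, rfl⟩) ζ hζ) mT_sq_mem_center

end Cfsg.Agent.Lib.helper44.Pres
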