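import Mathlib
import Cfsg.Agent.Lib.helper44.PresDefs
import Cfsg.Agent.Lib.helper66.PresOGcore
import Cfsg.Agent.Lib.helper44.PresGSL
import Cfsg.Agent.Lib.helper25.PresGPSL
import Cfsg.Agent.Lib.helper77.PresMATb

/-! S2286 piece OG (`sl_psl_generic_field`): the instance `q = p ^ e`, `p` odd, `e ≥ 2`, `q ≠ 9`
of the generic odd theorems. -/

set_option autoImplicit false

namespace Cfsg.Agent.Lib.helper44.Pres

open Polynomial

-- OG
theorem sl_psl_generic_field {F : Type*} [Field F] [Fintype F] {p : ℕ} [Fact p.Prime]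
    [Algebra (ZMod p) F] (hp2 : p ≠ 2) (e : ℕ) (he : Fintype.card F = p ^ e) (he2 : 2 ≤ e)
    (h9 : Fintype.card F ≠ 9) :
    (∃ rels : Finset (FreeGroup (Fin 3)), rels.card ≤ 9 ∧
      Nonempty (PresentedGroup (↑rels : Set (FreeGroup (Fin 3))) ≃*
        Matrix.SpecialLinearGroup (Fin 2) F)) ∧
    (∃ rels : Finset (FreeGroup (Fin 3)), rels.card ≤ 9 ∧
      Nonempty (PresentedGroup (↑rels : Set (FreeGroup (Fin 3))) ≃*
        Matrix.ProjectiveSpecialLinearGroup (Fin 2) F)) :=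
  h66_og_core hp2 e he he2 h9
    (fun ζ hζ i hμ extra hlen hSL hcomm => sl_odd_generic hp2 ζ hζ i hμ extra hlen hSL hcomm)
    (fun ζ hζ i hμ extra hlen hPSL hcomm => psl_odd_generic hp2 ζ hζ i hμ extra hlen hPSL hcomm)
    (fun ζ hζ => mT_sq_eq (h66_odd_card hp2 e he) ζ hζ) mT_sq_mem_center

end Cfsg.Agent.Lib.helper44.Pres
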