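import Mathlib
import Cfsg.Agent.Lib.helper51.S2113Defs
import Cfsg.Agent.Lib.helper69.StemSylow
import Cfsg.Agent.Lib.helper51.S2111C

/-! S2113 piece NORM3 (racing copy by helper66): the norm argument for the preimage of the Sylow
3-subgroup of a small Ree group in a central extension. -/

set_option autoImplicit false

namespace Cfsg.Agent.Lib.helper66.S2113

open scoped commutatorElement
open Cfsg.Agent.Lib.helper51.S2113 Cfsg.Agent.Lib.helper51.S2111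

theorem helper66_comm_mul_left {Γ : Type*} [Group Γ] (a b c : Γ) :
    ⁅a * b, c⁆ = a * ⁅b, c⁆ * a⁻¹ * ⁅a, c⁆ := by
  simp only [commutatorElement_def]; group

theorem helper66_comm_mul_right {Γ : Type*} [Group Γ] (a b c : Γ) :
    ⁅a, b * c⁆ = ⁅a, b⁆ * (b * ⁅a, c⁆ * b⁻¹) := by
  simp only [commutatorElement_def]; group

theorem helper66_conj_eq_comm_mul {Γ : Type*} [Group Γ] (a k : Γ) :
    a * k * a⁻¹ = ⁅a, k⁆ * k := by
  simp only [commutatorElement_def]; group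

theorem helper66_cube_aux {A : Type*} [CommGroup A] (g g2 : A) :
    g ^ 3 = (g * g2) * (g2 * (g * g)⁻¹)⁻¹ := by
  rw [mul_inv_rev, inv_inv, mul_comm (g * g) g2⁻¹, mul_assoc g g2, mul_inv_cancel_left,
    ← mul_assoc, pow_succ, pow_two]

theorem helper66_add_aux {A : Type*} [CommGroup A] (a b c d f h : A)
    (heq : a⁻¹ * (b * c) = d * f * h) : b * (f * h)⁻¹ = a * d * c⁻¹ := by
  have e1 : b = a * (d * f * h) * c⁻¹ := by rw [← heq]; group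
  rw [e1, mul_right_comm (a * (d * f * h)) c⁻¹ (f * h)⁻¹]
  congr 1
  group

/-- PIECE NORM3: the norm argument on the abelian group of lifts of `T 0 u v`. -/
theorem helper66_norm3 {K G Γ : Type*} [Field K] [Fintype K] [Group G] [Group Γ] (σ : Γ →* G)
    (hsurj : Function.Surjective σ) (hc : σ.ker ≤ Subgroup.center Γ) (T : K → K → K → G) (e : ℕ)
    (c : K → K → K) (D : UData K G T e c) (h3K : (3 : K) = 0) (hcop : ¬ 3 ∣ Nat.card Kˣ)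
    (h3 : ∀ x y : Γ, (∃ t u v, σ x = T t u v) → (∃ w, σ y = T 0 0 w) → x * y = y * x)
    (h4 : ∀ x y : Γ, (∃ u v, σ x = T 0 u v) → (∃ u v, σ y = T 0 u v) → x * y = y * x)
    (hab : ∀ B : K → K → Γ, (∀ s s' t, B (s + s') t = B s t * B s' t) →
      (∀ s t t', B s (t + t') = B s t * B s t') →
      (∀ ν s t, ν ≠ 0 → B (ν * s) (ν * (ν ^ e) ^ 3 * t) = B s t) → ∀ s t, B s t = 1)
    (hsq : ∀ B : K → K → Γ, (∀ s s' t, B (s + s') t = B s t * B s' t) →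
      (∀ s t t', B s (t + t') = B s t * B s t') →
      (∀ a s t, a ≠ 0 → B (a ^ 2 * s) (a ^ 2 * t) = B s t) → ∀ s t, B s t = 1)
    (P : Subgroup G) (hP : ∀ g, g ∈ P ↔ ∃ t u v, g = T t u v) :
    ∀ w ∈ σ.ker, w ∈ ⁅P.comap σ, P.comap σ⁆ → w = 1 := by
  classical
  obtain ⟨ℓ, hℓ⟩ := hsurj.hasRightInverse
  have Tc : ∀ {a a' b b' d d' : K}, a = a' → b = b' → d = d' → T a b d = T a' b' d' := by
    intro a a' b b' d d' h1 h2 h3; rw [h1, h2, h3]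
  have T000 : T 0 0 0 = 1 := by
    have h1 := D.top_r 0 0 0 0
    rw [add_zero] at h1
    exact mul_left_cancel (a := T 0 0 0) (by rw [h1, mul_one])
  have g1 : ∀ t u v, ∃ w, T t u v = T t 0 0 * T 0 u w := by
    intro t u v
    obtain ⟨w', hw'⟩ := D.mul t 0 0 0 u 0
    refine ⟨0 + (v - w'), ?_⟩
    rw [← D.top_r 0 u 0 (v - w'), ← mul_assoc, hw', D.c_zero_right, D.top_r]
    exact Tc (by ring) (by ring) (by ring)
  have g2 : ∀ u v, T 0 u v = T 0 u 0 * T 0 0 v := by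
    intro u v
    rw [D.top_r]; exact Tc rfl rfl (by ring)
  have g3 : ∀ t u v t' u' v', ∃ u'' v'',
      T t u v * T t' u' v' = T 0 u'' v'' * (T t' u' v' * T t u v) := by
    intro t u v t' u' v'
    obtain ⟨w₁, h1⟩ := D.mul t u v t' u' v'
    obtain ⟨w₂, h2⟩ := D.mul t' u' v' t u v
    obtain ⟨w₃, h3'⟩ := D.mul 0 ((u + u' + c t t') - (u' + u + c t' t)) 0 (t' + t)
      (u' + u + c t' t) w₂
    refine ⟨(u + u' + c t t') - (u' + u + c t' t), 0 + (w₁ - w₃), ?_⟩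
    rw [h1, h2, ← D.top_l 0 _ 0 (w₁ - w₃), mul_assoc, h3', D.c_zero_left, D.top_l]
    exact Tc (by ring) (by ring) (by ring)
  have g4 : ∀ t u v u' v', ∃ w, T t u v * T 0 u' v' = T 0 0 w * (T 0 u' v' * T t u v) := by
    intro t u v u' v'
    obtain ⟨w₁, h1⟩ := D.mul t u v 0 u' v'
    obtain ⟨w₂, h2⟩ := D.mul 0 u' v' t u v
    refine ⟨w₁ - w₂, ?_⟩
    rw [h1, h2, D.top_l, D.c_zero_right, D.c_zero_left]
    exact Tc (by ring) (by ring) (by ring)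
  -- commutation
  have hK2c : ∀ k x : Γ, (∃ w, σ k = T 0 0 w) → (∃ t u v, σ x = T t u v) → k * x = x * k :=
    fun k x hk hx => (h3 x k hx hk).symm
  have hcomK2 : ∀ x k : Γ, (∃ t u v, σ x = T t u v) → (∃ u v, σ k = T 0 u v) →
      ∃ w, σ ⁅x, k⁆ = T 0 0 w := by
    rintro x k ⟨t, u, v, hx⟩ ⟨u', v', hk⟩
    obtain ⟨w, hw⟩ := g4 t u v u' v'
    refine ⟨w, ?_⟩
    rw [map_commutatorElement, hx, hk, commutatorElement_def, hw]
    group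
  have hcomK1 : ∀ x y : Γ, (∃ t u v, σ x = T t u v) → (∃ t u v, σ y = T t u v) →
      ∃ u v, σ ⁅x, y⁆ = T 0 u v := by
    rintro x y ⟨t, u, v, hx⟩ ⟨t', u', v', hy⟩
    obtain ⟨u'', v'', hw⟩ := g3 t u v t' u' v'
    refine ⟨u'', v'', ?_⟩
    rw [map_commutatorElement, hx, hy, commutatorElement_def, hw]
    group
  -- the abelian subgroup
  let U1 : Subgroup G :=
    { carrier := {g | ∃ u v, g = T 0 u v}
      mul_mem' := by
        rintro _ _ ⟨u, v, rfl⟩ ⟨u', v', rfl⟩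
        obtain ⟨w, hw⟩ := D.mul 0 u v 0 u' v'
        exact ⟨u + u', w, by rw [hw, D.c_zero_left]; exact Tc (by ring) (by ring) rfl⟩
      one_mem' := ⟨0, 0, T000.symm⟩
      inv_mem' := by
        rintro _ ⟨u, v, rfl⟩
        obtain ⟨w, hw⟩ := D.mul 0 u v 0 (-u) 0
        refine ⟨-u, 0 + (-w), ?_⟩
        apply inv_eq_of_mul_eq_one_right
        rw [← D.top_r 0 (-u) 0 (-w), ← mul_assoc, hw, D.c_zero_left, D.top_r, ← T000]
        exact Tc (by ring) (by ring) (by ring) }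
  let K₁ : Subgroup Γ := U1.comap σ
  have hK1mem : ∀ k : Γ, k ∈ K₁ ↔ ∃ u v, σ k = T 0 u v := fun k => Iff.rfl
  have hPmem : ∀ x : Γ, x ∈ P.comap σ ↔ ∃ t u v, σ x = T t u v := fun x => by
    rw [Subgroup.mem_comap, hP]
  have hK1comm : ∀ k k' : ↥K₁, k * k' = k' * k :=
    fun k k' => Subtype.ext (h4 k k' ((hK1mem k).1 k.2) ((hK1mem k').1 k'.2))
  let instK : CommGroup ↥K₁ := { (inferInstance : Group ↥K₁) with mul_comm := hK1comm }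
  -- Claim A
  have hA : ∀ (x y : Γ) (s a b u b' : K), σ x = T s a b → σ y = T 0 u b' →
      ⁅x, y⁆ = ⁅ℓ (T s 0 0), ℓ (T 0 u 0)⁆ := by
    intro x y s a b u b' hx hy
    obtain ⟨w, hw⟩ := g1 s a b
    have hk : σ ((ℓ (T s 0 0))⁻¹ * x) = T 0 a w := by
      rw [map_mul, map_inv, hℓ, hx, hw, inv_mul_cancel_left]
    have hk' : σ ((ℓ (T 0 u 0))⁻¹ * y) = T 0 0 b' := by
      rw [map_mul, map_inv, hℓ, hy, g2 u b', inv_mul_cancel_left]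
    have ex : x = ℓ (T s 0 0) * ((ℓ (T s 0 0))⁻¹ * x) := by group
    have ey : y = ℓ (T 0 u 0) * ((ℓ (T 0 u 0))⁻¹ * y) := by group
    rw [ex, ey]
    rw [helper51_comm_mul_right_of_comm _ _ _
      (hK2c _ _ ⟨b', hk'⟩ ⟨s, a, b, by rw [← ex]; exact hx⟩)]
    rw [helper51_comm_mul_left_of_comm _ _ _ (h4 _ _ ⟨a, w, hk⟩ ⟨u, 0, hℓ _⟩)]
  have hγmemK2 : ∀ s u, ∃ w, σ ⁅ℓ (T s 0 0), ℓ (T 0 u 0)⁆ = T 0 0 w := fun s u =>
    hcomK2 _ _ ⟨s, 0, 0, hℓ _⟩ ⟨u, 0, hℓ _⟩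
  let γ : K → K → ↥K₁ := fun s u =>
    ⟨⁅ℓ (T s 0 0), ℓ (T 0 u 0)⁆, (hK1mem _).2 (by
      obtain ⟨w, hw⟩ := hγmemK2 s u
      exact ⟨0, w, hw⟩)⟩
  have hγ : ∀ (x y : Γ) (s a b u b' : K), σ x = T s a b → σ y = T 0 u b' →
      ⁅x, y⁆ = (γ s u : Γ) := hA
  have hγK2 : ∀ s u, ∃ w, σ (γ s u : Γ) = T 0 0 w := hγmemK2
  have hγl : ∀ s s' u, γ (s + s') u = γ s u * γ s' u := by
    intro s s' u
    apply Subtype.ext
    rw [Subgroup.coe_mul]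
    obtain ⟨w, hw⟩ := D.mul s 0 0 s' 0 0
    have e1 : ⁅ℓ (T s 0 0) * ℓ (T s' 0 0), ℓ (T 0 u 0)⁆ = (γ (s + s') u : Γ) :=
      hγ _ _ (s + s') (0 + 0 + c s s') w u 0 (by rw [map_mul, hℓ, hℓ, hw]) (hℓ _)
    rw [← e1]
    apply helper51_comm_mul_left_split
    · exact hK2c _ _ (hγK2 s' u) ⟨s, 0, 0, hℓ _⟩
    · exact hK2c _ _ (hγK2 s' u) (by obtain ⟨w', hw'⟩ := hγK2 s u; exact ⟨0, 0, w', hw'⟩)
  have hγr : ∀ s u u', γ s (u + u') = γ s u * γ s u' := by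
    intro s u u'
    apply Subtype.ext
    rw [Subgroup.coe_mul]
    have e1 : ⁅ℓ (T s 0 0), ℓ (T 0 u 0) * ℓ (T 0 u' 0)⁆ = (γ s (u + u') : Γ) :=
      hγ _ _ s 0 0 (u + u') 0 (hℓ _) (by rw [map_mul, hℓ, hℓ, D.mid])
    rw [← e1]
    apply helper51_comm_mul_right_split
    exact hK2c _ _ (hγK2 s u') ⟨0, u, 0, hℓ _⟩
  have h3s : ∀ s : K, s + s + s = 0 := fun s => by
    have h : s + s + s = 3 * s := by ring
    rw [h, h3K, zero_mul]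
  have hγ0 : ∀ u, γ 0 u = 1 := by
    intro u
    have h1 := hγl 0 0 u
    rw [add_zero] at h1
    exact mul_left_cancel (a := γ 0 u) (by rw [← h1, mul_one])
  have hγ00 : ∀ s, γ s 0 = 1 := by
    intro s
    have h1 := hγr s 0 0
    rw [add_zero] at h1
    exact mul_left_cancel (a := γ s 0) (by rw [← h1, mul_one])
  have hγ3 : ∀ s u, γ s u ^ 3 = 1 := by
    intro s u
    rw [pow_succ, pow_two, ← hγl, ← hγl, h3s, hγ0]
  -- the torus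
  choose H hH using fun ν : Kˣ => D.tor (ν : K) ν.ne_zero
  have hconjK : ∀ (ν : Kˣ) (k : Γ), k ∈ K₁ → ℓ (H ν) * k * (ℓ (H ν))⁻¹ ∈ K₁ := by
    intro ν k hk
    obtain ⟨u, v, hk'⟩ := (hK1mem k).1 hk
    rw [hK1mem]
    refine ⟨(ν : K) * ((ν : K) ^ e) ^ 3 * u, (ν : K) ^ 2 * ((ν : K) ^ e) ^ 3 * v, ?_⟩
    rw [map_mul, map_mul, map_inv, hℓ, hk', hH, mul_zero]
  let cj : Kˣ → (↥K₁ →* ↥K₁) := fun ν =>
    MonoidHom.mk' (fun k => ⟨ℓ (H ν) * k * (ℓ (H ν))⁻¹, hconjK ν k k.2⟩)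
      (fun a b => Subtype.ext (by
        show ℓ (H ν) * ((a : Γ) * (b : Γ)) * (ℓ (H ν))⁻¹ =
          ℓ (H ν) * (a : Γ) * (ℓ (H ν))⁻¹ * (ℓ (H ν) * (b : Γ) * (ℓ (H ν))⁻¹)
        group))
  have hcj : ∀ (ν : Kˣ) (k : ↥K₁), ((cj ν k : ↥K₁) : Γ) = ℓ (H ν) * k * (ℓ (H ν))⁻¹ :=
    fun ν k => rfl
  have hcjγ : ∀ (ν : Kˣ) (s u : K),
      cj ν (γ s u) = γ ((ν : K) * s) ((ν : K) * ((ν : K) ^ e) ^ 3 * u) := by
    intro ν s u
    apply Subtype.ext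
    rw [hcj]
    show ℓ (H ν) * ⁅ℓ (T s 0 0), ℓ (T 0 u 0)⁆ * (ℓ (H ν))⁻¹ = _
    rw [helper51_conj_commutatorElement]
    exact hγ _ _ ((ν : K) * s) 0 0 ((ν : K) * ((ν : K) ^ e) ^ 3 * u) 0
      (by rw [map_mul, map_mul, map_inv, hℓ, hℓ, hH]; simp only [mul_zero])
      (by rw [map_mul, map_mul, map_inv, hℓ, hℓ, hH]; simp only [mul_zero])
  let N : ↥K₁ →* ↥K₁ := ∏ ν : Kˣ, cj ν
  have hN : ∀ k : ↥K₁, N k = ∏ ν : Kˣ, cj ν k := fun k => MonoidHom.finsetProd_apply _ _ _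
  have hNγ : ∀ s u, N (γ s u) = 1 := by
    intro s u
    have key := hab (fun a a' => ((N (γ a a') : ↥K₁) : Γ)) ?_ ?_ ?_ s u
    · exact Subtype.ext key
    · intro a a' b
      show ((N (γ (a + a') b) : ↥K₁) : Γ) = (N (γ a b) : ↥K₁) * (N (γ a' b) : ↥K₁)
      rw [hγl, map_mul, Subgroup.coe_mul]
    · intro a b b'
      show ((N (γ a (b + b')) : ↥K₁) : Γ) = (N (γ a b) : ↥K₁) * (N (γ a b') : ↥K₁)
      rw [hγr, map_mul, Subgroup.coe_mul]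
    · intro ν a b hν
      show ((N (γ (ν * a) (ν * (ν ^ e) ^ 3 * b)) : ↥K₁) : Γ) = (N (γ a b) : ↥K₁)
      congr 1
      rw [hN, hN]
      have e1 : ∀ μ : Kˣ, cj μ (γ (ν * a) (ν * (ν ^ e) ^ 3 * b)) =
          cj (μ * Units.mk0 ν hν) (γ a b) := by
        intro μ
        rw [hcjγ, hcjγ]
        have ea : (μ : K) * (ν * a) = ((μ * Units.mk0 ν hν : Kˣ) : K) * a := by
          rw [Units.val_mul, Units.val_mk0, mul_assoc]
        have eb : (μ : K) * ((μ : K) ^ e) ^ 3 * (ν * (ν ^ e) ^ 3 * b) =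
            ((μ * Units.mk0 ν hν : Kˣ) : K) * (((μ * Units.mk0 ν hν : Kˣ) : K) ^ e) ^ 3 * b := by
          rw [Units.val_mul, Units.val_mk0]; ring
        rw [ea, eb]
      rw [Finset.prod_congr rfl (fun μ _ => e1 μ)]
      exact Equiv.prod_comp (Equiv.mulRight (Units.mk0 ν hν)) (fun μ => cj μ (γ a b))
  -- the second pairing
  let G₀ : K → K → ↥K₁ := fun s s' =>
    ⟨⁅ℓ (T s 0 0), ℓ (T s' 0 0)⁆,
      (hK1mem _).2 (hcomK1 _ _ ⟨s, 0, 0, hℓ _⟩ ⟨s', 0, 0, hℓ _⟩)⟩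
  have hG₀ : ∀ s s', (G₀ s s' : Γ) = ⁅ℓ (T s 0 0), ℓ (T s' 0 0)⁆ := fun _ _ => rfl
  -- Claim B
  have hB : ∀ (x x' : Γ) (s a b s' a' b' : K), σ x = T s a b → σ x' = T s' a' b' →
      ⁅x, x'⁆ = (γ s' a : Γ)⁻¹ * ((G₀ s s' : Γ) * (γ s a' : Γ)) := by
    intro x x' s a b s' a' b' hx hx'
    obtain ⟨w, hw⟩ := g1 s a b
    obtain ⟨w', hw'⟩ := g1 s' a' b'
    have hk : σ ((ℓ (T s 0 0))⁻¹ * x) = T 0 a w := by
      rw [map_mul, map_inv, hℓ, hx, hw, inv_mul_cancel_left]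
    have hk' : σ ((ℓ (T s' 0 0))⁻¹ * x') = T 0 a' w' := by
      rw [map_mul, map_inv, hℓ, hx', hw', inv_mul_cancel_left]
    have ex : x = ℓ (T s 0 0) * ((ℓ (T s 0 0))⁻¹ * x) := by group
    have ex' : x' = ℓ (T s' 0 0) * ((ℓ (T s' 0 0))⁻¹ * x') := by group
    have e1 : ⁅x, x'⁆ = ℓ (T s 0 0) * ⁅(ℓ (T s 0 0))⁻¹ * x, x'⁆ * (ℓ (T s 0 0))⁻¹ *
        ⁅ℓ (T s 0 0), x'⁆ := by
      conv_lhs => rw [ex]
      exact helper66_comm_mul_left _ _ _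
    have e2 : ⁅(ℓ (T s 0 0))⁻¹ * x, x'⁆ = (γ s' a : Γ)⁻¹ := by
      rw [← hγ x' _ s' a' b' a w hx' hk, commutatorElement_inv]
    have e3 : ⁅ℓ (T s 0 0), x'⁆ = (G₀ s s' : Γ) * (γ s a' : Γ) := by
      conv_lhs => rw [ex']
      rw [helper66_comm_mul_right, hγ _ _ s 0 0 a' w' (hℓ _) hk']
      have hc1 := hK2c _ _ (hγK2 s a') ⟨s', 0, 0, hℓ (T s' 0 0)⟩
      rw [← hc1, mul_inv_cancel_right, hG₀]
    rw [e1, e2, e3]
    have hc2 := hK2c _ _ (hγK2 s' a) ⟨s, 0, 0, hℓ (T s 0 0)⟩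
    have e4 : ℓ (T s 0 0) * (γ s' a : Γ)⁻¹ * (ℓ (T s 0 0))⁻¹ = (γ s' a : Γ)⁻¹ := by
      calc ℓ (T s 0 0) * (γ s' a : Γ)⁻¹ * (ℓ (T s 0 0))⁻¹
          = (γ s' a : Γ)⁻¹ * ((γ s' a : Γ) * ℓ (T s 0 0)) * (γ s' a : Γ)⁻¹ *
              (ℓ (T s 0 0))⁻¹ := by group
        _ = (γ s' a : Γ)⁻¹ * (ℓ (T s 0 0) * (γ s' a : Γ)) * (γ s' a : Γ)⁻¹ *
              (ℓ (T s 0 0))⁻¹ := by rw [hc2]
        _ = (γ s' a : Γ)⁻¹ := by group
    rw [e4]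
  -- the good subgroup
  let E : Subgroup ↥K₁ := N.ker ⊓ (powMonoidHom 3 : ↥K₁ →* ↥K₁).ker
  have hγE : ∀ s u, γ s u ∈ E := fun s u =>
    Subgroup.mem_inf.2 ⟨MonoidHom.mem_ker.2 (hNγ s u), MonoidHom.mem_ker.2 (hγ3 s u)⟩
  have hadd : ∀ s s'' s', G₀ (s + s'') s' * (G₀ s'' s' * G₀ s s')⁻¹ ∈ E := by
    intro s s'' s'
    obtain ⟨w, hw⟩ := D.mul s 0 0 s'' 0 0
    obtain ⟨a₀, w₀, hg⟩ := (hK1mem _).1 (G₀ s'' s').2
    have e1 := hB (ℓ (T s 0 0) * ℓ (T s'' 0 0)) (ℓ (T s' 0 0)) (s + s'') (0 + 0 + c s s'') w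
      s' 0 0 (by rw [map_mul, hℓ, hℓ, hw]) (hℓ _)
    have e2 : ⁅ℓ (T s 0 0) * ℓ (T s'' 0 0), ℓ (T s' 0 0)⁆ =
        (γ s a₀ : Γ) * (G₀ s'' s' : Γ) * (G₀ s s' : Γ) := by
      rw [helper66_comm_mul_left, ← hG₀, ← hG₀, helper66_conj_eq_comm_mul,
        hγ _ _ s 0 0 a₀ w₀ (hℓ _) hg]
    have e3 : (γ s' (0 + 0 + c s s''))⁻¹ * (G₀ (s + s'') s' * γ (s + s'') 0) =
        γ s a₀ * G₀ s'' s' * G₀ s s' := by
      apply Subtype.ext
      rw [Subgroup.coe_mul, Subgroup.coe_mul, Subgroup.coe_mul, Subgroup.coe_mul,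
        Subgroup.coe_inv, ← e1, e2]
    rw [helper66_add_aux _ _ _ _ _ _ e3]
    exact E.mul_mem (E.mul_mem (hγE _ _) (hγE _ _)) (E.inv_mem (hγE _ _))
  have hNadd : ∀ s s'' s', N (G₀ (s + s'') s') = N (G₀ s'' s') * N (G₀ s s') := by
    intro s s'' s'
    have h1 := (Subgroup.mem_inf.1 (hadd s s'' s')).1
    rw [MonoidHom.mem_ker, map_mul, map_inv, map_mul, mul_inv_eq_one] at h1
    exact h1
  have hanti : ∀ s s', G₀ s' s = (G₀ s s')⁻¹ := by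
    intro s s'
    apply Subtype.ext
    rw [Subgroup.coe_inv, hG₀, hG₀, commutatorElement_inv]
  have hcjG : ∀ (ν : Kˣ) (s s' : K), cj ν (G₀ s s') = G₀ ((ν : K) * s) ((ν : K) * s') := by
    intro ν s s'
    apply Subtype.ext
    rw [hcj, hG₀, helper51_conj_commutatorElement]
    have hb := hB (ℓ (H ν) * ℓ (T s 0 0) * (ℓ (H ν))⁻¹) (ℓ (H ν) * ℓ (T s' 0 0) * (ℓ (H ν))⁻¹)
      ((ν : K) * s) 0 0 ((ν : K) * s') 0 0
      (by rw [map_mul, map_mul, map_inv, hℓ, hℓ, hH]; simp only [mul_zero])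
      (by rw [map_mul, map_mul, map_inv, hℓ, hℓ, hH]; simp only [mul_zero])
    rw [hb, hγ00, hγ00, Subgroup.coe_one, inv_one, one_mul, mul_one]
  have hNG : ∀ s s', N (G₀ s s') = 1 := by
    intro s s'
    have key := hsq (fun a a' => ((N (G₀ a a') : ↥K₁) : Γ)) ?_ ?_ ?_ s s'
    · exact Subtype.ext key
    · intro a a' b
      show ((N (G₀ (a + a') b) : ↥K₁) : Γ) = (N (G₀ a b) : ↥K₁) * (N (G₀ a' b) : ↥K₁)
      rw [hNadd, mul_comm, Subgroup.coe_mul]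
    · intro a b b'
      show ((N (G₀ a (b + b')) : ↥K₁) : Γ) = (N (G₀ a b) : ↥K₁) * (N (G₀ a b') : ↥K₁)
      rw [hanti (b + b') a, hanti b a, hanti b' a, map_inv, map_inv, map_inv, hNadd, mul_inv_rev,
        Subgroup.coe_mul]
    · intro ν a b hν
      show ((N (G₀ (ν ^ 2 * a) (ν ^ 2 * b)) : ↥K₁) : Γ) = (N (G₀ a b) : ↥K₁)
      congr 1
      rw [hN, hN]
      have hν2 : ν ^ 2 ≠ 0 := pow_ne_zero 2 hν
      have e1 : ∀ μ : Kˣ, cj μ (G₀ (ν ^ 2 * a) (ν ^ 2 * b)) =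
          cj (μ * Units.mk0 (ν ^ 2) hν2) (G₀ a b) := by
        intro μ
        rw [hcjG, hcjG]
        have ea : ∀ z : K, (μ : K) * (ν ^ 2 * z) = ((μ * Units.mk0 (ν ^ 2) hν2 : Kˣ) : K) * z := by
          intro z
          rw [Units.val_mul, Units.val_mk0, mul_assoc]
        rw [ea, ea]
      rw [Finset.prod_congr rfl (fun μ _ => e1 μ)]
      exact Equiv.prod_comp (Equiv.mulRight (Units.mk0 (ν ^ 2) hν2)) (fun μ => cj μ (G₀ a b))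
  have hG0 : ∀ s', G₀ 0 s' = 1 := by
    intro s'
    apply Subtype.ext
    rw [hG₀, Subgroup.coe_one, commutatorElement_eq_one_iff_commute]
    have hz : ℓ (T 0 0 0) ∈ Subgroup.center Γ :=
      hc (by rw [MonoidHom.mem_ker, hℓ, T000])
    exact (Subgroup.mem_center_iff.mp hz _).symm
  have hcube : ∀ s s', G₀ s s' ^ 3 ∈ E := by
    intro s s'
    have ha := hadd s s s'
    have hb := hadd (s + s) s s'
    rw [h3s, hG0, one_mul] at hb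
    have hb' : G₀ s s' * G₀ (s + s) s' ∈ E := by
      have := E.inv_mem hb
      rwa [inv_inv] at this
    rw [helper66_cube_aux (G₀ s s') (G₀ (s + s) s')]
    exact E.mul_mem hb' (E.inv_mem ha)
  have hγ9 : ∀ s u, γ s u ^ 9 = 1 := fun s u => by
    rw [show 9 = 3 * 3 from rfl, pow_mul, hγ3, one_pow]
  have hG9 : ∀ s s', G₀ s s' ^ 9 = 1 := fun s s' => by
    rw [show 9 = 3 * 3 from rfl, pow_mul]
    exact MonoidHom.mem_ker.1 (Subgroup.mem_inf.1 (hcube s s')).2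
  -- conclusion
  have hle : ⁅P.comap σ, P.comap σ⁆ ≤
      (N.ker ⊓ (powMonoidHom 9 : ↥K₁ →* ↥K₁).ker).map K₁.subtype := by
    rw [Subgroup.commutator_le]
    intro x hx y hy
    obtain ⟨s, a, b, hxa⟩ := (hPmem x).1 hx
    obtain ⟨s', a', b', hya⟩ := (hPmem y).1 hy
    rw [hB x y s a b s' a' b' hxa hya]
    refine Subgroup.mem_map.2 ⟨(γ s' a)⁻¹ * (G₀ s s' * γ s a'), Subgroup.mem_inf.2 ⟨?_, ?_⟩, rfl⟩
    · rw [MonoidHom.mem_ker, map_mul, map_inv, map_mul, hNγ, hNγ, hNG, inv_one, one_mul, one_mul]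
    · rw [MonoidHom.mem_ker]
      show ((γ s' a)⁻¹ * (G₀ s s' * γ s a')) ^ 9 = 1
      rw [mul_pow, inv_pow, mul_pow, hγ9, hγ9, hG9, inv_one, one_mul, one_mul]
  intro w hwk hw
  obtain ⟨k, hk, hkw⟩ := Subgroup.mem_map.1 (hle hw)
  obtain ⟨hk1, hk2⟩ := Subgroup.mem_inf.1 hk
  rw [MonoidHom.mem_ker] at hk1 hk2
  have hkw' : (k : Γ) = w := hkw
  have hwc : w ∈ Subgroup.center Γ := hc hwk
  rw [Subgroup.mem_center_iff] at hwc
  have hfix : ∀ ν : Kˣ, cj ν k = k := by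
    intro ν
    apply Subtype.ext
    rw [hcj, hkw', hwc (ℓ (H ν)), mul_inv_cancel_right]
  have hpow : k ^ Fintype.card Kˣ = 1 := by
    rw [← hk1, hN, Finset.prod_congr rfl (fun ν _ => hfix ν), Finset.prod_const, Finset.card_univ]
  have hk9 : k ^ 9 = 1 := hk2
  rw [Nat.card_eq_fintype_card] at hcop
  have hcp : Nat.Coprime 9 (Fintype.card Kˣ) := by
    have h1 : Nat.Coprime 3 (Fintype.card Kˣ) :=
      (Nat.Prime.coprime_iff_not_dvd Nat.prime_three).2 hcop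
    exact Nat.Coprime.pow_left 2 h1
  have hk1' : k ^ Nat.gcd 9 (Fintype.card Kˣ) = 1 := pow_gcd_eq_one.2 ⟨hk9, hpow⟩
  rw [hcp, pow_one] at hk1'
  rw [← hkw', hk1']
  rfl

end Cfsg.Agent.Lib.helper66.S2113
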