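import Mathlib
import Cfsg.Agent.Lib.helper66.S3G

set_option autoImplicit false

namespace Cfsg.Agent.Lib.helper66

universe u

/-- The linear part of the theorem on fixed-point-free actions of the symmetric group of
degree three (interface between the representation part and the group-theoretic reduction).
`V` is an elementary abelian `l`-group, `Nh` a solvable group of automorphisms of `V` of order
prime to `6`, normalized by automorphisms `f` (of order dividing `3`) and `τ` (an involution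
inverting `f`) which have no nontrivial common fixed points on `Nh` and on `V`.  Then
invariant `t`-subgroups of `Nh` (`t ≠ l`) are abelian, and they are centralized by the
invariant subgroups of `Nh` normalizing them. -/
def S3CoreStmt : Prop :=
  ∀ (V : Type u) [Group V] [Finite V] (l : ℕ), l.Prime → l.Coprime 6 →
    (∀ x y : V, x * y = y * x) → (∀ v : V, v ^ l = 1) →
    ∀ (Nh : Subgroup (MulAut V)) (f τ : MulAut V), f ^ 3 = 1 → τ * τ = 1 →
      τ * f * τ⁻¹ = f⁻¹ →
      f ∈ Subgroup.normalizer (Nh : Set (MulAut V)) →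
      τ ∈ Subgroup.normalizer (Nh : Set (MulAut V)) →
      (Nat.card Nh).Coprime 6 → Group.IsSolvable Nh →
      (∀ n ∈ Nh, f * n = n * f → τ * n = n * τ → n = 1) →
      (∀ v : V, f v = v → τ v = v → v = 1) →
      (∀ t : ℕ, t.Prime → t ≠ l → ∀ T : Subgroup (MulAut V), T ≤ Nh → IsPGroup t T →
        f ∈ Subgroup.normalizer (T : Set (MulAut V)) →
        τ ∈ Subgroup.normalizer (T : Set (MulAut V)) →
        ∀ x ∈ T, ∀ y ∈ T, x * y = y * x) ∧
      (∀ t : ℕ, t.Prime → t ≠ l → ∀ Q L : Subgroup (MulAut V), Q ≤ Nh → L ≤ Nh →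
        IsPGroup t Q → (∀ a ∈ Q, ∀ b ∈ Q, a * b = b * a) →
        f ∈ Subgroup.normalizer (Q : Set (MulAut V)) →
        τ ∈ Subgroup.normalizer (Q : Set (MulAut V)) →
        f ∈ Subgroup.normalizer (L : Set (MulAut V)) →
        τ ∈ Subgroup.normalizer (L : Set (MulAut V)) →
        L ≤ Subgroup.normalizer (Q : Set (MulAut V)) → ∀ x ∈ L, ∀ y ∈ Q, x * y = y * x)

/-- The linear part, for a commutative group `V`. -/
theorem s3_core_comm (V : Type u) [CommGroup V] [Finite V] (l : ℕ) (hl : l.Prime)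
    (hl6 : l.Coprime 6) (hVl : ∀ v : V, v ^ l = 1) (Nh : Subgroup (MulAut V))
    (f τ : MulAut V) (hf3 : f ^ 3 = 1) (hτ2 : τ * τ = 1) (hτf : τ * f * τ⁻¹ = f⁻¹)
    (hfN : f ∈ Subgroup.normalizer (Nh : Set (MulAut V)))
    (hτN : τ ∈ Subgroup.normalizer (Nh : Set (MulAut V))) (hN6 : (Nat.card Nh).Coprime 6)
    (hsol : Group.IsSolvable Nh) (hfpf : ∀ n ∈ Nh, f * n = n * f → τ * n = n * τ → n = 1)
    (hfpfV : ∀ v : V, f v = v → τ v = v → v = 1) :
    (∀ t : ℕ, t.Prime → t ≠ l → ∀ T : Subgroup (MulAut V), T ≤ Nh → IsPGroup t T →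
        f ∈ Subgroup.normalizer (T : Set (MulAut V)) →
        τ ∈ Subgroup.normalizer (T : Set (MulAut V)) →
        ∀ x ∈ T, ∀ y ∈ T, x * y = y * x) ∧
      (∀ t : ℕ, t.Prime → t ≠ l → ∀ Q L : Subgroup (MulAut V), Q ≤ Nh → L ≤ Nh →
        IsPGroup t Q → (∀ a ∈ Q, ∀ b ∈ Q, a * b = b * a) →
        f ∈ Subgroup.normalizer (Q : Set (MulAut V)) →
        τ ∈ Subgroup.normalizer (Q : Set (MulAut V)) →
        f ∈ Subgroup.normalizer (L : Set (MulAut V)) →
        τ ∈ Subgroup.normalizer (L : Set (MulAut V)) →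
        L ≤ Subgroup.normalizer (Q : Set (MulAut V)) → ∀ x ∈ L, ∀ y ∈ Q, x * y = y * x) := by
  classical
  have hlF : Fact l.Prime := ⟨hl⟩
  obtain ⟨L, _, _, _, ⟨hLalg⟩⟩ : ∃ (L : Type) (_ : Field L) (_ : CharP L l), True ∧
      Nonempty (IsAlgClosed L) :=
    ⟨AlgebraicClosure (ZMod l), inferInstance, inferInstance, trivial, ⟨inferInstance⟩⟩
  have hcast : ∀ t : ℕ, t.Prime → t ≠ l → (t : L) ≠ 0 := by
    intro t ht htl h0
    have h1 := (CharP.cast_eq_zero_iff L l t).mp h0
    exact htl ((Nat.prime_dvd_prime_iff_eq hl ht).mp h1).symm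
  have hl2 : l ≠ 2 := by
    rintro rfl
    revert hl6
    decide
  have hl3 : l ≠ 3 := by
    rintro rfl
    revert hl6
    decide
  have h2L : (2 : L) ≠ 0 := by
    have := hcast 2 Nat.prime_two (Ne.symm hl2)
    exact_mod_cast this
  have h3L : (3 : L) ≠ 0 := by
    have := hcast 3 Nat.prime_three (Ne.symm hl3)
    exact_mod_cast this
  have h6L : (6 : L) ≠ 0 := by
    have h : (6 : L) = 2 * 3 := by norm_num
    rw [h]
    exact mul_ne_zero h2L h3L
  have hmem : ∀ g : MulAut V, ∀ w ∈ addHomAll L V, autFunRep L V g w ∈ addHomAll L V :=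
    fun g w hw => autFunRep_mem L V g w hw
  have hfix : ∀ w ∈ addHomAll L V, autFunRep L V f w = w → autFunRep L V τ w = w → w = 0 := by
    intro w hw hfw hτw
    have hadd : ∀ a b : V, w (a * b) = w a + w b := (mem_addHomAll L V w).mp hw
    have hf1 : ∀ x : V, w (f x) = w x := by
      intro x
      have h1 := congrFun hfw (f x)
      rw [autFunRep_apply, MulAut.inv_apply_self] at h1
      exact h1.symm
    have hτ1 : ∀ x : V, w (τ x) = w x := by
      intro x
      have h1 := congrFun hτw (τ x)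
      rw [autFunRep_apply, MulAut.inv_apply_self] at h1
      exact h1.symm
    funext v
    obtain ⟨n, hn⟩ : ∃ n : V, n = v * f v * f (f v) * (τ v * τ (f v) * τ (f (f v))) :=
      ⟨_, rfl⟩
    have hfff : ∀ x : V, f (f (f x)) = x := by
      intro x
      have h1 := congrArg (fun g : MulAut V => g x) hf3
      simpa [pow_succ, MulAut.mul_apply] using h1
    have hττ : ∀ x : V, τ (τ x) = x := by
      intro x
      have h1 := congrArg (fun g : MulAut V => g x) hτ2
      simpa [MulAut.mul_apply] using h1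
    have hfτ : ∀ x : V, f (τ x) = τ (f (f x)) := by
      intro x
      have h2 : f * τ = τ * (f * f) := by
        have hτi : τ⁻¹ = τ := inv_eq_of_mul_eq_one_left hτ2
        have hfi : f⁻¹ = f * f := by
          apply inv_eq_of_mul_eq_one_left
          rw [← hf3, pow_succ, pow_two]
        calc f * τ = τ * (τ⁻¹ * f * τ) := by group
          _ = τ * (τ * f * τ⁻¹) := by rw [hτi]
          _ = τ * (f * f) := by rw [hτf, hfi]
      have h1 := congrArg (fun g : MulAut V => g x) h2
      simpa [MulAut.mul_apply] using h1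
    have hnf : f n = n := by
      rw [hn]
      simp only [map_mul]
      rw [hfff, hfτ, hfτ, hfτ, hfff]
      ac_rfl
    have hnτ : τ n = n := by
      rw [hn]
      simp only [map_mul]
      rw [hττ, hττ, hττ]
      ac_rfl
    have hn1 : n = 1 := hfpfV n hnf hnτ
    have h6 : (6 : L) * w v = 0 := by
      have h1 : w n = 0 := by
        rw [hn1]
        exact addHomAll_one L V w hw
      rw [hn] at h1
      simp only [hadd, hτ1, hf1] at h1
      linear_combination h1
    rcases mul_eq_zero.mp h6 with h | h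
    · exact absurd h h6L
    · exact h
  obtain ⟨C, hCN, hCf, hCτ⟩ : ∃ C : S3Ctx L (V → L) (MulAut V),
      C.N = Nh ∧ C.f = f ∧ C.τ = τ :=
    ⟨{ ρ := autFunRep L V, M₀ := addHomAll L V, f := f, τ := τ, N := Nh, hf3 := hf3,
       hτ2 := hτ2, hτf := hτf, hfN := hfN, hτN := hτN, hN6 := hN6, hsol := hsol, hfpf := hfpf,
       hMf := hmem f, hMτ := hmem τ, hMN := fun n _ => hmem n, hfix := hfix,
       hfaith := fun n _ h => autFunRep_faithful L V l hVl n h, h3K := h3L }, rfl, rfl, rfl⟩
  constructor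
  · intro t ht htl T hTN hT hfT hτT
    rw [← hCN] at hTN
    rw [← hCf] at hfT
    rw [← hCτ] at hτT
    exact C.linX t ht (hcast t ht htl) (Nat.card T) T rfl hTN hT hfT hτT
  · intro t ht htl Q L' hQN hLN hQ hQc hfQ hτQ hfL hτL hLQ
    rw [← hCN] at hQN hLN
    rw [← hCf] at hfQ hfL
    rw [← hCτ] at hτQ hτL
    exact C.linCore t ht (hcast t ht htl) Q L' hQN hLN hQ hQc hfQ hτQ hfL hτL hLQ

/-- **The linear part of the theorem on fixed-point-free actions of `S₃`.** -/
theorem s3_core : S3CoreStmt.{u} := by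
  intro V instG instF l hl hl6 hVc hVl Nh f τ hf3 hτ2 hτf hfN hτN hN6 hsol hfpf hfpfV
  exact @s3_core_comm V { instG with mul_comm := hVc } instF l hl hl6 hVl Nh f τ hf3 hτ2 hτf
    hfN hτN hN6 hsol hfpf hfpfV

end Cfsg.Agent.Lib.helper66
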