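import Mathlib

set_option autoImplicit false

namespace Cfsg.Agent.Lib.helper66

universe u

/-- The internal form of Ward's theorem: a finite group `Γ` with a solvable normal subgroup `N`
and an elementary abelian subgroup `A` of order `p ^ 2` centralizing no nontrivial element of
`N`; then `N` has Fitting height at most two. -/
def WardIntStmt : Prop :=
  ∀ (Γ : Type u) [Group Γ] [Finite Γ] (N A : Subgroup Γ) (p : ℕ), p.Prime → N.Normal →
    Group.IsSolvable N →
    (∀ a ∈ A, ∀ b ∈ A, a * b = b * a) → (∀ a ∈ A, a ^ p = 1) → Nat.card A = p ^ 2 →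
    (∀ n ∈ N, (∀ a ∈ A, a * n = n * a) → n = 1) →
    ∃ j k : ℕ, (N.lowerCentralSeries j).lowerCentralSeries k = ⊥

/-- The inductive step of Ward's theorem: if `V` is a minimal normal subgroup of `Γ` inside `N`
and `N / V` has Fitting height at most two, then `N / C_N(V)` is nilpotent. -/
def WardStepStmt : Prop :=
  ∀ (Γ : Type u) [Group Γ] [Finite Γ] (N A V : Subgroup Γ) (p : ℕ), p.Prime → N.Normal →
    V.Normal → Group.IsSolvable N → V ≤ N → V ≠ ⊥ →
    (∀ W : Subgroup Γ, W.Normal → W ≤ V → W = ⊥ ∨ W = V) →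
    (∀ a ∈ A, ∀ b ∈ A, a * b = b * a) → (∀ a ∈ A, a ^ p = 1) → Nat.card A = p ^ 2 →
    (∀ n ∈ N, (∀ a ∈ A, a * n = n * a) → n = 1) →
    (∃ j k : ℕ, (N.lowerCentralSeries j).lowerCentralSeries k ≤ V) →
    ∃ m : ℕ, N.lowerCentralSeries m ≤ Subgroup.centralizer (V : Set Γ)

/-- The statement of Ward's theorem for automorphism groups follows from the internal form. -/
theorem ward_top (h : WardIntStmt.{u}) {G : Type u} [Group G] [Finite G]
    (hG : Group.IsSolvable G) {p : ℕ} (hp : p.Prime) (A : Subgroup (MulAut G))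
    (hA : IsMulCommutative A ∧ ∀ a ∈ A, a ^ p = 1) (hcard : Nat.card A = p ^ 2)
    (hfpf : ∀ g : G, (∀ a ∈ A, a g = g) → g = 1) :
    ∃ F : Fin (2 + 1) → Subgroup G, F 0 = ⊥ ∧ F (Fin.last 2) = ⊤ ∧ Monotone F ∧
      (∀ i, (F i).Normal) ∧
      ∀ i : Fin 2, ∃ k : ℕ, (F i.succ).lowerCentralSeries k ≤ F i.castSucc := by
  classical
  have hfin : Finite (G ⋊[A.subtype] A) := Finite.of_equiv _ SemidirectProduct.equivProd.symm
  obtain ⟨il, hil, hilinj⟩ : ∃ il : G →* G ⋊[A.subtype] A, il = SemidirectProduct.inl ∧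
      Function.Injective il := ⟨_, rfl, SemidirectProduct.inl_injective⟩
  obtain ⟨ir, hir, hirinj⟩ : ∃ ir : A →* G ⋊[A.subtype] A, ir = SemidirectProduct.inr ∧
      Function.Injective ir := ⟨_, rfl, SemidirectProduct.inr_injective⟩
  have haut : ∀ (a : A) (g : G), il ((a : MulAut G) g) = ir a * il g * ir a⁻¹ := by
    intro a g
    rw [hil, hir]
    exact SemidirectProduct.inl_aut a g
  have hNn : (il.range).Normal := by
    rw [hil, SemidirectProduct.range_inl_eq_ker_rightHom]
    infer_instance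
  have hNs : Group.IsSolvable il.range :=
    Group.isSolvable_of_surjective (il.rangeRestrict_surjective)
  have hAc : ∀ a ∈ ir.range, ∀ b ∈ ir.range, a * b = b * a := by
    rintro _ ⟨a, rfl⟩ _ ⟨b, rfl⟩
    have h1 : a * b = b * a := hA.1.is_comm.comm a b
    rw [← map_mul, ← map_mul, h1]
  have hAp : ∀ a ∈ ir.range, a ^ p = 1 := by
    rintro _ ⟨a, rfl⟩
    have h1 : a ^ p = 1 := Subtype.ext (by simpa using hA.2 a a.2)
    rw [← map_pow, h1, map_one]
  have hAcard : Nat.card ir.range = p ^ 2 := by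
    rw [← hcard]
    exact Nat.card_congr (MonoidHom.ofInjective hirinj).toEquiv.symm
  have hfpf' : ∀ n ∈ il.range, (∀ a ∈ ir.range, a * n = n * a) → n = 1 := by
    rintro _ ⟨g, rfl⟩ hcomm
    have h1 : g = 1 := by
      apply hfpf
      intro a ha
      have h2 := haut ⟨a, ha⟩ g
      have h3 := hcomm (ir ⟨a, ha⟩) ⟨_, rfl⟩
      rw [h3, map_inv, mul_inv_cancel_right] at h2
      exact hilinj h2
    rw [h1, map_one]
  obtain ⟨j, k, hjk⟩ := h (G ⋊[A.subtype] A) il.range ir.range p hp hNn hNs hAc hAp hAcard hfpf'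
  have hjk' : ((⊤ : Subgroup G).lowerCentralSeries j).lowerCentralSeries k = ⊥ := by
    rw [MonoidHom.range_eq_map, ← Subgroup.map_lowerCentralSeries,
      ← Subgroup.map_lowerCentralSeries] at hjk
    exact (Subgroup.map_eq_bot_iff_of_injective _ hilinj).mp hjk
  refine ⟨![⊥, (⊤ : Subgroup G).lowerCentralSeries j, ⊤], rfl, rfl, ?_, ?_, ?_⟩
  · rw [Fin.monotone_iff_le_succ]
    intro i
    fin_cases i
    · exact bot_le
    · exact le_top
  · intro i
    fin_cases i
    · exact Subgroup.normal_bot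
    · show ((⊤ : Subgroup G).lowerCentralSeries j).Normal
      infer_instance
    · exact Subgroup.normal_top
  · intro i
    fin_cases i
    · refine ⟨k, ?_⟩
      show ((⊤ : Subgroup G).lowerCentralSeries j).lowerCentralSeries k ≤ ⊥
      rw [hjk']
    · refine ⟨j, ?_⟩
      show (⊤ : Subgroup G).lowerCentralSeries j ≤ (⊤ : Subgroup G).lowerCentralSeries j
      exact le_refl _

end Cfsg.Agent.Lib.helper66
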