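import Mathlib
import Cfsg.Agent.Lib.helper66.WardA
import Cfsg.Agent.Lib.helper66.WardD
import Cfsg.Agent.Lib.helper14.PConstrained2
import Cfsg.Agent.Lib.helper1.Hall
import Cfsg.Agent.Lib.helper21.GalConj3

set_option autoImplicit false

namespace Cfsg.Agent.Lib.helper66

universe u

section

variable {Γ : Type*} [Group Γ]

/-- A `p`-group acting by conjugation without nontrivial fixed points on a normal subgroup `N`:
then `p` does not divide `|N|`. -/
theorem not_dvd_card_of_fpf [Finite Γ] (N A : Subgroup Γ) [N.Normal] (p : ℕ) (hp : p.Prime)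
    (hA : IsPGroup p A) (hfpf : ∀ n ∈ N, (∀ a ∈ A, a * n = n * a) → n = 1) :
    ¬ p ∣ Nat.card N := by
  have hpF : Fact p.Prime := ⟨hp⟩
  let _ : MulAction A N := MulAction.compHom N ((MulAut.conjNormal (H := N)).comp A.subtype)
  have hsmul : ∀ (a : A) (n : N), ((a • n : N) : Γ) = (a : Γ) * n * (a : Γ)⁻¹ := by
    intro a n
    rfl
  have h1 := hA.card_modEq_card_fixedPoints N
  have h2 : MulAction.fixedPoints A N = {1} := by
    ext n
    simp only [MulAction.mem_fixedPoints, Set.mem_singleton_iff]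
    constructor
    · intro h
      apply Subtype.ext
      apply hfpf n n.2
      intro a ha
      have h3 := congrArg Subtype.val (h ⟨a, ha⟩)
      rw [hsmul] at h3
      calc a * (n : Γ) = a * n * a⁻¹ * a := by group
        _ = n * a := by rw [h3]
    · rintro rfl a
      apply Subtype.ext
      rw [hsmul]
      simp
  have h2' : Nat.card (MulAction.fixedPoints A N) = 1 := by
    rw [h2]
    simp
  rw [h2'] at h1
  intro hdvd
  have h3 : Nat.card N ≡ 0 [MOD p] := (Nat.modEq_zero_iff_dvd).mpr hdvd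
  have h4 : 0 ≡ 1 [MOD p] := h3.symm.trans h1
  have h5 : p ∣ 1 := by
    have := (Nat.modEq_iff_dvd' (Nat.zero_le 1)).mp h4
    simpa using this
  exact hp.one_lt.ne' (Nat.dvd_one.mp h5)

/-- A minimal normal subgroup of `Γ` inside a nontrivial normal subgroup. -/
theorem exists_min_normal [Finite Γ] (N : Subgroup Γ) [N.Normal] (hN : N ≠ ⊥) :
    ∃ V : Subgroup Γ, V.Normal ∧ V ≤ N ∧ V ≠ ⊥ ∧
      ∀ W : Subgroup Γ, W.Normal → W ≤ V → W = ⊥ ∨ W = V := by
  obtain ⟨V, hV, hVmin⟩ := (wellFounded_lt :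
    WellFounded ((· < ·) : Subgroup Γ → Subgroup Γ → Prop)).has_min
    {W : Subgroup Γ | W.Normal ∧ W ≤ N ∧ W ≠ ⊥} ⟨N, inferInstance, le_refl _, hN⟩
  refine ⟨V, hV.1, hV.2.1, hV.2.2, fun W hWn hWV => ?_⟩
  by_cases hW : W = ⊥
  · exact Or.inl hW
  · right
    by_contra hne'
    exact hVmin W ⟨hWn, hWV.trans hV.2.1, hW⟩ (lt_of_le_of_ne hWV hne')

end

/-- The internal form of Ward's theorem follows from the inductive step. -/
theorem ward_int_of_step (hstep : WardStepStmt.{u}) : WardIntStmt.{u} := by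
  have key : ∀ n : ℕ, ∀ (Γ : Type u) [Group Γ] [Finite Γ] (N A : Subgroup Γ) (p : ℕ),
      Nat.card N = n → p.Prime → N.Normal → Group.IsSolvable N →
      (∀ a ∈ A, ∀ b ∈ A, a * b = b * a) → (∀ a ∈ A, a ^ p = 1) → Nat.card A = p ^ 2 →
      (∀ n ∈ N, (∀ a ∈ A, a * n = n * a) → n = 1) →
      ∃ j k : ℕ, (N.lowerCentralSeries j).lowerCentralSeries k = ⊥ := by
    intro n
    induction n using Nat.strong_induction_on with
    | _ n ih =>
      intro Γ _ _ N A p hn hp hNn hNs hAc hAp hAcard hfpf
      by_cases hN : N = ⊥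
      · refine ⟨0, 0, ?_⟩
        rw [hN]
        rfl
      have hpF : Fact p.Prime := ⟨hp⟩
      have hAP : IsPGroup p A := IsPGroup.of_card hAcard
      have hpN : ¬ p ∣ Nat.card N := not_dvd_card_of_fpf N A p hp hAP hfpf
      obtain ⟨V, hVn, hVN, hVne, hVmin⟩ := exists_min_normal N hN
      have hcopV : (Nat.card V).Coprime p := by
        rw [Nat.coprime_comm, Nat.Prime.coprime_iff_not_dvd hp]
        intro hdvd
        exact hpN (hdvd.trans (Subgroup.card_dvd_of_le hVN))
      have hAV : A ⊓ (QuotientGroup.mk' V).ker = ⊥ := by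
        rw [QuotientGroup.ker_mk', eq_bot_iff]
        intro x hx
        have hxA := (Subgroup.mem_inf.mp hx).1
        have hxV := (Subgroup.mem_inf.mp hx).2
        have h1 : orderOf x ∣ p := orderOf_dvd_of_pow_eq_one (hAp x hxA)
        have h2 : orderOf x ∣ Nat.card V := by
          have h3 := orderOf_dvd_natCard (⟨x, hxV⟩ : V)
          rwa [Subgroup.orderOf_mk] at h3
        have h3 : orderOf x = 1 := (Nat.Coprime.coprime_dvd_left h2 hcopV).eq_one_of_dvd h1
        exact Subgroup.mem_bot.mpr (orderOf_eq_one_iff.mp h3)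
      obtain ⟨π, hπ⟩ : ∃ π : Γ →* Γ ⧸ V, π = QuotientGroup.mk' V := ⟨_, rfl⟩
      have hπs : Function.Surjective π := by
        rw [hπ]
        exact QuotientGroup.mk'_surjective V
      have hcard' : Nat.card (N.map π) < n := by
        have h1 := Cfsg.Agent.Lib.helper21.card_map_mk_mul V N hVN
        have h2 : 1 < Nat.card V := (Subgroup.one_lt_card_iff_ne_bot V).mpr hVne
        rw [hn, ← hπ] at h1
        have h3 : 0 < Nat.card (N.map π) := Nat.card_pos
        nlinarith
      have hN'n : (N.map π).Normal := Subgroup.Normal.map hNn π hπs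
      have hN's : Group.IsSolvable (N.map π) :=
        Group.isSolvable_of_surjective (f := π.subgroupMap N) (π.subgroupMap_surjective N)
      have hA'c : ∀ a ∈ A.map π, ∀ b ∈ A.map π, a * b = b * a := by
        rintro _ ⟨a, ha, rfl⟩ _ ⟨b, hb, rfl⟩
        rw [← map_mul, ← map_mul, hAc a ha b hb]
      have hA'p : ∀ a ∈ A.map π, a ^ p = 1 := by
        rintro _ ⟨a, ha, rfl⟩
        rw [← map_pow, hAp a ha, map_one]
      have hA'card : Nat.card (A.map π) = p ^ 2 := by
        rw [hπ, Cfsg.Agent.Lib.helper1.card_map_of_disjoint_ker _ A hAV, hAcard]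
      have hfpf' : ∀ x ∈ N.map π, (∀ a ∈ A.map π, a * x = x * a) → x = 1 := by
        rintro _ ⟨g, hg, rfl⟩ hcomm
        have h1 : π g ∈ Subgroup.centralizer ((A.map π : Subgroup (Γ ⧸ V)) : Set (Γ ⧸ V)) := by
          rw [Subgroup.mem_centralizer_iff]
          intro a ha
          exact hcomm a ha
        rw [hπ, ← Cfsg.Agent.Lib.helper14.map_centralizer_of_coprime V hcopV A hAP] at h1
        obtain ⟨c, hc, hcg⟩ := h1
        have h2 : c⁻¹ * g ∈ V := QuotientGroup.eq.mp hcg
        have hcN : c ∈ N := by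
          have h3 : c = g * (c⁻¹ * g)⁻¹ := by group
          rw [h3]
          exact N.mul_mem hg (N.inv_mem (hVN h2))
        have hc1 : c = 1 := hfpf c hcN (fun a ha => (Subgroup.mem_centralizer_iff.mp hc a ha))
        rw [hπ, ← hcg, hc1, map_one]
      obtain ⟨j, k, hjk⟩ := ih _ hcard' (Γ ⧸ V) (N.map π) (A.map π) p rfl hp hN'n hN's hA'c
        hA'p hA'card hfpf'
      have hjkV : (N.lowerCentralSeries j).lowerCentralSeries k ≤ V := by
        rw [← Subgroup.map_lowerCentralSeries, ← Subgroup.map_lowerCentralSeries,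
          Subgroup.map_eq_bot_iff, hπ, QuotientGroup.ker_mk'] at hjk
        exact hjk
      obtain ⟨m, hm⟩ := hstep Γ N A V p hp hNn hVn hNs hVN hVne hVmin hAc hAp hAcard hfpf
        ⟨j, k, hjkV⟩
      refine ⟨max j m, k + 1, ?_⟩
      have hL1 : N.lowerCentralSeries (max j m) ≤ N.lowerCentralSeries j :=
        N.lowerCentralSeries_antitone (le_max_left j m)
      have hL2 : N.lowerCentralSeries (max j m) ≤ Subgroup.centralizer (V : Set Γ) :=
        (N.lowerCentralSeries_antitone (le_max_right j m)).trans hm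
      have hL3 : (N.lowerCentralSeries (max j m)).lowerCentralSeries k ≤ V :=
        (Subgroup.lowerCentralSeries_mono k hL1).trans hjkV
      rw [Subgroup.lowerCentralSeries_succ, Subgroup.commutator_eq_bot_iff_le_centralizer]
      exact hL3.trans (Subgroup.le_centralizer_iff.mp hL2)
  intro Γ _ _ N A p hp hNn hNs hAc hAp hAcard hfpf
  exact key _ Γ N A p rfl hp hNn hNs hAc hAp hAcard hfpf

end Cfsg.Agent.Lib.helper66
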