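import Mathlib
import Cfsg.Agent.Lib.helper66.S3H
import Cfsg.Agent.Lib.helper66.WardE
import Cfsg.Agent.Lib.helper66.WardF
import Cfsg.Agent.Lib.helper30.FittingRank
import Cfsg.Agent.Lib.helper21.GalConj3

set_option autoImplicit false

namespace Cfsg.Agent.Lib.helper66

universe u

/-- The setting of the inductive step in the theorem on fixed-point-free actions of `S₃`. -/
structure S3Step (Γ : Type u) [Group Γ] where
  N : Subgroup Γ
  V : Subgroup Γ
  f : Γ
  τ : Γ
  hNn : N.Normal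
  hVn : V.Normal
  hNs : Group.IsSolvable N
  hN6 : (Nat.card N).Coprime 6
  hVN : V ≤ N
  hVne : V ≠ ⊥
  hVmin : ∀ W : Subgroup Γ, W.Normal → W ≤ V → W = ⊥ ∨ W = V
  hf3 : f ^ 3 = 1
  hτ2 : τ * τ = 1
  hτf : τ * f * τ⁻¹ = f⁻¹
  hfpf : ∀ n ∈ N, f * n = n * f → τ * n = n * τ → n = 1

namespace S3Step

variable {Γ : Type u} [Group Γ] (D : S3Step Γ)

/-- `V` is abelian. -/
theorem V_comm [Finite Γ] : ∀ x ∈ D.V, ∀ y ∈ D.V, x * y = y * x := by
  have hVn := D.hVn
  have hVs : Group.IsSolvable D.V := by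
    have hNs := D.hNs
    exact Group.isSolvable_of_isSolvable_injective (Subgroup.inclusion_injective D.hVN)
  have hnt : Nontrivial D.V := (Subgroup.nontrivial_iff_ne_bot D.V).mpr D.hVne
  have h1 : ⁅D.V, D.V⁆ ≠ D.V := by
    intro h
    have h2 := Group.IsSolvable.commutator_lt_top_of_nontrivial D.V
    have h3 : (_root_.commutator D.V).map D.V.subtype = (⊤ : Subgroup D.V).map D.V.subtype := by
      rw [Subgroup.map_subtype_commutator, h, ← MonoidHom.range_eq_map, Subgroup.range_subtype]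
    have h4 := Subgroup.map_injective D.V.subtype_injective h3
    exact h2.ne h4
  have h5 : ⁅D.V, D.V⁆ ≤ D.V := by
    have := Subgroup.commutator_le_inf D.V D.V
    rwa [inf_idem] at this
  have h6 : ⁅D.V, D.V⁆ = ⊥ := by
    rcases D.hVmin _ (Subgroup.commutator_normal D.V D.V) h5 with h | h
    · exact h
    · exact absurd h h1
  rw [Subgroup.commutator_eq_bot_iff_le_centralizer] at h6
  intro x hx y hy
  exact (Subgroup.mem_centralizer_iff.mp (h6 hx) y hy).symm

/-- `V` has prime exponent `l`, prime to `6`. -/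
theorem exists_exp [Finite Γ] : ∃ l : ℕ, l.Prime ∧ l.Coprime 6 ∧ l ∣ Nat.card D.V ∧
    ∀ v ∈ D.V, v ^ l = 1 := by
  have hVn := D.hVn
  have hcard : Nat.card D.V ≠ 1 := by
    intro h
    exact D.hVne ((Subgroup.card_eq_one).mp h)
  obtain ⟨l, hl, hlV⟩ := Nat.exists_prime_and_dvd hcard
  have hlF : Fact l.Prime := ⟨hl⟩
  have hl6 : l.Coprime 6 :=
    Nat.Coprime.coprime_dvd_left (hlV.trans (Subgroup.card_dvd_of_le D.hVN)) D.hN6
  refine ⟨l, hl, hl6, hlV, ?_⟩
  let W : Subgroup Γ :=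
    { carrier := {v | v ∈ D.V ∧ v ^ l = 1}
      one_mem' := ⟨D.V.one_mem, one_pow l⟩
      mul_mem' := by
        rintro x y ⟨hx, hx'⟩ ⟨hy, hy'⟩
        refine ⟨D.V.mul_mem hx hy, ?_⟩
        rw [(show Commute x y from D.V_comm x hx y hy).mul_pow, hx', hy', one_mul]
      inv_mem' := by
        rintro x ⟨hx, hx'⟩
        exact ⟨D.V.inv_mem hx, by rw [inv_pow, hx', inv_one]⟩ }
  have hWn : W.Normal := by
    constructor
    rintro v ⟨hv, hv'⟩ g
    exact ⟨hVn.conj_mem v hv g, by rw [conj_pow, hv', mul_one, mul_inv_cancel]⟩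
  have hWV : W ≤ D.V := fun v hv => hv.1
  have hWne : W ≠ ⊥ := by
    obtain ⟨x, hx⟩ := exists_prime_orderOf_dvd_card' (G := D.V) l hlV
    intro h
    have h1 : (x : Γ) ∈ W := by
      refine ⟨x.2, ?_⟩
      have h2 : x ^ l = 1 := by rw [← hx]; exact pow_orderOf_eq_one x
      simpa using congrArg Subtype.val h2
    rw [h, Subgroup.mem_bot] at h1
    have h3 : x = 1 := Subtype.ext h1
    rw [h3, orderOf_one] at hx
    exact hl.one_lt.ne hx
  rcases D.hVmin W hWn hWV with h | h
  · exact absurd h hWne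
  · intro v hv
    have h1 : v ∈ W := by rw [h]; exact hv
    exact h1.2

/-- The conjugation action on `V`. -/
def φ : Γ →* MulAut D.V := @MulAut.conjNormal Γ _ D.V D.hVn

theorem φ_apply (g : Γ) (v : D.V) : ((D.φ g v : D.V) : Γ) = g * v * g⁻¹ := rfl

theorem φ_eq_one_iff (g : Γ) : D.φ g = 1 ↔ g ∈ Subgroup.centralizer (D.V : Set Γ) := by
  constructor
  · intro h
    rw [Subgroup.mem_centralizer_iff]
    intro v hv
    have h1 := congrArg Subtype.val (congrArg (fun f : MulAut D.V => f ⟨v, hv⟩) h)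
    simp only [MulAut.one_apply] at h1
    rw [D.φ_apply] at h1
    calc v * g = g * v * g⁻¹ * g := by rw [h1]
      _ = g * v := by group
  · intro h
    ext v
    rw [D.φ_apply, MulAut.one_apply]
    have h1 := Subgroup.mem_centralizer_iff.mp h v v.2
    rw [← h1]
    group

theorem V_le_ker [Finite Γ] : D.V ≤ D.φ.ker := by
  intro v hv
  rw [MonoidHom.mem_ker, D.φ_eq_one_iff, Subgroup.mem_centralizer_iff]
  intro w hw
  exact D.V_comm w hw v hv

/-- `f` and `τ` have no nontrivial common fixed points on the image of `N`. -/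
theorem fpf_hat [Finite Γ] : ∀ x ∈ D.N.map D.φ, D.φ D.f * x = x * D.φ D.f →
    D.φ D.τ * x = x * D.φ D.τ → x = 1 := by
  rintro _ ⟨n, hn, rfl⟩ h1 h2
  have hNn := D.hNn
  have hMn : (D.N ⊓ D.φ.ker).Normal := Subgroup.normal_inf_normal D.N D.φ.ker
  have hnorm : ∀ g : Γ, g ∈ Subgroup.normalizer ((D.N ⊓ D.φ.ker : Subgroup Γ) : Set Γ) := by
    intro g
    rw [Subgroup.normalizer_eq_top_iff.mpr hMn]
    exact Subgroup.mem_top g
  have hcomm : ∀ x : Γ, D.φ x * D.φ n = D.φ n * D.φ x →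
      x * n * x⁻¹ * n⁻¹ ∈ D.N ⊓ D.φ.ker := by
    intro x h
    refine Subgroup.mem_inf.mpr ⟨?_, ?_⟩
    · exact D.N.mul_mem (hNn.conj_mem n hn x) (D.N.inv_mem hn)
    · rw [MonoidHom.mem_ker, map_mul, map_mul, map_mul, map_inv, map_inv, h]
      group
  have hMs : Group.IsSolvable (D.N ⊓ D.φ.ker : Subgroup Γ) := by
    have := D.hNs
    exact Group.isSolvable_of_isSolvable_injective
      (Subgroup.inclusion_injective (inf_le_left : D.N ⊓ D.φ.ker ≤ D.N))
  have hM6 : (Nat.card (D.N ⊓ D.φ.ker : Subgroup Γ)).Coprime 6 :=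
    Nat.Coprime.coprime_dvd_left (Subgroup.card_dvd_of_le inf_le_left) D.hN6
  have h3 := fpf_coset D.f D.τ D.hf3 D.hτ2 D.hτf D.N (D.N ⊓ D.φ.ker) inf_le_left
    (hnorm D.f) (hnorm D.τ) hM6 hMs D.hfpf n hn (hcomm D.f h1) (hcomm D.τ h2)
  exact (Subgroup.mem_inf.mp h3).2

/-- `f` and `τ` have no nontrivial common fixed points on `V`. -/
theorem fpf_V : ∀ v : D.V, D.φ D.f v = v → D.φ D.τ v = v → v = 1 := by
  intro v h1 h2
  apply Subtype.ext
  apply D.hfpf v (D.hVN v.2)
  · have h3 := congrArg Subtype.val h1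
    rw [D.φ_apply] at h3
    calc D.f * (v : Γ) = D.f * v * D.f⁻¹ * D.f := by group
      _ = v * D.f := by rw [h3]
  · have h3 := congrArg Subtype.val h2
    rw [D.φ_apply] at h3
    calc D.τ * (v : Γ) = D.τ * v * D.τ⁻¹ * D.τ := by group
      _ = v * D.τ := by rw [h3]

/-- A nilpotent group of automorphisms of `V` normalized by the image of `Γ` has no nontrivial
`l`-elements (`l` the prime dividing `|V|`). -/
theorem no_l [Finite Γ] (l : ℕ) (hl : l.Prime) (hlV : l ∣ Nat.card D.V)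
    (H : Subgroup (MulAut D.V)) (hnil : Group.IsNilpotent H)
    (hnormH : ∀ g : Γ, D.φ g ∈ Subgroup.normalizer (H : Set (MulAut D.V))) :
    ∀ z ∈ H, (∃ e : ℕ, z ^ (l ^ e) = 1) → z = 1 := by
  have hlF : Fact l.Prime := ⟨hl⟩
  have hVn := D.hVn
  have hNn := D.hNn
  obtain ⟨Q, hQL, hQl, hQ⟩ := exists_sylow_of_nilpotent_sub H hnil l
  have hnorm : ∀ g : Γ, D.φ g ∈ Subgroup.normalizer (Q : Set (MulAut D.V)) := by
    intro g
    exact normalizes_of_char H Q l hQl hQ hQL _ (hnormH g)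
  let W : Subgroup D.V :=
    { carrier := {v | ∀ x ∈ Q, x v = v}
      one_mem' := fun x _ => map_one x
      mul_mem' := by
        intro v w hv hw x hx
        rw [map_mul, hv x hx, hw x hx]
      inv_mem' := by
        intro v hv x hx
        rw [map_inv, hv x hx] }
  have hWne : W ≠ ⊥ := by
    have h1 := hQl.exists_fixed_point_of_prime_dvd_card_of_fixed_point D.V hlV (a := (1 : D.V))
      (by
        rw [MulAction.mem_fixedPoints]
        intro x
        exact map_one (x : MulAut D.V))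
    obtain ⟨v, hv, hv1⟩ := h1
    intro hbot
    have h2 : v ∈ W := by
      intro x hx
      exact (MulAction.mem_fixedPoints.mp hv) ⟨x, hx⟩
    rw [hbot, Subgroup.mem_bot] at h2
    exact hv1 h2.symm
  have hWn : (W.map D.V.subtype).Normal := by
    constructor
    rintro _ ⟨w, hw, rfl⟩ g
    refine ⟨D.φ g w, ?_, rfl⟩
    intro x hx
    have h1 := conj_mem_of_normalizer' Q (D.φ g) (hnorm g) x hx
    have h2 := hw _ h1
    have h3 : x (D.φ g w) = D.φ g (((D.φ g)⁻¹ * x * D.φ g) w) := by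
      simp [MulAut.mul_apply]
    rw [h3, h2]
  have hWV : W.map D.V.subtype ≤ D.V := Subgroup.map_subtype_le W
  have hWtop : W = ⊤ := by
    rcases D.hVmin _ hWn hWV with h | h
    · exfalso
      apply hWne
      exact (Subgroup.map_eq_bot_iff_of_injective W D.V.subtype_injective).mp h
    · apply Subgroup.map_injective D.V.subtype_injective
      rw [h, ← MonoidHom.range_eq_map, Subgroup.range_subtype]
  intro z hz hzl
  have hzQ := hQ z hz hzl
  ext v
  have h1 : v ∈ W := by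
    rw [hWtop]
    trivial
  rw [MulAut.one_apply]
  exact congrArg Subtype.val (h1 z hzQ)

/-- **The inductive step**: if `N' / V` is nilpotent, then `N'` centralizes `V`. -/
theorem step [Finite Γ] (hcore : S3CoreStmt.{u}) (k : ℕ)
    (hk : (⁅D.N, D.N⁆).lowerCentralSeries k ≤ D.V) :
    ⁅D.N, D.N⁆ ≤ Subgroup.centralizer (D.V : Set Γ) := by
  classical
  have hVn := D.hVn
  have hNn := D.hNn
  obtain ⟨l, hl, hl6, hlV, hVl⟩ := D.exists_exp
  have hlF : Fact l.Prime := ⟨hl⟩
  obtain ⟨Nh, hNh⟩ : ∃ Nh : Subgroup (MulAut D.V), Nh = D.N.map D.φ := ⟨_, rfl⟩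
  obtain ⟨fh, hfh⟩ : ∃ fh : MulAut D.V, fh = D.φ D.f := ⟨_, rfl⟩
  obtain ⟨τh, hτh⟩ : ∃ τh : MulAut D.V, τh = D.φ D.τ := ⟨_, rfl⟩
  have hfh3 : fh ^ 3 = 1 := by rw [hfh, ← map_pow, D.hf3, map_one]
  have hτh2 : τh * τh = 1 := by rw [hτh, ← map_mul, D.hτ2, map_one]
  have hτhf : τh * fh * τh⁻¹ = fh⁻¹ := by
    rw [hτh, hfh, ← map_inv, ← map_mul, ← map_mul, D.hτf, map_inv]
  have hnormN : ∀ g : Γ, D.φ g ∈ Subgroup.normalizer (Nh : Set (MulAut D.V)) := by
    intro g
    rw [hNh]
    exact map_mem_normalizer D.φ _ g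
  have hfhN : fh ∈ Subgroup.normalizer (Nh : Set (MulAut D.V)) := by
    rw [hfh]
    exact hnormN _
  have hτhN : τh ∈ Subgroup.normalizer (Nh : Set (MulAut D.V)) := by
    rw [hτh]
    exact hnormN _
  have hNh6 : (Nat.card Nh).Coprime 6 := by
    rw [hNh]
    exact Nat.Coprime.coprime_dvd_left (Subgroup.card_map_dvd D.N D.φ) D.hN6
  have hNhs : Group.IsSolvable Nh := by
    have := D.hNs
    rw [hNh]
    exact Group.isSolvable_of_surjective (f := D.φ.subgroupMap D.N)
      (D.φ.subgroupMap_surjective D.N)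
  have hfpfN : ∀ n ∈ Nh, fh * n = n * fh → τh * n = n * τh → n = 1 := by
    rw [hNh, hfh, hτh]
    exact D.fpf_hat
  have hfpfV : ∀ v : D.V, fh v = v → τh v = v → v = 1 := by
    rw [hfh, hτh]
    exact D.fpf_V
  obtain ⟨hX, hCore⟩ := hcore D.V l hl hl6 (fun x y => Subtype.ext (D.V_comm x x.2 y y.2))
    (fun v => Subtype.ext (by simpa using hVl v v.2)) Nh fh τh hfh3 hτh2 hτhf hfhN hτhN hNh6
    hNhs hfpfN hfpfV
  have key : ∀ H : Subgroup (MulAut D.V), H ≤ Nh → Group.IsNilpotent H →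
      (∀ g : Γ, D.φ g ∈ Subgroup.normalizer (H : Set (MulAut D.V))) →
      H ≤ Subgroup.centralizer (Nh : Set (MulAut D.V)) := by
    intro H hHN hnil hnormH
    have hnol := D.no_l l hl hlV H hnil hnormH
    intro g hg
    apply Cfsg.Agent.Lib.helper30.mem_of_prime_pow_parts
    intro z hz t e ht hzt
    have hzH : z ∈ H := (Subgroup.zpowers_le.mpr hg) hz
    have hzpow : z ^ (t ^ e) = 1 := by
      rw [← hzt]
      exact pow_orderOf_eq_one z
    by_cases htl : t = l
    · subst htl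
      rw [hnol z hzH ⟨e, hzpow⟩]
      exact Subgroup.one_mem _
    · have htF : Fact t.Prime := ⟨ht⟩
      obtain ⟨Q, hQH, hQt, hQ⟩ := exists_sylow_of_nilpotent_sub H hnil t
      have hzQ : z ∈ Q := hQ z hzH ⟨e, hzpow⟩
      have hQnorm : ∀ g : Γ, D.φ g ∈ Subgroup.normalizer (Q : Set (MulAut D.V)) := fun g =>
        normalizes_of_char H Q t hQt hQ hQH _ (hnormH g)
      have hfQ : fh ∈ Subgroup.normalizer (Q : Set (MulAut D.V)) := by
        rw [hfh]
        exact hQnorm _
      have hτQ : τh ∈ Subgroup.normalizer (Q : Set (MulAut D.V)) := by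
        rw [hτh]
        exact hQnorm _
      have hQN : Q ≤ Nh := hQH.trans hHN
      have hQc := hX t ht htl Q hQN hQt hfQ hτQ
      have hNQ : Nh ≤ Subgroup.normalizer (Q : Set (MulAut D.V)) := by
        rw [hNh]
        rintro _ ⟨n, _, rfl⟩
        exact hQnorm n
      have h1 := hCore t ht htl Q Nh hQN (le_refl _) hQt hQc hfQ hτQ hfhN hτhN hNQ
      rw [Subgroup.mem_centralizer_iff]
      intro x hx
      exact h1 x hx z hzQ
  have hDh : (⁅Nh, Nh⁆).lowerCentralSeries k = ⊥ := by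
    rw [hNh, ← Subgroup.map_commutator, ← Subgroup.map_lowerCentralSeries,
      Subgroup.map_eq_bot_iff]
    exact hk.trans D.V_le_ker
  have hDnil : Group.IsNilpotent (⁅Nh, Nh⁆ : Subgroup (MulAut D.V)) :=
    Subgroup.isNilpotent_of_lowerCentralSeries_eq_bot hDh
  have hDle : ⁅Nh, Nh⁆ ≤ Nh := by
    rw [Subgroup.commutator_le]
    intro a ha b hb
    exact Nh.mul_mem (Nh.mul_mem (Nh.mul_mem ha hb) (Nh.inv_mem ha)) (Nh.inv_mem hb)
  have hDnorm : ∀ g : Γ, D.φ g ∈ Subgroup.normalizer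
      ((⁅Nh, Nh⁆ : Subgroup (MulAut D.V)) : Set (MulAut D.V)) := fun g =>
    normalizer_commutator Nh Nh _ (hnormN g) (hnormN g)
  have h1 := key _ hDle hDnil hDnorm
  have hNnil : Group.IsNilpotent Nh := by
    apply Subgroup.isNilpotent_of_lowerCentralSeries_eq_bot (n := 2)
    rw [Subgroup.lowerCentralSeries_succ, Subgroup.lowerCentralSeries_succ,
      Subgroup.lowerCentralSeries_zero, Subgroup.commutator_eq_bot_iff_le_centralizer]
    exact h1
  have h2 := key Nh (le_refl _) hNnil hnormN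
  have h3 : ⁅Nh, Nh⁆ = ⊥ := by
    rw [Subgroup.commutator_eq_bot_iff_le_centralizer]
    exact h2
  rw [hNh, ← Subgroup.map_commutator, Subgroup.map_eq_bot_iff] at h3
  intro x hx
  exact (D.φ_eq_one_iff x).mp (h3 hx)

end S3Step

/-- The internal form of the theorem on fixed-point-free actions of `S₃`: a finite group `Γ`
with a solvable normal subgroup `N` of order prime to `6`, an element `f` of order dividing
`3` and an involution `τ` inverting `f`, centralizing no nontrivial element of `N` in common;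
then the derived subgroup of `N` is nilpotent. -/
def S3IntStmt : Prop :=
  ∀ (Γ : Type u) [Group Γ] [Finite Γ] (N : Subgroup Γ) (f τ : Γ), N.Normal →
    Group.IsSolvable N → (Nat.card N).Coprime 6 → f ^ 3 = 1 → τ * τ = 1 → τ * f * τ⁻¹ = f⁻¹ →
    (∀ n ∈ N, f * n = n * f → τ * n = n * τ → n = 1) →
    ∃ k : ℕ, (⁅N, N⁆).lowerCentralSeries k = ⊥

/-- The internal form follows from the linear part. -/
theorem s3_int_of_core (hcore : S3CoreStmt.{u}) : S3IntStmt.{u} := by
  have key : ∀ n : ℕ, ∀ (Γ : Type u) [Group Γ] [Finite Γ] (N : Subgroup Γ) (f τ : Γ),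
      Nat.card N = n → N.Normal → Group.IsSolvable N → (Nat.card N).Coprime 6 → f ^ 3 = 1 →
      τ * τ = 1 → τ * f * τ⁻¹ = f⁻¹ →
      (∀ n ∈ N, f * n = n * f → τ * n = n * τ → n = 1) →
      ∃ k : ℕ, (⁅N, N⁆).lowerCentralSeries k = ⊥ := by
    intro n
    induction n using Nat.strong_induction_on with
    | _ n ih =>
      intro Γ _ _ N f τ hn hNn hNs hN6 hf3 hτ2 hτf hfpf
      by_cases hN : N = ⊥
      · refine ⟨0, ?_⟩
        rw [hN, Subgroup.lowerCentralSeries_zero, Subgroup.commutator_eq_bot_iff_le_centralizer]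
        exact bot_le
      obtain ⟨V, hVn, hVN, hVne, hVmin⟩ := exists_min_normal N hN
      obtain ⟨π, hπ⟩ : ∃ π : Γ →* Γ ⧸ V, π = QuotientGroup.mk' V := ⟨_, rfl⟩
      have hπs : Function.Surjective π := by
        rw [hπ]
        exact QuotientGroup.mk'_surjective V
      have hker : ∀ x : Γ, π x = 1 ↔ x ∈ V := by
        intro x
        rw [hπ, ← MonoidHom.mem_ker, QuotientGroup.ker_mk']
      have hcard' : Nat.card (N.map π) < n := by
        have h1 := Cfsg.Agent.Lib.helper21.card_map_mk_mul V N hVN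
        have h2 : 1 < Nat.card V := (Subgroup.one_lt_card_iff_ne_bot V).mpr hVne
        rw [hn, ← hπ] at h1
        have h3 : 0 < Nat.card (N.map π) := Nat.card_pos
        nlinarith
      have hN'n : (N.map π).Normal := Subgroup.Normal.map hNn π hπs
      have hN's : Group.IsSolvable (N.map π) :=
        Group.isSolvable_of_surjective (f := π.subgroupMap N) (π.subgroupMap_surjective N)
      have hN'6 : (Nat.card (N.map π)).Coprime 6 :=
        Nat.Coprime.coprime_dvd_left (Subgroup.card_map_dvd N π) hN6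
      have hf'3 : (π f) ^ 3 = 1 := by rw [← map_pow, hf3, map_one]
      have hτ'2 : π τ * π τ = 1 := by rw [← map_mul, hτ2, map_one]
      have hτ'f : π τ * π f * (π τ)⁻¹ = (π f)⁻¹ := by
        rw [← map_inv, ← map_mul, ← map_mul, hτf, map_inv]
      have hVs : Group.IsSolvable V :=
        Group.isSolvable_of_isSolvable_injective (Subgroup.inclusion_injective hVN)
      have hV6 : (Nat.card V).Coprime 6 :=
        Nat.Coprime.coprime_dvd_left (Subgroup.card_dvd_of_le hVN) hN6
      have hnormV : ∀ g : Γ, g ∈ Subgroup.normalizer (V : Set Γ) := by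
        intro g
        rw [Subgroup.normalizer_eq_top_iff.mpr hVn]
        exact Subgroup.mem_top g
      have hfpf' : ∀ x ∈ N.map π, π f * x = x * π f → π τ * x = x * π τ → x = 1 := by
        rintro _ ⟨g, hg, rfl⟩ h1 h2
        rw [hker]
        apply fpf_coset f τ hf3 hτ2 hτf N V hVN (hnormV f) (hnormV τ) hV6 hVs hfpf g hg
        · rw [← hker, map_mul, map_mul, map_mul, map_inv, map_inv, h1]
          group
        · rw [← hker, map_mul, map_mul, map_mul, map_inv, map_inv, h2]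
          group
      obtain ⟨k, hk⟩ := ih _ hcard' (Γ ⧸ V) (N.map π) (π f) (π τ) rfl hN'n hN's hN'6 hf'3
        hτ'2 hτ'f hfpf'
      have hkV : (⁅N, N⁆).lowerCentralSeries k ≤ V := by
        rw [← Subgroup.map_commutator, ← Subgroup.map_lowerCentralSeries,
          Subgroup.map_eq_bot_iff, hπ, QuotientGroup.ker_mk'] at hk
        exact hk
      obtain ⟨D, hDN, hDV⟩ : ∃ D : S3Step Γ, D.N = N ∧ D.V = V :=
        ⟨⟨N, V, f, τ, hNn, hVn, hNs, hN6, hVN, hVne, hVmin, hf3, hτ2, hτf, hfpf⟩, rfl, rfl⟩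
      have hstep := D.step hcore k (by rw [hDN, hDV]; exact hkV)
      rw [hDN, hDV] at hstep
      refine ⟨k + 1, ?_⟩
      rw [Subgroup.lowerCentralSeries_succ, Subgroup.commutator_eq_bot_iff_le_centralizer]
      exact hkV.trans (Subgroup.le_centralizer_iff.mp hstep)
  intro Γ _ _ N f τ hNn hNs hN6 hf3 hτ2 hτf hfpf
  exact key _ Γ N f τ rfl hNn hNs hN6 hf3 hτ2 hτf hfpf

/-- The internal form of the theorem. -/
theorem s3_int : S3IntStmt.{u} := s3_int_of_core s3_core

/-- The theorem for an action of `S₃` by automorphisms follows from the internal form. -/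
theorem s3_top_of_int (h : S3IntStmt.{u}) {G : Type u} [Group G] [Finite G]
    [Group.IsSolvable G] [MulDistribMulAction (Equiv.Perm (Fin 3)) G]
    (hcop : (Nat.card G).Coprime 6)
    (hfpf : ∀ g : G, (∀ a : Equiv.Perm (Fin 3), a • g = g) → g = 1) :
    Group.IsNilpotent ↥(commutator G) := by
  classical
  obtain ⟨φ₀, hφ₀⟩ : ∃ φ₀ : Equiv.Perm (Fin 3) →* MulAut G, ∀ a g, φ₀ a g = a • g :=
    ⟨MulDistribMulAction.toMulAut (Equiv.Perm (Fin 3)) G, fun a g => rfl⟩
  have hfin : Finite (G ⋊[φ₀] Equiv.Perm (Fin 3)) :=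
    Finite.of_equiv _ SemidirectProduct.equivProd.symm
  obtain ⟨il, hil, hilinj⟩ : ∃ il : G →* G ⋊[φ₀] Equiv.Perm (Fin 3),
      il = SemidirectProduct.inl ∧ Function.Injective il :=
    ⟨_, rfl, SemidirectProduct.inl_injective⟩
  obtain ⟨ir, hir⟩ : ∃ ir : Equiv.Perm (Fin 3) →* G ⋊[φ₀] Equiv.Perm (Fin 3),
      ir = SemidirectProduct.inr := ⟨_, rfl⟩
  have haut : ∀ (a : Equiv.Perm (Fin 3)) (g : G), il (a • g) = ir a * il g * ir a⁻¹ := by
    intro a g
    rw [hil, hir, ← hφ₀]
    exact SemidirectProduct.inl_aut a g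
  obtain ⟨c, hc⟩ : ∃ c : Equiv.Perm (Fin 3), c = finRotate 3 := ⟨_, rfl⟩
  obtain ⟨s, hs⟩ : ∃ s : Equiv.Perm (Fin 3), s = Equiv.swap 0 1 := ⟨_, rfl⟩
  have hc3 : c ^ 3 = 1 := by
    rw [hc]
    decide
  have hs2 : s * s = 1 := by
    rw [hs]
    decide
  have hsc : s * c * s⁻¹ = c⁻¹ := by
    rw [hs, hc]
    decide
  have hall : ∀ a : Equiv.Perm (Fin 3),
      a = 1 ∨ a = c ∨ a = c * c ∨ a = s ∨ a = s * c ∨ a = s * (c * c) := by
    rw [hc, hs]
    decide
  have hNn : (il.range).Normal := by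
    rw [hil, SemidirectProduct.range_inl_eq_ker_rightHom]
    infer_instance
  have hNs : Group.IsSolvable il.range :=
    Group.isSolvable_of_surjective (il.rangeRestrict_surjective)
  have hN6 : (Nat.card il.range).Coprime 6 := by
    have h1 : Nat.card il.range = Nat.card G :=
      Nat.card_congr (MonoidHom.ofInjective hilinj).toEquiv.symm
    rw [h1]
    exact hcop
  have hf3 : (ir c) ^ 3 = 1 := by rw [← map_pow, hc3, map_one]
  have hτ2 : ir s * ir s = 1 := by rw [← map_mul, hs2, map_one]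
  have hτf : ir s * ir c * (ir s)⁻¹ = (ir c)⁻¹ := by
    rw [← map_inv, ← map_mul, ← map_mul, hsc, map_inv]
  have hfpf' : ∀ n ∈ il.range, ir c * n = n * ir c → ir s * n = n * ir s → n = 1 := by
    rintro _ ⟨g, rfl⟩ h1 h2
    have hcg : c • g = g := by
      apply hilinj
      rw [haut, h1, map_inv, mul_inv_cancel_right]
    have hsg : s • g = g := by
      apply hilinj
      rw [haut, h2, map_inv, mul_inv_cancel_right]
    have hg1 : g = 1 := by
      apply hfpf
      intro a
      rcases hall a with h | h | h | h | h | h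
      · rw [h]
        exact one_smul _ g
      · rw [h]
        exact hcg
      · rw [h, mul_smul, hcg, hcg]
      · rw [h]
        exact hsg
      · rw [h, mul_smul, hcg, hsg]
      · rw [h, mul_smul, mul_smul, hcg, hcg, hsg]
    rw [hg1, map_one]
  obtain ⟨k, hk⟩ := h (G ⋊[φ₀] Equiv.Perm (Fin 3)) il.range (ir c) (ir s) hNn hNs hN6 hf3 hτ2
    hτf hfpf'
  have hk' : Subgroup.lowerCentralSeries ⁅(⊤ : Subgroup G), (⊤ : Subgroup G)⁆ k = ⊥ := by
    rw [MonoidHom.range_eq_map, ← Subgroup.map_commutator,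
      ← Subgroup.map_lowerCentralSeries] at hk
    exact (Subgroup.map_eq_bot_iff_of_injective _ hilinj).mp hk
  exact Subgroup.isNilpotent_of_lowerCentralSeries_eq_bot hk'

/-- **Fixed-point-free action of `S₃` on a solvable group of order prime to `6`**: the derived
subgroup is nilpotent. -/
theorem s3_fpf_derived_nilpotent {G : Type u} [Group G] [Finite G]
    [Group.IsSolvable G] [MulDistribMulAction (Equiv.Perm (Fin 3)) G]
    (hcop : (Nat.card G).Coprime 6)
    (hfpf : ∀ g : G, (∀ a : Equiv.Perm (Fin 3), a • g = g) → g = 1) :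
    Group.IsNilpotent ↥(commutator G) :=
  s3_top_of_int s3_int hcop hfpf

end Cfsg.Agent.Lib.helper66
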