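import Mathlib
import Cfsg.Agent.Lib.helper89.S60Defs

/-! S6000 split (architect helper89), piece ATR (helper66, row owner): an element of a framed group `R`
which is not scalar has trace zero. -/

set_option autoImplicit false

namespace Cfsg.Agent.Lib.helper89.S60

open Matrix Cfsg Cfsg.Geo

/-- A matrix anticommuting with an involution has trace zero (`2 ≠ 0`). -/
theorem h66_s60_trace_anti {F : Type*} [Field F] (h2 : (2 : F) ≠ 0) (T P : Matrix (Fin 4) (Fin 4) F)
    (hT : T * T = 1) (hTP : T * P = -(P * T)) : Matrix.trace P = 0 := by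
  have h1 : Matrix.trace P = - Matrix.trace P := by
    calc Matrix.trace P = Matrix.trace (T * T * P) := by rw [hT, one_mul]
      _ = Matrix.trace (T * (T * P)) := by rw [mul_assoc]
      _ = Matrix.trace (T * (-(P * T))) := by rw [hTP]
      _ = - Matrix.trace (T * (P * T)) := by rw [mul_neg, Matrix.trace_neg]
      _ = - Matrix.trace ((P * T) * T) := by rw [Matrix.trace_mul_comm]
      _ = - Matrix.trace P := by rw [mul_assoc, hT, mul_one]
  have h3 : (2 : F) * Matrix.trace P = 0 := by linear_combination h1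
  exact (mul_eq_zero.mp h3).resolve_left h2

/-- Commutation up to a scalar is multiplicative. -/
theorem h66_s60_sc_mul {F : Type*} [Field F] (T A B : Matrix (Fin 4) (Fin 4) F) (ε δ : F)
    (hA : T * A = ε • (A * T)) (hB : T * B = δ • (B * T)) :
    T * (A * B) = (ε * δ) • (A * B * T) := by
  rw [← mul_assoc, hA, Matrix.smul_mul, mul_assoc, hB, Matrix.mul_smul, smul_smul, mul_assoc]

/-- One factor of the normal form commutes with `t j` up to a sign. -/
theorem h66_s60_sc_factor {F : Type*} [Field F] (t : Fin 4 → GL (Fin 4) F)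
    (hta : ∀ j k, j ≠ k → (t j : Matrix (Fin 4) (Fin 4) F) * (t k : Matrix (Fin 4) (Fin 4) F)
      = -((t k : Matrix (Fin 4) (Fin 4) F) * (t j : Matrix (Fin 4) (Fin 4) F)))
    (a : Fin 4 → Bool) (j k : Fin 4) :
    (t j : Matrix (Fin 4) (Fin 4) F) * (if a k then (t k : Matrix (Fin 4) (Fin 4) F) else 1)
      = (if a k = true ∧ k ≠ j then (-1 : F) else 1) •
        ((if a k then (t k : Matrix (Fin 4) (Fin 4) F) else 1) * (t j : Matrix (Fin 4) (Fin 4) F)) := by
  by_cases hak : a k = true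
  · by_cases hkj : k = j
    · subst hkj
      simp [hak]
    · have h := hta j k (Ne.symm hkj)
      simp [hak, hkj, h]
  · simp [hak]

/-- ATR (M). -/
theorem s60_trace_zero {F : Type*} [Field F] [Fintype F] (h2 : (2 : F) ≠ 0) (R : Subgroup (GL (Fin 4) F)) (w : F) (t : Fin 4 → GL (Fin 4) F) (hfr : Frame R w t) :
    ∀ s ∈ R, (∀ c : F, (s : Matrix (Fin 4) (Fin 4) F) ≠ c • (1 : Matrix (Fin 4) (Fin 4) F)) → Matrix.trace (s : Matrix (Fin 4) (Fin 4) F) = 0 := by
  obtain ⟨-, ht2, hta, hgen⟩ := hfr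
  intro s hs hns
  obtain ⟨a, e, hse⟩ := hgen s hs
  have key : ∀ j : Fin 4, (t j : Matrix (Fin 4) (Fin 4) F) *
      ((if a 0 then (t 0 : Matrix (Fin 4) (Fin 4) F) else 1) * (if a 1 then (t 1 : Matrix (Fin 4) (Fin 4) F) else 1) *
        (if a 2 then (t 2 : Matrix (Fin 4) (Fin 4) F) else 1) * (if a 3 then (t 3 : Matrix (Fin 4) (Fin 4) F) else 1))
      = ((if a 0 = true ∧ (0 : Fin 4) ≠ j then (-1 : F) else 1) * (if a 1 = true ∧ (1 : Fin 4) ≠ j then (-1 : F) else 1) *
          (if a 2 = true ∧ (2 : Fin 4) ≠ j then (-1 : F) else 1) * (if a 3 = true ∧ (3 : Fin 4) ≠ j then (-1 : F) else 1)) •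
        (((if a 0 then (t 0 : Matrix (Fin 4) (Fin 4) F) else 1) * (if a 1 then (t 1 : Matrix (Fin 4) (Fin 4) F) else 1) *
          (if a 2 then (t 2 : Matrix (Fin 4) (Fin 4) F) else 1) * (if a 3 then (t 3 : Matrix (Fin 4) (Fin 4) F) else 1)) *
          (t j : Matrix (Fin 4) (Fin 4) F)) := by
    intro j
    exact h66_s60_sc_mul _ _ _ _ _ (h66_s60_sc_mul _ _ _ _ _ (h66_s60_sc_mul _ _ _ _ _
      (h66_s60_sc_factor t hta a j 0) (h66_s60_sc_factor t hta a j 1))
      (h66_s60_sc_factor t hta a j 2)) (h66_s60_sc_factor t hta a j 3)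
  have hex : ∃ j : Fin 4, ((if a 0 = true ∧ (0 : Fin 4) ≠ j then (-1 : F) else 1) * (if a 1 = true ∧ (1 : Fin 4) ≠ j then (-1 : F) else 1) *
          (if a 2 = true ∧ (2 : Fin 4) ≠ j then (-1 : F) else 1) * (if a 3 = true ∧ (3 : Fin 4) ≠ j then (-1 : F) else 1)) = -1 := by
    cases a0 : a 0 <;> cases a1 : a 1 <;> cases a2 : a 2 <;> cases a3 : a 3
    all_goals first
      | (exfalso; apply hns (w ^ e); rw [hse]; simp [a0, a1, a2, a3]; done)
      | (refine ⟨0, ?_⟩; simp; done)
      | (refine ⟨1, ?_⟩; simp; done)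
      | (refine ⟨2, ?_⟩; simp; done)
      | (refine ⟨3, ?_⟩; simp; done)
  obtain ⟨j, hj⟩ := hex
  have hanti := key j
  rw [hj, neg_smul, one_smul] at hanti
  rw [hse, Matrix.trace_smul, h66_s60_trace_anti h2 _ _ (ht2 j) hanti, smul_zero]

end Cfsg.Agent.Lib.helper89.S60
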