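import Mathlib

/-! S6000 split, sub-lemma of AELT2 requested by helper62 (helper66): a double count of commuting pairs
`(t, g) ∈ T × G` when centralizers of elements of `T` have index at most two on both sides. -/

set_option autoImplicit false

namespace Cfsg.Agent.Lib.helper89.S60

open Classical in
/-- If left translation by `g0` swaps the truth set and the failure set of `p` inside `S`, exactly half
of `S` satisfies `p`. -/
theorem h66_half_count {G : Type*} [Group G] (S : Finset G) (p : G → Prop) (g0 : G)
    (hS : ∀ g, g ∈ S → g0 * g ∈ S) (hS' : ∀ g, g ∈ S → g0⁻¹ * g ∈ S)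
    (h1 : ∀ g ∈ S, p g → ¬ p (g0 * g)) (h2 : ∀ h ∈ S, ¬ p h → p (g0⁻¹ * h)) :
    2 * (S.filter p).card = S.card := by
  have himg : (S.filter p).image (fun g => g0 * g) = S.filter (fun g => ¬ p g) := by
    ext h
    simp only [Finset.mem_image, Finset.mem_filter]
    constructor
    · rintro ⟨g, ⟨hgS, hpg⟩, rfl⟩
      exact ⟨hS g hgS, h1 g hgS hpg⟩
    · rintro ⟨hhS, hph⟩
      exact ⟨g0⁻¹ * h, ⟨hS' h hhS, h2 h hhS hph⟩, by group⟩
  have hcard : (S.filter (fun g => ¬ p g)).card = (S.filter p).card := by
    rw [← himg, Finset.card_image_of_injective _ (mul_right_injective g0)]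
  have h3 := Finset.card_filter_add_card_filter_not (s := S) p
  omega

open Classical in
/-- The sub-lemma (helper62's statement). -/
theorem h66_comm_count {G : Type*} [Group G] [Finite G] (T : Subgroup G) (hZ : Subgroup.center G ≤ T)
    (H1 : ∀ t ∈ T, ∀ g h : G, ¬ Commute t g → ¬ Commute t h → Commute t (g⁻¹ * h))
    (H2 : ∀ g : G, ∀ s ∈ T, ∀ t ∈ T, ¬ Commute s g → ¬ Commute t g → Commute (s⁻¹ * t) g) :
    Nat.card (Subgroup.center G) * Nat.card G
      = Nat.card (Subgroup.centralizer (T : Set G)) * Nat.card T := by
  have hfin : Fintype G := Fintype.ofFinite G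
  obtain ⟨Tf, hTf⟩ : ∃ Tf : Finset G, Tf = Finset.univ.filter (fun x => x ∈ T) := ⟨_, rfl⟩
  have hmemT : ∀ x, x ∈ Tf ↔ x ∈ T := by
    intro x
    rw [hTf, Finset.mem_filter]
    exact ⟨fun h => h.2, fun h => ⟨Finset.mem_univ _, h⟩⟩
  have hsub : ∀ H : Subgroup G, Nat.card H = (Finset.univ.filter (fun x => x ∈ H)).card := by
    intro H
    rw [← Fintype.card_subtype, Nat.card_eq_fintype_card]
  have cardT : Nat.card T = Tf.card := by rw [hsub, hTf]
  have cardZ : Nat.card (Subgroup.center G) = (Tf.filter (fun t => t ∈ Subgroup.center G)).card := by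
    rw [hsub]
    congr 1
    ext x
    simp only [Finset.mem_filter, Finset.mem_univ, true_and, hmemT]
    exact ⟨fun h => ⟨hZ h, h⟩, fun h => h.2⟩
  have cardC := hsub (Subgroup.centralizer (T : Set G))
  have cardG : Nat.card G = (Finset.univ : Finset G).card := by
    rw [Nat.card_eq_fintype_card]
    rfl
  -- rows
  have hrow : ∀ t ∈ Tf, 2 * (Finset.univ.filter (fun g => Commute t g)).card
      = (Finset.univ : Finset G).card * (if t ∈ Subgroup.center G then 2 else 1) := by
    intro t ht
    have htT : t ∈ T := (hmemT t).mp ht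
    by_cases hc : t ∈ Subgroup.center G
    · rw [if_pos hc]
      have e : Finset.univ.filter (fun g => Commute t g) = Finset.univ := by
        apply Finset.filter_true_of_mem
        intro g _
        exact (Subgroup.mem_center_iff.mp hc g).symm
      rw [e, mul_comm]
    · rw [if_neg hc, mul_one]
      obtain ⟨g0, hg0⟩ : ∃ g0, ¬ Commute t g0 := by
        by_contra hcon
        apply hc
        rw [Subgroup.mem_center_iff]
        intro g
        by_contra hg
        exact hcon ⟨g, fun h => hg h.eq.symm⟩
      apply h66_half_count Finset.univ (fun g => Commute t g) g0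
      · intro g _; exact Finset.mem_univ _
      · intro g _; exact Finset.mem_univ _
      · intro g _ hg hcon
        apply hg0
        have h3 : Commute t (g0 * g * g⁻¹) := hcon.mul_right hg.inv_right
        rwa [mul_inv_cancel_right] at h3
      · intro h _ hh
        exact H1 t htT g0 h hg0 hh
  -- columns
  have hcol : ∀ g : G, 2 * (Tf.filter (fun t => Commute t g)).card
      = Tf.card * (if g ∈ Subgroup.centralizer (T : Set G) then 2 else 1) := by
    intro g
    by_cases hc : g ∈ Subgroup.centralizer (T : Set G)
    · rw [if_pos hc]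
      have e : Tf.filter (fun t => Commute t g) = Tf := by
        apply Finset.filter_true_of_mem
        intro t ht
        exact Subgroup.mem_centralizer_iff.mp hc t ((hmemT t).mp ht)
      rw [e, mul_comm]
    · rw [if_neg hc, mul_one]
      obtain ⟨s0, hs0T, hs0⟩ : ∃ s0 ∈ T, ¬ Commute s0 g := by
        by_contra hcon
        apply hc
        rw [Subgroup.mem_centralizer_iff]
        intro t ht
        by_contra hg
        exact hcon ⟨t, ht, fun h => hg h.eq⟩
      apply h66_half_count Tf (fun t => Commute t g) s0
      · intro t ht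
        exact (hmemT _).mpr (T.mul_mem hs0T ((hmemT t).mp ht))
      · intro t ht
        exact (hmemT _).mpr (T.mul_mem (T.inv_mem hs0T) ((hmemT t).mp ht))
      · intro t _ ht hcon
        apply hs0
        have h3 : Commute (s0 * t * t⁻¹) g := hcon.mul_left ht.inv_left
        rwa [mul_inv_cancel_right] at h3
      · intro t ht hh
        exact H2 g s0 hs0T t ((hmemT t).mp ht) hs0 hh
  -- double count
  have hdc : ∑ t ∈ Tf, (Finset.univ.filter (fun g => Commute t g)).card
      = ∑ g : G, (Tf.filter (fun t => Commute t g)).card := by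
    simp only [Finset.card_filter]
    exact Finset.sum_comm
  have hL : 2 * ∑ t ∈ Tf, (Finset.univ.filter (fun g => Commute t g)).card
      = (Finset.univ : Finset G).card * (Tf.card + (Tf.filter (fun t => t ∈ Subgroup.center G)).card) := by
    rw [Finset.mul_sum, Finset.sum_congr rfl hrow, ← Finset.mul_sum]
    congr 1
    rw [Finset.card_filter, Finset.card_eq_sum_ones, ← Finset.sum_add_distrib]
    apply Finset.sum_congr rfl
    intro t _
    split_ifs <;> rfl
  have hR : 2 * ∑ g : G, (Tf.filter (fun t => Commute t g)).card
      = Tf.card * ((Finset.univ : Finset G).card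
        + (Finset.univ.filter (fun g => g ∈ Subgroup.centralizer (T : Set G))).card) := by
    rw [Finset.mul_sum, Finset.sum_congr rfl (fun g _ => hcol g), ← Finset.mul_sum]
    congr 1
    rw [Finset.card_filter, Finset.card_eq_sum_ones, ← Finset.sum_add_distrib]
    apply Finset.sum_congr rfl
    intro t _
    split_ifs <;> rfl
  rw [cardZ, cardG, cardC, cardT]
  have h4 := hL.symm.trans ((congrArg (fun n => 2 * n) hdc).trans hR)
  rw [mul_add, mul_add, mul_comm Tf.card (Finset.univ : Finset G).card] at h4
  have h5 := Nat.add_left_cancel h4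
  rw [mul_comm, h5, mul_comm]

end Cfsg.Agent.Lib.helper89.S60
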