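import Mathlib
import Cfsg.Agent.Lib.helper24.SffDefs

set_option autoImplicit false

namespace Cfsg.Agent.Lib.helper24

open Module Matrix Polynomial

/-- IRR (racing copy, prefixed name): an operator without proper nonzero invariant subspaces has
irreducible minimal polynomial and the space is a copy of `AdjoinRoot (minpoly)`. -/
theorem h66_sff_irr_model {F : Type*} [Field F] {V : Type*} [AddCommGroup V] [Module F V]
    [FiniteDimensional F V] [Nontrivial V] (f : Module.End F V)
    (hmin : ∀ W : Submodule F V, (∀ w ∈ W, f w ∈ W) → W = ⊥ ∨ W = ⊤) :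
    Irreducible (minpoly F f) ∧
      ∃ e : AdjoinRoot (minpoly F f) ≃ₗ[F] V, ∀ a : AdjoinRoot (minpoly F f),
        e (AdjoinRoot.root (minpoly F f) * a) = f (e a) := by
  have hint : IsIntegral F f := Algebra.IsIntegral.isIntegral f
  have hmonic := minpoly.monic hint
  have hne : minpoly F f ≠ 0 := hmonic.ne_zero
  have hker : ∀ p : F[X], LinearMap.ker (aeval f p) = ⊥ ∨ LinearMap.ker (aeval f p) = ⊤ := by
    intro p
    apply hmin
    intro w hw
    rw [LinearMap.mem_ker] at hw ⊢
    have hcomm : aeval f p * f = f * aeval f p := by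
      have h1 : Commute (aeval f p) (aeval f X) := (Commute.all p X).map (aeval f)
      rw [aeval_X] at h1
      exact h1.eq
    have h2 := congrArg (fun T : Module.End F V => T w) hcomm
    simp only [Module.End.mul_apply] at h2
    rw [h2, hw, map_zero]
  have hirr : Irreducible (minpoly F f) := by
    rw [irreducible_iff]
    refine ⟨minpoly.not_isUnit F f, fun a b hab => ?_⟩
    rcases hker b with hb | hb
    · right
      have ha : aeval f a = 0 := by
        apply LinearMap.ext
        intro v
        have h1 : aeval f b (aeval f a v) = 0 := by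
          have h2 : aeval f b * aeval f a = 0 := by
            rw [← map_mul, mul_comm, ← hab, minpoly.aeval]
          have h3 := congrArg (fun T : Module.End F V => T v) h2
          simpa using h3
        have h4 : aeval f a v ∈ LinearMap.ker (aeval f b) := h1
        rw [hb] at h4
        simpa using h4
      obtain ⟨c, hc⟩ := minpoly.dvd F f ha
      have h5 : minpoly F f * 1 = minpoly F f * (c * b) := by
        rw [mul_one, ← mul_assoc, ← hc, ← hab]
      have h6 := mul_left_cancel₀ hne h5
      exact IsUnit.of_mul_eq_one c (by rw [mul_comm]; exact h6.symm)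
    · left
      have hb0 : aeval f b = 0 := LinearMap.ker_eq_top.mp hb
      obtain ⟨c, hc⟩ := minpoly.dvd F f hb0
      have h5 : minpoly F f * 1 = minpoly F f * (a * c) := by
        rw [mul_one]
        conv_lhs => rw [hab, hc]
        ring
      have h6 := mul_left_cancel₀ hne h5
      exact IsUnit.of_mul_eq_one c h6.symm
  refine ⟨hirr, ?_⟩
  have : Fact (Irreducible (minpoly F f)) := ⟨hirr⟩
  obtain ⟨v, hv⟩ := exists_ne (0 : V)
  let L : AdjoinRoot (minpoly F f) →ₐ[F] Module.End F V :=
    Ideal.Quotient.liftₐ (Ideal.span {minpoly F f}) (aeval f) (by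
      intro a ha
      rw [Ideal.mem_span_singleton] at ha
      obtain ⟨c, rfl⟩ := ha
      rw [map_mul, minpoly.aeval, zero_mul])
  have hLroot : L (AdjoinRoot.root (minpoly F f)) = f := by
    change aeval f (X : F[X]) = f
    exact aeval_X f
  let φ : AdjoinRoot (minpoly F f) →ₗ[F] V :=
    { toFun := fun a => L a v
      map_add' := fun a b => by simp
      map_smul' := fun c a => by simp }
  have hφ : ∀ a, φ a = L a v := fun _ => rfl
  have hinj : Function.Injective φ := by
    rw [← LinearMap.ker_eq_bot, LinearMap.ker_eq_bot']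
    intro a ha
    by_contra hane
    apply hv
    have h1 : L (a⁻¹ * a) v = 0 := by
      rw [map_mul, Module.End.mul_apply, ← hφ, ha, map_zero]
    rwa [inv_mul_cancel₀ hane, map_one] at h1
  have hsurj : Function.Surjective φ := by
    rw [← LinearMap.range_eq_top]
    rcases hmin (LinearMap.range φ) (by
        rintro _ ⟨a, rfl⟩
        refine ⟨AdjoinRoot.root _ * a, ?_⟩
        rw [hφ, map_mul, hLroot]
        rfl) with h | h
    · exfalso
      apply hv
      have h1 : v ∈ LinearMap.range φ := ⟨1, by rw [hφ, map_one]; rfl⟩
      rw [h] at h1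
      simpa using h1
    · exact h
  refine ⟨LinearEquiv.ofBijective φ ⟨hinj, hsurj⟩, fun a => ?_⟩
  change φ (AdjoinRoot.root (minpoly F f) * a) = f (φ a)
  rw [hφ, hφ, map_mul, hLroot]
  rfl

end Cfsg.Agent.Lib.helper24
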