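import Mathlib
import Cfsg.Agent.Lib.helper24.SffDefs
import Cfsg.Agent.Lib.helper24.DecMaschke

set_option autoImplicit false

namespace Cfsg.Agent.Lib.helper24

open Module Matrix Polynomial

/-- SPLIT (racing copy, prefixed name): Maschke for one operator with `f ^ r = 1`, together with a
minimal nonzero invariant subspace. -/
theorem h66_sff_split_irr {F : Type*} [Field F] {V : Type*} [AddCommGroup V] [Module F V]
    [FiniteDimensional F V] [Nontrivial V] (f : Module.End F V) (r : ℕ) (hrF : (r : F) ≠ 0)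
    (hf : f ^ r = 1) :
    ∃ W W' : Submodule F V, IsCompl W W' ∧ (∀ w ∈ W, f w ∈ W) ∧ (∀ w ∈ W', f w ∈ W') ∧ W ≠ ⊥ ∧
      ∀ U : Submodule F V, U ≤ W → (∀ u ∈ U, f u ∈ U) → U = ⊥ ∨ U = W := by
  classical
  have hwf : WellFounded ((· < ·) : Submodule F V → Submodule F V → Prop) := wellFounded_lt
  have hS : ({W : Submodule F V | (∀ w ∈ W, f w ∈ W) ∧ W ≠ ⊥}).Nonempty :=
    ⟨⊤, fun _ _ => Submodule.mem_top, top_ne_bot⟩
  obtain ⟨W, ⟨hW, hWne⟩, hmin⟩ := hwf.has_min _ hS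
  obtain ⟨W', hc, hW'⟩ := dec_maschke f r 1 one_ne_zero hrF (by rw [hf, one_smul]) W hW
  refine ⟨W, W', hc, hW, hW', hWne, fun U hU hUf => ?_⟩
  by_contra h
  have h' := not_or.mp h
  exact hmin U ⟨hUf, h'.1⟩ (lt_of_le_of_ne hU h'.2)

end Cfsg.Agent.Lib.helper24
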