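import Mathlib
import Cfsg.Agent.Lib.helper24.SffDefs
import Cfsg.Agent.Lib.helper66.SffIRR
import Cfsg.Agent.Lib.helper66.SffSPLIT

set_option autoImplicit false

namespace Cfsg.Agent.Lib.helper24

open Module Matrix Polynomial

universe u

/-- Irreducible case: a cyclic basis in which the operator is the companion matrix of its
minimal polynomial. -/
theorem h66_pb_irr {F : Type*} [Field F] (F₀ : Subfield F) (r : ℕ)
    (hpoly : ∀ g : F[X], g.Monic → Irreducible g → g ∣ (X ^ r - 1 : F[X]) → ∀ a, g.coeff a ∈ F₀)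
    {V : Type*} [AddCommGroup V] [Module F V] [FiniteDimensional F V] [Nontrivial V]
    (f : Module.End F V) (hf : f ^ r = 1)
    (hmin : ∀ W : Submodule F V, (∀ w ∈ W, f w ∈ W) → W = ⊥ ∨ W = ⊤) :
    ∃ (m : ℕ) (b : Basis (Fin m) F V), ∀ i j, b.repr (f (b j)) i ∈ F₀ := by
  obtain ⟨hirr, e, he⟩ := h66_sff_irr_model f hmin
  have hmonic : (minpoly F f).Monic := minpoly.monic (Algebra.IsIntegral.isIntegral f)
  have hdvd : minpoly F f ∣ (X ^ r - 1 : F[X]) := by
    apply minpoly.dvd
    simp [hf]
  have hcoef := hpoly _ hmonic hirr hdvd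
  have hg0 : minpoly F f ≠ 0 := hmonic.ne_zero
  refine ⟨(AdjoinRoot.powerBasis hg0).dim, (AdjoinRoot.powerBasis hg0).basis.map e, fun i j => ?_⟩
  have h1 : f (((AdjoinRoot.powerBasis hg0).basis.map e) j) =
      e (AdjoinRoot.root (minpoly F f) * (AdjoinRoot.powerBasis hg0).basis j) := by
    rw [he]; simp
  rw [h1]
  have h2 : ((AdjoinRoot.powerBasis hg0).basis.map e).repr
      (e (AdjoinRoot.root (minpoly F f) * (AdjoinRoot.powerBasis hg0).basis j)) i =
      Algebra.leftMulMatrix (AdjoinRoot.powerBasis hg0).basis (AdjoinRoot.root (minpoly F f)) i j := by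
    rw [Algebra.leftMulMatrix_eq_repr_mul]
    simp
  rw [h2]
  have h3 : AdjoinRoot.root (minpoly F f) = (AdjoinRoot.powerBasis hg0).gen :=
    (AdjoinRoot.powerBasis_gen hg0).symm
  rw [h3, PowerBasis.leftMulMatrix]
  simp only [Matrix.of_apply]
  have h4 : (AdjoinRoot.powerBasis hg0).minpolyGen = minpoly F f := by
    rw [PowerBasis.minpolyGen_eq, AdjoinRoot.powerBasis_gen, AdjoinRoot.minpoly_root hg0,
      hmonic.leadingCoeff]
    simp
  split_ifs
  · rw [h4]; exact neg_mem (hcoef _)
  · exact one_mem _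
  · exact zero_mem _

/-- General case, by induction on the dimension. -/
theorem h66_pb_gen {F : Type*} [Field F] (F₀ : Subfield F) (r : ℕ) (hrF : (r : F) ≠ 0)
    (hpoly : ∀ g : F[X], g.Monic → Irreducible g → g ∣ (X ^ r - 1 : F[X]) → ∀ a, g.coeff a ∈ F₀) :
    ∀ (d : ℕ) {V : Type u} [AddCommGroup V] [Module F V] [FiniteDimensional F V]
      (f : Module.End F V), finrank F V = d → f ^ r = 1 →
      ∃ (m : ℕ) (b : Basis (Fin m) F V), ∀ i j, b.repr (f (b j)) i ∈ F₀ := by
  intro d
  induction d using Nat.strong_induction_on with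
  | _ d ih =>
  intro V _ _ _ f hd hf
  by_cases hV : Nontrivial V
  · obtain ⟨W, W', hc, hW, hW', hWne, hWmin⟩ := h66_sff_split_irr f r hrF hf
    have hf₁ : (f.restrict hW) ^ r = 1 := by
      apply LinearMap.ext
      intro w
      apply Subtype.ext
      rw [Module.End.pow_restrict, LinearMap.restrict_apply]
      change (f ^ r) (w : V) = (w : V)
      rw [hf]
      rfl
    have hf₂ : (f.restrict hW') ^ r = 1 := by
      apply LinearMap.ext
      intro w
      apply Subtype.ext
      rw [Module.End.pow_restrict, LinearMap.restrict_apply]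
      change (f ^ r) (w : V) = (w : V)
      rw [hf]
      rfl
    have : Nontrivial W := Submodule.nontrivial_iff_ne_bot.mpr hWne
    have hmin₁ : ∀ U : Submodule F W, (∀ w ∈ U, (f.restrict hW) w ∈ U) → U = ⊥ ∨ U = ⊤ := by
      intro U hU
      rcases hWmin (U.map W.subtype) (Submodule.map_subtype_le W U) (by
          rintro _ ⟨u, hu, rfl⟩
          exact ⟨(f.restrict hW) u, hU u hu, rfl⟩) with h | h
      · left
        rw [eq_bot_iff]
        intro u hu
        have hu' : (u : V) ∈ U.map W.subtype := ⟨u, hu, rfl⟩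
        rw [h] at hu'
        rw [Submodule.mem_bot] at hu' ⊢
        exact Subtype.ext hu' 
      · right
        rw [eq_top_iff]
        intro w _
        have hw : (w : V) ∈ U.map W.subtype := by rw [h]; exact w.2
        obtain ⟨u, hu, hu'⟩ := hw
        have : u = w := Subtype.ext hu'
        rwa [← this]
    obtain ⟨m₁, b₁, hb₁⟩ := h66_pb_irr F₀ r hpoly (f.restrict hW) hf₁ hmin₁
    have hlt : finrank F W' < d := by
      have h1 := Submodule.finrank_add_eq_of_isCompl hc
      have h2 : 0 < finrank F W := finrank_pos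
      omega
    obtain ⟨m₂, b₂, hb₂⟩ := ih (finrank F W') hlt (f.restrict hW') rfl hf₂
    refine ⟨m₁ + m₂, ((b₁.prod b₂).map (Submodule.prodEquivOfIsCompl W W' hc)).reindex
      finSumFinEquiv, ?_⟩
    have key : ∀ (x : W × W') (i : Fin m₁ ⊕ Fin m₂),
        ((b₁.prod b₂).map (Submodule.prodEquivOfIsCompl W W' hc)).repr
          (f (Submodule.prodEquivOfIsCompl W W' hc x)) i =
        (b₁.prod b₂).repr ((f.restrict hW) x.1, (f.restrict hW') x.2) i := by
      intro x i
      have : f (Submodule.prodEquivOfIsCompl W W' hc x) =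
          Submodule.prodEquivOfIsCompl W W' hc ((f.restrict hW) x.1, (f.restrict hW') x.2) := by
        simp [Submodule.coe_prodEquivOfIsCompl', LinearMap.restrict_apply]
      rw [this, Basis.map_repr, LinearEquiv.trans_apply, LinearEquiv.symm_apply_apply]
    intro i j
    rw [Basis.reindex_apply, Basis.repr_reindex_apply, Basis.map_apply]
    rw [key]
    rcases h : finSumFinEquiv.symm j with j₁ | j₂ <;> rcases h' : finSumFinEquiv.symm i with i₁ | i₂
    · simp [Basis.prod_apply]
      exact hb₁ i₁ j₁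
    · simp [Basis.prod_apply]
    · simp [Basis.prod_apply]
    · simp [Basis.prod_apply]
      exact hb₂ i₂ j₂
  · rw [not_nontrivial_iff_subsingleton] at hV
    exact ⟨0, Basis.empty V, fun i => i.elim0⟩

/-- PB -/
theorem sff_basis_sub {F : Type*} [Field F] (F₀ : Subfield F) {n : ℕ} (r : ℕ) (hrF : (r : F) ≠ 0)
    (hpoly : ∀ g : F[X], g.Monic → Irreducible g → g ∣ (X ^ r - 1 : F[X]) → ∀ a, g.coeff a ∈ F₀)
    (y : Matrix (Fin n) (Fin n) F) (hy : y ^ r = 1) :
    ∃ P M₀ : Matrix (Fin n) (Fin n) F, P.det ≠ 0 ∧ (∀ i j, M₀ i j ∈ F₀) ∧ y * P = P * M₀ := by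
  have hf : (Matrix.toLin' y) ^ r = 1 := by
    rw [← Matrix.toLin'_pow, hy, Matrix.toLin'_one]; rfl
  obtain ⟨m, b, hb⟩ := h66_pb_gen F₀ r hrF hpoly (finrank F (Fin n → F)) (Matrix.toLin' y) rfl hf
  have hm : m = n := by
    have h := Module.finrank_eq_card_basis b
    simpa using h.symm
  subst hm
  refine ⟨Matrix.of (fun i j => b j i),
    Matrix.of (fun i j => b.repr (Matrix.toLin' y (b j)) i), ?_, hb, ?_⟩
  · have h1 : Matrix.of (fun i j => b j i) = (Pi.basisFun F (Fin m)).toMatrix b := by
      ext i j; simp [Basis.toMatrix_apply]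
    rw [h1]
    have h := Basis.toMatrix_mul_toMatrix_flip (Pi.basisFun F (Fin m)) b
    intro h0
    have h2 := congrArg Matrix.det h
    rw [Matrix.det_mul, h0] at h2
    simp at h2
  · ext i j
    simp only [Matrix.mul_apply, Matrix.of_apply]
    have h := congrFun (b.sum_repr (Matrix.toLin' y (b j))) i
    simp only [Finset.sum_apply, Pi.smul_apply, smul_eq_mul] at h
    rw [Matrix.toLin'_apply] at h
    rw [Matrix.toLin'_apply]
    have h' : (y *ᵥ b j) i = ∑ k, y i k * b j k := rfl
    rw [← h', ← h]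
    exact Finset.sum_congr rfl (fun k _ => mul_comm _ _)

end Cfsg.Agent.Lib.helper24
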