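import Mathlib
import Cfsg.Prelude.Def_Classical
import Cfsg.Prelude.Def_GeometricClasses
import Cfsg.Agent.Lib.helper49.WittIso

/-! S5977/S5978 block [A], piece JBASIS (helper66 racing copy, all names prefixed `h66_`): for an isometry
`x` with `x * x = -1` there are `e_1 .. e_m` such that `e_1, .., e_m, x e_1, .., x e_m` is an orthogonal
basis.  Route: extend an orthogonal family while it has fewer than `card ι` members. -/

set_option autoImplicit false

namespace Cfsg.Agent.Lib.helper59.Sfk

open Matrix Cfsg.Geo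

/-- In the orthogonal complement of fewer than `card ι` pairwise orthogonal non-isotropic vectors
there is a non-singular vector. -/
theorem h66_sfk_exists_perp {F : Type*} [Field F] {ι : Type} [Fintype ι] [DecidableEq ι]
    (Q : QuadraticForm F (ι → F)) (hQ : (QuadraticMap.polarBilin Q).Nondegenerate)
    {κ : Type} [Fintype κ] [DecidableEq κ] (b : κ → (ι → F))
    (horth : ∀ i j, i ≠ j → QuadraticMap.polar (⇑Q) (b i) (b j) = 0)
    (hne : ∀ i, QuadraticMap.polar (⇑Q) (b i) (b i) ≠ 0)
    (hcard : Fintype.card κ < Fintype.card ι) :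
    ∃ v : ι → F, (∀ k, QuadraticMap.polar (⇑Q) v (b k) = 0) ∧ Q v ≠ 0 := by
  classical
  obtain ⟨f, hf⟩ : ∃ f : (ι → F) →ₗ[F] (κ → F),
      ∀ v k, f v k = QuadraticMap.polar (⇑Q) v (b k) :=
    ⟨LinearMap.pi (fun k => (QuadraticMap.polarBilin Q).flip (b k)), fun v k => rfl⟩
  have hker : LinearMap.ker f ≠ ⊥ := by
    apply LinearMap.ker_ne_bot_of_finrank_lt
    rw [Module.finrank_fintype_fun_eq_card, Module.finrank_fintype_fun_eq_card]
    exact hcard
  obtain ⟨u, hu, hu0⟩ := (Submodule.ne_bot_iff _).mp hker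
  have hub : ∀ k, QuadraticMap.polar (⇑Q) u (b k) = 0 := by
    intro k
    have h := congrFun (LinearMap.mem_ker.mp hu) k
    rw [hf] at h
    exact h
  obtain ⟨v'', hv''⟩ : ∃ v'', QuadraticMap.polar (⇑Q) u v'' ≠ 0 := by
    by_contra hcon
    exact hu0 (hQ.1 u (fun y => by
      rw [QuadraticMap.polarBilin_apply_apply]
      by_contra hy
      exact hcon ⟨y, hy⟩))
  obtain ⟨c, hc⟩ : ∃ c : κ → F, ∀ k, c k =
      QuadraticMap.polar (⇑Q) v'' (b k) / QuadraticMap.polar (⇑Q) (b k) (b k) := ⟨_, fun k => rfl⟩
  obtain ⟨v, hvdef⟩ : ∃ v, v = v'' - ∑ k, c k • b k := ⟨_, rfl⟩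
  have hvb : ∀ j, QuadraticMap.polar (⇑Q) v (b j) = 0 := by
    intro j
    have e : QuadraticMap.polar (⇑Q) v (b j) = QuadraticMap.polar (⇑Q) v'' (b j)
        - ∑ k, c k * QuadraticMap.polar (⇑Q) (b k) (b j) := by
      rw [hvdef]
      simp only [← QuadraticMap.polarBilin_apply_apply, map_sub, map_sum, map_smul,
        LinearMap.sub_apply, LinearMap.sum_apply, LinearMap.smul_apply, smul_eq_mul]
    rw [e, Finset.sum_eq_single j]
    · rw [hc j, div_mul_cancel₀ _ (hne j), sub_self]
    · intro k _ hkj
      rw [horth k j hkj, mul_zero]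
    · intro h
      exact absurd (Finset.mem_univ j) h
  have huv : QuadraticMap.polar (⇑Q) u v ≠ 0 := by
    have e : QuadraticMap.polar (⇑Q) u v = QuadraticMap.polar (⇑Q) u v''
        - ∑ k, c k * QuadraticMap.polar (⇑Q) u (b k) := by
      rw [hvdef]
      simp only [← QuadraticMap.polarBilin_apply_apply, map_sub, map_sum, map_smul, smul_eq_mul]
    rw [e, Finset.sum_eq_zero (fun k _ => by rw [hub k, mul_zero]), sub_zero]
    exact hv''
  by_cases h1 : Q u = 0
  · by_cases h2 : Q v = 0
    · refine ⟨u + v, fun k => ?_, ?_⟩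
      · rw [QuadraticMap.polar_add_left, hub k, hvb k, add_zero]
      · intro h3
        apply huv
        unfold QuadraticMap.polar
        rw [h3, h1, h2, sub_zero, sub_zero]
    · exact ⟨v, hvb, h2⟩
  · exact ⟨u, hub, h1⟩

/-- JBASIS (L+), helper66 copy. -/
theorem h66_sfk_j_basis {F : Type*} [Field F] {ι : Type} [Fintype ι] [DecidableEq ι]
    (h2 : (2 : F) ≠ 0) (Q : QuadraticForm F (ι → F))
    (hQ : (QuadraticMap.polarBilin Q).Nondegenerate)
    (x : GL ι F) (hx : x ∈ Cfsg.isometryGroup F (⇑Q))
    (hxx : (x : Matrix ι ι F) * (x : Matrix ι ι F) = -1) :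
    ∃ (m : ℕ) (e : Fin m → (ι → F)),
      LinearIndependent F (Sum.elim e (fun i => (x : Matrix ι ι F) *ᵥ e i)) ∧
      Fintype.card ι = 2 * m ∧
      (∀ i j, i ≠ j → QuadraticMap.polar (⇑Q) (e i) (e j) = 0) ∧
      (∀ i j, QuadraticMap.polar (⇑Q) (e i) ((x : Matrix ι ι F) *ᵥ e j) = 0) ∧
      ∀ i, Q (e i) ≠ 0 := by
  classical
  have hQx : ∀ v, Q ((x : Matrix ι ι F) *ᵥ v) = Q v := fun v => hx v v
  have hpx : ∀ u v, QuadraticMap.polar (⇑Q) ((x : Matrix ι ι F) *ᵥ u) ((x : Matrix ι ι F) *ᵥ v)
      = QuadraticMap.polar (⇑Q) u v := by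
    intro u v
    unfold QuadraticMap.polar
    rw [← Matrix.mulVec_add, hQx, hQx, hQx]
  have hxxv : ∀ v, (x : Matrix ι ι F) *ᵥ ((x : Matrix ι ι F) *ᵥ v) = -v := by
    intro v
    rw [Matrix.mulVec_mulVec, hxx, Matrix.neg_mulVec, Matrix.one_mulVec]
  have hskew : ∀ u v, QuadraticMap.polar (⇑Q) u ((x : Matrix ι ι F) *ᵥ v)
      = - QuadraticMap.polar (⇑Q) ((x : Matrix ι ι F) *ᵥ u) v := by
    intro u v
    rw [← hpx u, hxxv, QuadraticMap.polar_neg_right]
  have hself : ∀ v, QuadraticMap.polar (⇑Q) v ((x : Matrix ι ι F) *ᵥ v) = 0 := by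
    intro v
    have h := hskew v v
    rw [QuadraticMap.polar_comm (⇑Q) ((x : Matrix ι ι F) *ᵥ v) v] at h
    have h3 : (2 : F) * QuadraticMap.polar (⇑Q) v ((x : Matrix ι ι F) *ᵥ v) = 0 := by
      linear_combination h
    exact (mul_eq_zero.mp h3).resolve_left h2
  have hself2 : ∀ v, Q v ≠ 0 → QuadraticMap.polar (⇑Q) v v ≠ 0 := by
    intro v hv
    rw [QuadraticMap.polar_self, nsmul_eq_mul]
    exact mul_ne_zero (by exact_mod_cast h2) hv
  have key : ∀ k : ℕ, ∀ (m : ℕ) (e : Fin m → (ι → F)), Fintype.card ι - 2 * m = k →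
      (∀ i j, i ≠ j → QuadraticMap.polar (⇑Q) (e i) (e j) = 0) →
      (∀ i j, QuadraticMap.polar (⇑Q) (e i) ((x : Matrix ι ι F) *ᵥ e j) = 0) →
      (∀ i, Q (e i) ≠ 0) →
      ∃ (m : ℕ) (e : Fin m → (ι → F)),
        LinearIndependent F (Sum.elim e (fun i => (x : Matrix ι ι F) *ᵥ e i)) ∧
        Fintype.card ι = 2 * m ∧
        (∀ i j, i ≠ j → QuadraticMap.polar (⇑Q) (e i) (e j) = 0) ∧
        (∀ i j, QuadraticMap.polar (⇑Q) (e i) ((x : Matrix ι ι F) *ᵥ e j) = 0) ∧
        ∀ i, Q (e i) ≠ 0 := by
    intro k
    induction k using Nat.strong_induction_on with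
    | _ k ih =>
      intro m e hk ho1 ho2 hne
      obtain ⟨b, hbdef⟩ : ∃ b : Fin m ⊕ Fin m → (ι → F),
          b = Sum.elim e (fun i => (x : Matrix ι ι F) *ᵥ e i) := ⟨_, rfl⟩
      have hbl : ∀ i, b (Sum.inl i) = e i := fun i => by rw [hbdef]; rfl
      have hbr : ∀ i, b (Sum.inr i) = (x : Matrix ι ι F) *ᵥ e i := fun i => by rw [hbdef]; rfl
      have hborth : ∀ a c, a ≠ c → QuadraticMap.polar (⇑Q) (b a) (b c) = 0 := by
        rintro (i | i) (j | j) hac
        · rw [hbl, hbl]
          exact ho1 i j (fun h => hac (congrArg Sum.inl h))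
        · rw [hbl, hbr]
          exact ho2 i j
        · rw [hbr, hbl, QuadraticMap.polar_comm]
          exact ho2 j i
        · rw [hbr, hbr, hpx]
          exact ho1 i j (fun h => hac (congrArg Sum.inr h))
      have hbne : ∀ a, QuadraticMap.polar (⇑Q) (b a) (b a) ≠ 0 := by
        rintro (i | i)
        · rw [hbl]
          exact hself2 _ (hne i)
        · rw [hbr]
          exact hself2 _ (by rw [hQx]; exact hne i)
      have hli : LinearIndependent F b := by
        rw [linearIndependent_iff']
        intro s w hs a ha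
        have h0 : QuadraticMap.polarBilin Q (∑ c ∈ s, w c • b c) (b a) = 0 := by
          rw [hs, map_zero, LinearMap.zero_apply]
        have h1 : QuadraticMap.polarBilin Q (∑ c ∈ s, w c • b c) (b a)
            = ∑ c ∈ s, w c * QuadraticMap.polar (⇑Q) (b c) (b a) := by
          simp only [map_sum, map_smul, LinearMap.sum_apply, LinearMap.smul_apply, smul_eq_mul,
            QuadraticMap.polarBilin_apply_apply]
        rw [h1, Finset.sum_eq_single_of_mem a ha
          (fun c _ hca => by rw [hborth c a hca, mul_zero])] at h0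
        exact (mul_eq_zero.mp h0).resolve_right (hbne a)
      have hle : 2 * m ≤ Fintype.card ι := by
        have h := hli.fintype_card_le_finrank
        rw [Fintype.card_sum, Fintype.card_fin, Module.finrank_fintype_fun_eq_card] at h
        omega
      by_cases hlt : 2 * m = Fintype.card ι
      · exact ⟨m, e, hbdef ▸ hli, hlt.symm, ho1, ho2, hne⟩
      · have hcard : Fintype.card (Fin m ⊕ Fin m) < Fintype.card ι := by
          rw [Fintype.card_sum, Fintype.card_fin]
          omega
        obtain ⟨v₀, hv₀, hQv₀⟩ := h66_sfk_exists_perp Q hQ b hborth hbne hcard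
        have hv₀l : ∀ i, QuadraticMap.polar (⇑Q) v₀ (e i) = 0 := fun i => by
          rw [← hbl]; exact hv₀ _
        have hv₀r : ∀ i, QuadraticMap.polar (⇑Q) v₀ ((x : Matrix ι ι F) *ᵥ e i) = 0 := fun i => by
          rw [← hbr]; exact hv₀ _
        refine ih (Fintype.card ι - 2 * (m + 1)) (by omega) (m + 1)
          (Fin.cons v₀ e : Fin (m + 1) → (ι → F)) rfl ?_ ?_ ?_
        · intro i j hij
          induction i using Fin.cases with
          | zero =>
            induction j using Fin.cases with
            | zero => exact absurd rfl hij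
            | succ j =>
              rw [Fin.cons_zero, Fin.cons_succ]
              exact hv₀l j
          | succ i =>
            induction j using Fin.cases with
            | zero =>
              rw [Fin.cons_zero, Fin.cons_succ, QuadraticMap.polar_comm]
              exact hv₀l i
            | succ j =>
              rw [Fin.cons_succ, Fin.cons_succ]
              exact ho1 i j (fun h => hij (congrArg Fin.succ h))
        · intro i j
          induction i using Fin.cases with
          | zero =>
            induction j using Fin.cases with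
            | zero =>
              rw [Fin.cons_zero]
              exact hself v₀
            | succ j =>
              rw [Fin.cons_zero, Fin.cons_succ]
              exact hv₀r j
          | succ i =>
            induction j using Fin.cases with
            | zero =>
              rw [Fin.cons_zero, Fin.cons_succ, hskew, QuadraticMap.polar_comm, hv₀r i, neg_zero]
            | succ j =>
              rw [Fin.cons_succ, Fin.cons_succ]
              exact ho2 i j
        · intro i
          induction i using Fin.cases with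
          | zero =>
            rw [Fin.cons_zero]
            exact hQv₀
          | succ i =>
            rw [Fin.cons_succ]
            exact hne i
  exact key _ 0 (fun i => i.elim0) rfl (fun i => i.elim0) (fun i => i.elim0) (fun i => i.elim0)

end Cfsg.Agent.Lib.helper59.Sfk
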