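import Mathlib
import Cfsg.Agent.Lib.helper24.SfoDefs
import Cfsg.Agent.Lib.helper18.SffC3B
import Cfsg.Agent.Lib.helper32.SffCRIT

/-! S5981 piece ONODD, racing copy (helper66), core: the OEVEN statement enters as a
hypothesis.  If `r ∤ q - 1`, the order `i` of `q` modulo `r` is odd and `i ≤ n`, there is an
element of order `r` of `SL_n(q)` with fixed space of dimension `n - i`; it is not conjugate
into the similarity group of `Q`. -/

set_option autoImplicit false

namespace Cfsg.Agent.Lib.helper24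

open Module Matrix Cfsg.Geo

/-- no nontrivial `r`-th roots of unity when `r ∤ q - 1` -/
theorem h66_eq_one_of_pow_prime {F : Type*} [Field F] [Fintype F] (r : ℕ) [Fact r.Prime]
    (hnd : ¬ r ∣ Fintype.card F - 1) (a : F) (ha : a ^ r = 1) : a = 1 := by
  have ha0 : a ≠ 0 := by
    rintro rfl
    rw [zero_pow (Fact.out : r.Prime).ne_zero] at ha
    exact zero_ne_one ha
  have h1 : orderOf a ∣ r := orderOf_dvd_of_pow_eq_one ha
  have h2 : orderOf a ∣ Fintype.card F - 1 :=
    orderOf_dvd_of_pow_eq_one (FiniteField.pow_card_sub_one_eq_one a ha0)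
  rcases (Nat.dvd_prime (Fact.out : r.Prime)).mp h1 with h | h
  · exact orderOf_eq_one_iff.mp h
  · rw [h] at h2
    exact absurd h2 hnd

/-- conjugation and powers -/
theorem h66_conj_pow {F : Type*} [Field F] {n : ℕ} (x P N : Matrix (Fin n) (Fin n) F)
    (hx : x * P = P * N) (k : ℕ) : x ^ k * P = P * N ^ k := by
  induction k with
  | zero => simp
  | succ k ih => rw [pow_succ, mul_assoc, hx, ← mul_assoc, ih, mul_assoc, ← pow_succ]

/-- ONODD core (racing copy): OEVEN is a hypothesis -/
theorem h66_sfo_nec_odd_core {F : Type*} [Field F] [Fintype F] {n : ℕ}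
    (Q : (Fin n → F) → F) (r : ℕ) [Fact r.Prime]
    (hrF : (r : F) ≠ 0) (hnd : ¬ r ∣ Fintype.card F - 1)
    (hi : Odd (orderOf ((Fintype.card F : ℕ) : ZMod r)))
    (hin : orderOf ((Fintype.card F : ℕ) : ZMod r) ≤ n)
    (hEVEN : ∀ g : GL (Fin n) F, g ∈ quadSimilarityGroup Q →
      (g : Matrix (Fin n) (Fin n) F) ^ r = 1 →
      Even (n - Module.finrank F
        (LinearMap.ker (Matrix.toLin' (g : Matrix (Fin n) (Fin n) F) - 1)))) :
    SfoDerang Q r := by
  classical
  have hi_pos : 0 < orderOf ((Fintype.card F : ℕ) : ZMod r) := hi.pos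
  have hn : 0 < n := lt_of_lt_of_le hi_pos hin
  obtain ⟨y, hyr, hyfix⟩ := sff_exists_fix (F := F) (n := n) r hrF hin
  have hroot := h66_eq_one_of_pow_prime (F := F) r hnd
  refine ⟨y, ?_, ⟨1, by rw [hyr, one_smul]⟩, ?_, ?_⟩
  · apply hroot
    rw [← Matrix.det_pow, hyr, Matrix.det_one]
  · intro z hz
    have hz1 : z = 1 := by
      apply hroot
      have h1 : (y ^ r) ⟨0, hn⟩ ⟨0, hn⟩ = z ^ r := by
        rw [hz, _root_.smul_pow, one_pow, Matrix.smul_apply, Matrix.one_apply_eq, smul_eq_mul,
          mul_one]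
      rw [hyr, Matrix.one_apply_eq] at h1
      exact h1.symm
    rw [hz1, one_smul] at hz
    rw [hz] at hyfix
    have h2 : (Matrix.toLin' (1 : Matrix (Fin n) (Fin n) F) - 1 : Module.End F (Fin n → F)) = 0 := by
      rw [Matrix.toLin'_one]
      exact sub_self _
    rw [h2, LinearMap.ker_zero, finrank_top, Module.finrank_fin_fun] at hyfix
    omega
  · rintro ⟨P, g, hP, hg, hx⟩
    have hPu : IsUnit P.det := isUnit_iff_ne_zero.mpr hP
    have hpow : (g : Matrix (Fin n) (Fin n) F) ^ r = 1 := by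
      have h1 := h66_conj_pow y P (g : Matrix (Fin n) (Fin n) F) hx r
      rw [hyr, one_mul] at h1
      have h2 : P⁻¹ * P = P⁻¹ * (P * (g : Matrix (Fin n) (Fin n) F) ^ r) := by rw [← h1]
      rw [← mul_assoc, Matrix.nonsing_inv_mul P hPu, one_mul] at h2
      exact h2.symm
    have heven := hEVEN g hg hpow
    have hfix : Module.finrank F
        (LinearMap.ker (Matrix.toLin' (g : Matrix (Fin n) (Fin n) F) - 1))
        = n - orderOf ((Fintype.card F : ℕ) : ZMod r) := by
      rw [← hyfix]
      have h1 := h32_finrank_ker_conj y P (g : Matrix (Fin n) (Fin n) F) hP hx 1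
      rw [one_smul] at h1
      exact h1.symm
    rw [hfix, Nat.sub_sub_self hin] at heven
    exact (Nat.not_even_iff_odd.mpr hi) heven

end Cfsg.Agent.Lib.helper24
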