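import Mathlib
import Cfsg.Agent.S0093
import Cfsg.Agent.S0121
import Cfsg.Agent.Lib.helper3.PGroupFrattini
import Cfsg.Agent.Lib.helper66.PGroupAction

/-!
# S3797 (Thompson, one class of involutions): critical subgroup data (helper66)

`crit_data`: a normal `2`-subgroup `Q` of a finite group `G` has a subgroup `R ≤ Q`, normal in `G`,
with squares central in `R`, commutators `[R, Q]` central in `R`, `C_Q(R) ≤ R`, and such that an
element of odd order centralizing `R` centralizes `Q`.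
-/

set_option autoImplicit false

namespace Cfsg.Agent.Lib.helper66.T97

universe u

open scoped commutatorElement

theorem crit_data {G : Type u} [Group G] [Finite G] (Q : Subgroup G) [hQn : Q.Normal]
    (hQ2 : IsPGroup 2 Q) :
    ∃ R : Subgroup G, R ≤ Q ∧ R.Normal ∧
      (∀ a ∈ R, ∀ b ∈ R, (a * a) * b = b * (a * a)) ∧
      (∀ a ∈ R, ∀ x ∈ Q, a * x * a⁻¹ * x⁻¹ ∈ R ∧ ∀ b ∈ R, (a * x * a⁻¹ * x⁻¹) * b = b * (a * x * a⁻¹ * x⁻¹)) ∧
      (∀ x ∈ Q, (∀ b ∈ R, x * b = b * x) → x ∈ R) ∧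
      (∀ k : G, Odd (orderOf k) → (∀ a ∈ R, k * a = a * k) → ∀ x ∈ Q, k * x = x * k) := by
  haveI : Fact (Nat.Prime 2) := ⟨Nat.prime_two⟩
  obtain ⟨H, hHchar, h1, h2, h3⟩ := Cfsg.Agent.S0093.result (P := ↥Q) (p := 2) hQ2
  haveI := hHchar
  refine ⟨H.map Q.subtype, Subgroup.map_subtype_le H, inferInstance, ?_, ?_, ?_, ?_⟩
  · rintro a ⟨a', ha', rfl⟩ b ⟨b', hb', rfl⟩
    have hH2 : IsPGroup 2 H := hQ2.to_subgroup H
    have hf := Cfsg.Agent.Lib.helper3.pow_prime_mem_frattini hH2 (⟨a', ha'⟩ : H)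
    have hf' : a' ^ 2 ∈ (frattini H).map H.subtype := ⟨_, hf, rfl⟩
    have hc := h1 hf'
    rw [Subgroup.mem_centralizer_iff] at hc
    have := hc b' hb'
    have h4 := congrArg (Subtype.val : ↥Q → G) this
    simp only [Subgroup.coe_mul, pow_two] at h4
    exact h4.symm
  · rintro a ⟨a', ha', rfl⟩ x hx
    have hc : ⁅a', (⟨x, hx⟩ : Q)⁆ ∈ ⁅H, (⊤ : Subgroup Q)⁆ :=
      Subgroup.commutator_mem_commutator ha' (Subgroup.mem_top _)
    have hc' := h2 hc
    have hval : ((⁅a', (⟨x, hx⟩ : Q)⁆ : Q) : G) = (a' : G) * x * (a' : G)⁻¹ * x⁻¹ := by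
      simp [commutatorElement_def]
    refine ⟨?_, ?_⟩
    · exact ⟨_, hc'.1, hval⟩
    · rintro b ⟨b', hb', rfl⟩
      have h5 := Subgroup.mem_centralizer_iff.mp hc'.2 b' hb'
      have h6 := congrArg (Subtype.val : ↥Q → G) h5
      simp only [Subgroup.coe_mul] at h6
      rw [hval] at h6
      exact h6.symm
  · intro x hx hxc
    have : (⟨x, hx⟩ : Q) ∈ Subgroup.centralizer (H : Set Q) := by
      rw [Subgroup.mem_centralizer_iff]
      intro b hb
      have := hxc (b : G) ⟨b, hb, rfl⟩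
      apply Subtype.ext
      simp only [Subgroup.coe_mul]
      exact this.symm
    exact ⟨_, h3 this, rfl⟩
  · intro k hk hkR x hx
    have hcop : Nat.Coprime (orderOf (MulAut.conjNormal k : MulAut Q)) 2 := by
      have hd : orderOf (MulAut.conjNormal k : MulAut Q) ∣ orderOf k :=
        orderOf_map_dvd (MulAut.conjNormal (H := Q)) k
      exact Nat.Coprime.coprime_dvd_left hd (Nat.coprime_two_right.mpr hk)
    have := Cfsg.Agent.S0121.result (p := 2) hQ2 H hHchar h1 h2 h3 (MulAut.conjNormal k) hcop (by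
      intro b hb
      apply Subtype.ext
      rw [MulAut.conjNormal_apply]
      have := hkR (b : G) ⟨b, hb, rfl⟩
      rw [this]; group)
    have h7 := congrArg (fun φ : MulAut Q => ((φ ⟨x, hx⟩ : Q) : G)) this
    simp only [MulAut.conjNormal_apply, MulAut.one_apply] at h7
    calc k * x = (k * x * k⁻¹) * k := by group
      _ = x * k := by rw [h7]

/-- An element of odd order normalizing an abelian `2`-subgroup `Z` and centralizing its involutions
centralizes `Z`. -/
theorem cent_abelian_of_fix_invol {G : Type u} [Group G] (Z : Subgroup G)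
    (hZab : ∀ a ∈ Z, ∀ b ∈ Z, a * b = b * a) (hZ2 : ∀ a ∈ Z, ∃ m : ℕ, a ^ 2 ^ m = 1)
    (k : G) (hk : Odd (orderOf k)) (hkZ : ∀ a ∈ Z, k * a * k⁻¹ ∈ Z)
    (hfix : ∀ a ∈ Z, a * a = 1 → k * a * k⁻¹ = a) : ∀ a ∈ Z, k * a * k⁻¹ = a := by
  have main : ∀ m : ℕ, ∀ a ∈ Z, a ^ 2 ^ m = 1 → k * a * k⁻¹ = a := by
    intro m
    induction m with
    | zero =>
      intro a _ ha
      rw [pow_zero, pow_one] at ha
      rw [ha]; group
    | succ m ih =>
      intro a ha ham
      have h1 : (a * a) ^ 2 ^ m = 1 := by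
        rw [← pow_two, ← pow_mul, ← pow_succ']; exact ham
      have h2 := ih (a * a) (Z.mul_mem ha ha) h1
      set y := a⁻¹ * (k * a * k⁻¹) with hy
      have hyZ : y ∈ Z := Z.mul_mem (Z.inv_mem ha) (hkZ a ha)
      have hx' : k * a * k⁻¹ = a * y := by rw [hy]; group
      have hyy : y * y = 1 := by
        have h3 : (a * y) * (a * y) = a * a := by
          rw [← hx', ← h2]; group
        have h4 : (a * y) * (a * y) = (a * a) * (y * y) := by
          have := hZab y hyZ a ha
          calc (a * y) * (a * y) = a * (y * a) * y := by group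
            _ = a * (a * y) * y := by rw [this]
            _ = (a * a) * (y * y) := by group
        rw [h4] at h3
        exact mul_left_cancel (a := a * a) (by rw [h3, mul_one])
      have hfy := hfix y hyZ hyy
      have hy1 : y = 1 := Cfsg.Agent.Lib.helper66.eq_one_of_conj_eq_mul hk hx' hfy
        (m := 1) (by rw [pow_one, pow_two]; exact hyy)
      rw [hx', hy1, mul_one]
  intro a ha
  obtain ⟨m, hm⟩ := hZ2 a ha
  exact main m a ha hm

end Cfsg.Agent.Lib.helper66.T97
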