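import Mathlib
import Cfsg.Prelude.Def_Solvable
import Cfsg.Prelude.Def_Local
import Cfsg.Agent.Lib.helper50.T97HC
import Cfsg.Agent.Lib.helper32.T97CYC
import Cfsg.Agent.Lib.helper26.T97AUT
import Cfsg.Agent.Lib.helper62.T97FRAT
import Cfsg.Agent.Lib.helper57.T97AR
import Cfsg.Agent.Lib.helper62.T97YS
import Cfsg.Agent.Lib.helper50.T97CA
import Cfsg.Agent.Lib.helper50.T97SR
import Cfsg.Agent.Lib.helper32.T97NC
import Cfsg.Agent.Lib.helper50.T97TR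
import Cfsg.Agent.Lib.helper20.T97FO
import Cfsg.Agent.Lib.helper20.T97PC
import Cfsg.Agent.Lib.helper32.T97ZV
import Cfsg.Agent.Lib.helper57.T97SQ1
import Cfsg.Agent.Lib.helper50.T97SQ2

/-!
# S3797: hub of the pieces contributed by the team (helper66)

Every theorem here restates a piece of `tools/S3797_Skel.lean.txt` and is proved by the
piece landed by its owner (helper20, helper26, helper32, helper50, helper57, helper62).
-/

set_option autoImplicit false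

namespace Cfsg.Agent.Lib.helper66.T97P

/-- PIECE HC (homocyclic), by helper50. -/
theorem homocyclic_of_transitive {S : Type*} [Group S] [Finite S] (h2 : IsPGroup 2 S)
    (hab : ∀ a b : S, a * b = b * a)
    (htr : ∀ x y : S, x ≠ 1 → x ^ 2 = 1 → y ≠ 1 → y ^ 2 = 1 → ∃ a : MulAut S, a x = y) :
    ∃ m r : ℕ, Nonempty (S ≃* (Fin r → Multiplicative (ZMod (2 ^ m)))) :=
  Cfsg.Agent.Lib.helper50.T97.homocyclic_of_transitive h2 hab htr

/-- PIECE CYC, by helper32. -/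
theorem cyclic_of_nilpotent_odd {K : Type*} [Group K] [Finite K] (hK : Group.IsNilpotent K)
    (hodd : Odd (Nat.card K))
    (h : ∀ (p : ℕ), p.Prime → ∀ x y : K, x * y = y * x → x ^ p = 1 → y ^ p = 1 → x ≠ 1 →
      y ∈ Subgroup.zpowers x) : IsCyclic K :=
  Cfsg.Agent.Lib.helper32.T97.cyclic_of_nilpotent_odd hK hodd h

/-- PIECE AUT, by helper26. -/
theorem index_dvd_totient {H : Type*} [Group H] [Finite H] (F : Subgroup H) [F.Normal]
    (hcyc : IsCyclic F) (hC : Subgroup.centralizer (F : Set H) ≤ F) :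
    F.index ∣ Nat.totient (Nat.card F) :=
  Cfsg.Agent.Lib.helper26.T97.index_dvd_totient F hcyc hC

/-- PIECE FRAT, by helper62. -/
theorem exists_invol_centralizing {G : Type*} [Group G] [Finite G] (Q N : Subgroup G) [Q.Normal]
    [N.Normal] (hQ : IsPGroup 2 Q) (hQN : Q ≤ N) (hodd : Odd (Q.relIndex N))
    (hinv : ∀ g : G, g * g = 1 → g ∈ Q ∧ ∀ x ∈ Q, x * g = g * x)
    (heven : Even Q.index) :
    ∃ z : G, z ≠ 1 ∧ z * z = 1 ∧ ∀ n ∈ N, n * z = z * n :=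
  Cfsg.Agent.Lib.helper62.T97.exists_invol_centralizing Q N hQ hQN hodd hinv heven

/-- PIECE AR, by helper57. -/
theorem arith_final (r n : ℕ) (hr : 2 ≤ r) (hn : n ∣ 2 ^ r + 1)
    (h : (2 ^ r - 1) ∣ Nat.totient n) : False :=
  Cfsg.Agent.Lib.helper57.T97.arith_final r n hr hn h

/-- PIECE YS, by helper62. -/
theorem exists_solvable_aut_transitive {G : Type*} [Group G] [Finite G] (hG : Group.IsSolvable G)
    (S : Sylow 2 G) (O : Subgroup G) [O.Normal] (hO : Odd (Nat.card O))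
    (hSO : ((S : Subgroup G) ⊔ O).Normal) :
    ∃ Y : Subgroup (MulAut ↥(S : Subgroup G)), Group.IsSolvable Y ∧
      ∀ x y : ↥(S : Subgroup G), IsConj (x : G) (y : G) → ∃ a ∈ Y, a x = y :=
  Cfsg.Agent.Lib.helper62.T97.exists_solvable_aut_transitive hG S O hO hSO

/-- PIECE SQ1, by helper57. -/
theorem sq_count {R : Type*} [Group R] [Finite R] (hR : IsPGroup 2 R) (V : Subgroup R)
    (hVc : V ≤ Subgroup.center R) (hsq : ∀ a : R, a * a ∈ V) (hV : ∀ a : R, a * a = 1 → a ∈ V)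
    (hV2 : ∀ v ∈ V, v * v = 1) (hcard : 4 ≤ Nat.card V)
    (htr : ∀ v ∈ V, ∀ w ∈ V, v ≠ 1 → w ≠ 1 → ∃ α : MulAut R, α v = w)
    (hne : ∃ a : R, a ∉ V) :
    (∀ w ∈ V, w ≠ 1 → Nat.card {a : R // a * a = w} = Nat.card V) ∨
    (Nat.card R = Nat.card V ^ 3 ∧
      (∀ w ∈ V, w ≠ 1 → Nat.card {a : R // a * a = w} = Nat.card V * (Nat.card V + 1)) ∧
      ∀ χ : V →* ℤˣ, χ ≠ 1 → ∀ c : R,
        (∀ a : R, ∀ h : c⁻¹ * a⁻¹ * c * a ∈ V, χ ⟨c⁻¹ * a⁻¹ * c * a, h⟩ = 1) → c ∈ V) :=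
  Cfsg.Agent.Lib.helper57.T97.sq_count hR V hVc hsq hV hV2 hcard htr hne

/-- PIECE SQ2, by helper50 (also landed by helper46). -/
theorem sq_fixed {R : Type*} [Group R] [Finite R] (hR : IsPGroup 2 R) (V : Subgroup R)
    (hVc : V ≤ Subgroup.center R) (hsq : ∀ a : R, a * a ∈ V) (hV : ∀ a : R, a * a = 1 → a ∈ V)
    (hV2 : ∀ v ∈ V, v * v = 1) (hR3 : Nat.card R = Nat.card V ^ 3)
    (hrad : ∀ χ : V →* ℤˣ, χ ≠ 1 → ∀ c : R,
        (∀ a : R, ∀ h : c⁻¹ * a⁻¹ * c * a ∈ V, χ ⟨c⁻¹ * a⁻¹ * c * a, h⟩ = 1) → c ∈ V)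
    (σ : MulAut R) (p : ℕ) (hp : p.Prime) (hp2 : p ≠ 2) (hσ : σ ^ p = 1)
    (hσV : ∀ v ∈ V, σ v = v) :
    σ = 1 ∨ ∀ a : R, σ a = a → a ∈ V :=
  Cfsg.Agent.Lib.helper50.T97.sq_fixed hR V hVc hsq hV hV2 hR3 hrad σ p hp hp2 hσ hσV

/-- PIECE ZV, by helper32. -/
theorem center_exp_two_or_trivial {R : Type*} [Group R] [Finite R] (hR : IsPGroup 2 R)
    (hinvc : ∀ a : R, a * a = 1 → a ∈ Subgroup.center R)
    (hsqZ : ∀ a : R, a * a ∈ Subgroup.center R)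
    (htr : ∀ v w : R, v ≠ 1 → v * v = 1 → w ≠ 1 → w * w = 1 → ∃ α : MulAut R, α v = w)
    (σ : MulAut R) (hodd : Odd (orderOf σ)) (hσ : ∀ v : R, v * v = 1 → σ v = v)
    (z : R) (hz : z ∈ Subgroup.center R) (hz2 : z * z ≠ 1) : σ = 1 :=
  Cfsg.Agent.Lib.helper32.T97.center_exp_two_or_trivial hR hinvc hsqZ htr σ hodd hσ z hz hz2

/-- PIECE CA, by helper50. -/
theorem aut_trivial_of_unique_roots {R : Type*} [Group R] [Finite R] (V : Subgroup R)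
    (hVc : V ≤ Subgroup.center R) (hsq : ∀ a : R, a * a ∈ V) (hV : ∀ a : R, a * a = 1 → a ∈ V)
    (hV2 : ∀ v ∈ V, v * v = 1)
    (hroots : ∀ w ∈ V, w ≠ 1 → Nat.card {a : R // a * a = w} = Nat.card V)
    (σ : MulAut R) (hodd : Odd (orderOf σ)) (hσ : ∀ v ∈ V, σ v = v) : σ = 1 :=
  Cfsg.Agent.Lib.helper50.T97.aut_trivial_of_unique_roots V hVc hsq hV hV2 hroots σ hodd hσ

/-- PIECE SR, by helper50. -/
theorem card_dvd_roots_of_semireg {R : Type*} [Group R] [Finite R] (V : Subgroup R)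
    (K : Subgroup (MulAut R)) (hK : ∀ σ ∈ K, σ ≠ 1 → ∀ a : R, σ a = a → a ∈ V)
    (hV2 : ∀ v ∈ V, v * v = 1)
    (hKV : ∀ σ ∈ K, ∀ v ∈ V, σ v = v) (w : R) (hw : w ∈ V) (hw1 : w ≠ 1) :
    Nat.card K ∣ Nat.card {a : R // a * a = w} :=
  Cfsg.Agent.Lib.helper50.T97.card_dvd_roots_of_semireg V K hK hV2 hKV w hw hw1

/-- PIECE NC, by helper32. -/
theorem mem_zpowers_of_semireg {G : Type*} [Group G] [Finite G] (K R V : Subgroup G)
    (hKR : K ≤ Subgroup.normalizer (R : Set G)) (hcop : (Nat.card K).Coprime (Nat.card R))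
    (hV : ∀ a ∈ R, a * a = 1 → a ∈ V) (hV2 : ∀ v ∈ V, v * v = 1)
    (hsemi : ∀ k ∈ K, k ≠ 1 → ∀ a ∈ R, k * a = a * k → a * a = 1) (hR : ∃ a ∈ R, a * a ≠ 1)
    (p : ℕ) (hp : p.Prime) (x y : G) (hx : x ∈ K) (hy : y ∈ K) (hxy : x * y = y * x)
    (hxp : x ^ p = 1) (hyp : y ^ p = 1) (hx1 : x ≠ 1) : y ∈ Subgroup.zpowers x :=
  Cfsg.Agent.Lib.helper32.T97.mem_zpowers_of_semireg K R V hKR hcop hV hV2 hsemi hR p hp x y hx hy
    hxy hxp hyp hx1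

/-- PIECE TR, by helper50. -/
theorem card_invol_dvd_index {G : Type*} [Group G] [Finite G] (N : Subgroup G)
    (hconj : ∀ x y : G, x ≠ 1 → x * x = 1 → y ≠ 1 → y * y = 1 → ∃ c : G, c * x * c⁻¹ = y)
    (hN : ∀ g : G, g * g = 1 → ∀ n ∈ N, n * g = g * n) (hex : ∃ x : G, x ≠ 1 ∧ x * x = 1) :
    Nat.card {g : G // g ≠ 1 ∧ g * g = 1} ∣ N.index :=
  Cfsg.Agent.Lib.helper50.T97.card_invol_dvd_index N hconj hN hex

/-- PIECE FO, by helper20. -/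
theorem odd_card_fitting {H : Type*} [Group H] [Finite H] (h : Cfsg.pCore 2 H = ⊥) :
    Odd (Nat.card (Cfsg.fittingSubgroup H)) :=
  Cfsg.Agent.Lib.helper20.T97.odd_card_fitting h

/-- PIECE PC, by helper20. -/
theorem pCore_quotient_pCore_eq_bot {G : Type*} [Group G] [Finite G] (p : ℕ) [Fact p.Prime] :
    Cfsg.pCore p (G ⧸ Cfsg.pCore p G) = ⊥ :=
  Cfsg.Agent.Lib.helper20.T97.pCore_quotient_pCore_eq_bot p

end Cfsg.Agent.Lib.helper66.T97P
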