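import Mathlib
import Cfsg.Agent.Lib.helper66.T97A
import Cfsg.Agent.Lib.helper66.T97Hub
import Cfsg.Agent.Lib.helper66.PLengthSeries
import Cfsg.Agent.Lib.helper27.Radical
import Cfsg.Agent.Lib.helper28.Fitting
import Cfsg.Agent.S0044
import Cfsg.Agent.S0008

/-!
# S3797 (Thompson, one class of involutions): the Fitting subgroup of `G / O_2(G)` cannot centralize
the involutions (helper66)
-/

set_option autoImplicit false

namespace Cfsg.Agent.Lib.helper66.T97

universe u

open Cfsg.Agent.Lib.helper27 Cfsg.Agent.Lib.helper66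

/-- The subgroup of `↥R` of elements with `a * a = 1`, when these are central. -/
def invSub {G : Type u} [Group G] (R : Subgroup G)
    (hc : ∀ a : R, a * a = 1 → ∀ b : R, b * a = a * b) : Subgroup R where
  carrier := {a | a * a = 1}
  one_mem' := by simp
  mul_mem' := by
    intro a b ha hb
    have ha' : a * a = 1 := ha
    have hb' : b * b = 1 := hb
    show (a * b) * (a * b) = 1
    calc (a * b) * (a * b) = a * (b * a) * b := by group
      _ = a * (a * b) * b := by rw [hc a ha' b]
      _ = (a * a) * (b * b) := by group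
      _ = 1 := by rw [ha', hb', one_mul]
  inv_mem' := by
    intro a ha
    have ha' : a * a = 1 := ha
    show a⁻¹ * a⁻¹ = 1
    rw [← mul_inv_rev, ha', inv_one]

theorem mem_invSub {G : Type u} [Group G] (R : Subgroup G)
    (hc : ∀ a : R, a * a = 1 → ∀ b : R, b * a = a * b) (a : R) :
    a ∈ invSub R hc ↔ a * a = 1 := Iff.rfl


/-- If `K = ⊥` complements `Q` in the preimage of the Fitting subgroup, then `G = Q`, which is
impossible with two distinct conjugate central involutions. -/
theorem fitting_bot_absurd {G : Type u} [Group G] [Finite G] [Group.IsSolvable G]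
    (Q : Subgroup G) [hQn : Q.Normal]
    (hinv : ∀ g : G, g * g = 1 → g ∈ Q ∧ ∀ x ∈ Q, x * g = g * x)
    (htwo : ∃ x y : G, x ≠ y ∧ x ≠ 1 ∧ x * x = 1 ∧ y ≠ 1 ∧ y * y = 1)
    (hconj : ∀ x y : G, x ≠ 1 → x * x = 1 → y ≠ 1 → y * y = 1 → ∃ c : G, c * x * c⁻¹ = y)
    (hF : Nat.card (Cfsg.fittingSubgroup (G ⧸ Q)) = 1) : False := by
  have hFbot : Cfsg.fittingSubgroup (G ⧸ Q) = ⊥ := Subgroup.card_eq_one.mp hF
  have hC := Cfsg.Agent.S0044.result (G := G ⧸ Q)
  rw [hFbot] at hC
  have htop : ∀ g : G, g ∈ Q := by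
    intro g
    have h1 : (g : G ⧸ Q) ∈ Subgroup.centralizer (((⊥ : Subgroup (G ⧸ Q)) : Set (G ⧸ Q))) := by
      rw [Subgroup.mem_centralizer_iff]
      intro h hh
      have : h = 1 := by simpa using hh
      rw [this]; simp
    have h2 := hC h1
    rw [Subgroup.mem_bot] at h2
    exact (QuotientGroup.eq_one_iff g).mp h2
  obtain ⟨x, y, hxy, hx1, hx2, hy1, hy2⟩ := htwo
  obtain ⟨c, hc⟩ := hconj x y hx1 hx2 hy1 hy2
  have h3 := (hinv x hx2).2 c (htop c)
  apply hxy
  rw [← hc, h3]; group

set_option maxHeartbeats 1600000 in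
/-- **Step II.** The preimage `N` of `F(G / Q)` does not centralize the involutions. -/
theorem stepII {G : Type u} [Group G] [Finite G] [Group.IsSolvable G]
    (Q : Subgroup G) [hQn : Q.Normal] (hQ2 : IsPGroup 2 Q)
    (hCQ : Subgroup.centralizer (Q : Set G) ≤ Q)
    (hpc : Cfsg.pCore 2 (G ⧸ Q) = ⊥)
    (hinv : ∀ g : G, g * g = 1 → g ∈ Q ∧ ∀ x ∈ Q, x * g = g * x)
    (htwo : ∃ x y : G, x ≠ y ∧ x ≠ 1 ∧ x * x = 1 ∧ y ≠ 1 ∧ y * y = 1)
    (hconj : ∀ x y : G, x ≠ 1 → x * x = 1 → y ≠ 1 → y * y = 1 → ∃ c : G, c * x * c⁻¹ = y)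
    (hNV : ∀ g : G, g * g = 1 → ∀ n : G,
      (n : G ⧸ Q) ∈ Cfsg.fittingSubgroup (G ⧸ Q) → n * g = g * n) : False := by
  classical
  haveI : Fact (Nat.Prime 2) := ⟨Nat.prime_two⟩
  set F := Cfsg.fittingSubgroup (G ⧸ Q) with hFdef
  haveI hFn : F.Normal := Cfsg.Agent.Lib.helper28.fittingSubgroup_normal _
  set N : Subgroup G := F.comap (QuotientGroup.mk' Q) with hNdef
  have hNn : N.Normal := inferInstance
  have hQN : Q ≤ N := le_comap_mk' _ _
  have hFodd : Odd (Nat.card F) := Cfsg.Agent.Lib.helper66.T97P.odd_card_fitting hpc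
  have hrel : Q.relIndex N = Nat.card F := by
    rw [← card_map_mk'_eq_relIndex, hNdef,
      Subgroup.map_comap_eq_self_of_surjective (QuotientGroup.mk'_surjective Q)]
  have hNcop : (Q.relIndex N).Coprime 2 := by
    rw [hrel]; exact (Nat.coprime_two_right.mpr hFodd)
  -- a complement `K` of `Q` in `N`
  obtain ⟨e, he⟩ := IsPGroup.iff_card.mp hQ2
  have hcopQN : (Nat.card (Q.subgroupOf N)).Coprime (Q.subgroupOf N).index := by
    rw [card_subgroupOf_of_le hQN, he]
    exact Nat.Coprime.pow_left e hNcop.symm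
  obtain ⟨K', hK'⟩ := Subgroup.exists_right_complement'_of_coprime hcopQN
  set K : Subgroup G := K'.map N.subtype with hKdef
  have hKN : K ≤ N := Subgroup.map_subtype_le K'
  have hKcard : Nat.card K = Nat.card F := by
    rw [hKdef, card_map_subtype, ← hK'.symm.index_eq_card, ← hrel]
    rfl
  have hKodd : Odd (Nat.card K) := hKcard ▸ hFodd
  have hQKcop : (Nat.card Q).Coprime (Nat.card K) := by
    rw [he]; exact Nat.Coprime.pow_left e (Nat.coprime_two_left.mpr hKodd)
  have hQK : Q ⊓ K = ⊥ := (Subgroup.disjoint_of_coprime_natCard hQKcop).eq_bot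
  have hKo : ∀ k ∈ K, Odd (orderOf k) := by
    intro k hk
    exact Odd.of_dvd_nat hKodd (Subgroup.orderOf_dvd_natCard K hk)
  have hKV : ∀ k ∈ K, ∀ g : G, g * g = 1 → k * g = g * k := by
    intro k hk g hg
    exact hNV g hg k (hKN hk)
  -- the critical subgroup
  obtain ⟨R, hRQ, hRn, hsqZ, hcomm, hself, haut⟩ := crit_data Q hQ2
  haveI := hRn
  have hLk : ∀ k ∈ K, (∀ a ∈ R, k * a = a * k) → k = 1 := by
    intro k hk hkR
    have h1 : k ∈ Subgroup.centralizer (Q : Set G) := by
      rw [Subgroup.mem_centralizer_iff]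
      intro x hx
      exact (haut k (hKo k hk) hkR x hx).symm
    have h2 : k ∈ Q ⊓ K := ⟨hCQ h1, hk⟩
    rw [hQK] at h2
    exact (Subgroup.mem_bot).mp h2
  have hKcent : (∀ k ∈ K, ∀ a ∈ R, k * a = a * k) → False := by
    intro h
    have hKbot : K = ⊥ := by
      rw [eq_bot_iff]
      intro k hk
      rw [Subgroup.mem_bot]
      exact hLk k hk (h k hk)
    apply fitting_bot_absurd Q hinv htwo hconj
    rw [← hKcard, hKbot]
    exact Subgroup.card_bot
  -- type-level data on `↥R`
  have hR2 : IsPGroup 2 R := hQ2.to_le hRQ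
  have hc0 : ∀ a : R, a * a = 1 → ∀ b : R, b * a = a * b := by
    intro a ha b
    have h1 : (a : G) * (a : G) = 1 := by
      have := congrArg (Subtype.val : R → G) ha
      simpa using this
    have h2 := (hinv (a : G) h1).2 (b : G) (hRQ b.2)
    exact Subtype.ext (by simpa using h2)
  set Vr : Subgroup R := invSub R hc0 with hVr
  have hVc : Vr ≤ Subgroup.center R := by
    intro a ha
    rw [Subgroup.mem_center_iff]
    intro b
    exact hc0 a ha b
  have hV : ∀ a : R, a * a = 1 → a ∈ Vr := fun a ha => ha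
  have hV2 : ∀ v ∈ Vr, v * v = 1 := fun v hv => hv
  have hsqZ' : ∀ a : R, a * a ∈ Subgroup.center R := by
    intro a
    rw [Subgroup.mem_center_iff]
    intro b
    have := hsqZ (a : G) a.2 (b : G) b.2
    exact Subtype.ext (by simpa using this.symm)
  have hinvc' : ∀ a : R, a * a = 1 → a ∈ Subgroup.center R := fun a ha => hVc ha
  have htr' : ∀ v w : R, v ≠ 1 → v * v = 1 → w ≠ 1 → w * w = 1 →
      ∃ α : MulAut R, α v = w := by
    intro v w hv1 hv2 hw1 hw2
    have h1 : (v : G) ≠ 1 := fun h => hv1 (Subtype.ext h)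
    have h2 : (v : G) * (v : G) = 1 := by
      have := congrArg (Subtype.val : R → G) hv2
      simpa using this
    have h3 : (w : G) ≠ 1 := fun h => hw1 (Subtype.ext h)
    have h4 : (w : G) * (w : G) = 1 := by
      have := congrArg (Subtype.val : R → G) hw2
      simpa using this
    obtain ⟨c, hc⟩ := hconj (v : G) (w : G) h1 h2 h3 h4
    refine ⟨MulAut.conjNormal c, ?_⟩
    apply Subtype.ext
    rw [MulAut.conjNormal_apply]
    exact hc
  -- the automorphisms induced by `K`
  set σ : G →* MulAut R := MulAut.conjNormal with hσ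
  have hσodd : ∀ k ∈ K, Odd (orderOf (σ k)) := by
    intro k hk
    exact Odd.of_dvd_nat (hKo k hk) (orderOf_map_dvd σ k)
  have hσV : ∀ k ∈ K, ∀ v : R, v * v = 1 → σ k v = v := by
    intro k hk v hv
    apply Subtype.ext
    rw [hσ, MulAut.conjNormal_apply]
    have h2 : (v : G) * (v : G) = 1 := by
      have := congrArg (Subtype.val : R → G) hv
      simpa using this
    rw [hKV k hk (v : G) h2]; group
  have hσ1 : ∀ k : G, σ k = 1 → ∀ a ∈ R, k * a = a * k := by
    intro k hk a ha
    have := congrArg (fun φ : MulAut R => ((φ ⟨a, ha⟩ : R) : G)) hk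
    simp only [hσ, MulAut.conjNormal_apply, MulAut.one_apply] at this
    calc k * a = (k * a * k⁻¹) * k := by group
      _ = a * k := by rw [this]
  have hσfix : ∀ (k : G) (a : R), σ k a = a ↔ k * (a : G) = (a : G) * k := by
    intro k a
    constructor
    · intro h
      have := congrArg (Subtype.val : R → G) h
      rw [hσ, MulAut.conjNormal_apply] at this
      calc k * (a : G) = (k * a * k⁻¹) * k := by group
        _ = a * k := by rw [this]
    · intro h
      apply Subtype.ext
      rw [hσ, MulAut.conjNormal_apply, h]; group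
  -- the centre of `R` has exponent two
  by_cases hz : ∃ z : R, z ∈ Subgroup.center R ∧ z * z ≠ 1
  · obtain ⟨z, hzc, hz2⟩ := hz
    apply hKcent
    intro k hk a ha
    have := Cfsg.Agent.Lib.helper66.T97P.center_exp_two_or_trivial hR2 hinvc' hsqZ' htr' (σ k)
      (hσodd k hk) (hσV k hk) z hzc hz2
    exact hσ1 k this a ha
  push Not at hz
  have hsq : ∀ a : R, a * a ∈ Vr := fun a => hz (a * a) (hsqZ' a)
  -- the involutions lie in `R`
  have hinvR : ∀ g : G, g * g = 1 → g ∈ R := by
    intro g hg
    apply hself g (hinv g hg).1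
    intro b hb
    exact ((hinv g hg).2 b (hRQ hb)).symm
  obtain ⟨x, y, hxy, hx1, hx2, hy1, hy2⟩ := htwo
  have hxV : (⟨x, hinvR x hx2⟩ : R) ∈ Vr := Subtype.ext (by simpa using hx2)
  have hyV : (⟨y, hinvR y hy2⟩ : R) ∈ Vr := Subtype.ext (by simpa using hy2)
  obtain ⟨r, hr⟩ := IsPGroup.iff_card.mp (hR2.to_subgroup Vr)
  have hcard3 : 3 ≤ Nat.card Vr := by
    haveI : Fintype Vr := Fintype.ofFinite Vr
    have : ({(1 : Vr), ⟨⟨x, hinvR x hx2⟩, hxV⟩, ⟨⟨y, hinvR y hy2⟩, hyV⟩} : Finset Vr).card = 3 := by
      rw [Finset.card_insert_of_notMem, Finset.card_insert_of_notMem, Finset.card_singleton]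
      · rw [Finset.mem_singleton]
        intro h
        apply hxy
        have := congrArg (fun t : Vr => ((t : R) : G)) h
        simpa using this
      · rw [Finset.mem_insert, Finset.mem_singleton]
        rintro (h | h)
        · apply hx1
          have := congrArg (fun t : Vr => ((t : R) : G)) h
          simpa using this.symm
        · apply hy1
          have := congrArg (fun t : Vr => ((t : R) : G)) h
          simpa using this.symm
    rw [← this, Nat.card_eq_fintype_card]
    exact Finset.card_le_univ _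
  have hr2 : 2 ≤ r := by
    by_contra h
    have h1 : r ≤ 1 := by omega
    have h2 : Nat.card Vr ≤ 2 ^ 1 := by
      rw [hr]; exact Nat.pow_le_pow_right (by norm_num) h1
    omega
  have hcard4 : 4 ≤ Nat.card Vr := by
    rw [hr]
    calc 4 = 2 ^ 2 := by norm_num
      _ ≤ 2 ^ r := Nat.pow_le_pow_right (by norm_num) hr2
  have htr'' : ∀ v ∈ Vr, ∀ w ∈ Vr, v ≠ 1 → w ≠ 1 → ∃ α : MulAut R, α v = w :=
    fun v hv w hw hv1 hw1 => htr' v w hv1 hv hw1 hw
  by_cases hne : ∃ a : R, a ∉ Vr
  swap
  · push Not at hne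
    apply hKcent
    intro k hk a ha
    have : σ k = 1 := MulEquiv.ext (fun b => hσV k hk b (hne b))
    exact hσ1 k this a ha
  rcases Cfsg.Agent.Lib.helper66.T97P.sq_count hR2 Vr hVc hsq hV hV2 hcard4 htr'' hne with
    hA | ⟨hR3, hroots, hrad⟩
  · apply hKcent
    intro k hk a ha
    have := Cfsg.Agent.Lib.helper66.T97P.aut_trivial_of_unique_roots Vr hVc hsq hV hV2 hA (σ k)
      (hσodd k hk) (fun v hv => hσV k hk v hv)
    exact hσ1 k this a ha
  -- semiregularity
  have hsemi : ∀ k ∈ K, k ≠ 1 → ∀ a : R, σ k a = a → a ∈ Vr := by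
    intro k hk hk1 a ha
    have hord : orderOf k ≠ 1 := fun h => hk1 (orderOf_eq_one_iff.mp h)
    obtain ⟨p, hp, hpd⟩ := Nat.exists_prime_and_dvd hord
    have hp2 : p ≠ 2 := by
      rintro rfl
      have := hKo k hk
      rw [Nat.odd_iff] at this
      have h2 := Nat.mod_eq_zero_of_dvd hpd
      omega
    obtain ⟨m, hm⟩ := hpd
    set k' := k ^ m with hk'
    have hk'K : k' ∈ K := K.pow_mem hk m
    have hk'p : k' ^ p = 1 := by
      rw [hk', ← pow_mul, mul_comm, ← hm, pow_orderOf_eq_one]
    have hk'1 : k' ≠ 1 := by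
      intro h
      rw [hk'] at h
      have h1 : orderOf k ∣ m := orderOf_dvd_of_pow_eq_one h
      rw [hm] at h1
      have hm0 : 0 < m := by
        rcases Nat.eq_zero_or_pos m with h0 | h0
        · rw [h0, mul_zero] at hm
          exact absurd hm (orderOf_pos k).ne'
        · exact h0
      have := Nat.le_of_dvd hm0 h1
      have hp1 := hp.one_lt
      nlinarith
    have hfix' : σ k' a = a := by
      rw [hk', map_pow]
      have : ∀ j : ℕ, (σ k ^ j) a = a := by
        intro j
        induction j with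
        | zero => simp
        | succ j ih => rw [pow_succ, MulAut.mul_apply, ha, ih]
      exact this m
    rcases Cfsg.Agent.Lib.helper66.T97P.sq_fixed hR2 Vr hVc hsq hV hV2 hR3 hrad (σ k') p hp hp2
      (by rw [← map_pow, hk'p, map_one]) (fun v hv => hσV k' hk'K v hv) with h1 | h1
    · exact absurd (hLk k' hk'K (hσ1 k' h1)) hk'1
    · exact h1 a hfix'
  -- `K` is nilpotent, via the injection into `F`
  let f : K →* F := ((QuotientGroup.mk' Q).comp K.subtype).codRestrict F (fun k => hKN k.2)
  have hfinj : Function.Injective f := by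
    rw [injective_iff_map_eq_one]
    intro k hk
    have h1 : ((k : G) : G ⧸ Q) = 1 := congrArg Subtype.val hk
    have h2 : (k : G) ∈ Q := (QuotientGroup.eq_one_iff _).mp h1
    have h3 : (k : G) ∈ Q ⊓ K := ⟨h2, k.2⟩
    rw [hQK, Subgroup.mem_bot] at h3
    exact Subtype.ext h3
  have hfbij : Function.Bijective f := by
    rw [Nat.bijective_iff_injective_and_card]
    exact ⟨hfinj, hKcard⟩
  have hFnil : Group.IsNilpotent F := Cfsg.Agent.S0008.result
  have hKnil : Group.IsNilpotent K := by
    haveI := hFnil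
    apply Subgroup.isNilpotent_of_ker_le_center f
    rw [(MonoidHom.ker_eq_bot_iff f).mpr hfinj]
    exact bot_le
  -- `R` is strictly larger than `V`
  have hRbig : ∃ a ∈ R, a * a ≠ 1 := by
    by_contra hcon
    push Not at hcon
    have h1 : ∀ a : R, a ∈ Vr := by
      intro a
      apply Subtype.ext
      simpa using hcon (a : G) a.2
    have h2 : Vr = ⊤ := by
      rw [eq_top_iff]; intro a _; exact h1 a
    have h3 : Nat.card Vr = Nat.card R := by
      rw [h2]; exact Subgroup.card_top
    rw [hR3] at h3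
    have h5 : Nat.card Vr ^ 3 = Nat.card Vr * (Nat.card Vr * Nat.card Vr) := by ring
    have h6 : 16 ≤ Nat.card Vr * Nat.card Vr := by nlinarith
    nlinarith
  -- `K` is cyclic
  set Vg : Subgroup G := Vr.map R.subtype with hVg
  have hKcyc : IsCyclic K := by
    apply Cfsg.Agent.Lib.helper66.T97P.cyclic_of_nilpotent_odd hKnil hKodd
    intro p hp x y hxy hxp hyp hx1
    have hRcard : ∃ j : ℕ, Nat.card R = 2 ^ j := IsPGroup.iff_card.mp hR2
    obtain ⟨j, hj⟩ := hRcard
    have := Cfsg.Agent.Lib.helper66.T97P.mem_zpowers_of_semireg K R Vg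
      (by rw [Subgroup.normalizer_eq_top]; exact le_top)
      (by rw [hj]; exact Nat.Coprime.pow_right j (Nat.coprime_two_right.mpr hKodd))
      (fun a ha haa => ⟨⟨a, ha⟩, Subtype.ext (by simpa using haa), rfl⟩)
      (by
        rintro v ⟨v', hv', rfl⟩
        have := congrArg (Subtype.val : R → G) (hV2 v' hv')
        simpa using this)
      (fun k hk hk1 a ha hka => by
        have h1 := hsemi k hk hk1 ⟨a, ha⟩ ((hσfix k ⟨a, ha⟩).mpr hka)
        have := congrArg (Subtype.val : R → G) (hV2 _ h1)
        simpa using this)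
      hRbig p hp (x : G) (y : G) x.2 y.2
      (by have := congrArg (Subtype.val : K → G) hxy; simpa using this)
      (by have := congrArg (Subtype.val : K → G) hxp; simpa using this)
      (by have := congrArg (Subtype.val : K → G) hyp; simpa using this)
      (fun h => hx1 (Subtype.ext h))
    obtain ⟨n, hn⟩ := Subgroup.mem_zpowers_iff.mp this
    exact Subgroup.mem_zpowers_iff.mpr ⟨n, Subtype.ext (by simpa using hn)⟩
  have hFcyc : IsCyclic F := isCyclic_of_surjective f hfbij.2
  -- `|K|` divides `|V| + 1`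
  have hKdvd : Nat.card K ∣ 2 ^ r + 1 := by
    let g : K →* MulAut R := σ.comp K.subtype
    have hginj : Function.Injective g := by
      rw [injective_iff_map_eq_one]
      intro k hk
      exact Subtype.ext (hLk (k : G) k.2 (hσ1 (k : G) hk))
    have hcardrange : Nat.card g.range = Nat.card K :=
      Nat.card_congr (MonoidHom.ofInjective hginj).toEquiv.symm
    have h1 := Cfsg.Agent.Lib.helper66.T97P.card_dvd_roots_of_semireg Vr g.range
      (by
        rintro τ ⟨k, rfl⟩ hτ1 a ha
        have hk1 : (k : G) ≠ 1 := by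
          intro h
          apply hτ1
          have : k = 1 := Subtype.ext h
          rw [this, map_one]
        exact hsemi (k : G) k.2 hk1 a ha)
      hV2
      (by
        rintro τ ⟨k, rfl⟩ v hv
        exact hσV (k : G) k.2 v hv)
      ⟨x, hinvR x hx2⟩ hxV (fun h => hx1 (by simpa using congrArg (Subtype.val : R → G) h))
    rw [hcardrange, hroots _ hxV (fun h => hx1 (by simpa using congrArg (Subtype.val : R → G) h)),
      hr] at h1
    exact (Nat.Coprime.dvd_mul_left
      (Nat.Coprime.pow_right r (Nat.coprime_two_right.mpr hKodd))).mp h1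
  -- the index of `F` divides the totient
  have hidx := Cfsg.Agent.Lib.helper66.T97P.index_dvd_totient F hFcyc
    (Cfsg.Agent.S0044.result (G := G ⧸ Q))
  have hNidx : N.index = F.index := by
    rw [hNdef]
    exact Subgroup.index_comap_of_surjective F (QuotientGroup.mk'_surjective Q)
  have htr3 := Cfsg.Agent.Lib.helper66.T97P.card_invol_dvd_index N hconj
    (fun g hg n hn => hNV g hg n hn) ⟨x, hx1, hx2⟩
  -- the number of involutions
  have hnum : Nat.card {g : G // g ≠ 1 ∧ g * g = 1} = 2 ^ r - 1 := by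
    have h1 : Nat.card {g : G // g ≠ 1 ∧ g * g = 1} + 1 = Nat.card Vr := by
      have e1 : Vr ≃ {g : G // g * g = 1} :=
        { toFun := fun v => ⟨((v : R) : G), by
            have := congrArg (Subtype.val : R → G) (hV2 (v : R) v.2)
            simpa using this⟩
          invFun := fun g => ⟨⟨g.1, hinvR g.1 g.2⟩, Subtype.ext (by simpa using g.2)⟩
          left_inv := fun v => rfl
          right_inv := fun g => rfl }
      rw [Nat.card_congr e1]
      have h2 : {g : G | g * g = 1} = insert (1 : G) {g : G | g ≠ 1 ∧ g * g = 1} := by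
        ext g
        simp only [Set.mem_setOf_eq, Set.mem_insert_iff]
        constructor
        · intro h
          by_cases h1 : g = 1
          · exact Or.inl h1
          · exact Or.inr ⟨h1, h⟩
        · rintro (h | h)
          · rw [h, one_mul]
          · exact h.2
      change Nat.card ({g : G | g ≠ 1 ∧ g * g = 1} : Set G) + 1 = Nat.card ({g : G | g * g = 1} : Set G)
      rw [h2, Nat.card_coe_set_eq, Nat.card_coe_set_eq,
        Set.ncard_insert_of_notMem (by simp) (Set.toFinite _)]
    rw [hr] at h1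
    omega
  rw [hnum, hNidx] at htr3
  have hfin := htr3.trans hidx
  rw [← hKcard] at hfin
  exact Cfsg.Agent.Lib.helper66.T97P.arith_final r (Nat.card K) hr2 hKdvd hfin

end Cfsg.Agent.Lib.helper66.T97
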