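import Mathlib
import Cfsg.Agent.Lib.helper66.T97B
import Cfsg.Agent.Lib.helper90.GaschutzYen
import Cfsg.Agent.S0017

/-!
# S3797 (Thompson, one class of involutions): assembly (helper66)
-/

set_option autoImplicit false

namespace Cfsg.Agent.Lib.helper66.T97

universe u

open Cfsg.Agent.Lib.helper27 Cfsg.Agent.Lib.helper66 Cfsg.Agent.Lib.helper38

/-- With `O(G) = 1`: `O_2(G)` has odd index. -/
theorem core_odd_index {G : Type u} [Group G] [Finite G] [Group.IsSolvable G]
    (hcore : Cfsg.pPrimeCore 2 G = ⊥)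
    (htwo : ∃ x y : G, x ≠ y ∧ x ≠ 1 ∧ x * x = 1 ∧ y ≠ 1 ∧ y * y = 1)
    (hconj : ∀ x y : G, x ≠ 1 → x * x = 1 → y ≠ 1 → y * y = 1 → ∃ c : G, c * x * c⁻¹ = y) :
    Odd (Cfsg.pCore 2 G).index := by
  classical
  haveI : Fact (Nat.Prime 2) := ⟨Nat.prime_two⟩
  set Q := Cfsg.pCore 2 G with hQ
  have hQn : Q.Normal := inferInstance
  have hQ2 : IsPGroup 2 Q := pCore_isPGroup 2
  have hCQ : Subgroup.centralizer (Q : Set G) ≤ Q := Cfsg.Agent.S0017.result 2 hcore
  obtain ⟨x, y, hxy, hx1, hx2, hy1, hy2⟩ := htwo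
  have hQne : Q ≠ ⊥ := by
    intro h
    have h1 : x ∈ Subgroup.centralizer (Q : Set G) := by
      rw [Subgroup.mem_centralizer_iff]
      intro z hz
      rw [h] at hz
      have : z = 1 := by simpa using hz
      rw [this]; simp
    have h2 := hCQ h1
    rw [h, Subgroup.mem_bot] at h2
    exact hx1 h2
  -- a central involution of `Q`
  obtain ⟨z0, hz0Q, hz01, hz02, hz0c⟩ : ∃ z0 : G, z0 ∈ Q ∧ z0 ≠ 1 ∧ z0 * z0 = 1 ∧
      ∀ q ∈ Q, q * z0 = z0 * q := by
    haveI : Nontrivial Q := (Subgroup.nontrivial_iff_ne_bot Q).mpr hQne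
    haveI := hQ2.center_nontrivial
    have hZ2 : IsPGroup 2 (Subgroup.center Q) := hQ2.to_subgroup _
    have hdvd : 2 ∣ Nat.card (Subgroup.center Q) := by
      rcases hZ2.card_eq_or_dvd with h | h
      · exact absurd h (Finite.one_lt_card_iff_nontrivial.mpr inferInstance).ne'
      · exact h
    obtain ⟨z, hz⟩ := exists_prime_orderOf_dvd_card' 2 hdvd
    have hzo : orderOf (((z : Q) : G)) = 2 := by
      rw [Subgroup.orderOf_coe, Subgroup.orderOf_coe]; exact hz
    refine ⟨((z : Q) : G), (z : Q).2, ?_, ?_, ?_⟩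
    · intro h
      rw [h, orderOf_one] at hzo
      omega
    · have := pow_orderOf_eq_one (((z : Q) : G))
      rw [hzo, pow_two] at this
      exact this
    · intro q hq
      have := Subgroup.mem_center_iff.mp z.2 ⟨q, hq⟩
      have h2 := congrArg (Subtype.val : Q → G) this
      simpa using h2
  have hinv : ∀ g : G, g * g = 1 → g ∈ Q ∧ ∀ q ∈ Q, q * g = g * q := by
    intro g hg
    by_cases hg1 : g = 1
    · subst hg1
      exact ⟨Q.one_mem, fun q _ => by simp⟩
    · obtain ⟨c, hc⟩ := hconj z0 g hz01 hz02 hg1 hg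
      refine ⟨?_, ?_⟩
      · rw [← hc]; exact hQn.conj_mem z0 hz0Q c
      · intro q hq
        have h1 : c⁻¹ * q * c ∈ Q := by
          have := hQn.conj_mem q hq c⁻¹
          simpa using this
        have h2 := hz0c _ h1
        rw [← hc]
        calc q * (c * z0 * c⁻¹) = c * ((c⁻¹ * q * c) * z0) * c⁻¹ := by group
          _ = c * (z0 * (c⁻¹ * q * c)) * c⁻¹ := by rw [h2]
          _ = c * z0 * c⁻¹ * q := by group
  have hpc : Cfsg.pCore 2 (G ⧸ Q) = ⊥ := Cfsg.Agent.Lib.helper66.T97P.pCore_quotient_pCore_eq_bot 2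
  by_contra hodd
  have heven : Even Q.index := Nat.not_odd_iff_even.mp hodd
  set F := Cfsg.fittingSubgroup (G ⧸ Q) with hFdef
  haveI hFn : F.Normal := Cfsg.Agent.Lib.helper28.fittingSubgroup_normal _
  set N : Subgroup G := F.comap (QuotientGroup.mk' Q) with hNdef
  have hNn : N.Normal := inferInstance
  have hQN : Q ≤ N := le_comap_mk' _ _
  have hFodd : Odd (Nat.card F) := Cfsg.Agent.Lib.helper66.T97P.odd_card_fitting hpc
  have hrel : Q.relIndex N = Nat.card F := by
    rw [← card_map_mk'_eq_relIndex, hNdef,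
      Subgroup.map_comap_eq_self_of_surjective (QuotientGroup.mk'_surjective Q)]
  obtain ⟨z, hz1, hz2, hzN⟩ := Cfsg.Agent.Lib.helper66.T97P.exists_invol_centralizing Q N hQ2 hQN
    (hrel ▸ hFodd) hinv heven
  apply stepII Q hQ2 hCQ hpc hinv ⟨x, y, hxy, hx1, hx2, hy1, hy2⟩ hconj
  intro g hg n hn
  by_cases hg1 : g = 1
  · subst hg1; simp
  · obtain ⟨c, hc⟩ := hconj z g hz1 hz2 hg1 hg
    have hnN : n ∈ N := hn
    have h1 : c⁻¹ * n * c ∈ N := by
      have := hNn.conj_mem n hnN c⁻¹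
      simpa using this
    have h2 := hzN _ h1
    rw [← hc]
    calc n * (c * z * c⁻¹) = c * ((c⁻¹ * n * c) * z) * c⁻¹ := by group
      _ = c * (z * (c⁻¹ * n * c)) * c⁻¹ := by rw [h2]
      _ = c * z * c⁻¹ * n := by group

end Cfsg.Agent.Lib.helper66.T97
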