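import Mathlib
import Cfsg.Agent.Lib.helper66.T97C

/-!
# S3797 (Thompson, one class of involutions): final assembly (helper66)
-/

set_option autoImplicit false

namespace Cfsg.Agent.Lib.helper66.T97

universe u

open Cfsg.Agent.Lib.helper27 Cfsg.Agent.Lib.helper66 Cfsg.Agent.Lib.helper38

/-- **Thompson**: a finite solvable group with one class of involutions and at least two
involutions in a Sylow `2`-subgroup has `2`-length one, with the Sylow `2`-structure. -/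
theorem t97_main {G : Type u} [Group G] [Finite G] (hG : Group.IsSolvable G) (S : Sylow 2 G)
    (htwo : ∃ x y : G, x ∈ (S : Subgroup G) ∧ y ∈ (S : Subgroup G) ∧ x ≠ y ∧ x ≠ 1 ∧ x ^ 2 = 1 ∧
      y ≠ 1 ∧ y ^ 2 = 1)
    (hconj : ∀ x y : G, x ≠ 1 → x ^ 2 = 1 → y ≠ 1 → y ^ 2 = 1 → IsConj x y) :
    Cfsg.PLengthLE 2 1 G ∧
      ((∃ m r : ℕ, Nonempty (↥(S : Subgroup G) ≃* (Fin r → Multiplicative (ZMod (2 ^ m))))) ∨
        (¬ IsMulCommutative (S : Subgroup G) ∧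
          ∃ Y : Subgroup (MulAut ↥(S : Subgroup G)), Group.IsSolvable Y ∧
            ∀ x y : ↥(S : Subgroup G), x ≠ 1 → x ^ 2 = 1 → y ≠ 1 → y ^ 2 = 1 →
              ∃ a ∈ Y, a x = y)) := by
  classical
  haveI : Fact (Nat.Prime 2) := ⟨Nat.prime_two⟩
  haveI := hG
  set O := Cfsg.pPrimeCore 2 G with hO
  have hOcop : (Nat.card O).Coprime 2 := pPrimeCore_coprime 2
  have hOodd : Odd (Nat.card O) := Nat.Coprime.odd_of_right hOcop
  haveI hOn : O.Normal := inferInstance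
  -- `S ∩ O = 1`
  have hSO1 : ∀ g : G, g ∈ (S : Subgroup G) → g ∈ O → g = 1 := by
    intro g hgS hgO
    obtain ⟨k, hk⟩ := S.isPGroup' ⟨g, hgS⟩
    have h1 : g ^ 2 ^ k = 1 := by simpa using congrArg Subtype.val hk
    have h2 : g ^ Nat.card O = 1 := by
      have := pow_card_eq_one' (G := O) (x := ⟨g, hgO⟩)
      exact congrArg Subtype.val this
    have h3 : orderOf g ∣ 2 ^ k := orderOf_dvd_of_pow_eq_one h1
    have h4 : orderOf g ∣ Nat.card O := orderOf_dvd_of_pow_eq_one h2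
    have h5 : orderOf g ∣ Nat.gcd (2 ^ k) (Nat.card O) := Nat.dvd_gcd h3 h4
    have h6 : Nat.gcd (2 ^ k) (Nat.card O) = 1 := Nat.Coprime.pow_left k hOcop.symm
    rw [h6] at h5
    exact orderOf_eq_one_iff.mp (Nat.dvd_one.mp h5)
  have hcore : Cfsg.pPrimeCore 2 (G ⧸ O) = ⊥ :=
    Cfsg.Agent.Lib.helper66.pPrimeCore_quotient_pPrimeCore 2
  obtain ⟨x, y, hxS, hyS, hxy, hx1, hx2, hy1, hy2⟩ := htwo
  have hmk1 : ∀ g : G, g ∈ (S : Subgroup G) → (g : G ⧸ O) = 1 → g = 1 :=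
    fun g hg h => hSO1 g hg ((QuotientGroup.eq_one_iff g).mp h)
  have htwo' : ∃ a b : G ⧸ O, a ≠ b ∧ a ≠ 1 ∧ a * a = 1 ∧ b ≠ 1 ∧ b * b = 1 := by
    refine ⟨(x : G ⧸ O), (y : G ⧸ O), ?_, ?_, ?_, ?_, ?_⟩
    · intro h
      have h1 : x⁻¹ * y ∈ O := QuotientGroup.eq.mp h
      have h2 : x⁻¹ * y ∈ (S : Subgroup G) := mul_mem (inv_mem hxS) hyS
      have h3 := hSO1 _ h2 h1
      exact hxy (inv_mul_eq_one.mp h3)
    · intro h; exact hx1 (hmk1 x hxS h)
    · rw [← QuotientGroup.mk_mul, ← pow_two, hx2]; rfl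
    · intro h; exact hy1 (hmk1 y hyS h)
    · rw [← QuotientGroup.mk_mul, ← pow_two, hy2]; rfl
  have hconj' : ∀ a b : G ⧸ O, a ≠ 1 → a * a = 1 → b ≠ 1 → b * b = 1 →
      ∃ c : G ⧸ O, c * a * c⁻¹ = b := by
    intro a b ha1 ha2 hb1 hb2
    have hoa : orderOf a = 2 := orderOf_eq_prime (by rw [pow_two]; exact ha2) ha1
    have hob : orderOf b = 2 := orderOf_eq_prime (by rw [pow_two]; exact hb2) hb1
    obtain ⟨a', ha', rfl⟩ := Cfsg.Agent.Lib.helper90.gy_lift_order_p O hOcop a hoa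
    obtain ⟨b', hb', rfl⟩ := Cfsg.Agent.Lib.helper90.gy_lift_order_p O hOcop b hob
    have hc := hconj a' b' (by intro h; rw [h, orderOf_one] at ha'; omega)
      (by rw [← ha']; exact pow_orderOf_eq_one a')
      (by intro h; rw [h, orderOf_one] at hb'; omega)
      (by rw [← hb']; exact pow_orderOf_eq_one b')
    obtain ⟨c, hc⟩ := isConj_iff.mp hc
    exact ⟨(c : G ⧸ O), by rw [← hc]; rfl⟩
  have hodd := core_odd_index hcore htwo' hconj'
  -- the `2`-length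
  obtain ⟨k, hk⟩ := IsPGroup.iff_card.mp (pCore_isPGroup (G := G ⧸ O) 2)
  have h2 : Cfsg.PLengthLE 2 1 (Cfsg.pCore 2 (G ⧸ O)) := PLengthLE.one_of_card_eq_pow hk
  have hcop : (Nat.card ((G ⧸ O) ⧸ Cfsg.pCore 2 (G ⧸ O))).Coprime 2 := by
    rw [← Subgroup.index_eq_card]
    exact (Nat.coprime_two_left.mpr hodd).symm
  have h3 : Cfsg.PLengthLE 2 0 ((G ⧸ O) ⧸ Cfsg.pCore 2 (G ⧸ O)) :=
    PLengthLE.zero_of_coprime hcop
  have hQ : Cfsg.PLengthLE 2 1 (G ⧸ O) := by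
    simpa using PLengthLE.of_normal_of_quotient (Cfsg.pCore 2 (G ⧸ O)) h2 h3
  have hN : Cfsg.PLengthLE 2 0 O := PLengthLE.zero_of_coprime hOcop
  have hPL : Cfsg.PLengthLE 2 1 G := by
    simpa using PLengthLE.of_normal_of_quotient O hN hQ
  -- normality of `S ⊔ O`
  set T : Subgroup G := (Cfsg.pCore 2 (G ⧸ O)).comap (QuotientGroup.mk' O) with hT
  have hTn : T.Normal := inferInstance
  have hOT : O ≤ T := le_comap_mk' _ _
  have hST : (S : Subgroup G) ≤ T := by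
    intro g hg
    show (g : G ⧸ O) ∈ Cfsg.pCore 2 (G ⧸ O)
    rw [← QuotientGroup.eq_one_iff]
    obtain ⟨j, hj⟩ := S.isPGroup' ⟨g, hg⟩
    have h1 : g ^ 2 ^ j = 1 := by simpa using congrArg Subtype.val hj
    set q : (G ⧸ O) ⧸ Cfsg.pCore 2 (G ⧸ O) :=
      ((g : G ⧸ O) : (G ⧸ O) ⧸ Cfsg.pCore 2 (G ⧸ O)) with hq
    have h2' : q ^ 2 ^ j = 1 := by
      rw [hq, ← QuotientGroup.mk_pow, ← QuotientGroup.mk_pow, h1]; rfl
    have h3' : q ^ Nat.card ((G ⧸ O) ⧸ Cfsg.pCore 2 (G ⧸ O)) = 1 := pow_card_eq_one'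
    have h4 : orderOf q ∣ Nat.gcd (2 ^ j) (Nat.card ((G ⧸ O) ⧸ Cfsg.pCore 2 (G ⧸ O))) :=
      Nat.dvd_gcd (orderOf_dvd_of_pow_eq_one h2') (orderOf_dvd_of_pow_eq_one h3')
    have h5 : Nat.gcd (2 ^ j) (Nat.card ((G ⧸ O) ⧸ Cfsg.pCore 2 (G ⧸ O))) = 1 :=
      Nat.Coprime.pow_left j hcop.symm
    rw [h5] at h4
    exact orderOf_eq_one_iff.mp (Nat.dvd_one.mp h4)
  have hSOT : (S : Subgroup G) ⊔ O ≤ T := sup_le hST hOT
  have hrel1 : ((S : Subgroup G) ⊔ O).relIndex T = 1 := by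
    have hd1 : ((S : Subgroup G) ⊔ O).relIndex T ∣ (S : Subgroup G).relIndex T :=
      Subgroup.relIndex_dvd_of_le_left T le_sup_left
    have hd2 : ((S : Subgroup G) ⊔ O).relIndex T ∣ O.relIndex T :=
      Subgroup.relIndex_dvd_of_le_left T le_sup_right
    have hd3 : (S : Subgroup G).relIndex T ∣ (S : Subgroup G).index :=
      Subgroup.relIndex_dvd_index_of_le hST
    have hOrel : O.relIndex T = Nat.card (Cfsg.pCore 2 (G ⧸ O)) := by
      rw [← card_map_mk'_eq_relIndex, hT,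
        Subgroup.map_comap_eq_self_of_surjective (QuotientGroup.mk'_surjective O)]
    rw [hOrel, hk] at hd2
    have hS2 : ¬ 2 ∣ (S : Subgroup G).index := S.not_dvd_index
    obtain ⟨j, -, hj⟩ := (Nat.dvd_prime_pow Nat.prime_two).mp hd2
    rcases Nat.eq_zero_or_pos j with h0 | h0
    · rw [hj, h0, pow_zero]
    · exfalso
      apply hS2
      exact dvd_trans (dvd_trans (by rw [hj]; exact dvd_pow_self 2 h0.ne') hd1) hd3
  have hSOeq : (S : Subgroup G) ⊔ O = T :=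
    le_antisymm hSOT (Subgroup.relIndex_eq_one.mp hrel1)
  have hSOn : ((S : Subgroup G) ⊔ O).Normal := hSOeq ▸ hTn
  obtain ⟨Y, hYs, hY⟩ :=
    Cfsg.Agent.Lib.helper66.T97P.exists_solvable_aut_transitive hG S O hOodd hSOn
  have hcj : ∀ a b : ↥(S : Subgroup G), a ≠ 1 → a ^ 2 = 1 → b ≠ 1 → b ^ 2 = 1 →
      IsConj (a : G) (b : G) := by
    intro a b ha1 ha2 hb1 hb2
    refine hconj a b ?_ ?_ ?_ ?_
    · intro h; exact ha1 (Subtype.ext h)
    · have := congrArg Subtype.val ha2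
      simpa using this
    · intro h; exact hb1 (Subtype.ext h)
    · have := congrArg Subtype.val hb2
      simpa using this
  refine ⟨hPL, ?_⟩
  by_cases hab : IsMulCommutative (S : Subgroup G)
  · left
    have hcomm : ∀ a b : ↥(S : Subgroup G), a * b = b * a := fun a b => hab.is_comm.comm a b
    apply Cfsg.Agent.Lib.helper66.T97P.homocyclic_of_transitive S.isPGroup' hcomm
    intro a b ha1 ha2 hb1 hb2
    obtain ⟨α, -, hα⟩ := hY a b (hcj a b ha1 ha2 hb1 hb2)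
    exact ⟨α, hα⟩
  · right
    refine ⟨hab, Y, hYs, ?_⟩
    intro a b ha1 ha2 hb1 hb2
    exact hY a b (hcj a b ha1 ha2 hb1 hb2)

end Cfsg.Agent.Lib.helper66.T97
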