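import Mathlib
import Cfsg.Agent.Lib.helper91.WidthOne
import Cfsg.Agent.Lib.helper91.TT59Defs

/-!
# S5559 split project, piece SEC (`sec_of`)

The group `Γ := range (H →* MulAut (A / B))` acting on the section `A / B`
(realised as the image of `A` in `H ⧸ B`).
-/

set_option autoImplicit false

namespace Cfsg.Agent.Lib.helper66.TT59

open Cfsg.Agent.Lib.helper91 Cfsg.Agent.Lib.helper91.TT59 Subgroup

universe u

section

variable {H : Type u} [Group H] (B A : Subgroup H) [B.Normal] [A.Normal]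

/-- The image of `A` in `H ⧸ B`. -/
abbrev h66Abar : Subgroup (H ⧸ B) := A.map (QuotientGroup.mk' B)

instance h66Abar_normal : (h66Abar B A).Normal :=
  Subgroup.Normal.map inferInstance _ (QuotientGroup.mk'_surjective B)

/-- The conjugation action of `H` on the section. -/
def h66Phi : H →* MulAut ↥(h66Abar B A) :=
  (MulAut.conjNormal (H := h66Abar B A)).comp (QuotientGroup.mk' B)

theorem h66_smul_iff (h : H) (a : H) (ha : a ∈ A) :
    ((h66Phi B A).rangeRestrict h) •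
        (⟨QuotientGroup.mk' B a, Subgroup.mem_map_of_mem _ ha⟩ : ↥(h66Abar B A)) =
      ⟨QuotientGroup.mk' B a, Subgroup.mem_map_of_mem _ ha⟩ ↔ a⁻¹ * (h * a * h⁻¹) ∈ B := by
  rw [Subgroup.smul_def, MonoidHom.coe_rangeRestrict, MulAut.smul_def, Subtype.ext_iff]
  show (QuotientGroup.mk' B h) * (QuotientGroup.mk' B a) * (QuotientGroup.mk' B h)⁻¹ =
    QuotientGroup.mk' B a ↔ _
  rw [← map_inv, ← map_mul, ← map_mul, eq_comm]
  exact QuotientGroup.eq

theorem h66_mem_ker (h : H) :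
    (h66Phi B A).rangeRestrict h = 1 ↔ ∀ a ∈ A, a⁻¹ * (h * a * h⁻¹) ∈ B := by
  constructor
  · intro hh a ha
    rw [← h66_smul_iff B A h a ha, hh, one_smul]
  · intro hh
    apply FaithfulSMul.eq_of_smul_eq_smul (α := ↥(h66Abar B A))
    rintro ⟨x, hx⟩
    obtain ⟨a, ha, rfl⟩ := Subgroup.mem_map.mp hx
    rw [one_smul]
    exact (h66_smul_iff B A h a ha).mpr (hh a ha)

end

/-- PIECE SEC.  The action of `H / C` on the section `A / B`, against IRR as the hypothesis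
`IRR`. -/
theorem sec_of {H : Type u} [Group H] [Finite H] (IRR : IrrStmt.{u}) {E : Set H}
    (B A : Subgroup H) [B.Normal] [A.Normal] (hBA : B ≤ A)
    (hA2 : ∀ a ∈ A, a * a ∈ B)
    (C : Subgroup H) [C.Normal] (hCdef : ∀ h : H, h ∈ C ↔ ∀ a ∈ A, a * h * a⁻¹ * h⁻¹ ∈ B)
    (hsq : ∀ x ∈ E, x * x = 1)
    (hcube : ∀ x ∈ E, ∀ y ∈ E, (x * y) ^ 3 ∈ C)
    (hconj : ∀ g : H, ∀ x ∈ E, g * x * g⁻¹ ∈ E)
    (hgen : Subgroup.closure E = ⊤) (hne : E.Nonempty)
    (h1 : ∀ x ∈ E, x ∉ C)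
    (hC : ∀ e ∈ E, ∀ e' ∈ E, e * e' ∉ C → ∀ v ∈ A, v * (e * e') * v⁻¹ * (e * e')⁻¹ ∈ B →
      v * e' * v⁻¹ * e'⁻¹ ∈ B)
    (hirr : ∀ A' : Subgroup H, A'.Normal → B ≤ A' → A' ≤ A → A' = B ∨ A' = A) :
    (∃ a ∈ E, ∃ b ∈ E, ∀ g : H, ∃ x ∈ Subgroup.closure ({a, b} : Set H), ∃ y ∈ C, g = x * y) ∨
    (∃ a ∈ E, ∃ b ∈ E, ∃ c ∈ E,
      (∀ g : H, ∃ x ∈ Subgroup.closure ({a, b, c} : Set H), ∃ y ∈ C, g = x * y) ∧
      C.index = 54) := by
  classical
  let φ : H →* MulAut ↥(h66Abar B A) := h66Phi B A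
  let ψ : H →* ↥φ.range := φ.rangeRestrict
  have hψs : Function.Surjective ψ := φ.rangeRestrict_surjective
  have : Finite ↥φ.range := Finite.of_surjective ψ hψs
  have hker : ∀ h : H, ψ h = 1 ↔ h ∈ C := by
    intro h
    rw [hCdef]
    refine (h66_mem_ker B A h).trans ?_
    constructor
    · intro hh a ha
      have h0 := hh a⁻¹ (inv_mem ha)
      simpa [mul_assoc] using h0
    · intro hh a ha
      have h0 := hh a⁻¹ (inv_mem ha)
      simpa [mul_assoc] using h0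
  have hV2 : ∀ v : ↥(h66Abar B A), v * v = 1 := by
    rintro ⟨x, hx⟩
    obtain ⟨a, ha, rfl⟩ := Subgroup.mem_map.mp hx
    apply Subtype.ext
    show (QuotientGroup.mk' B a) * (QuotientGroup.mk' B a) = 1
    rw [← map_mul]
    exact (QuotientGroup.eq_one_iff _).mpr (hA2 a ha)
  have hW1 : IsW1 (ψ '' E) := by
    refine ⟨?_, ?_, ?_⟩
    · rintro _ ⟨x, hx, rfl⟩
      rw [← map_mul, hsq x hx, map_one]
    · rintro _ ⟨x, hx, rfl⟩ _ ⟨y, hy, rfl⟩
      rw [← map_mul, ← map_pow]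
      exact (hker _).mpr (hcube x hx y hy)
    · rintro _ ⟨x, hx, rfl⟩ _ ⟨y, hy, rfl⟩
      refine ⟨x * y * x⁻¹, hconj x y hy, ?_⟩
      have hx' : x⁻¹ = x := inv_eq_of_mul_eq_one_left (hsq x hx)
      rw [hx', map_mul, map_mul]
  have hconjD : ∀ g : ↥φ.range, ∀ x ∈ ψ '' E, g * x * g⁻¹ ∈ ψ '' E := by
    intro g x hx
    obtain ⟨h, rfl⟩ := hψs g
    obtain ⟨e, he, rfl⟩ := hx
    exact ⟨h * e * h⁻¹, hconj h e he, by rw [map_mul, map_mul, map_inv]⟩
  have hgenD : Subgroup.closure (ψ '' E) = ⊤ := by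
    rw [← MonoidHom.map_closure, hgen, ← MonoidHom.range_eq_map]
    exact MonoidHom.range_eq_top.mpr hψs
  have h1D : (1 : ↥φ.range) ∉ ψ '' E := by
    rintro ⟨x, hx, hx1⟩
    exact h1 x hx ((hker x).mp hx1)
  have hCD : ∀ e ∈ ψ '' E, ∀ e' ∈ ψ '' E, e ≠ e' → ∀ v : ↥(h66Abar B A),
      (e * e') • v = v → e' • v = v := by
    rintro _ ⟨x, hx, rfl⟩ _ ⟨y, hy, rfl⟩ hne' ⟨w, hw⟩ hfix
    obtain ⟨a, ha, rfl⟩ := Subgroup.mem_map.mp hw
    have hxy : x * y ∉ C := by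
      intro hC'
      apply hne'
      have e1 : ψ x * ψ y = 1 := by rw [← map_mul]; exact (hker _).mpr hC'
      have e2 : ψ y * ψ y = 1 := by rw [← map_mul, hsq y hy, map_one]
      exact mul_right_cancel (e1.trans e2.symm)
    rw [← map_mul] at hfix
    have hfix' : a⁻¹ * ((x * y) * a * (x * y)⁻¹) ∈ B := (h66_smul_iff B A (x * y) a ha).mp hfix
    have h0 := hC x hx y hy hxy a⁻¹ (inv_mem ha) (by simpa [mul_assoc] using hfix')
    apply (h66_smul_iff B A y a ha).mpr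
    simpa [mul_assoc] using h0
  have hirrD : ∀ U : Subgroup ↥(h66Abar B A), (∀ g : ↥φ.range, ∀ u ∈ U, g • u ∈ U) →
      U = ⊥ ∨ U = ⊤ := by
    intro U hU
    let A' : Subgroup H := (U.map (h66Abar B A).subtype).comap (QuotientGroup.mk' B)
    have hA'mem : ∀ a : H, a ∈ A' ↔ ∃ u ∈ U, (u : H ⧸ B) = QuotientGroup.mk' B a := by
      intro a
      show QuotientGroup.mk' B a ∈ U.map (h66Abar B A).subtype ↔ _
      rw [Subgroup.mem_map]
      rfl
    have hA'n : A'.Normal := by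
      constructor
      intro a ha h
      rw [hA'mem] at ha ⊢
      obtain ⟨u, hu, hua⟩ := ha
      refine ⟨ψ h • u, hU _ u hu, ?_⟩
      rw [Subgroup.smul_def, MonoidHom.coe_rangeRestrict, MulAut.smul_def]
      show (QuotientGroup.mk' B h) * (u : H ⧸ B) * (QuotientGroup.mk' B h)⁻¹ = _
      rw [hua, map_mul, map_mul, map_inv]
    have hBA' : B ≤ A' := by
      intro b hb
      rw [hA'mem]
      refine ⟨1, one_mem U, ?_⟩
      rw [Subgroup.coe_one]
      exact ((QuotientGroup.eq_one_iff b).mpr hb).symm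
    have hA'A : A' ≤ A := by
      intro a ha
      rw [hA'mem] at ha
      obtain ⟨u, hu, hua⟩ := ha
      have e1 : QuotientGroup.mk' B a ∈ A.map (QuotientGroup.mk' B) := by
        rw [← hua]; exact u.2
      obtain ⟨a', ha', e2⟩ := Subgroup.mem_map.mp e1
      have e3 : a'⁻¹ * a ∈ B := QuotientGroup.eq.mp e2
      have e4 : a = a' * (a'⁻¹ * a) := by group
      rw [e4]; exact mul_mem ha' (hBA e3)
    rcases hirr A' hA'n hBA' hA'A with h | h
    · left
      rw [eq_bot_iff]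
      rintro ⟨x, hx⟩ hu
      obtain ⟨a, ha, rfl⟩ := Subgroup.mem_map.mp hx
      have haA' : a ∈ A' := (hA'mem a).mpr ⟨_, hu, rfl⟩
      rw [h] at haA'
      rw [Subgroup.mem_bot]
      apply Subtype.ext
      exact (QuotientGroup.eq_one_iff a).mpr haA'
    · right
      rw [eq_top_iff]
      rintro ⟨x, hx⟩ -
      obtain ⟨a, ha, rfl⟩ := Subgroup.mem_map.mp hx
      have haA' : a ∈ A' := by rw [h]; exact ha
      obtain ⟨u, hu, hua⟩ := (hA'mem a).mp haA'
      have e1 : u = ⟨QuotientGroup.mk' B a, hx⟩ := Subtype.ext hua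
      rw [← e1]; exact hu
  have hpull : ∀ (S : Set H), Subgroup.closure (ψ '' S) = ⊤ →
      ∀ g : H, ∃ x ∈ Subgroup.closure S, ∃ y ∈ C, g = x * y := by
    intro S hS g
    have hg : ψ g ∈ Subgroup.closure (ψ '' S) := by rw [hS]; exact Subgroup.mem_top _
    rw [← MonoidHom.map_closure] at hg
    obtain ⟨x, hx, hxg⟩ := Subgroup.mem_map.mp hg
    refine ⟨x, hx, x⁻¹ * g, ?_, by group⟩
    apply (hker _).mp
    rw [map_mul, map_inv, hxg, inv_mul_cancel]
  rcases IRR (↥φ.range) (↥(h66Abar B A)) hV2 (ψ '' E) hW1 hconjD hgenD (hne.image ψ) h1D hCD hirrD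
    with h | h
  · left
    obtain ⟨_, ⟨a, ha, rfl⟩, _, ⟨b, hb, rfl⟩, hcl⟩ := h
    refine ⟨a, ha, b, hb, hpull {a, b} ?_⟩
    rw [Set.image_pair]; exact hcl
  · right
    obtain ⟨_, ⟨a, ha, rfl⟩, _, ⟨b, hb, rfl⟩, _, ⟨c, hc, rfl⟩, hcl, hcard⟩ := h
    refine ⟨a, ha, b, hb, c, hc, hpull {a, b, c} ?_, ?_⟩
    · rw [Set.image_insert_eq, Set.image_pair]; exact hcl
    · have hCker : C = ψ.ker := by
        ext h; rw [MonoidHom.mem_ker]; exact (hker h).symm
      rw [hCker, Subgroup.index_ker, MonoidHom.range_eq_top.mpr hψs, Subgroup.card_top]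
      exact hcard

end Cfsg.Agent.Lib.helper66.TT59
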