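import Mathlib
import Cfsg.Agent.S0055
import Cfsg.Agent.S0058
import Cfsg.Agent.Lib.helper27.AxB
import Cfsg.Agent.Lib.helper66.AbelianCoprime
import Cfsg.Agent.Lib.helper66.Basic

/-!
# Transvections of odd-order groups on elementary abelian 2-groups, and `S₃`

* `dihedralThreeEquivPerm : DihedralGroup 3 ≃* Equiv.Perm (Fin 3)`.
* `exists_compl_of_elementary`: complements in elementary abelian subgroups.
* `exists_inverted_order_three`: an involution `a` acting on an odd-order group `K`, both acting
  on an elementary abelian `2`-group `V` (with `K` faithful), such that `C_V(a)` has index at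
  most `2` in `V` and `a` does not centralize `K`, inverts an element of order `3` of `K`.
* `exists_inverted_of_small_index`: the same conclusion for an elementary abelian `2`-group `A`
  acting faithfully on `K` with `|V : C_V(A)| < |A|²`.
-/

set_option autoImplicit false

namespace Cfsg.Agent.Lib.helper66

open scoped commutatorElement

/-- The underlying map of `dihedralThreeHom`. -/
def dihedralThreeFun : DihedralGroup 3 → Equiv.Perm (ZMod 3)
  | DihedralGroup.r i => Equiv.addLeft i
  | DihedralGroup.sr i => Equiv.subLeft (-i)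

/-- The natural action of the dihedral group of order `6` on `ZMod 3`. -/
def dihedralThreeHom : DihedralGroup 3 →* Equiv.Perm (ZMod 3) where
  toFun := dihedralThreeFun
  map_one' := by
    rw [DihedralGroup.one_def]
    ext x
    simp [dihedralThreeFun]
  map_mul' := by
    rintro (i | i) (j | j) <;>
    · apply Equiv.ext
      intro x
      simp only [DihedralGroup.r_mul_r, DihedralGroup.r_mul_sr, DihedralGroup.sr_mul_r,
        DihedralGroup.sr_mul_sr, dihedralThreeFun, Equiv.Perm.mul_apply, Equiv.coe_addLeft,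
        Equiv.subLeft_apply]
      ring

theorem dihedralThreeHom_injective : Function.Injective dihedralThreeHom := by
  have h : ∀ a b : DihedralGroup 3, dihedralThreeFun a = dihedralThreeFun b → a = b := by
    rintro (i | i) (j | j) hij
    · have := congrArg (fun f : Equiv.Perm (ZMod 3) => f 0) hij
      simp only [dihedralThreeFun, Equiv.coe_addLeft, add_zero] at this
      rw [this]
    · exfalso
      have h0 := congrArg (fun f : Equiv.Perm (ZMod 3) => f 0) hij
      have h1 := congrArg (fun f : Equiv.Perm (ZMod 3) => f 1) hij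
      simp only [dihedralThreeFun, Equiv.coe_addLeft, add_zero, Equiv.subLeft_apply,
        sub_zero] at h0 h1
      rw [h0] at h1
      revert h1
      generalize j = j
      decide +revert
    · exfalso
      have h0 := congrArg (fun f : Equiv.Perm (ZMod 3) => f 0) hij
      have h1 := congrArg (fun f : Equiv.Perm (ZMod 3) => f 1) hij
      simp only [dihedralThreeFun, Equiv.coe_addLeft, add_zero, Equiv.subLeft_apply,
        sub_zero] at h0 h1
      rw [← h0] at h1
      revert h1
      generalize i = i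
      decide +revert
    · have := congrArg (fun f : Equiv.Perm (ZMod 3) => f 0) hij
      simp only [dihedralThreeFun, Equiv.subLeft_apply, sub_zero, neg_inj] at this
      rw [this]
  exact h

/-- The dihedral group of order `6` is the symmetric group of degree `3`. -/
noncomputable def dihedralThreeEquivPerm : DihedralGroup 3 ≃* Equiv.Perm (Fin 3) :=
  MulEquiv.ofBijective dihedralThreeHom
    ((Fintype.bijective_iff_injective_and_card _).mpr
      ⟨dihedralThreeHom_injective, by
        rw [DihedralGroup.card, Fintype.card_perm]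
        change 2 * 3 = (Fintype.card (Fin 3)).factorial
        rw [Fintype.card_fin]; rfl⟩)

variable {X : Type*} [Group X]

theorem relIndex_ne_zero_of_finite [Finite X] (H K : Subgroup X) : H.relIndex K ≠ 0 :=
  Subgroup.index_ne_zero_of_finite

/-- Complements in elementary abelian subgroups. -/
theorem exists_compl_of_elementary [Finite X] (p : ℕ) [Fact p.Prime] {A B : Subgroup X}
    (hA : IsMulCommutative A) (hAp : ∀ a ∈ A, a ^ p = 1) (hBA : B ≤ A) :
    ∃ A₁ : Subgroup X, A₁ ≤ A ∧ A₁ ⊓ B = ⊥ ∧ A₁ ⊔ B = A ∧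
      Nat.card A₁ * Nat.card B = Nat.card A := by
  let _ : CommGroup ↥A :=
    { (inferInstance : Group ↥A) with mul_comm := fun a b => hA.is_comm.comm a b }
  have hpow : (⊤ : Subgroup ↥A).map (powMonoidHom p) = ⊥ := by
    rw [eq_bot_iff]
    rintro _ ⟨a, -, rfl⟩
    rw [Subgroup.mem_bot, powMonoidHom_apply]
    apply Subtype.ext
    rw [Subgroup.coe_pow, Subgroup.coe_one]
    exact hAp a a.2
  obtain ⟨W, -, hCW, hsup⟩ := exists_compl_of_inf_pow_eq_bot p (⊤ : Subgroup ↥A)
    (B.subgroupOf A) le_top (by rw [hpow, inf_bot_eq])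
  refine ⟨W.map A.subtype, ?_, ?_, ?_, ?_⟩
  · rintro _ ⟨w, -, rfl⟩
    exact w.2
  · rw [eq_bot_iff]
    rintro x ⟨⟨w, hw, rfl⟩, hxB⟩
    have h1 : w ∈ B.subgroupOf A ⊓ W := Subgroup.mem_inf.mpr ⟨Subgroup.mem_subgroupOf.mpr hxB, hw⟩
    rw [hCW, Subgroup.mem_bot] at h1
    rw [Subgroup.mem_bot, h1]
    rfl
  · apply le_antisymm
    · refine sup_le ?_ hBA
      rintro _ ⟨w, -, rfl⟩
      exact w.2
    · intro a ha
      have h1 : (⟨a, ha⟩ : ↥A) ∈ B.subgroupOf A ⊔ W := by
        rw [hsup]; exact Subgroup.mem_top _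
      obtain ⟨c, hc, w, hw, hcw⟩ := Subgroup.mem_sup.mp h1
      have h2 : a = (c : X) * (w : X) := by
        rw [← Subgroup.coe_mul, hcw]
      rw [h2]
      exact Subgroup.mul_mem _ (Subgroup.mem_sup_right (Subgroup.mem_subgroupOf.mp hc))
        (Subgroup.mem_sup_left ⟨w, hw, rfl⟩)
  · have h1 : (B.subgroupOf A).relIndex (B.subgroupOf A ⊔ W) = Nat.card W :=
      relIndex_sup_of_disjoint (B.subgroupOf A) W hCW
    rw [hsup, Subgroup.relIndex_top_right] at h1
    have h2 := Subgroup.card_mul_index (B.subgroupOf A)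
    rw [h1, Nat.card_congr (Subgroup.subgroupOfEquivOfLe hBA).toEquiv] at h2
    rw [Subgroup.card_map_of_injective A.subtype_injective, mul_comm]
    exact h2

theorem map_conj_inf_centralizer_singleton {V : Subgroup X} {x : X}
    (hx : x ∈ Subgroup.normalizer (V : Set X)) (a : X) :
    (V ⊓ Subgroup.centralizer {a}).map (MulAut.conj x).toMonoidHom =
      V ⊓ Subgroup.centralizer {x * a * x⁻¹} := by
  ext g
  rw [mem_map_conj_iff, Subgroup.mem_inf, Subgroup.mem_inf,
    Subgroup.mem_centralizer_singleton_iff, Subgroup.mem_centralizer_singleton_iff]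
  have h1 : x⁻¹ * g * x ∈ V ↔ g ∈ V := by
    have := (Subgroup.mem_normalizer_iff.mp (Subgroup.inv_mem _ hx)) g
    rw [inv_inv] at this
    exact this.symm
  rw [h1]
  constructor
  · rintro ⟨hg, hc⟩
    refine ⟨hg, ?_⟩
    have : g * (x * a * x⁻¹) = x * (x⁻¹ * g * x * a) * x⁻¹ := by group
    rw [this, hc]; group
  · rintro ⟨hg, hc⟩
    refine ⟨hg, ?_⟩
    have : x⁻¹ * g * x * a = x⁻¹ * (g * (x * a * x⁻¹)) * x := by group
    rw [this, hc]; group

theorem isPGroup_two_of_sq {V : Subgroup X} (hV2 : ∀ v ∈ V, v ^ 2 = 1) : IsPGroup 2 V :=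
  fun g => ⟨1, by
    rw [pow_one]
    apply Subtype.ext
    rw [Subgroup.coe_pow, Subgroup.coe_one]
    exact hV2 g g.2⟩

theorem coprime_card_of_odd_of_sq [Finite X] {K V : Subgroup X} (hK : Odd (Nat.card K))
    (hV2 : ∀ v ∈ V, v ^ 2 = 1) : (Nat.card K).Coprime (Nat.card V) := by
  obtain ⟨k, hk⟩ := IsPGroup.iff_card.mp (isPGroup_two_of_sq hV2)
  rw [hk]
  exact Nat.Coprime.pow_right k (Nat.coprime_two_right.mpr hK)

/-- A transvection inverts an element of order three. -/
theorem exists_inverted_order_three [Finite X] {K V : Subgroup X} {a : X}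
    (hKodd : Odd (Nat.card K)) (ha2 : a ^ 2 = 1) (haK : a ∈ Subgroup.normalizer (K : Set X))
    (hKV : K ≤ Subgroup.normalizer (V : Set X)) (haV : a ∈ Subgroup.normalizer (V : Set X))
    (hVc : IsMulCommutative V) (hV2 : ∀ v ∈ V, v ^ 2 = 1)
    (hfaith : K ⊓ Subgroup.centralizer (V : Set X) = ⊥)
    {x : X} (hx : x ∈ K) (hxa : a * x ≠ x * a)
    (hind : (V ⊓ Subgroup.centralizer {a}).relIndex V ≤ 2) :
    ∃ y ∈ K, y ≠ 1 ∧ y ^ 3 = 1 ∧ a * y * a⁻¹ = y⁻¹ := by
  classical
  letI : Fintype X := Fintype.ofFinite X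
  have hai : a⁻¹ = a := by
    rw [inv_eq_iff_eq_inv]
    exact eq_inv_of_mul_eq_one_left (by rw [← pow_two]; exact ha2)
  set y := x * a * x⁻¹ * a⁻¹ with hy
  have hyK : y ∈ K := by
    have h1 : a * x⁻¹ * a⁻¹ ∈ K :=
      (Subgroup.mem_normalizer_iff.mp haK x⁻¹).mp (Subgroup.inv_mem _ hx)
    have h2 : y = x * (a * x⁻¹ * a⁻¹) := by rw [hy]; group
    rw [h2]
    exact Subgroup.mul_mem _ hx h1
  have hy1 : y ≠ 1 := by
    intro h
    apply hxa
    have h2 : x * a = y * (a * x) := by rw [hy]; group
    rw [h2, h, one_mul]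
  have hinv : a * y * a⁻¹ = y⁻¹ := by
    have h1 : a * y * a⁻¹ = a * x * a * x⁻¹ * (a⁻¹ * a⁻¹) := by rw [hy]; group
    have h2 : a⁻¹ * a⁻¹ = 1 := by rw [hai, ← pow_two, ha2]
    have h3 : y⁻¹ = a * x * a⁻¹ * x⁻¹ := by rw [hy]; group
    rw [h1, h2, mul_one, h3, hai]
  refine ⟨y, hyK, hy1, ?_, hinv⟩
  -- the centralizer of `y` in `V` has index at most `4`
  have hxV : x ∈ Subgroup.normalizer (V : Set X) := hKV hx
  have hyV : y ∈ Subgroup.normalizer (V : Set X) := hKV hyK
  have hb : (V ⊓ Subgroup.centralizer {x * a * x⁻¹}).relIndex V ≤ 2 := by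
    have e1 := card_mul_relIndex (inf_le_left : V ⊓ Subgroup.centralizer {a} ≤ V)
    have e2 := card_mul_relIndex (inf_le_left : V ⊓ Subgroup.centralizer {x * a * x⁻¹} ≤ V)
    have e3 : Nat.card ↥(V ⊓ Subgroup.centralizer {x * a * x⁻¹}) =
        Nat.card ↥(V ⊓ Subgroup.centralizer {a}) := by
      rw [← map_conj_inf_centralizer_singleton hxV a, card_map_conj]
    rw [e3, ← e1] at e2
    have e4 := Nat.eq_of_mul_eq_mul_left Nat.card_pos e2
    rw [e4]; exact hind
  have hle : V ⊓ Subgroup.centralizer {a} ⊓ (V ⊓ Subgroup.centralizer {x * a * x⁻¹}) ≤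
      V ⊓ Subgroup.centralizer (Subgroup.zpowers y : Set X) := by
    rintro v ⟨⟨hv, hva'⟩, ⟨-, hvb'⟩⟩
    refine Subgroup.mem_inf.mpr ⟨hv, ?_⟩
    have hva : v ∈ Subgroup.centralizer {a} := hva'
    have hvb : v ∈ Subgroup.centralizer {x * a * x⁻¹} := hvb'
    rw [Subgroup.mem_centralizer_singleton_iff] at hva hvb
    have hvy : Commute v y := by
      have h1 : Commute v (x * a * x⁻¹) := hvb
      have h2 : Commute v a⁻¹ := (show Commute v a from hva).inv_right
      have : y = (x * a * x⁻¹) * a⁻¹ := by rw [hy]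
      rw [this]
      exact h1.mul_right h2
    rw [Subgroup.mem_centralizer_iff]
    rintro _ ⟨k, rfl⟩
    exact ((hvy.zpow_right k).eq).symm
  have hC4 : (V ⊓ Subgroup.centralizer (Subgroup.zpowers y : Set X)).relIndex V ≤ 4 := by
    calc (V ⊓ Subgroup.centralizer (Subgroup.zpowers y : Set X)).relIndex V
        ≤ (V ⊓ Subgroup.centralizer {a} ⊓ (V ⊓ Subgroup.centralizer {x * a * x⁻¹})).relIndex V :=
          Subgroup.relIndex_le_of_le_left hle (relIndex_ne_zero_of_finite _ _)
      _ ≤ (V ⊓ Subgroup.centralizer {a}).relIndex V *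
            (V ⊓ Subgroup.centralizer {x * a * x⁻¹}).relIndex V := Subgroup.relIndex_inf_le
      _ ≤ 2 * 2 := Nat.mul_le_mul hind hb
  -- coprime decomposition
  have := hVc
  have hYV : Subgroup.zpowers y ≤ Subgroup.normalizer (V : Set X) :=
    Subgroup.zpowers_le.mpr hyV
  have hoddy : Odd (orderOf y) := by
    have h1 : orderOf y ∣ Nat.card K := by
      have := orderOf_dvd_natCard (⟨y, hyK⟩ : K)
      rwa [Subgroup.orderOf_mk] at this
    exact Odd.of_dvd_nat hKodd h1
  have hcop : (Nat.card (Subgroup.zpowers y)).Coprime (Nat.card V) := by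
    obtain ⟨k, hk⟩ := IsPGroup.iff_card.mp (isPGroup_two_of_sq hV2)
    rw [hk, Nat.card_zpowers]
    exact Nat.Coprime.pow_right k (Nat.coprime_two_right.mpr hoddy)
  obtain ⟨hCW, hsup⟩ := Cfsg.Agent.S0055.result (Subgroup.zpowers y) V hYV hcop
  set C := V ⊓ Subgroup.centralizer (Subgroup.zpowers y : Set X) with hCdef
  set W := ⁅V, Subgroup.zpowers y⁆ with hWdef
  have hWV : W ≤ V := by rw [← hsup]; exact le_sup_right
  have hW4 : Nat.card W ≤ 4 := by
    calc Nat.card W = (C ⊓ W).relIndex W := by rw [hCW, Subgroup.relIndex_bot_left]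
      _ = C.relIndex W := Subgroup.inf_relIndex_right C W
      _ ≤ C.relIndex V := Subgroup.relIndex_le_of_le_right hWV (relIndex_ne_zero_of_finite _ _)
      _ ≤ 4 := hC4
  -- powers of `y` normalize `W`
  have hYW : ∀ i : ℕ, ∀ w ∈ W, y ^ i * w * (y ^ i)⁻¹ ∈ W := by
    intro i w hw
    have hg : y ^ i ∈ Subgroup.zpowers y := Subgroup.pow_mem _ (Subgroup.mem_zpowers y) i
    have h1 : W.map (MulAut.conj (y ^ i)).toMonoidHom = W := by
      rw [hWdef, Subgroup.map_commutator,
        (mem_normalizer_iff_map_conj V _).mp (hYV hg),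
        (mem_normalizer_iff_map_conj (Subgroup.zpowers y) _).mp (Subgroup.le_normalizer hg)]
    rw [← h1]
    exact ⟨w, hw, rfl⟩
  -- `y ^ 3` centralizes `W`
  have hcW : ∀ w ∈ W, Commute (y ^ 3) w := by
    intro w hw
    by_cases hw1 : w = 1
    · rw [hw1]; exact Commute.one_right _
    let f : ℕ → X := fun i => y ^ i * w * (y ^ i)⁻¹
    let t : Finset X := (Finset.univ.filter (fun g => g ∈ W)).erase 1
    have ht : t.card < (Finset.range 4).card := by
      have h1 : (Finset.univ.filter (fun g => g ∈ W)).card = Nat.card W := by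
        rw [Nat.card_eq_fintype_card, Fintype.card_subtype]
      have h2 : t.card = Nat.card W - 1 := by
        rw [Finset.card_erase_of_mem (by simp [Subgroup.one_mem]), h1]
      rw [h2, Finset.card_range]
      omega
    have hf : ∀ i ∈ Finset.range 4, f i ∈ t := by
      intro i _
      rw [Finset.mem_erase, Finset.mem_filter]
      refine ⟨?_, Finset.mem_univ _, hYW i w hw⟩
      intro h
      apply hw1
      have h3 : w = (y ^ i)⁻¹ * f i * y ^ i := by simp only [f]; group
      rw [h3, h]; group
    obtain ⟨i, hi, j, hj, hij, hfij⟩ := Finset.exists_ne_map_eq_of_card_lt_of_maps_to ht hf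
    -- a power `y ^ d`, `1 ≤ d ≤ 3`, commutes with `w`
    have key : ∀ i j : ℕ, i < j → j < 4 → f i = f j → Commute (y ^ 3) w := by
      intro i j hlt hj4 hfe
      obtain ⟨d, rfl⟩ := Nat.exists_eq_add_of_lt hlt
      have hd : Commute (y ^ (d + 1)) w := by
        have h1 : y ^ (d + 1) * w * (y ^ (d + 1))⁻¹ = (y ^ i)⁻¹ * f (i + d + 1) * y ^ i := by
          simp only [f]
          rw [show i + d + 1 = i + (d + 1) by ring, pow_add]
          group
        rw [← hfe] at h1
        have h2 : (y ^ i)⁻¹ * f i * y ^ i = w := by simp only [f]; group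
        rw [h2] at h1
        show y ^ (d + 1) * w = w * y ^ (d + 1)
        calc y ^ (d + 1) * w = (y ^ (d + 1) * w * (y ^ (d + 1))⁻¹) * y ^ (d + 1) := by group
          _ = w * y ^ (d + 1) := by rw [h1]
      have hd3 : d + 1 = 1 ∨ d + 1 = 2 ∨ d + 1 = 3 := by omega
      rcases hd3 with h | h | h
      · rw [h, pow_one] at hd
        exact hd.pow_left 3
      · rw [h] at hd
        obtain ⟨m, hm⟩ := hoddy
        have h5 : y = (y ^ 2) ^ (m + 1) := by
          rw [← pow_mul, show 2 * (m + 1) = orderOf y + 1 by omega, pow_add, pow_orderOf_eq_one,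
            one_mul, pow_one]
        have h6 : Commute y w := by
          rw [h5]; exact hd.pow_left _
        exact h6.pow_left 3
      · rw [h] at hd
        exact hd
    rw [Finset.mem_range] at hi hj
    rcases Nat.lt_or_gt_of_ne hij with h | h
    · exact key i j h hj hfij
    · exact key j i h hi hfij.symm
  -- hence `y ^ 3` centralizes `V`
  have hcV : y ^ 3 ∈ Subgroup.centralizer (V : Set X) := by
    have h1 : V ≤ Subgroup.centralizer {y ^ 3} := by
      rw [← hsup]
      refine sup_le ?_ ?_
      · intro v hv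
        rw [Subgroup.mem_centralizer_singleton_iff]
        have h2 := (Subgroup.mem_centralizer_iff.mp hv.2) (y ^ 3)
          (Subgroup.pow_mem _ (Subgroup.mem_zpowers y) 3)
        exact h2.symm
      · intro w hw
        rw [Subgroup.mem_centralizer_singleton_iff]
        exact ((hcW w hw).eq).symm
    rw [Subgroup.mem_centralizer_iff]
    intro v hv
    exact (Subgroup.mem_centralizer_singleton_iff.mp (h1 hv))
  have h3 : y ^ 3 ∈ K ⊓ Subgroup.centralizer (V : Set X) :=
    Subgroup.mem_inf.mpr ⟨Subgroup.pow_mem _ hyK 3, hcV⟩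
  rw [hfaith, Subgroup.mem_bot] at h3
  exact h3

theorem isMulCommutative_of_le {A B : Subgroup X} (hA : IsMulCommutative A) (hBA : B ≤ A) :
    IsMulCommutative B :=
  ⟨⟨fun x y => Subtype.ext (show x.1 * y.1 = y.1 * x.1 from
    congrArg Subtype.val (hA.is_comm.comm ⟨x.1, hBA x.2⟩ ⟨y.1, hBA y.2⟩))⟩⟩

theorem le_centralizer_of_isMulCommutative {A B : Subgroup X} (hA : IsMulCommutative A)
    (hBA : B ≤ A) : A ≤ Subgroup.centralizer (B : Set X) := by
  intro a ha
  rw [Subgroup.mem_centralizer_iff]
  intro b hb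
  exact congrArg Subtype.val (hA.is_comm.comm ⟨b, hBA hb⟩ ⟨a, ha⟩)

theorem mem_normalizer_inf {H K : Subgroup X} {g : X}
    (h1 : g ∈ Subgroup.normalizer (H : Set X)) (h2 : g ∈ Subgroup.normalizer (K : Set X)) :
    g ∈ Subgroup.normalizer ((H ⊓ K : Subgroup X) : Set X) := by
  rw [Subgroup.mem_normalizer_iff] at h1 h2 ⊢
  intro h
  rw [Subgroup.mem_inf, Subgroup.mem_inf, h1 h, h2 h]

theorem odd_orderOf_of_mem [Finite X] {K : Subgroup X} (hK : Odd (Nat.card K)) {y : X}
    (hy : y ∈ K) : Odd (orderOf y) := by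
  have h1 : orderOf y ∣ Nat.card K := by
    have := orderOf_dvd_natCard (⟨y, hy⟩ : K)
    rwa [Subgroup.orderOf_mk] at this
  exact Odd.of_dvd_nat hK h1

/-- An elementary abelian `2`-group `A` acting faithfully on an odd-order group `K`, both acting
on an elementary abelian `2`-group `V` with `K` faithful, such that `|V : C_V(A)| < |A|²`:
some involution of `A` inverts an element of order `3` of `K`. -/
theorem exists_inverted_of_small_index [Finite X] :
    ∀ (n : ℕ) (K A V : Subgroup X), Nat.card A = n → Odd (Nat.card K) →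
      IsMulCommutative A → (∀ a ∈ A, a ^ 2 = 1) → IsMulCommutative V → (∀ v ∈ V, v ^ 2 = 1) →
      A ≤ Subgroup.normalizer (K : Set X) → K ≤ Subgroup.normalizer (V : Set X) →
      A ≤ Subgroup.normalizer (V : Set X) → K ⊓ Subgroup.centralizer (V : Set X) = ⊥ →
      A ⊓ Subgroup.centralizer (K : Set X) = ⊥ →
      (V ⊓ Subgroup.centralizer (A : Set X)).relIndex V < Nat.card A ^ 2 →
      ∃ a ∈ A, ∃ y ∈ K, a ^ 2 = 1 ∧ y ≠ 1 ∧ y ^ 3 = 1 ∧ a * y * a⁻¹ = y⁻¹ := by
  intro n
  induction n using Nat.strong_induction_on with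
  | _ n ih =>
  intro K A V hn hKodd hAc hA2 hVc hV2 hAK hKV hAV hfaith hAfaith hsmall
  by_cases hα : ∃ B : Subgroup X, B < A ∧
      (V ⊓ Subgroup.centralizer (B : Set X)).relIndex V < Nat.card B ^ 2
  · obtain ⟨B, hBA, hBs⟩ := hα
    have hcard : Nat.card B < n := by
      rw [← hn]; exact Cfsg.Agent.Lib.helper27.card_lt_card_of_lt hBA
    obtain ⟨a, haB, y, hyK, h⟩ := ih (Nat.card B) hcard K B V rfl hKodd
      (isMulCommutative_of_le hAc hBA.le) (fun a ha => hA2 a (hBA.le ha)) hVc hV2
      (hBA.le.trans hAK) hKV (hBA.le.trans hAV) hfaith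
      (by rw [eq_bot_iff, ← hAfaith]; exact inf_le_inf_right _ hBA.le) hBs
    exact ⟨a, hBA.le haB, y, hyK, h⟩
  · push Not at hα
    have hAne : A ≠ ⊥ := by
      rintro rfl
      rw [Subgroup.card_bot] at hsmall
      have := relIndex_ne_zero_of_finite
        (V ⊓ Subgroup.centralizer (((⊥ : Subgroup X) : Subgroup X) : Set X)) V
      omega
    obtain ⟨a, haA, ha1⟩ : ∃ a ∈ A, a ≠ 1 := by
      by_contra hcon
      push Not at hcon
      exact hAne (eq_bot_iff.mpr (fun a ha => Subgroup.mem_bot.mpr (hcon a ha)))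
    by_cases h2 : Nat.card A = 2
    · have hr : (V ⊓ Subgroup.centralizer {a}).relIndex V ≤ 2 := by
        have h3 : V ⊓ Subgroup.centralizer (A : Set X) ≤ V ⊓ Subgroup.centralizer {a} :=
          inf_le_inf_left _ (Subgroup.centralizer_le (Set.singleton_subset_iff.mpr haA))
        have h4 : (V ⊓ Subgroup.centralizer (A : Set X)).relIndex V < 4 := by
          rw [h2] at hsmall; exact hsmall
        have h5 : (V ⊓ Subgroup.centralizer {a}).relIndex V ≤
            (V ⊓ Subgroup.centralizer (A : Set X)).relIndex V :=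
          Subgroup.relIndex_le_of_le_left h3 (relIndex_ne_zero_of_finite _ _)
        obtain ⟨k, hk⟩ := IsPGroup.iff_card.mp (isPGroup_two_of_sq hV2)
        have h6 : (V ⊓ Subgroup.centralizer {a}).relIndex V ∣ 2 ^ k :=
          hk ▸ Subgroup.relIndex_dvd_card _ _
        obtain ⟨j, -, hj⟩ := (Nat.dvd_prime_pow Nat.prime_two).mp h6
        rw [hj] at h5 ⊢
        have hj2 : j < 2 := by
          by_contra hj2
          push Not at hj2
          have := Nat.pow_le_pow_right (by norm_num : 0 < 2) hj2
          omega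
        interval_cases j <;> norm_num
      have hax : ∃ x ∈ K, a * x ≠ x * a := by
        by_contra hcon
        push Not at hcon
        have h3 : a ∈ A ⊓ Subgroup.centralizer (K : Set X) := by
          refine Subgroup.mem_inf.mpr ⟨haA, ?_⟩
          rw [Subgroup.mem_centralizer_iff]
          intro x hx
          exact (hcon x hx).symm
        rw [hAfaith, Subgroup.mem_bot] at h3
        exact ha1 h3
      obtain ⟨x, hx, hxa⟩ := hax
      obtain ⟨y, hyK, hy1, hy3, hinv⟩ := exists_inverted_order_three hKodd (hA2 a haA)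
        (hAK haA) hKV (hAV haA) hVc hV2 hfaith hx hxa hr
      exact ⟨a, haA, y, hyK, hA2 a haA, hy1, hy3, hinv⟩
    · have hncyc : ¬ IsCyclic A := by
        intro hc
        obtain ⟨g, hg⟩ := hc.exists_generator
        have h3 : orderOf g = Nat.card A := orderOf_eq_card_of_forall_mem_zpowers hg
        have h4 : orderOf g ∣ 2 := by
          apply orderOf_dvd_of_pow_eq_one
          apply Subtype.ext
          rw [Subgroup.coe_pow, Subgroup.coe_one]
          exact hA2 g g.2
        rcases (Nat.dvd_prime Nat.prime_two).mp h4 with h5 | h5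
        · exact hAne (Subgroup.eq_bot_of_card_eq A (h3.symm.trans h5))
        · exact h2 (h3.symm.trans h5)
      have := hAc
      have hcopAK : (Nat.card A).Coprime (Nat.card K) :=
        (coprime_card_of_odd_of_sq hKodd hA2).symm
      have hgen := Cfsg.Agent.S0058.result A K hncyc hAK hcopAK
      have hex : ∃ b ∈ A, b ≠ 1 ∧ ¬ A ≤ Subgroup.centralizer
          ((K ⊓ Subgroup.centralizer {b} : Subgroup X) : Set X) := by
        by_contra hcon
        push Not at hcon
        have h3 : K ≤ Subgroup.centralizer (A : Set X) := by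
          refine le_trans hgen.ge ?_
          refine iSup₂_le ?_
          intro b hb
          exact Subgroup.le_centralizer_iff.mp (hcon b hb.1 hb.2)
        have h4 : A ≤ A ⊓ Subgroup.centralizer (K : Set X) :=
          le_inf le_rfl (Subgroup.le_centralizer_iff.mp h3)
        rw [hAfaith] at h4
        exact hAne (eq_bot_iff.mpr h4)
      obtain ⟨b, hbA, hb1, hbK⟩ := hex
      set K' := K ⊓ Subgroup.centralizer {b} with hK'
      set B := A ⊓ Subgroup.centralizer (K' : Set X) with hB
      have hbB : b ∈ B := by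
        refine Subgroup.mem_inf.mpr ⟨hbA, ?_⟩
        rw [Subgroup.mem_centralizer_iff]
        intro k hk
        exact Subgroup.mem_centralizer_singleton_iff.mp hk.2
      have hBA : B < A := lt_of_le_of_ne inf_le_left (fun h => hbK (h ▸ inf_le_right))
      have hBbound := hα B hBA
      obtain ⟨A₁, hA₁A, hA₁B, hA₁sup, hA₁card⟩ := exists_compl_of_elementary 2 hAc hA2 hBA.le
      set V' := V ⊓ Subgroup.centralizer (B : Set X) with hV'
      have hA₁ne : A₁ ≠ A := by
        intro h
        have h3 : b ∈ A₁ ⊓ B := Subgroup.mem_inf.mpr ⟨h ▸ hbA, hbB⟩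
        rw [hA₁B, Subgroup.mem_bot] at h3
        exact hb1 h3
      have hcard : Nat.card A₁ < n := by
        rw [← hn]
        exact Cfsg.Agent.Lib.helper27.card_lt_card_of_lt (lt_of_le_of_ne hA₁A hA₁ne)
      have hK'K : K' ≤ K := inf_le_left
      have hK'B : K' ≤ Subgroup.centralizer (B : Set X) :=
        Subgroup.le_centralizer_iff.mp inf_le_right
      have hAB : A ≤ Subgroup.centralizer (B : Set X) :=
        le_centralizer_of_isMulCommutative hAc hBA.le
      have hKodd' : Odd (Nat.card K') := Odd.of_dvd_nat hKodd (Subgroup.card_dvd_of_le hK'K)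
      have hfaith' : K' ⊓ Subgroup.centralizer (V' : Set X) = ⊥ := by
        rw [eq_bot_iff]
        rintro x ⟨hxK', hxV'⟩
        have hxK : x ∈ K := hK'K hxK'
        have h3 : x ∈ Subgroup.centralizer (V : Set X) :=
          Cfsg.Agent.Lib.helper27.thompson_AxB_element (p := 2) V B x (isPGroup_two_of_sq hV2)
            (isPGroup_two_of_sq (fun a ha => hA2 a (hBA.le ha)))
            (Nat.coprime_two_right.mpr (odd_orderOf_of_mem hKodd hxK)) (hKV hxK)
            (hBA.le.trans hAV) (hK'B hxK') hxV'
        have h4 : x ∈ K ⊓ Subgroup.centralizer (V : Set X) := Subgroup.mem_inf.mpr ⟨hxK, h3⟩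
        rw [hfaith] at h4
        exact h4
      have hineq : (V' ⊓ Subgroup.centralizer (A₁ : Set X)).relIndex V' < Nat.card A₁ ^ 2 := by
        have hle : V ⊓ Subgroup.centralizer (A : Set X) ≤ V' ⊓ Subgroup.centralizer (A₁ : Set X) :=
          le_inf (inf_le_inf_left _ (Subgroup.centralizer_le hBA.le))
            (inf_le_right.trans (Subgroup.centralizer_le hA₁A))
        have h3 : (V' ⊓ Subgroup.centralizer (A₁ : Set X)).relIndex V' ≤
            (V ⊓ Subgroup.centralizer (A : Set X)).relIndex V' :=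
          Subgroup.relIndex_le_of_le_left hle (relIndex_ne_zero_of_finite _ _)
        have h4 : (V ⊓ Subgroup.centralizer (A : Set X)).relIndex V' * V'.relIndex V =
            (V ⊓ Subgroup.centralizer (A : Set X)).relIndex V :=
          Subgroup.relIndex_mul_relIndex _ _ _
            (inf_le_inf_left _ (Subgroup.centralizer_le hBA.le)) inf_le_left
        have h5 : V'.relIndex V ≠ 0 := relIndex_ne_zero_of_finite _ _
        have h6 : (V ⊓ Subgroup.centralizer (A : Set X)).relIndex V' * V'.relIndex V <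
            Nat.card A₁ ^ 2 * V'.relIndex V := by
          calc (V ⊓ Subgroup.centralizer (A : Set X)).relIndex V' * V'.relIndex V
              < Nat.card A ^ 2 := by rw [h4]; exact hsmall
            _ = Nat.card A₁ ^ 2 * Nat.card B ^ 2 := by rw [← hA₁card]; ring
            _ ≤ Nat.card A₁ ^ 2 * V'.relIndex V := Nat.mul_le_mul_left _ hBbound
        exact lt_of_le_of_lt h3 (lt_of_mul_lt_mul_right h6 (Nat.zero_le _))
      obtain ⟨a', ha', y, hyK', h⟩ := ih (Nat.card A₁) hcard K' A₁ V' rfl hKodd'
        (isMulCommutative_of_le hAc hA₁A) (fun a ha => hA2 a (hA₁A ha))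
        (isMulCommutative_of_le hVc inf_le_left) (fun v hv => hV2 v hv.1)
        (fun t ht => mem_normalizer_inf (hAK (hA₁A ht))
          (Subgroup.le_normalizer (le_centralizer_of_isMulCommutative hAc
            (Subgroup.zpowers_le.mpr hbA) (hA₁A ht) |> fun h => by
              rw [Subgroup.mem_centralizer_iff] at h ⊢
              intro c hc
              rw [Set.mem_singleton_iff] at hc
              rw [hc]
              exact h b (Subgroup.mem_zpowers b))))
        (fun k hk => mem_normalizer_inf (hKV (hK'K hk)) (Subgroup.le_normalizer (hK'B hk)))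
        (fun t ht => mem_normalizer_inf (hAV (hA₁A ht)) (Subgroup.le_normalizer (hAB (hA₁A ht))))
        hfaith'
        (by
          rw [eq_bot_iff, ← hA₁B]
          exact le_inf inf_le_left (le_inf (inf_le_left.trans hA₁A) inf_le_right))
        hineq
      exact ⟨a', hA₁A ha', y, hK'K hyK', h⟩

end Cfsg.Agent.Lib.helper66
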