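import Cfsg.Agent.Lib.helper81.WTDefs

/-! S4414 piece SV, core: the statement of `exists_fixed_supp` with the pieces PE, PO, PO2, FX as
hypotheses (racing copy by helper66). -/

set_option autoImplicit false

namespace Cfsg.Agent.Lib.helper81.WT

open scoped TensorProduct

universe u v w

theorem helper66_exists_fixed_supp_core {S : Type u} [Group S] [Finite S] {F : Type w} [Field F]
    [Finite F] {V : Type v} [AddCommGroup V] [Module F V]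
    (R : Representation F S V) (Y : Subgroup S) [Y.Normal] [Fintype ↥Y] (T : Subgroup S)
    (hPE : ∀ (g : S) (μ : ↥Y →* Fˣ) (v : V), R g (proj R Y μ v) = proj R Y (cj Y g μ) (R g v))
    (hPO : ∀ (μ : ↥Y →* Fˣ) (v : V), proj R Y μ (proj R Y μ v) = proj R Y μ v)
    (hPO2 : ∀ (μ ν : ↥Y →* Fˣ), μ ≠ ν → ∀ v : V, proj R Y μ (proj R Y ν v) = 0)
    (hFX : ∀ W : Submodule F V, (∀ s ∈ T, ∀ w ∈ W, R s w ∈ W) → W ≠ ⊥ →
      ∃ w ∈ W, w ≠ 0 ∧ ∀ s ∈ T, R s w = w)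
    (Θ : Set (↥Y →* Fˣ)) (hΘ : ∀ s ∈ T, ∀ μ ∈ Θ, cj Y s μ ∈ Θ) (μ₀ : ↥Y →* Fˣ) (hμ₀ : μ₀ ∈ Θ)
    (hμ₀' : proj R Y μ₀ ≠ 0) :
    ∃ v : V, v ≠ 0 ∧ v ∈ fixT R T ∧ supp R Y v ⊆ Θ := by
  classical
  have hfin : Finite (↥Y →* Fˣ) := DFunLike.finite _
  have hft : Fintype (↥Y →* Fˣ) := Fintype.ofFinite _
  have hΘf : ∀ μ, μ ∈ (Finset.univ.filter (· ∈ Θ) : Finset (↥Y →* Fˣ)) ↔ μ ∈ Θ := fun μ => by simp
  have hPΘ : ∀ u, (∑ μ ∈ (Finset.univ.filter (· ∈ Θ) : Finset (↥Y →* Fˣ)), proj R Y μ) u =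
      ∑ μ ∈ (Finset.univ.filter (· ∈ Θ) : Finset (↥Y →* Fˣ)), proj R Y μ u := fun u => by
    simp [LinearMap.sum_apply]
  -- `T`-equivariance of the sum of the projections
  have hinv : ∀ s ∈ T, ∀ u,
      R s ((∑ μ ∈ (Finset.univ.filter (· ∈ Θ) : Finset (↥Y →* Fˣ)), proj R Y μ) u) =
      (∑ μ ∈ (Finset.univ.filter (· ∈ Θ) : Finset (↥Y →* Fˣ)), proj R Y μ) (R s u) := by
    intro s hs u
    rw [hPΘ, hPΘ, map_sum]
    refine Finset.sum_nbij' (fun μ => cj Y s μ) (fun μ => cj Y s⁻¹ μ) ?_ ?_ ?_ ?_ ?_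
    · intro μ hμ; exact (hΘf _).2 (hΘ s hs μ ((hΘf μ).1 hμ))
    · intro μ hμ; exact (hΘf _).2 (hΘ s⁻¹ (T.inv_mem hs) μ ((hΘf μ).1 hμ))
    · intro μ _
      show cj Y s⁻¹ (cj Y s μ) = μ
      rw [← cj_mul, inv_mul_cancel, cj_one]
    · intro μ _
      show cj Y s (cj Y s⁻¹ μ) = μ
      rw [← cj_mul, mul_inv_cancel, cj_one]
    · intro μ _; exact hPE s μ u
  have hWinv : ∀ s ∈ T, ∀ w ∈ LinearMap.range
      (∑ μ ∈ (Finset.univ.filter (· ∈ Θ) : Finset (↥Y →* Fˣ)), proj R Y μ),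
      R s w ∈ LinearMap.range
        (∑ μ ∈ (Finset.univ.filter (· ∈ Θ) : Finset (↥Y →* Fˣ)), proj R Y μ) := by
    rintro s hs _ ⟨u, rfl⟩
    exact ⟨R s u, (hinv s hs u).symm⟩
  obtain ⟨u₀, hu₀⟩ : ∃ u, proj R Y μ₀ u ≠ 0 := by
    by_contra h
    apply hμ₀'
    apply LinearMap.ext
    intro u
    by_contra h'
    exact h ⟨u, h'⟩
  have hfix : (∑ μ ∈ (Finset.univ.filter (· ∈ Θ) : Finset (↥Y →* Fˣ)), proj R Y μ)
      (proj R Y μ₀ u₀) = proj R Y μ₀ u₀ := by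
    rw [hPΘ, Finset.sum_eq_single μ₀]
    · exact hPO μ₀ u₀
    · intro μ _ hne; exact hPO2 μ μ₀ hne u₀
    · intro h; exact absurd ((hΘf μ₀).2 hμ₀) h
  have hW0 : LinearMap.range
      (∑ μ ∈ (Finset.univ.filter (· ∈ Θ) : Finset (↥Y →* Fˣ)), proj R Y μ) ≠ ⊥ := by
    intro h
    have h1 : proj R Y μ₀ u₀ ∈ LinearMap.range
        (∑ μ ∈ (Finset.univ.filter (· ∈ Θ) : Finset (↥Y →* Fˣ)), proj R Y μ) :=
      ⟨proj R Y μ₀ u₀, hfix⟩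
    rw [h, Submodule.mem_bot] at h1
    exact hu₀ h1
  obtain ⟨w, hwW, hw0, hwfix⟩ := hFX _ hWinv hW0
  refine ⟨w, hw0, (mem_fixT R T w).2 hwfix, ?_⟩
  intro ν hν
  by_contra hνΘ
  change proj R Y ν w ≠ 0 at hν
  apply hν
  obtain ⟨u, rfl⟩ := hwW
  rw [hPΘ, map_sum]
  apply Finset.sum_eq_zero
  intro μ hμ
  apply hPO2
  rintro rfl
  exact hνΘ ((hΘf _).1 hμ)

end Cfsg.Agent.Lib.helper81.WT
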