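import Cfsg.Agent.Lib.helper81.WTDefs
import Cfsg.Agent.Lib.helper66.WTSVcore
import Cfsg.Agent.Lib.helper98.WTPE
import Cfsg.Agent.Lib.helper13.WTFX

/-! S4414 piece SV (racing copy by helper66): `exists_fixed_supp`, with own prefixed copies of
PW, PO, PO2. -/

set_option autoImplicit false

namespace Cfsg.Agent.Lib.helper81.WT

open scoped TensorProduct

universe u v w

theorem helper66_proj_weight {S : Type u} [Group S] {F : Type w} [Field F]
    {V : Type v} [AddCommGroup V] [Module F V]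
    (R : Representation F S V) (Y : Subgroup S) [Fintype ↥Y]
    (μ : ↥Y →* Fˣ) (y : ↥Y) (v : V) :
    R (y : S) (proj R Y μ v) = ((μ y : Fˣ) : F) • proj R Y μ v := by
  rw [proj_apply, map_sum, Finset.smul_sum]
  refine Fintype.sum_equiv (Equiv.mulLeft y) _ _ (fun z => ?_)
  simp only [Equiv.coe_mulLeft, map_smul, Subgroup.coe_mul, map_mul, Module.End.mul_apply,
    smul_smul]
  congr 1
  rw [← Units.val_mul]
  congr 1
  rw [mul_inv_rev, map_mul, mul_comm (μ z⁻¹), ← mul_assoc, ← map_mul, mul_inv_cancel, map_one,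
    one_mul]

theorem helper66_proj_idem {S : Type u} [Group S] {F : Type w} [Field F] [CharP F 2]
    {V : Type v} [AddCommGroup V] [Module F V]
    (R : Representation F S V) (Y : Subgroup S) [Fintype ↥Y]
    (hodd : Odd (Fintype.card ↥Y)) (μ : ↥Y →* Fˣ) (v : V) :
    proj R Y μ (proj R Y μ v) = proj R Y μ v := by
  conv_lhs => rw [proj_apply]
  have h : ∀ y : ↥Y, ((μ y⁻¹ : Fˣ) : F) • R (y : S) (proj R Y μ v) = proj R Y μ v := by
    intro y
    rw [helper66_proj_weight, smul_smul, ← Units.val_mul, ← map_mul, inv_mul_cancel, map_one,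
      Units.val_one, one_smul]
  rw [Finset.sum_congr rfl (fun y _ => h y), Finset.sum_const, Finset.card_univ,
    ← Nat.cast_smul_eq_nsmul F]
  have h1 : ((Fintype.card ↥Y : ℕ) : F) = 1 := by
    obtain ⟨k, hk⟩ := hodd
    rw [hk]
    push_cast
    rw [CharTwo.two_eq_zero, zero_mul, zero_add]
  rw [h1, one_smul]

theorem helper66_proj_orth {S : Type u} [Group S] {F : Type w} [Field F]
    {V : Type v} [AddCommGroup V] [Module F V]
    (R : Representation F S V) (Y : Subgroup S) [Fintype ↥Y]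
    (μ ν : ↥Y →* Fˣ) (hne : μ ≠ ν) (v : V) :
    proj R Y μ (proj R Y ν v) = 0 := by
  conv_lhs => rw [proj_apply]
  have h : ∀ y : ↥Y, ((μ y⁻¹ : Fˣ) : F) • R (y : S) (proj R Y ν v) =
      ((Units.coeHom F).comp (ν / μ)) y • proj R Y ν v := by
    intro y
    rw [helper66_proj_weight, smul_smul]
    congr 1
    rw [MonoidHom.comp_apply, MonoidHom.div_apply, Units.coeHom_apply, ← Units.val_mul, map_inv,
      div_eq_mul_inv, mul_comm]
  rw [Finset.sum_congr rfl (fun y _ => h y), ← Finset.sum_smul, sum_hom_units_eq_zero, zero_smul]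
  intro h1
  apply hne
  ext y
  have h2 := DFunLike.congr_fun h1 y
  rw [MonoidHom.comp_apply, MonoidHom.div_apply, Units.coeHom_apply, MonoidHom.one_apply,
    Units.val_eq_one, div_eq_one] at h2
  rw [h2]

/-- [SV] a T-invariant set Θ of characters containing a weight carries a nonzero T-fixed vector with support in Θ; uses PE, PO, FX -/
theorem helper66_exists_fixed_supp {S : Type u} [Group S] [Finite S] {F : Type w} [Field F] [Finite F] [CharP F 2]
    {V : Type v} [AddCommGroup V] [Module F V]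
    (R : Representation F S V) (Y : Subgroup S) [Y.Normal] [Fintype ↥Y]
    [Finite V] (hodd : Odd (Fintype.card ↥Y)) (T : Subgroup S) (hT : IsPGroup 2 ↥T)
    (Θ : Set (↥Y →* Fˣ)) (hΘ : ∀ s ∈ T, ∀ μ ∈ Θ, cj Y s μ ∈ Θ) (μ₀ : ↥Y →* Fˣ) (hμ₀ : μ₀ ∈ Θ)
    (hμ₀' : proj R Y μ₀ ≠ 0) :
    ∃ v : V, v ≠ 0 ∧ v ∈ fixT R T ∧ supp R Y v ⊆ Θ :=
  helper66_exists_fixed_supp_core R Y T (fun g μ v => proj_equiv R Y g μ v)
    (fun μ v => helper66_proj_idem R Y hodd μ v)
    (fun μ ν hne v => helper66_proj_orth R Y μ ν hne v)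
    (fun W hW hW0 => helper13_exists_fixed R Y T hT W hW hW0) Θ hΘ μ₀ hμ₀ hμ₀'

end Cfsg.Agent.Lib.helper81.WT
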