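import Mathlib
import Cfsg.Agent.Lib.helper66.WardC
import Cfsg.Agent.Lib.helper66.WardD
import Cfsg.Agent.Lib.helper66.WardE
import Cfsg.Agent.Lib.helper66.WardF
import Cfsg.Agent.Lib.helper1.ThompsonFpf
import Cfsg.Agent.Lib.helper1.Coprime
import Cfsg.Agent.Lib.helper1.Hall
import Cfsg.Agent.Lib.helper12.FrobTools

set_option autoImplicit false

namespace Cfsg.Agent.Lib.helper66

universe u

/-- The setting of the inductive step in Ward's theorem. -/
structure StepCtx (Γ : Type u) [Group Γ] where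
  N : Subgroup Γ
  A : Subgroup Γ
  V : Subgroup Γ
  p : ℕ
  hp : p.Prime
  hNn : N.Normal
  hVn : V.Normal
  hNs : Group.IsSolvable N
  hVN : V ≤ N
  hVne : V ≠ ⊥
  hVmin : ∀ W : Subgroup Γ, W.Normal → W ≤ V → W = ⊥ ∨ W = V
  hAc : ∀ a ∈ A, ∀ b ∈ A, a * b = b * a
  hAp : ∀ a ∈ A, a ^ p = 1
  hAcard : Nat.card A = p ^ 2
  hfpf : ∀ n ∈ N, (∀ a ∈ A, a * n = n * a) → n = 1

namespace StepCtx

variable {Γ : Type u} [Group Γ] (D : StepCtx Γ)

theorem hAP : IsPGroup D.p D.A := by
  have : Fact D.p.Prime := ⟨D.hp⟩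
  exact IsPGroup.of_card D.hAcard

theorem hpN [Finite Γ] : ¬ D.p ∣ Nat.card D.N := by
  have := D.hNn
  exact not_dvd_card_of_fpf D.N D.A D.p D.hp D.hAP D.hfpf

/-- `V` is abelian. -/
theorem V_comm [Finite Γ] : ∀ x ∈ D.V, ∀ y ∈ D.V, x * y = y * x := by
  have hVn := D.hVn
  have hVs : Group.IsSolvable D.V := by
    have hNs := D.hNs
    exact Group.isSolvable_of_isSolvable_injective (Subgroup.inclusion_injective D.hVN)
  have hnt : Nontrivial D.V := (Subgroup.nontrivial_iff_ne_bot D.V).mpr D.hVne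
  have h1 : ⁅D.V, D.V⁆ ≠ D.V := by
    intro h
    have h2 := Group.IsSolvable.commutator_lt_top_of_nontrivial D.V
    have h3 : (_root_.commutator D.V).map D.V.subtype = (⊤ : Subgroup D.V).map D.V.subtype := by
      rw [Subgroup.map_subtype_commutator, h, ← MonoidHom.range_eq_map, Subgroup.range_subtype]
    have h4 := Subgroup.map_injective D.V.subtype_injective h3
    exact h2.ne h4
  have h5 : ⁅D.V, D.V⁆ ≤ D.V := by
    have := Subgroup.commutator_le_inf D.V D.V
    rwa [inf_idem] at this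
  have h6 : ⁅D.V, D.V⁆ = ⊥ := by
    rcases D.hVmin _ (Subgroup.commutator_normal D.V D.V) h5 with h | h
    · exact h
    · exact absurd h h1
  rw [Subgroup.commutator_eq_bot_iff_le_centralizer] at h6
  intro x hx y hy
  exact (Subgroup.mem_centralizer_iff.mp (h6 hx) y hy).symm

/-- `V` has prime exponent `l ≠ p`. -/
theorem exists_exp [Finite Γ] : ∃ l : ℕ, l.Prime ∧ l ≠ D.p ∧ l ∣ Nat.card D.V ∧
    ∀ v ∈ D.V, v ^ l = 1 := by
  have hVn := D.hVn
  have hcard : Nat.card D.V ≠ 1 := by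
    intro h
    exact D.hVne ((Subgroup.card_eq_one).mp h)
  obtain ⟨l, hl, hlV⟩ := Nat.exists_prime_and_dvd hcard
  have hlF : Fact l.Prime := ⟨hl⟩
  have hlp : l ≠ D.p := by
    rintro rfl
    exact D.hpN (hlV.trans (Subgroup.card_dvd_of_le D.hVN))
  refine ⟨l, hl, hlp, hlV, ?_⟩
  let W : Subgroup Γ :=
    { carrier := {v | v ∈ D.V ∧ v ^ l = 1}
      one_mem' := ⟨D.V.one_mem, one_pow l⟩
      mul_mem' := by
        rintro x y ⟨hx, hx'⟩ ⟨hy, hy'⟩
        refine ⟨D.V.mul_mem hx hy, ?_⟩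
        rw [(show Commute x y from D.V_comm x hx y hy).mul_pow, hx', hy', one_mul]
      inv_mem' := by
        rintro x ⟨hx, hx'⟩
        exact ⟨D.V.inv_mem hx, by rw [inv_pow, hx', inv_one]⟩ }
  have hWn : W.Normal := by
    constructor
    rintro v ⟨hv, hv'⟩ g
    exact ⟨hVn.conj_mem v hv g, by rw [conj_pow, hv', mul_one, mul_inv_cancel]⟩
  have hWV : W ≤ D.V := fun v hv => hv.1
  have hWne : W ≠ ⊥ := by
    obtain ⟨x, hx⟩ := exists_prime_orderOf_dvd_card' (G := D.V) l hlV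
    intro h
    have h1 : (x : Γ) ∈ W := by
      refine ⟨x.2, ?_⟩
      have h2 : x ^ l = 1 := by rw [← hx]; exact pow_orderOf_eq_one x
      simpa using congrArg Subtype.val h2
    rw [h, Subgroup.mem_bot] at h1
    have h3 : x = 1 := Subtype.ext h1
    rw [h3, orderOf_one] at hx
    exact hl.one_lt.ne hx
  rcases D.hVmin W hWn hWV with h | h
  · exact absurd h hWne
  · intro v hv
    have h1 : v ∈ W := by rw [h]; exact hv
    exact h1.2

/-- The conjugation action on `V`. -/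
def φ : Γ →* MulAut D.V := @MulAut.conjNormal Γ _ D.V D.hVn

theorem φ_apply (g : Γ) (v : D.V) : ((D.φ g v : D.V) : Γ) = g * v * g⁻¹ := rfl

theorem φ_eq_one_iff (g : Γ) : D.φ g = 1 ↔ g ∈ Subgroup.centralizer (D.V : Set Γ) := by
  constructor
  · intro h
    rw [Subgroup.mem_centralizer_iff]
    intro v hv
    have h1 := congrArg Subtype.val (congrArg (fun f : MulAut D.V => f ⟨v, hv⟩) h)
    simp only [MulAut.one_apply] at h1
    rw [D.φ_apply] at h1
    calc v * g = g * v * g⁻¹ * g := by rw [h1]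
      _ = g * v := by group
  · intro h
    ext v
    rw [D.φ_apply, MulAut.one_apply]
    have h1 := Subgroup.mem_centralizer_iff.mp h v v.2
    rw [← h1]
    group

theorem V_le_ker [Finite Γ] : D.V ≤ D.φ.ker := by
  intro v hv
  rw [MonoidHom.mem_ker, D.φ_eq_one_iff, Subgroup.mem_centralizer_iff]
  intro w hw
  exact D.V_comm w hw v hv

/-- `C_N(V)`. -/
def M : Subgroup Γ := D.N ⊓ D.φ.ker

theorem M_normal : D.M.Normal := by
  have := D.hNn
  exact Subgroup.normal_inf_normal D.N D.φ.ker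

theorem M_le_N : D.M ≤ D.N := inf_le_left

theorem M_cop [Finite Γ] : (Nat.card D.M).Coprime D.p := by
  rw [Nat.coprime_comm, Nat.Prime.coprime_iff_not_dvd D.hp]
  intro hdvd
  exact D.hpN (hdvd.trans (Subgroup.card_dvd_of_le D.M_le_N))

/-- If `g ∈ N` and the images of `g` and `x` under `φ` commute, then the commutator lies in
`C_N(V)`. -/
theorem comm_mem_M (x g : Γ) (hg : g ∈ D.N) (h : D.φ x * D.φ g = D.φ g * D.φ x) :
    x * g * x⁻¹ * g⁻¹ ∈ D.M := by
  have hNn := D.hNn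
  refine Subgroup.mem_inf.mpr ⟨?_, ?_⟩
  · have h1 : x * g * x⁻¹ ∈ D.N := hNn.conj_mem g hg x
    exact D.N.mul_mem h1 (D.N.inv_mem hg)
  · rw [MonoidHom.mem_ker, map_mul, map_mul, map_mul, map_inv, map_inv, h]
    group

/-- `A` has no nontrivial fixed points on the image of `N`. -/
theorem fpf_hat [Finite Γ] : ∀ x ∈ D.N.map D.φ, (∀ a ∈ D.A.map D.φ, a * x = x * a) → x = 1 := by
  rintro _ ⟨n, hn, rfl⟩ hcomm
  have hMn := D.M_normal
  have hpF : Fact D.p.Prime := ⟨D.hp⟩
  have h1 : n ∈ D.M := by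
    apply fpf_quot D.N D.A D.M D.p D.M_le_N D.hAP D.M_cop D.hfpf n hn
    intro a ha
    exact D.comm_mem_M a n hn (hcomm _ ⟨a, ha, rfl⟩)
  exact (Subgroup.mem_inf.mp h1).2

/-- `A` has no nontrivial fixed points on `V`. -/
theorem fpf_V : ∀ v : D.V, (∀ a ∈ D.A.map D.φ, a v = v) → v = 1 := by
  intro v hv
  apply Subtype.ext
  apply D.hfpf v (D.hVN v.2)
  intro a ha
  have h1 := congrArg Subtype.val (hv _ ⟨a, ha, rfl⟩)
  rw [D.φ_apply] at h1
  calc a * (v : Γ) = a * v * a⁻¹ * a := by group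
    _ = v * a := by rw [h1]

/-- For `b ∈ A` nontrivial, `C_N(b)` is nilpotent (Thompson). -/
theorem cent_nilpotent [Finite Γ] (b : Γ) (hb : b ∈ D.A) (hb1 : b ≠ 1) :
    Group.IsNilpotent (D.N ⊓ Subgroup.centralizer ({b} : Set Γ) : Subgroup Γ) := by
  have hNn := D.hNn
  obtain ⟨a, ha, hab⟩ := elemAb_sq_exists_not_mem D.A D.p D.hp D.hAp D.hAcard b hb
  have haN : a ∈ Subgroup.normalizer (D.N : Set Γ) := by
    rw [Subgroup.normalizer_eq_top_iff.mpr hNn]
    exact Subgroup.mem_top a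
  have haK : a ∈ Subgroup.normalizer
      ((D.N ⊓ Subgroup.centralizer ({b} : Set Γ) : Subgroup Γ) : Set Γ) :=
    normalizer_inf_cent D.N a b haN (D.hAc a ha b hb)
  have hfpfK : ∀ y ∈ D.N ⊓ Subgroup.centralizer ({b} : Set Γ), a * y = y * a → y = 1 := by
    intro y hy hya
    exact D.hfpf y (Subgroup.mem_inf.mp hy).1
      (comm_A_gen D.A D.p D.hp D.hAc D.hAp D.hAcard a b ha hb hb1 hab y hya
        ((mem_cent_single y b).mp (Subgroup.mem_inf.mp hy).2))
  have key : ∀ i : ℕ, ∀ g : (D.N ⊓ Subgroup.centralizer ({b} : Set Γ) : Subgroup Γ),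
      (((⇑(conjAut _ a haK))^[i] g : (D.N ⊓ Subgroup.centralizer ({b} : Set Γ) : Subgroup Γ)) : Γ)
        = a ^ i * g * a⁻¹ ^ i := by
    intro i
    induction i with
    | zero =>
      intro g
      simp
    | succ i ih =>
      intro g
      rw [Function.iterate_succ_apply', conjAut_apply, ih, pow_succ', pow_succ]
      group
  apply Cfsg.Agent.Lib.helper1.nilpotent_of_fpf_prime_aux D.p D.hp _ _ rfl (conjAut _ a haK)
  · intro g hg
    have h1 := congrArg Subtype.val hg
    rw [conjAut_apply] at h1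
    apply Subtype.ext
    apply hfpfK g g.2
    calc a * (g : Γ) = a * g * a⁻¹ * a := by group
      _ = g * a := by rw [h1]
  · intro g
    apply Subtype.ext
    rw [key, inv_pow, D.hAp a ha]
    simp

/-- Elements of `C_N(b)` of coprime orders commute. -/
theorem cent_comm [Finite Γ] (b : Γ) (hb : b ∈ D.A) (hb1 : b ≠ 1) (x y : Γ) (hx : x ∈ D.N)
    (hy : y ∈ D.N) (hxb : x * b = b * x) (hyb : y * b = b * y)
    (hcop : (orderOf x).Coprime (orderOf y)) : x * y = y * x := by
  have hnil := D.cent_nilpotent b hb hb1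
  have hxK : x ∈ D.N ⊓ Subgroup.centralizer ({b} : Set Γ) :=
    Subgroup.mem_inf.mpr ⟨hx, (mem_cent_single x b).mpr hxb.symm⟩
  have hyK : y ∈ D.N ⊓ Subgroup.centralizer ({b} : Set Γ) :=
    Subgroup.mem_inf.mpr ⟨hy, (mem_cent_single y b).mpr hyb.symm⟩
  have h1 := Cfsg.Agent.Lib.helper1.commute_of_coprime_orderOf_of_isNilpotent _
    (⟨x, hxK⟩ : (D.N ⊓ Subgroup.centralizer ({b} : Set Γ) : Subgroup Γ)) ⟨y, hyK⟩
    (by rw [Subgroup.orderOf_mk, Subgroup.orderOf_mk]; exact hcop)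
  exact congrArg Subtype.val h1.eq

/-- Lifting a `t`-element of the image of `N` centralizing the image of `b`. -/
theorem lift [Finite Γ] (b : Γ) (hb : b ∈ D.A) (u : MulAut D.V) (hu : u ∈ D.N.map D.φ)
    (hub : u * D.φ b = D.φ b * u) (t : ℕ) (ht : t.Prime) (e : ℕ) (hut : u ^ (t ^ e) = 1) :
    ∃ c ∈ D.N, c * b = b * c ∧ D.φ c = u ∧ ∃ e' : ℕ, c ^ (t ^ e') = 1 := by
  obtain ⟨n, hn, rfl⟩ := hu
  have hMn := D.M_normal
  have hpF : Fact D.p.Prime := ⟨D.hp⟩
  have h1 : n * b * n⁻¹ * b⁻¹ ∈ D.M := by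
    have h2 := D.comm_mem_M b n hn hub.symm
    have e1 : n * b * n⁻¹ * b⁻¹ = (b * n * b⁻¹ * n⁻¹)⁻¹ := by group
    rw [e1]
    exact D.M.inv_mem h2
  obtain ⟨c₀, hc₀b, hc₀n⟩ := lift_cent D.M D.p D.M_cop b (D.hAp b hb) n h1
  have hc₀N : c₀ ∈ D.N := by
    have h3 : c₀ = n * (c₀⁻¹ * n)⁻¹ := by group
    rw [h3]
    exact D.N.mul_mem hn (D.N.inv_mem (D.M_le_N hc₀n))
  have hφc₀ : D.φ c₀ = D.φ n := by
    have h3 : D.φ (c₀⁻¹ * n) = 1 := (Subgroup.mem_inf.mp hc₀n).2
    rw [map_mul, map_inv, inv_mul_eq_one] at h3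
    exact h3
  rw [← hφc₀] at hut
  obtain ⟨m, e', hm1, hm2⟩ := exists_pow_tpart D.φ t ht c₀ e hut
  refine ⟨c₀ ^ m, D.N.pow_mem hc₀N m, ?_, ?_, e', hm2⟩
  · exact ((show Commute c₀ b from hc₀b).pow_left m).eq
  · rw [hm1, hφc₀]

/-- In the image of `N`, a `t`-element and an `s`-element centralizing the image of a
nontrivial `b ∈ A` commute. -/
theorem N1 [Finite Γ] (b : Γ) (hb : b ∈ D.A) (hb1 : b ≠ 1) (u r : MulAut D.V)
    (hu : u ∈ D.N.map D.φ) (hr : r ∈ D.N.map D.φ) (hub : u * D.φ b = D.φ b * u)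
    (hrb : r * D.φ b = D.φ b * r) (t s : ℕ) (ht : t.Prime) (hs : s.Prime) (hts : t ≠ s)
    (e f : ℕ) (hut : u ^ (t ^ e) = 1) (hrs : r ^ (s ^ f) = 1) : u * r = r * u := by
  obtain ⟨c, hcN, hcb, hcu, e', hce⟩ := D.lift b hb u hu hub t ht e hut
  obtain ⟨d, hdN, hdb, hdr, f', hdf⟩ := D.lift b hb r hr hrb s hs f hrs
  have hcop : (orderOf c).Coprime (orderOf d) := by
    have h1 : orderOf c ∣ t ^ e' := orderOf_dvd_of_pow_eq_one hce
    have h2 : orderOf d ∣ s ^ f' := orderOf_dvd_of_pow_eq_one hdf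
    exact Nat.Coprime.coprime_dvd_left h1 (Nat.Coprime.coprime_dvd_right h2
      (Nat.Coprime.pow _ _ ((Nat.coprime_primes ht hs).mpr hts)))
  have h3 := D.cent_comm b hb hb1 c d hcN hdN hcb hdb hcop
  rw [← hcu, ← hdr, ← map_mul, ← map_mul, h3]

/-- In the image of `N`, a `t`-element centralizing the image of a nontrivial `b ∈ A` acts
trivially on the fixed points of `b` on `V`. -/
theorem N2 [Finite Γ] (l : ℕ) (hl : l.Prime) (hVl : ∀ v ∈ D.V, v ^ l = 1) (b : Γ) (hb : b ∈ D.A)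
    (hb1 : b ≠ 1) (u : MulAut D.V) (hu : u ∈ D.N.map D.φ) (hub : u * D.φ b = D.φ b * u)
    (t : ℕ) (ht : t.Prime) (htl : t ≠ l) (e : ℕ) (hut : u ^ (t ^ e) = 1) (v : D.V)
    (hbv : D.φ b v = v) : u v = v := by
  obtain ⟨c, hcN, hcb, hcu, e', hce⟩ := D.lift b hb u hu hub t ht e hut
  have hvb : (v : Γ) * b = b * v := by
    have h1 := congrArg Subtype.val hbv
    rw [D.φ_apply] at h1
    calc (v : Γ) * b = b * v * b⁻¹ * b := by rw [h1]
      _ = b * v := by group
  have hcop : (orderOf c).Coprime (orderOf (v : Γ)) := by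
    have h1 : orderOf c ∣ t ^ e' := orderOf_dvd_of_pow_eq_one hce
    have h2 : orderOf (v : Γ) ∣ l := orderOf_dvd_of_pow_eq_one (hVl v v.2)
    exact Nat.Coprime.coprime_dvd_left h1 (Nat.Coprime.coprime_dvd_right h2
      (Nat.Coprime.pow_left _ ((Nat.coprime_primes ht hl).mpr htl)))
  have h3 := D.cent_comm b hb hb1 c v hcN (D.hVN v.2) hcb hvb hcop
  rw [← hcu]
  apply Subtype.ext
  rw [D.φ_apply, h3]
  group

/-- The image of a term of the lower central series of `N`, if nilpotent, has no nontrivial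
`l`-elements (`l` the prime dividing `|V|`). -/
theorem no_l [Finite Γ] (l : ℕ) (hl : l.Prime) (hlV : l ∣ Nat.card D.V) (j : ℕ)
    (hnil : Group.IsNilpotent ((D.N.map D.φ).lowerCentralSeries j)) :
    ∀ z ∈ (D.N.map D.φ).lowerCentralSeries j, (∃ e : ℕ, z ^ (l ^ e) = 1) → z = 1 := by
  have hlF : Fact l.Prime := ⟨hl⟩
  have hVn := D.hVn
  have hNn := D.hNn
  obtain ⟨Q, hQL, hQl, hQ⟩ := exists_sylow_of_nilpotent_sub _ hnil l
  have hnorm : ∀ g : Γ, D.φ g ∈ Subgroup.normalizer (Q : Set (MulAut D.V)) := by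
    intro g
    apply normalizes_of_char _ Q l hQl hQ hQL
    rw [← Subgroup.map_lowerCentralSeries]
    exact map_mem_normalizer D.φ _ g
  let W : Subgroup D.V :=
    { carrier := {v | ∀ x ∈ Q, x v = v}
      one_mem' := fun x _ => map_one x
      mul_mem' := by
        intro v w hv hw x hx
        rw [map_mul, hv x hx, hw x hx]
      inv_mem' := by
        intro v hv x hx
        rw [map_inv, hv x hx] }
  have hWne : W ≠ ⊥ := by
    have h1 := hQl.exists_fixed_point_of_prime_dvd_card_of_fixed_point D.V hlV (a := (1 : D.V))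
      (by
        rw [MulAction.mem_fixedPoints]
        intro x
        exact map_one (x : MulAut D.V))
    obtain ⟨v, hv, hv1⟩ := h1
    intro hbot
    have h2 : v ∈ W := by
      intro x hx
      exact (MulAction.mem_fixedPoints.mp hv) ⟨x, hx⟩
    rw [hbot, Subgroup.mem_bot] at h2
    exact hv1 h2.symm
  have hWn : (W.map D.V.subtype).Normal := by
    constructor
    rintro _ ⟨w, hw, rfl⟩ g
    refine ⟨D.φ g w, ?_, rfl⟩
    intro x hx
    have h1 := conj_mem_of_normalizer' Q (D.φ g) (hnorm g) x hx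
    have h2 := hw _ h1
    have h3 : x (D.φ g w) = D.φ g (((D.φ g)⁻¹ * x * D.φ g) w) := by
      simp [MulAut.mul_apply]
    rw [h3, h2]
  have hWV : W.map D.V.subtype ≤ D.V := Subgroup.map_subtype_le W
  have hWtop : W = ⊤ := by
    rcases D.hVmin _ hWn hWV with h | h
    · exfalso
      apply hWne
      exact (Subgroup.map_eq_bot_iff_of_injective W D.V.subtype_injective).mp h
    · apply Subgroup.map_injective D.V.subtype_injective
      rw [h, ← MonoidHom.range_eq_map, Subgroup.range_subtype]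
  intro z hz hzl
  have hzQ := hQ z hz hzl
  ext v
  have h1 : v ∈ W := by
    rw [hWtop]
    trivial
  rw [MulAut.one_apply]
  exact congrArg Subtype.val (h1 z hzQ)

/-- Case A: some nontrivial element of `A` centralizes `V`. -/
theorem caseA [Finite Γ] (a : Γ) (ha : a ∈ D.A) (ha1 : a ≠ 1)
    (haV : a ∈ Subgroup.centralizer (D.V : Set Γ)) :
    ∃ m : ℕ, D.N.lowerCentralSeries m ≤ Subgroup.centralizer (D.V : Set Γ) := by
  have hMn := D.M_normal
  have hNn := D.hNn
  have hpF : Fact D.p.Prime := ⟨D.hp⟩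
  obtain ⟨b, hb, hba⟩ := elemAb_sq_exists_not_mem D.A D.p D.hp D.hAp D.hAcard a ha
  obtain ⟨π, hπ⟩ : ∃ π : Γ →* Γ ⧸ D.M, π = QuotientGroup.mk' D.M := ⟨_, rfl⟩
  have hπs : Function.Surjective π := by
    rw [hπ]
    exact QuotientGroup.mk'_surjective _
  have hker : ∀ x : Γ, π x = 1 ↔ x ∈ D.M := by
    intro x
    rw [hπ, ← MonoidHom.mem_ker, QuotientGroup.ker_mk']
  have hN'n : (D.N.map π).Normal := Subgroup.Normal.map hNn π hπs
  have hy : (π b) ^ D.p = 1 := by rw [← map_pow, D.hAp b hb, map_one]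
  have hfpf' : ∀ x ∈ D.N.map π, π b * x = x * π b → x = 1 := by
    rintro _ ⟨n, hn, rfl⟩ hcomm
    rw [hker]
    apply fpf_quot D.N D.A D.M D.p D.M_le_N D.hAP D.M_cop D.hfpf n hn
    have haM : π a * π n = π n * π a := by
      have h2 : a * n * a⁻¹ * n⁻¹ ∈ D.M := by
        refine Subgroup.mem_inf.mpr ⟨?_, ?_⟩
        · exact D.N.mul_mem (hNn.conj_mem n hn a) (D.N.inv_mem hn)
        · have h3 : D.φ a = 1 := (D.φ_eq_one_iff a).mpr haV
          rw [MonoidHom.mem_ker, map_mul, map_mul, map_mul, map_inv, map_inv, h3]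
          group
      have h4 := (hker _).mpr h2
      rw [map_mul, map_mul, map_mul, map_inv, map_inv, mul_inv_eq_one,
        mul_inv_eq_iff_eq_mul] at h4
      exact h4
    intro c hc
    obtain ⟨i, k, rfl⟩ :=
      elemAb_sq_decomp D.A D.p D.hp D.hAc D.hAp D.hAcard b a hb ha ha1 hba c hc
    have h5 : Commute (π (b ^ i * a ^ k)) (π n) := by
      rw [map_mul, map_zpow, map_zpow]
      exact ((show Commute (π b) (π n) from hcomm).zpow_left i).mul_left
        ((show Commute (π a) (π n) from haM).zpow_left k)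
    rw [← hker, map_mul, map_mul, map_mul, map_inv, map_inv, h5.eq]
    group
  have hnil : Group.IsNilpotent (D.N.map π) :=
    Cfsg.Agent.Lib.helper12.isNilpotent_of_fpf_conj (D.N.map π) (π b) D.p D.hp hy hfpf'
  obtain ⟨m, hm⟩ := (Subgroup.isNilpotent_iff_lowerCentralSeries _).mp hnil
  refine ⟨m, ?_⟩
  rw [← Subgroup.map_lowerCentralSeries, Subgroup.map_eq_bot_iff, hπ, QuotientGroup.ker_mk'] at hm
  intro x hx
  exact (D.φ_eq_one_iff x).mp (Subgroup.mem_inf.mp (hm hx)).2

/-- Case B: `A` acts faithfully on `V`. -/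
theorem caseB [Finite Γ]
    (hfaith : ∀ a ∈ D.A, a ≠ 1 → a ∉ Subgroup.centralizer (D.V : Set Γ)) (j k : ℕ)
    (hjk : (D.N.lowerCentralSeries j).lowerCentralSeries k ≤ D.V) :
    ∃ m : ℕ, D.N.lowerCentralSeries m ≤ Subgroup.centralizer (D.V : Set Γ) := by
  classical
  have hVn := D.hVn
  have hNn := D.hNn
  have hpF : Fact D.p.Prime := ⟨D.hp⟩
  obtain ⟨l, hl, hlp, hlV, hVl⟩ := D.exists_exp
  obtain ⟨Nh, hNh⟩ : ∃ Nh : Subgroup (MulAut D.V), Nh = D.N.map D.φ := ⟨_, rfl⟩
  obtain ⟨Ah, hAh⟩ : ∃ Ah : Subgroup (MulAut D.V), Ah = D.A.map D.φ := ⟨_, rfl⟩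
  have hAker : D.A ⊓ D.φ.ker = ⊥ := by
    rw [eq_bot_iff]
    intro a ha
    by_contra ha1
    exact hfaith a (Subgroup.mem_inf.mp ha).1 (fun h => ha1 (Subgroup.mem_bot.mpr h))
      ((D.φ_eq_one_iff a).mp (Subgroup.mem_inf.mp ha).2)
  have hAhc : ∀ a ∈ Ah, ∀ b ∈ Ah, a * b = b * a := by
    rw [hAh]
    rintro _ ⟨a, ha, rfl⟩ _ ⟨b, hb, rfl⟩
    rw [← map_mul, ← map_mul, D.hAc a ha b hb]
  have hAhp : ∀ a ∈ Ah, a ^ D.p = 1 := by
    rw [hAh]
    rintro _ ⟨a, ha, rfl⟩
    rw [← map_pow, D.hAp a ha, map_one]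
  have hAhcard : Nat.card Ah = D.p ^ 2 := by
    rw [hAh, Cfsg.Agent.Lib.helper1.card_map_of_disjoint_ker D.φ D.A hAker, D.hAcard]
  have hfpfV : ∀ v : D.V, (∀ a ∈ Ah, a v = v) → v = 1 := by
    rw [hAh]
    exact D.fpf_V
  have hfpfN : ∀ x ∈ Nh, (∀ a ∈ Ah, a * x = x * a) → x = 1 := by
    rw [hNh, hAh]
    exact D.fpf_hat
  have hLk : (Nh.lowerCentralSeries j).lowerCentralSeries k = ⊥ := by
    rw [hNh, ← Subgroup.map_lowerCentralSeries, ← Subgroup.map_lowerCentralSeries,
      Subgroup.map_eq_bot_iff]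
    exact hjk.trans D.V_le_ker
  have hLnil : Group.IsNilpotent (Nh.lowerCentralSeries j) :=
    Subgroup.isNilpotent_of_lowerCentralSeries_eq_bot hLk
  have hnormL : ∀ g : Γ, D.φ g ∈ Subgroup.normalizer
      ((Nh.lowerCentralSeries j : Subgroup (MulAut D.V)) : Set (MulAut D.V)) := by
    intro g
    rw [hNh, ← Subgroup.map_lowerCentralSeries]
    exact map_mem_normalizer D.φ _ g
  have hnormN : ∀ g : Γ, D.φ g ∈ Subgroup.normalizer (Nh : Set (MulAut D.V)) := by
    intro g
    rw [hNh]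
    exact map_mem_normalizer D.φ _ g
  have hNhL : Nh ≤ Subgroup.normalizer
      ((Nh.lowerCentralSeries j : Subgroup (MulAut D.V)) : Set (MulAut D.V)) :=
    Nh.self_le_normalizer_lowerCentralSeries j
  have hAhN : Ah ≤ Subgroup.normalizer (Nh : Set (MulAut D.V)) := by
    rw [hAh]
    rintro _ ⟨a, _, rfl⟩
    exact hnormN a
  have hpNh : ¬ D.p ∣ Nat.card Nh := by
    intro hdvd
    apply D.hpN
    rw [hNh] at hdvd
    exact hdvd.trans (Subgroup.card_map_dvd D.N D.φ)
  have hcop : (Nat.card Ah).Coprime (Nat.card Nh) := by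
    rw [hAhcard]
    exact Nat.Coprime.pow_left 2 ((Nat.Prime.coprime_iff_not_dvd D.hp).mpr hpNh)
  have hNhs : Group.IsSolvable Nh := by
    have := D.hNs
    rw [hNh]
    exact Group.isSolvable_of_surjective (f := D.φ.subgroupMap D.N)
      (D.φ.subgroupMap_surjective D.N)
  have hnol := D.no_l l hl hlV j (by rw [← hNh]; exact hLnil)
  rw [← hNh] at hnol
  have hnop : ∀ z ∈ Nh, ∀ e : ℕ, z ^ (D.p ^ e) = 1 → z = 1 := by
    intro z hz e he
    have h1 : orderOf z ∣ D.p ^ e := orderOf_dvd_of_pow_eq_one he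
    have h2 : orderOf z ∣ Nat.card Nh := by
      have h3 := orderOf_dvd_natCard (⟨z, hz⟩ : Nh)
      rwa [Subgroup.orderOf_mk] at h3
    have h3 : (D.p ^ e).Coprime (Nat.card Nh) :=
      Nat.Coprime.pow_left e ((Nat.Prime.coprime_iff_not_dvd D.hp).mpr hpNh)
    have h4 : orderOf z = 1 := (Nat.Coprime.coprime_dvd_left h1 h3).eq_one_of_dvd h2
    exact orderOf_eq_one_iff.mp h4
  have hnilN : Group.IsNilpotent Nh := by
    apply nilcrit j
    intro s hs
    have hsF : Fact s.Prime := ⟨hs⟩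
    obtain ⟨P, hP⟩ := Cfsg.Agent.Lib.helper1.exists_invariant_sylow (p := s) Ah Nh hAhN hcop
      (Or.inr hNhs)
    refine ⟨P, ?_⟩
    rintro z hzL ⟨r, e, hr, hzr⟩
    have hrF : Fact r.Prime := ⟨hr⟩
    have hzL' : (z : MulAut D.V) ∈ Nh.lowerCentralSeries j := by
      rw [← Subgroup.top_subtype_lowerCentralSeries]
      exact ⟨z, hzL, rfl⟩
    have hzr' : (z : MulAut D.V) ^ (r ^ e) = 1 := by simpa using congrArg Subtype.val hzr
    obtain ⟨S, hS⟩ : ∃ S : Subgroup (MulAut D.V), S = (P : Subgroup Nh).map Nh.subtype :=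
      ⟨_, rfl⟩
    have hSN : S ≤ Nh := by
      rw [hS]
      exact Subgroup.map_subtype_le _
    have hSs : IsPGroup s S := by
      rw [hS]
      exact P.2.map Nh.subtype
    have hmemS : ∀ x : Nh, (x : MulAut D.V) ∈ S ↔ x ∈ P := by
      intro x
      rw [hS]
      constructor
      · rintro ⟨y, hy, hyx⟩
        have h1 : y = x := Subtype.ext hyx
        rwa [h1] at hy
      · intro hx
        exact ⟨x, hx, rfl⟩
    by_cases hz1 : z = 1
    · rw [hz1]
      exact Subgroup.one_mem _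
    have hzne : (z : MulAut D.V) ≠ 1 := fun h => hz1 (Subtype.ext h)
    by_cases hrs : r = s
    · subst hrs
      obtain ⟨Q, hQL, hQr, hQ⟩ := exists_sylow_of_nilpotent_sub _ hLnil r
      have hzQ : (z : MulAut D.V) ∈ Q := hQ _ hzL' ⟨e, hzr'⟩
      have hQn : ∀ g ∈ Nh, g ∈ Subgroup.normalizer (Q : Set (MulAut D.V)) := fun g hg =>
        normalizes_of_char _ Q r hQr hQ hQL g (hNhL hg)
      have hQ0n : (Q.subgroupOf Nh).Normal := by
        constructor
        intro x hx g
        rw [Subgroup.mem_subgroupOf] at hx ⊢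
        exact conj_mem_of_normalizer Q g (hQn g g.2) x hx
      have hQ0r : IsPGroup r (Q.subgroupOf Nh) := hQr.comap_subtype
      have h1 : IsPGroup r ((P : Subgroup Nh) ⊔ Q.subgroupOf Nh : Subgroup Nh) :=
        IsPGroup.to_sup_of_normal_right P.2 hQ0r
      have h2 := P.is_maximal' h1 le_sup_left
      have h3 : Q.subgroupOf Nh ≤ P := by
        rw [← h2]
        exact le_sup_right
      have hzP : z ∈ P := h3 (Subgroup.mem_subgroupOf.mpr hzQ)
      exact Subgroup.le_normalizer hzP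
    · by_cases hrl : r = l
      · subst hrl
        exact absurd (hnol _ hzL' ⟨e, hzr'⟩) hzne
      · have hrp : r ≠ D.p := by
          rintro rfl
          exact hzne (hnop _ (Subgroup.lowerCentralSeries_le_self Nh j hzL') e hzr')
        by_cases hsp : s = D.p
        · subst hsp
          have hPbot : ∀ x ∈ P, x = 1 := by
            intro x hx
            obtain ⟨f, hf⟩ := P.2 ⟨x, hx⟩
            have h1 : (x : MulAut D.V) ^ (D.p ^ f) = 1 := by
              simpa using congrArg Subtype.val (congrArg Subtype.val hf)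
            exact Subtype.ext (hnop _ x.2 f h1)
          apply mem_normalizer_of_conj
          · intro x hx
            rw [hPbot x hx]
            simp
          · intro x hx
            rw [hPbot x hx]
            simp
        obtain ⟨Q, hQL, hQr, hQ⟩ := exists_sylow_of_nilpotent_sub _ hLnil r
        have hzQ : (z : MulAut D.V) ∈ Q := hQ _ hzL' ⟨e, hzr'⟩
        have hQN : Q ≤ Nh := hQL.trans (Subgroup.lowerCentralSeries_le_self Nh j)
        have hAhQ : Ah ≤ Subgroup.normalizer (Q : Set (MulAut D.V)) := by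
          rw [hAh]
          rintro _ ⟨a, _, rfl⟩
          exact normalizes_of_char _ Q r hQr hQ hQL _ (hnormL a)
        have hSQ : S ≤ Subgroup.normalizer (Q : Set (MulAut D.V)) := fun g hg =>
          normalizes_of_char _ Q r hQr hQ hQL g (hNhL (hSN hg))
        have hAhS : Ah ≤ Subgroup.normalizer (S : Set (MulAut D.V)) := by
          rw [hS]
          exact hP
        have hcore := ward_core.{u} D.V l D.p r s hl D.hp hr hs hlp hrp hsp (Ne.symm hrs) hrl
          (fun x y => Subtype.ext (D.V_comm x x.2 y y.2))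
          (fun v => Subtype.ext (by simpa using hVl v v.2))
          Ah Q S hAhc hAhp hAhcard hfpfV hQr hSs hAhQ hAhS hSQ
          (fun u hu h => hfpfN u (hQN hu) h)
          (fun x hx h => hfpfN x (hSN hx) h)
          (by
            intro bh hbh hbh1 u hu x hx hub hxb
            rw [hAh] at hbh
            obtain ⟨b, hb, rfl⟩ := hbh
            have hb1 : b ≠ 1 := by
              rintro rfl
              exact hbh1 (map_one _)
            obtain ⟨e₁, he₁⟩ := hQr ⟨u, hu⟩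
            obtain ⟨e₂, he₂⟩ := hSs ⟨x, hx⟩
            have he₁' : u ^ (r ^ e₁) = 1 := by simpa using congrArg Subtype.val he₁
            have he₂' : x ^ (s ^ e₂) = 1 := by simpa using congrArg Subtype.val he₂
            exact D.N1 b hb hb1 u x (by rw [← hNh]; exact hQN hu) (by rw [← hNh]; exact hSN hx)
              hub hxb r s hr hs hrs e₁ e₂ he₁' he₂')
          (by
            intro bh hbh hbh1 u hu hub v hbv
            rw [hAh] at hbh
            obtain ⟨b, hb, rfl⟩ := hbh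
            have hb1 : b ≠ 1 := by
              rintro rfl
              exact hbh1 (map_one _)
            obtain ⟨e₁, he₁⟩ := hQr ⟨u, hu⟩
            have he₁' : u ^ (r ^ e₁) = 1 := by simpa using congrArg Subtype.val he₁
            exact D.N2 l hl hVl b hb hb1 u (by rw [← hNh]; exact hQN hu) hub r hr hrl e₁ he₁'
              v hbv)
        apply mem_normalizer_of_conj
        · intro x hx
          have h1 := hcore _ hzQ _ ((hmemS x).mpr hx)
          have h2 : z * x * z⁻¹ = x := by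
            apply Subtype.ext
            simp only [Subgroup.coe_mul, Subgroup.coe_inv]
            rw [h1]
            group
          rw [h2]
          exact hx
        · intro x hx
          have h1 := hcore _ hzQ _ ((hmemS x).mpr hx)
          have h2 : z⁻¹ * x * z = x := by
            apply Subtype.ext
            simp only [Subgroup.coe_mul, Subgroup.coe_inv]
            rw [mul_assoc, ← h1]
            group
          rw [h2]
          exact hx
  obtain ⟨m, hm⟩ := (Subgroup.isNilpotent_iff_lowerCentralSeries _).mp hnilN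
  refine ⟨m, ?_⟩
  rw [hNh, ← Subgroup.map_lowerCentralSeries, Subgroup.map_eq_bot_iff] at hm
  intro x hx
  exact (D.φ_eq_one_iff x).mp (hm hx)

end StepCtx

/-- **The inductive step of Ward's theorem.** -/
theorem ward_step : WardStepStmt.{u} := by
  intro Γ _ _ N A V p hp hNn hVn hNs hVN hVne hVmin hAc hAp hAcard hfpf hIH
  obtain ⟨j, k, hjk⟩ := hIH
  obtain ⟨D, hDN, hDA, hDV⟩ : ∃ D : StepCtx Γ, D.N = N ∧ D.A = A ∧ D.V = V :=
    ⟨⟨N, A, V, p, hp, hNn, hVn, hNs, hVN, hVne, hVmin, hAc, hAp, hAcard, hfpf⟩, rfl, rfl, rfl⟩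
  rw [← hDN, ← hDV]
  by_cases hfaith : ∀ a ∈ D.A, a ≠ 1 → a ∉ Subgroup.centralizer (D.V : Set Γ)
  · exact D.caseB hfaith j k (by rw [hDN, hDV]; exact hjk)
  · push Not at hfaith
    obtain ⟨a, ha, ha1, haV⟩ := hfaith
    exact D.caseA a ha ha1 haV

/-- **Ward's theorem**, internal form. -/
theorem ward_int : WardIntStmt.{u} := ward_int_of_step ward_step

end Cfsg.Agent.Lib.helper66
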